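import Cfsg.Agent.Lib.Spor.JFourType.Facts22.Local
import Cfsg.Agent.Lib.Spor.MathieuSimple

/-!
# The facts about the pair stabilizer and its identification with the automorphism group
-/

set_option autoImplicit false

namespace CfsgLib.Spor.JFourType

open Cfsg Subgroup MulAction

theorem isSimpleGroup_M22' : IsSimpleGroup ↥Spor.M22 := by
  haveI := isSimpleGroup_stabilizer_two_points (none : GolayPt) (some 0) (by simp)
  have e : (stabilizer M24 (none : GolayPt) ⊓ stabilizer M24 (some 0 : GolayPt)).map M24.subtype = Spor.M22 := by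
    ext g
    rw [Subgroup.map_inf _ _ _ M24.subtype_injective, Subgroup.mem_inf, mem_map_stabilizer, mem_map_stabilizer,
      OuterAut.mem_M22]
    exact ⟨fun h => ⟨h.1.1, h.1.2, h.2.2⟩, fun h => ⟨⟨h.1, h.2.1⟩, h.1, h.2.2⟩⟩
  exact (((Subgroup.equivMapOfInjective _ _ M24.subtype_injective).trans (MulEquiv.subgroupCongr e)).symm).isSimpleGroup

/-- The simple subgroup is the Mathieu group. -/
noncomputable def isoJ22 : ↥J22 ≃* ↥Spor.M22 := subgroupOfEquivOfLe M22_le

theorem simple_J22 : IsSimpleGroup ↥J22 :=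
  haveI := isSimpleGroup_M22'
  isoJ22.isSimpleGroup

theorem facts22 : Facts J22 I22 R22 where
  index_J := J22_index
  iso_J := ⟨isoJ22⟩
  card_J := card_J22
  simple_J := simple_J22
  I_le := I22_le
  R_le := R22_le
  card_I := card_I22
  card_R := card_R22
  ea_I := I22_ea
  ea_R := R22_ea
  ea_cases := ea_cases22
  I_unique := I_unique22
  big_abelian := big_abelian22
  invol_I := invol_I22
  I_trans := I_trans22
  three := three22
  five_I := five_I22
  five_R := five_R22

instance : J22.Normal := J22.normal_of_index_eq_two J22_index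

theorem center_J22 : center ↥J22 = ⊥ := by
  haveI := simple_J22
  refine (Normal.eq_bot_or_eq_top inferInstance).resolve_right fun h => ?_
  obtain ⟨a, b, n, ha, hb, hn, -, -, -, -, -, hab, e, -⟩ := three22
  have hc := congrArg Subtype.val
    (mem_center_iff.1 (show (⟨a, ha⟩ : ↥J22) ∈ center ↥J22 from h ▸ mem_top _) ⟨n, hn⟩)
  simp only [coe_mul] at hc
  exact hab (by rw [← e, hc, mul_inv_cancel_right]; exact mem_zpowers a)

theorem conjNormal_injective : Function.Injective (MulAut.conjNormal : ↥Gam →* MulAut ↥J22) := by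
  refine (injective_iff_map_eq_one _).2 fun k hk => ?_
  have hall : ∀ x ∈ J22, k * x * k⁻¹ = x := fun x hx => by
    have h := congrArg Subtype.val (DFunLike.congr_fun hk ⟨x, hx⟩)
    rwa [MulAut.conjNormal_apply] at h
  by_cases hkJ : k ∈ J22
  · have hc : (⟨k, hkJ⟩ : ↥J22) ∈ center ↥J22 :=
      mem_center_iff.2 fun y => Subtype.ext (mul_inv_eq_iff_eq_mul.1 (hall y y.2)).symm
    rw [center_J22, mem_bot] at hc
    exact congrArg Subtype.val hc
  · exfalso
    have hp : Cfsg.projInv ∈ Gam := mem_Gam.2 ⟨projInv_mem, Or.inr ⟨rfl, rfl⟩⟩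
    set p : ↥Gam := ⟨Cfsg.projInv, hp⟩
    have hpJ : p ∉ J22 := fun h => Option.some_ne_none (0 : ZMod 23) (mem_J22.1 h)
    have hpk : p * k ∈ J22 := (mul_mem_iff_of_index_two J22_index).2 (iff_of_false hpJ hkJ)
    refine (two_point_index projInv_mem (show Cfsg.projInv none = some 0 from rfl)
      (show Cfsg.projInv (some 0) = none from rfl)).2.2 ⟨_, mem_subgroupOf.1 hpk, fun x hx => ?_⟩
    have h := congrArg Subtype.val (hall ⟨x, M22_le hx⟩ (mem_subgroupOf.2 hx))
    simp only [coe_mul, coe_inv] at h ⊢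
    show _ = _
    rw [mul_inv_rev, show Cfsg.projInv * (k : Equiv.Perm GolayPt) * x * ((k : Equiv.Perm GolayPt)⁻¹ * Cfsg.projInv⁻¹) =
      Cfsg.projInv * ((k : Equiv.Perm GolayPt) * x * (k : Equiv.Perm GolayPt)⁻¹) * Cfsg.projInv⁻¹ by group, h]

theorem card_mulAut_J22 : Nat.card (MulAut ↥J22) = Nat.card ↥Gam := by
  rw [Nat.card_congr (MulAut.congr isoJ22).toEquiv, card_Gam,
    ← (MulAut.conj : ↥Spor.M22 →* MulAut ↥Spor.M22).range.card_mul_index,
    show (MulAut.conj : ↥Spor.M22 →* MulAut ↥Spor.M22).range.index = 2 from OuterAut.out_M22,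
    Nat.card_congr (MonoidHom.ofInjective (f := (MulAut.conj : ↥Spor.M22 →* MulAut ↥Spor.M22)) ?_).symm.toEquiv,
    OuterAut.card_M22]
  refine (injective_iff_map_eq_one _).2 fun k hk => ?_
  have hc : isoJ22.symm k ∈ center ↥J22 := mem_center_iff.2 fun y => isoJ22.injective ?_
  · rw [center_J22, mem_bot] at hc
    simpa using congrArg isoJ22 hc
  · rw [map_mul, map_mul, MulEquiv.apply_symm_apply]
    have h := DFunLike.congr_fun hk (isoJ22 y)
    rw [MulAut.conj_apply, MulAut.one_apply, mul_inv_eq_iff_eq_mul] at h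
    exact h.symm

/-- The automorphism group of the Mathieu group of degree 22 is the pair stabilizer. -/
noncomputable def autM22Equiv : MulAut ↥Spor.M22 ≃* ↥Gam :=
  ((MulEquiv.ofBijective (MulAut.conjNormal : ↥Gam →* MulAut ↥J22)
    ((Nat.bijective_iff_injective_and_card _).2 ⟨conjNormal_injective, card_mulAut_J22.symm⟩)).trans
      (MulAut.congr isoJ22)).symm

end CfsgLib.Spor.JFourType
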