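import Cfsg.Agent.Lib.Invol.InvertedOdd
import Mathlib

/-!
# A four group acting on a group of odd order

The order is the order of the centralizer of one involution times the number of elements it inverts, and the
latter is bounded by the centralizers of the other two.
-/

set_option autoImplicit false

namespace CfsgLib.Spor.JFourType

open Subgroup

universe u

variable {G : Type u} [Group G] [Finite G] {K : Subgroup G}

/-- The elements of `K` inverted by `a`. -/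
def invSet (a : G) (K : Subgroup G) : Set G := {x | x ∈ K ∧ a * x * a⁻¹ = x⁻¹}

omit [Finite G] in
theorem odd_orderOf_mem (hK : Odd (Nat.card ↥K)) {x : G} (hx : x ∈ K) : Odd (orderOf x) := by
  have h := orderOf_dvd_natCard (⟨x, hx⟩ : ↥K)
  rw [← Subgroup.orderOf_coe] at h
  exact hK.of_dvd_nat h

omit [Finite G] in
theorem eq_of_sq_eq {x y : G} (hx : Odd (orderOf x)) (hy : Odd (orderOf y)) (h : x * x = y * y) : x = y := by
  obtain ⟨m, hm⟩ := hx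
  obtain ⟨n, hn⟩ := hy
  have ex : x ^ (2 * m + 1) = 1 := by rw [← hm, pow_orderOf_eq_one]
  have ey : y ^ (2 * n + 1) = 1 := by rw [← hn, pow_orderOf_eq_one]
  have key : ∀ (w : G) (k : ℕ), w ^ k = 1 → ∀ j, k ∣ j → w ^ (j + 1) = w := fun w k hw j hj => by
    obtain ⟨l, rfl⟩ := hj
    rw [pow_succ, pow_mul, hw, one_pow, one_mul]
  set N := (2 * m + 1) * (2 * n + 1) with hN
  obtain ⟨s, hs⟩ : Odd N := (odd_two_mul_add_one m).mul (odd_two_mul_add_one n)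
  calc x = x ^ (N + 1) := (key x _ ex N (Dvd.intro _ rfl)).symm
    _ = (x * x) ^ (s + 1) := by rw [← pow_two, ← pow_mul]; congr 1; omega
    _ = (y * y) ^ (s + 1) := by rw [h]
    _ = y ^ (N + 1) := by rw [← pow_two, ← pow_mul]; congr 1; omega
    _ = y := key y _ ey N (Dvd.intro_left _ rfl)

omit [Finite G] in
/-- An element of `K` is a fixed element times an inverted one in one way only. -/
theorem decomp_unique (hK : Odd (Nat.card ↥K)) {a f f' w w' : G} (hw : w ∈ invSet a K) (hw' : w' ∈ invSet a K)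
    (hf : a * f * a⁻¹ = f) (hf' : a * f' * a⁻¹ = f') (h : f * w = f' * w') : f = f' ∧ w = w' := by
  have h2 : f * w⁻¹ = f' * w'⁻¹ := by
    have e : a * (f * w) * a⁻¹ = a * (f' * w') * a⁻¹ := by rw [h]
    rwa [show a * (f * w) * a⁻¹ = a * f * a⁻¹ * (a * w * a⁻¹) by group,
      show a * (f' * w') * a⁻¹ = a * f' * a⁻¹ * (a * w' * a⁻¹) by group, hf, hf', hw.2, hw'.2] at e
  have e1 : w * w = w' * w' := by
    calc w * w = (f * w⁻¹)⁻¹ * (f * w) := by group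
      _ = (f' * w'⁻¹)⁻¹ * (f' * w') := by rw [h, h2]
      _ = _ := by group
  obtain rfl := eq_of_sq_eq (odd_orderOf_mem hK hw.1) (odd_orderOf_mem hK hw'.1) e1
  exact ⟨mul_right_cancel h, rfl⟩

/-- An element of `K` is a fixed element times an inverted one. -/
theorem exists_decomp (hK : Odd (Nat.card ↥K)) {a : G} (ha : a * a = 1) (hn : ∀ x ∈ K, a * x * a⁻¹ ∈ K) {x : G}
    (hx : x ∈ K) : ∃ w ∈ invSet a K, a * (x * w⁻¹) * a⁻¹ = x * w⁻¹ := by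
  set d := a * x⁻¹ * a⁻¹ * x with hd
  have hdK : d ∈ K := mul_mem (hn _ (inv_mem hx)) hx
  have hai : a⁻¹ = a := inv_eq_of_mul_eq_one_right ha
  have hdinv : a * d * a⁻¹ = d⁻¹ := by
    rw [hd]
    calc a * (a * x⁻¹ * a⁻¹ * x) * a⁻¹ = (a * a) * x⁻¹ * a⁻¹ * x * a⁻¹ := by group
      _ = x⁻¹ * a * x * a⁻¹ := by rw [ha, one_mul, hai]
      _ = _ := by rw [mul_inv_rev, mul_inv_rev, mul_inv_rev, inv_inv, inv_inv]; group
  obtain ⟨r, hr, hrr⟩ := CfsgLib.Invol.exists_sqrt_of_odd (odd_orderOf_mem hK hdK)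
  obtain ⟨k, rfl⟩ := mem_zpowers_iff.1 hr
  have hrinv : a * d ^ k * a⁻¹ = (d ^ k)⁻¹ := by rw [← conj_zpow, hdinv, inv_zpow]
  refine ⟨d ^ k, ⟨zpow_mem hdK k, hrinv⟩, ?_⟩
  have hax : a * x * a⁻¹ = x * d⁻¹ := by rw [hd]; group
  calc a * (x * (d ^ k)⁻¹) * a⁻¹ = a * x * a⁻¹ * (a * d ^ k * a⁻¹)⁻¹ := by group
    _ = x * (d ^ k * d ^ k)⁻¹ * d ^ k := by rw [hax, hrinv, hrr, inv_inv]
    _ = _ := by group

/-- The order of `K` from an involution normalizing it. -/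
theorem card_eq_centralizer_mul_inverted (hK : Odd (Nat.card ↥K)) {a : G} (ha : a * a = 1)
    (hn : ∀ x ∈ K, a * x * a⁻¹ ∈ K) :
    Nat.card ↥K = Nat.card ↥(K ⊓ centralizer ({a} : Set G)) * (invSet a K).ncard := by
  have hfix : ∀ x : G, x ∈ centralizer ({a} : Set G) ↔ a * x * a⁻¹ = x := fun x => by
    rw [mem_centralizer_singleton_iff, mul_inv_eq_iff_eq_mul, eq_comm]
  rw [← Nat.card_coe_set_eq, ← Nat.card_prod]
  let f : ↥(K ⊓ centralizer ({a} : Set G)) × ↥(invSet a K) → ↥K := fun p =>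
    ⟨(p.1 : G) * p.2, mul_mem p.1.2.1 p.2.2.1⟩
  refine (Nat.card_congr (Equiv.ofBijective f ⟨?_, ?_⟩)).symm
  · rintro ⟨u, w⟩ ⟨u', w'⟩ h
    obtain ⟨e1, e2⟩ := decomp_unique hK w.2 w'.2 ((hfix _).1 u.2.2) ((hfix _).1 u'.2.2) (congrArg Subtype.val h)
    exact Prod.ext (Subtype.ext e1) (Subtype.ext e2)
  · rintro ⟨x, hx⟩
    obtain ⟨w, hw, hfw⟩ := exists_decomp hK ha hn hx
    have hm : x * w⁻¹ ∈ K := mul_mem hx (inv_mem hw.1)
    exact ⟨(⟨x * w⁻¹, hm, (hfix _).2 hfw⟩, ⟨w, hw⟩), Subtype.ext (inv_mul_cancel_right x w)⟩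

/-- A four group on a group of odd order. -/
theorem four_bound (hK : Odd (Nat.card ↥K)) {a b : G} (ha : a * a = 1) (hb : b * b = 1) (hab : a * b = b * a)
    (hna : ∀ x ∈ K, a * x * a⁻¹ ∈ K) (hnb : ∀ x ∈ K, b * x * b⁻¹ ∈ K) (D : Subgroup G)
    (hD : ∀ x ∈ D, x ∈ K ∧ a * x = x * a ∧ b * x = x * b) :
    ∃ i, Nat.card ↥K = Nat.card ↥(K ⊓ centralizer ({a} : Set G)) * i ∧
      i * (Nat.card ↥D * Nat.card ↥D) ≤
        Nat.card ↥(K ⊓ centralizer ({b} : Set G)) * Nat.card ↥(K ⊓ centralizer ({a * b} : Set G)) := by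
  classical
  refine ⟨(invSet a K).ncard, card_eq_centralizer_mul_inverted hK ha hna, ?_⟩
  have hfix : ∀ t x : G, x ∈ centralizer ({t} : Set G) ↔ t * x * t⁻¹ = x := fun t x => by
    rw [mem_centralizer_singleton_iff, mul_inv_eq_iff_eq_mul, eq_comm]
  -- the inverted elements of the other two centralizers
  have part : ∀ t : G, a * t = t * a → (∀ x ∈ D, t * x = x * t) →
      (invSet a (K ⊓ centralizer ({t} : Set G))).ncard * Nat.card ↥D ≤
        Nat.card ↥(K ⊓ centralizer ({t} : Set G)) := by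
    intro t hat htD
    have hodd : Odd (Nat.card ↥(K ⊓ centralizer ({t} : Set G))) :=
      hK.of_dvd_nat (card_dvd_of_le inf_le_left)
    have hn : ∀ x ∈ K ⊓ centralizer ({t} : Set G), a * x * a⁻¹ ∈ K ⊓ centralizer ({t} : Set G) := fun x hx =>
      ⟨hna x hx.1, (hfix t _).2 (by
        calc t * (a * x * a⁻¹) * t⁻¹ = (t * a) * x * (t * a)⁻¹ := by group
          _ = a * (t * x * t⁻¹) * a⁻¹ := by rw [← hat]; group
          _ = _ := by rw [(hfix t x).1 hx.2])⟩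
    rw [card_eq_centralizer_mul_inverted hodd ha hn, mul_comm]
    refine Nat.mul_le_mul_right _ (card_le_of_le fun x hx => ?_)
    obtain ⟨h1, h2, -⟩ := hD x hx
    exact ⟨⟨h1, (hfix t x).2 (mul_inv_eq_iff_eq_mul.2 (htD x hx))⟩,
      (hfix a x).2 (mul_inv_eq_iff_eq_mul.2 h2)⟩
  have p1 := part b hab fun x hx => (hD x hx).2.2
  have p2 := part (a * b) (by rw [mul_assoc a b a, ← hab]) fun x hx => by
    obtain ⟨-, h1, h2⟩ := hD x hx
    rw [mul_assoc, h2, ← mul_assoc, h1, mul_assoc]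
  refine le_trans ?_ (Nat.mul_le_mul p1 p2)
  rw [mul_mul_mul_comm]
  refine Nat.mul_le_mul_right _ ?_
  rw [← Set.ncard_prod]
  refine le_trans (Set.ncard_le_ncard ?_ (Set.toFinite _))
    (Set.ncard_image_le (f := fun p : G × G => p.1 * p.2 * p.1) (Set.toFinite _))
  intro x hx
  obtain ⟨w, hw, hfw⟩ := exists_decomp hK hb hnb hx.1
  set f := x * w⁻¹ with hf
  have hfK : f ∈ K := mul_mem hx.1 (inv_mem hw.1)
  have hxfw : x = f * w := by rw [hf, inv_mul_cancel_right]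
  have hba : ∀ y, b * (a * y * a⁻¹) * b⁻¹ = a * (b * y * b⁻¹) * a⁻¹ := fun y => by
    calc b * (a * y * a⁻¹) * b⁻¹ = (b * a) * y * (b * a)⁻¹ := by group
      _ = (a * b) * y * (a * b)⁻¹ := by rw [hab]
      _ = _ := by group
  obtain ⟨e1, e2⟩ := decomp_unique hK (a := b) (f := a * f * a⁻¹) (f' := f⁻¹) (w := a * w * a⁻¹) (w' := f * w⁻¹ * f⁻¹)
    ⟨hna w hw.1, by rw [hba, hw.2]; group⟩
    ⟨mul_mem (mul_mem hfK (inv_mem hw.1)) (inv_mem hfK), by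
      calc b * (f * w⁻¹ * f⁻¹) * b⁻¹ = b * f * b⁻¹ * (b * w * b⁻¹)⁻¹ * (b * f * b⁻¹)⁻¹ := by group
        _ = _ := by rw [hfw, hw.2]; group⟩
    (by rw [hba, hfw]) (by rw [show b * f⁻¹ * b⁻¹ = (b * f * b⁻¹)⁻¹ by group, hfw])
    (by
      calc a * f * a⁻¹ * (a * w * a⁻¹) = a * (f * w) * a⁻¹ := by group
        _ = x⁻¹ := by rw [← hxfw, hx.2]
        _ = _ := by rw [hxfw]; group)
  obtain ⟨r, hr, hrr⟩ := CfsgLib.Invol.exists_sqrt_of_odd (odd_orderOf_mem hK hfK)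
  obtain ⟨k, rfl⟩ := mem_zpowers_iff.1 hr
  have hra : a * f ^ k * a⁻¹ = (f ^ k)⁻¹ := by rw [← conj_zpow, e1, inv_zpow]
  have hrb : b * f ^ k * b⁻¹ = f ^ k := by rw [← conj_zpow, hfw]
  refine ⟨(f ^ k, f ^ k * w * (f ^ k)⁻¹), ⟨⟨⟨zpow_mem hfK k, (hfix b _).2 hrb⟩, hra⟩, ?_⟩, ?_⟩
  · have hbu : b * (f ^ k * w * (f ^ k)⁻¹) * b⁻¹ = (f ^ k * w * (f ^ k)⁻¹)⁻¹ := by
      calc b * (f ^ k * w * (f ^ k)⁻¹) * b⁻¹
          = b * f ^ k * b⁻¹ * (b * w * b⁻¹) * (b * f ^ k * b⁻¹)⁻¹ := by group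
        _ = _ := by rw [hrb, hw.2]; group
    have hau : a * (f ^ k * w * (f ^ k)⁻¹) * a⁻¹ = (f ^ k * w * (f ^ k)⁻¹)⁻¹ := by
      have e : (f ^ k)⁻¹ * f = f ^ k := inv_mul_eq_iff_eq_mul.2 hrr.symm
      calc a * (f ^ k * w * (f ^ k)⁻¹) * a⁻¹
          = a * f ^ k * a⁻¹ * (a * w * a⁻¹) * (a * f ^ k * a⁻¹)⁻¹ := by group
        _ = (f ^ k)⁻¹ * f * w⁻¹ * ((f ^ k)⁻¹ * f)⁻¹ := by rw [hra, e2]; group
        _ = _ := by rw [e]; group
    have hm : f ^ k * w * (f ^ k)⁻¹ ∈ K := mul_mem (mul_mem (zpow_mem hfK k) hw.1) (inv_mem (zpow_mem hfK k))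
    refine ⟨⟨hm, (hfix (a * b) _).2 ?_⟩, hau⟩
    calc a * b * (f ^ k * w * (f ^ k)⁻¹) * (a * b)⁻¹ = a * (b * (f ^ k * w * (f ^ k)⁻¹) * b⁻¹) * a⁻¹ := by group
      _ = (a * (f ^ k * w * (f ^ k)⁻¹) * a⁻¹)⁻¹ := by rw [hbu]; group
      _ = _ := by rw [hau, inv_inv]
  · show f ^ k * (f ^ k * w * (f ^ k)⁻¹) * f ^ k = x
    rw [hxfw]
    calc f ^ k * (f ^ k * w * (f ^ k)⁻¹) * f ^ k = (f ^ k * f ^ k) * w := by group
      _ = _ := by rw [hrr]

end CfsgLib.Spor.JFourType
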