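import Cfsg.Agent.Lib.Spor.JFourType.Disp

/-!
# Different involutions of `I` have different lines
-/

set_option autoImplicit false
set_option linter.style.haveILetI false

namespace CfsgLib.Spor.JFourType.Ctx

open Subgroup

universe u

variable {G : Type u} [Group G] [Finite G] {A : Type} [Group A] {J I R : Subgroup A}
  {z : G} {P : Subgroup G} (c : Ctx J I R z P)
include c

theorem finite_A : Finite A := Finite.of_surjective c.pr c.pr_surj

theorem L0_exists_lv {l : G} (hl : l ∈ c.L0) : ∃ i : ↥I, c.im l = i := ⟨⟨c.im l, (c.mem_L0.1 hl).2.1⟩, rfl⟩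

theorem Fx_one : c.Fx 1 = ⊤ := eq_top_iff.2 fun v _ => c.D_eq_zero.1 (c.D_one v)

theorem U_eq_iInf {v : c.Vs} : v ∈ c.U ↔ ∀ i : ↥I, v ∈ c.Fx i := by
  refine ⟨fun h i => c.U_le_Fx i h, fun h l hl => ?_⟩
  obtain ⟨i, hi⟩ := c.L0_exists_lv hl
  rw [c.act_lv hl i hi]
  exact c.mem_fix_singleton.1 (h i)

/-- The elements with displacements vanishing on a given set. -/
noncomputable def vanish (s : Set c.Vs) : Subgroup ↥I where
  carrier := {j | ∀ v ∈ s, c.D j v = 0}
  one_mem' := fun v _ => c.D_one v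
  mul_mem' := fun ha hb v hv => by rw [c.D_mul, ha v hv, hb v hv, add_zero]
  inv_mem' := fun {a} ha => by rwa [c.inv_I a]

theorem mem_vanish {s : Set c.Vs} {j : ↥I} : j ∈ c.vanish s ↔ ∀ v ∈ s, c.D j v = 0 := Iff.rfl

theorem mem_vanish_Fx {a : ↥I} (ha : a ≠ 1) {j : ↥I} :
    j ∈ c.vanish (c.Fx a : Set c.Vs) ↔ j = 1 ∨ (j ≠ 1 ∧ c.Fx j = c.Fx a) := by
  constructor
  · intro hj
    by_cases h : j = 1
    · exact Or.inl h
    · refine Or.inr ⟨h, (AddSubgroup.eq_of_le_of_card_ge (fun v hv => c.D_eq_zero.1 (hj v hv)) ?_).symm⟩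
      rw [c.card_Fx h, c.card_Fx ha]
  · rintro (rfl | ⟨-, h⟩) v hv
    · exact c.D_one v
    · exact c.D_eq_zero.2 (h ▸ hv)

theorem self_mem_vanish {a : ↥I} : a ∈ c.vanish (c.Fx a : Set c.Vs) := fun _ hv => c.D_eq_zero.2 hv

/-- The image of the fixed space of an involution under an element normalizing `I`. -/
theorem Fx_conj {g : G} (hg : g ∈ c.H) {i j : ↥I} (h : c.act (c.lv j) = c.act (g * c.lv i * g⁻¹)) {v : c.Vs} :
    c.act g v ∈ c.Fx j ↔ v ∈ c.Fx i := by
  rw [Fx, c.fix_act_eq h, c.fix_conj hg (c.lv_H i), c.act_inv_apply hg]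
  exact Iff.rfl

theorem vanish_eq_zpowers {a : ↥I} (ha : a ≠ 1) : c.vanish (c.Fx a : Set c.Vs) = zpowers a := by
  classical
  haveI := c.finite_A
  haveI : Fintype ↥I := Fintype.ofFinite _
  set K : ↥I → Subgroup ↥I := fun a => c.vanish (c.Fx a : Set c.Vs) with hK
  -- all the subgroups have one order
  have hconst : ∀ i j : ↥I, i ≠ 1 → j ≠ 1 → Nat.card ↥(K i) ≤ Nat.card ↥(K j) := by
    intro i j hi hj
    obtain ⟨x, hxJ, hxn, hxij⟩ := c.facts.I_trans _ i.2 _ j.2 (fun h => hi (Subtype.ext h))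
      (fun h => hj (Subtype.ext h))
    obtain ⟨g, hg, hgx⟩ := c.exists_C0_im hxJ
    have hgn : c.im g ∈ normalizer (I : Set A) := hgx.symm ▸ isConjugateBy_self_iff.1 hxn
    have hact : ∀ k : ↥I, c.act (c.lv ⟨x * k * x⁻¹, hxn.mem_conj k.2⟩) = c.act (g * c.lv k * g⁻¹) := fun k => by
      refine (c.act_lv (c.L0_conj hg hgn (c.lv_mem k)) _ ?_).symm
      rw [c.im_conj hg.1 (c.lv_H k), hgx, c.im_lv]
    have hj' : (⟨x * i * x⁻¹, hxn.mem_conj i.2⟩ : ↥I) = j := Subtype.ext hxij
    let f : ↥(K i) → ↥(K j) := fun k => ⟨⟨x * k.1 * x⁻¹, hxn.mem_conj k.1.2⟩, fun v hv => by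
      refine c.D_eq_zero.2 ?_
      rw [← c.act_apply_inv hg.1 v, c.Fx_conj hg.1 (hact k.1)]
      refine c.D_eq_zero.1 (k.2 _ ?_)
      rw [← hj'] at hv
      rw [SetLike.mem_coe, ← c.Fx_conj hg.1 (hact i), c.act_apply_inv hg.1]
      exact hv⟩
    refine Nat.card_le_card_of_injective f fun k m h => ?_
    have h' : x * (k.1 : A) * x⁻¹ = x * (m.1 : A) * x⁻¹ :=
      congrArg (fun w : ↥(K j) => ((w.1 : ↥I) : A)) h
    exact Subtype.ext (Subtype.ext (mul_left_cancel (mul_right_cancel h')))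
  have hIc : Nat.card ↥I = 16 := c.facts.card_I
  have hza : zpowers a ≤ K a := zpowers_le.2 c.self_mem_vanish
  have ha2 : Nat.card ↥(zpowers a) = 2 := by
    rw [Nat.card_zpowers]
    exact orderOf_eq_prime (by rw [pow_two, c.mul_self_I]) ha
  by_contra hne
  have hlt : 2 < Nat.card ↥(K a) := by
    by_contra hle
    push Not at hle
    exact hne (eq_of_le_of_card_ge hza (by rw [ha2]; exact hle)).symm
  -- the classes
  set T : Finset ↥I := Finset.univ.filter fun i => i ≠ 1 with hT
  set B : Finset (AddSubgroup c.Vs) := T.image c.Fx with hB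
  have hfib : ∀ F ∈ B, (T.filter fun i => c.Fx i = F).card = Nat.card ↥(K a) - 1 := by
    intro F hF
    obtain ⟨i, hi, rfl⟩ := Finset.mem_image.1 hF
    have hi1 : i ≠ 1 := (Finset.mem_filter.1 hi).2
    have e : (T.filter fun j => c.Fx j = c.Fx i) = (Finset.univ.filter fun j => j ∈ K i).erase 1 := by
      ext j
      simp only [hT, hK, Finset.mem_filter, Finset.mem_univ, true_and, Finset.mem_erase, c.mem_vanish_Fx hi1]
      constructor
      · exact fun h => ⟨h.1, Or.inr h⟩
      · rintro ⟨h1, h | h⟩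
        · exact absurd h h1
        · exact h
    rw [e, Finset.card_erase_of_mem (by simp [one_mem]), le_antisymm (hconst a i ha hi1) (hconst i a hi1 ha)]
    congr 1
    rw [← Nat.card_eq_finsetCard]
    exact Nat.card_congr (Equiv.subtypeEquivRight fun j => by simp)
  have hsum := Finset.card_eq_sum_card_image c.Fx T
  rw [← hB, Finset.sum_congr rfl hfib, Finset.sum_const, smul_eq_mul] at hsum
  have hTc : T.card = 15 := by
    rw [hT, Finset.filter_ne', Finset.card_erase_of_mem (Finset.mem_univ _), Finset.card_univ,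
      ← Nat.card_eq_fintype_card, hIc]
  rw [hTc] at hsum
  have hd := (K a).card_subgroup_dvd_card
  rw [hIc] at hd
  have hle16 := Nat.le_of_dvd (by norm_num) hd
  interval_cases h16 : Nat.card ↥(K a) <;> try omega
  · -- five classes: one of them is invariant under a subgroup of order 27
    haveI : Fact (Nat.Prime 3) := ⟨Nat.prime_three⟩
    have hB5 : B.card = 5 := by omega
    obtain ⟨Q, hQ, hQn⟩ : ∃ Q : Subgroup G, c.Three Q ∧ ∀ x ∈ Q, c.im x ∈ normalizer (I : Set A) :=
      ⟨c.Q0, c.Q0_three, fun x hx => c.Q0_norm hx⟩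
    have hmove : ∀ (x : G), x ∈ Q → ∀ i : ↥I, i ≠ 1 → ∃ j : ↥I, j ≠ 1 ∧
        ∀ v, c.act x v ∈ c.Fx j ↔ v ∈ c.Fx i := by
      intro x hx i hi
      have hj : c.im x * i * (c.im x)⁻¹ ∈ I := (mem_normalizer_iff.1 (hQn x hx) i).1 i.2
      refine ⟨⟨_, hj⟩, fun h => hi (Subtype.ext (conj_eq_one_iff.1 (congrArg Subtype.val h))), fun v => ?_⟩
      refine c.Fx_conj (hQ.le hx).1 (c.act_lv (c.L0_conj (hQ.le hx) (hQn x hx) (c.lv_mem i)) _ ?_).symm
      rw [c.im_conj (hQ.le hx).1 (c.lv_H i), c.im_lv]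
    let X := {F : AddSubgroup c.Vs // F ∈ B}
    have hmap : ∀ (x : G), x ∈ Q → ∀ F ∈ B, F.map (c.act x) ∈ B := by
      intro x hx F hF
      obtain ⟨i, hi, rfl⟩ := Finset.mem_image.1 hF
      obtain ⟨j, hj, hji⟩ := hmove x hx i (Finset.mem_filter.1 hi).2
      refine Finset.mem_image.2 ⟨j, Finset.mem_filter.2 ⟨Finset.mem_univ _, hj⟩, ?_⟩
      ext v
      constructor
      · intro hv
        refine ⟨c.act x⁻¹ v, ?_, c.act_apply_inv (hQ.le hx).1 v⟩
        rw [SetLike.mem_coe, ← hji, c.act_apply_inv (hQ.le hx).1]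
        exact hv
      · rintro ⟨w, hw, rfl⟩
        exact (hji w).2 hw
    letI : MulAction ↥Q X :=
      { smul := fun x F => ⟨F.1.map (c.act x), hmap x x.2 F.1 F.2⟩
        one_smul := fun F => Subtype.ext (by
          show F.1.map (c.act ((1 : ↥Q) : G)) = F.1
          rw [OneMemClass.coe_one, c.act_one]
          exact AddSubgroup.map_id _)
        mul_smul := fun x y F => Subtype.ext (by
          show F.1.map (c.act ((x : G) * y)) = (F.1.map (c.act (y : G))).map (c.act (x : G))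
          rw [c.act_mul (hQ.le x.2).1 (hQ.le y.2).1]
          exact (AddSubgroup.map_map F.1 _ _).symm) }
    have hX : Nat.card X = 5 := by rw [Nat.card_eq_fintype_card, Fintype.card_coe, hB5]
    have hp : IsPGroup 3 ↥Q := IsPGroup.of_card (n := 3) (by rw [hQ.card]; norm_num)
    obtain ⟨F, hF⟩ := hp.nonempty_fixed_point_of_prime_not_dvd_card X (by rw [hX]; norm_num)
    obtain ⟨i, hi, hFi⟩ := Finset.mem_image.1 F.2
    have hi1 : i ≠ 1 := (Finset.mem_filter.1 hi).2
    have hfx : ∀ x ∈ Q, ∀ v ∈ c.Fx i, c.act x v ∈ c.Fx i := by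
      intro x hx v hv
      have h1 : F.1.map (c.act x) = F.1 := congrArg Subtype.val (hF ⟨x, hx⟩)
      rw [hFi]
      rw [hFi] at hv
      exact h1 ▸ ⟨v, hv, rfl⟩
    have hinv : ∀ x ∈ Q, ∀ v ∈ c.Li i, c.act x v ∈ c.Li i := fun x hx v hv =>
      c.perp_invariant (hQ.le hx).1 (fun w hw => hfx _ (inv_mem hx) w hw) hv
    rcases c.card_invariant_cases hQ _ hinv with h | h | h <;> rw [c.card_Li hi1] at h <;> norm_num at h
  · -- one class: the fixed space of `L0` would be too large
    have hall : K a = ⊤ := Subgroup.eq_top_of_card_eq _ (by rw [h16, hIc])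
    have hsub : c.Fx a ≤ c.U := fun v hv =>
      c.U_eq_iInf.2 fun j => c.D_eq_zero.1 ((show j ∈ K a from hall ▸ mem_top j) v hv)
    have h := AddSubgroup.card_le_of_le hsub
    rw [c.card_Fx ha, c.card_U] at h
    norm_num at h

theorem eq_of_Fx_le {a b : ↥I} (ha : a ≠ 1) (hb : b ≠ 1) (h : c.Fx a ≤ c.Fx b) : a = b := by
  have hm : b ∈ zpowers a := c.vanish_eq_zpowers ha ▸ fun v hv => c.D_eq_zero.2 (h hv)
  obtain ⟨k, hk⟩ := mem_zpowers_iff.1 hm
  rcases Int.even_or_odd' k with ⟨m, rfl | rfl⟩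
  · rw [zpow_mul, zpow_ofNat, pow_two, c.mul_self_I, one_zpow] at hk
    exact absurd hk.symm hb
  · rwa [zpow_add, zpow_mul, zpow_ofNat, pow_two, c.mul_self_I, one_zpow, one_mul, zpow_one] at hk

/-- A subgroup between `U` and the space closed under `om` has index in it one modulo three. -/
theorem Fx_inf {a b : ↥I} (ha : a ≠ 1) (hb : b ≠ 1) (hab : a ≠ b) : c.Fx a ⊓ c.Fx b = c.U := by
  refine (AddSubgroup.eq_of_le_of_card_ge (le_inf (c.U_le_Fx a) (c.U_le_Fx b)) ?_).symm
  obtain ⟨k, hk, hck⟩ := c.card_addSubgroup (c.Fx a ⊓ c.Fx b)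
  have h3 := c.card_om_invariant (c.Fx a ⊓ c.Fx b) fun v hv => ⟨c.Fx_om hv.1, c.Fx_om hv.2⟩
  have hle : Nat.card ↥(c.Fx a ⊓ c.Fx b) ≤ 2 ^ 8 := c.card_Fx ha ▸ AddSubgroup.card_le_of_le inf_le_left
  have hne : Nat.card ↥(c.Fx a ⊓ c.Fx b) ≠ 2 ^ 8 := fun h => hab (c.eq_of_Fx_le ha hb
    (inf_eq_left.1 (AddSubgroup.eq_of_le_of_card_ge inf_le_left (by rw [h, c.card_Fx ha]))))
  rw [c.card_U]
  rw [hck] at h3 hle hne ⊢
  interval_cases k <;> omega

theorem Li_sup {a b : ↥I} (ha : a ≠ 1) (hb : b ≠ 1) (hab : a ≠ b) : c.Li a ⊔ c.Li b = c.U := by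
  rw [← c.perp_perp (c.Li a ⊔ c.Li b), ← c.perp_U]
  congr 1
  rw [← c.Fx_inf ha hb hab]
  refine le_antisymm (le_inf ?_ ?_) fun v hv => c.mem_perp.2 fun u hu => ?_
  · exact (c.perp_anti le_sup_left).trans (le_of_eq (c.perp_perp _))
  · exact (c.perp_anti le_sup_right).trans (le_of_eq (c.perp_perp _))
  · obtain ⟨p, hp, q, hq, rfl⟩ := AddSubgroup.mem_sup.1 hu
    rw [c.Bf_add_left, c.Bf_symm p, c.mem_perp.1 hp v hv.1, c.Bf_symm q, c.mem_perp.1 hq v hv.2, add_zero]

theorem card_Li_inf {a b : ↥I} (ha : a ≠ 1) (hb : b ≠ 1) (hab : a ≠ b) : Nat.card ↥(c.Li a ⊓ c.Li b) = 4 := by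
  have h := c.card_sup_inf (c.Li a) (c.Li b)
  rw [c.Li_sup ha hb hab, c.card_U, c.card_Li ha, c.card_Li hb] at h
  omega

theorem om_om (v : c.Vs) : c.om (c.om v) = v + c.om v := c.om_two v

theorem eq_or_of_card_four {K : AddSubgroup c.Vs} (hK : ∀ v ∈ K, c.om v ∈ K) (h4 : Nat.card ↥K ≤ 4) {x y : c.Vs}
    (hx : x ∈ K) (hx0 : x ≠ 0) (hy : y ∈ K) : y = 0 ∨ y = x ∨ y = c.om x ∨ y = c.om (c.om x) := by
  classical
  by_contra hcon
  push Not at hcon
  obtain ⟨y0, y1, y2, y3⟩ := hcon
  have e1 : c.om x ≠ 0 := fun h => hx0 (c.om_injective (h.trans (map_zero c.om).symm))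
  have e2 : c.om (c.om x) ≠ 0 := fun h => e1 (c.om_injective (h.trans (map_zero c.om).symm))
  have e3 : c.om x ≠ x := fun h => hx0 (c.om_fixed h)
  have e4 : c.om (c.om x) ≠ c.om x := fun h => e3 (c.om_injective h)
  have e5 : c.om (c.om x) ≠ x := fun h => e3 (by
    have e := congrArg c.om h
    rw [c.om_cube] at e
    exact e.symm)
  have hsub : (({0, x, c.om x, c.om (c.om x), y} : Finset c.Vs) : Set c.Vs) ⊆ K := by
    intro w hw
    simp only [Finset.coe_insert, Finset.coe_singleton, Set.mem_insert_iff, Set.mem_singleton_iff] at hw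
    rcases hw with rfl | rfl | rfl | rfl | rfl
    exacts [zero_mem _, hx, hK _ hx, hK _ (hK _ hx), hy]
  have h := Set.ncard_le_ncard hsub (Set.toFinite _)
  rw [Set.ncard_coe_finset, ← Nat.card_coe_set_eq] at h
  have h5 : ({0, x, c.om x, c.om (c.om x), y} : Finset c.Vs).card = 5 := by
    rw [Finset.card_insert_of_notMem (by simp [Ne.symm hx0, Ne.symm e1, Ne.symm e2, Ne.symm y0]),
      Finset.card_insert_of_notMem (by simp [Ne.symm e3, Ne.symm e5, Ne.symm y1]),
      Finset.card_insert_of_notMem (by simp [Ne.symm e4, Ne.symm y2]),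
      Finset.card_insert_of_notMem (by simp [Ne.symm y3]), Finset.card_singleton]
  rw [h5] at h
  have : Nat.card ↥(K : Set c.Vs) ≤ 4 := h4
  omega

/-- The key identity: the common point of two lines is on the line of the product iff it is isotropic. -/
theorem mem_mul_iff_iso {a b : ↥I} (ha : a ≠ 1) (hb : b ≠ 1) (hab : a ≠ b) {v : c.Vs} (hva : v ∈ c.Li a)
    (hvb : v ∈ c.Li b) (hv : v ≠ 0) : v ∈ c.Li (a * b) ↔ c.Iso a v := by
  have hc1 : a * b ≠ 1 := c.mul_ne_one_I hab
  have hac : a ≠ a * b := fun e => hb (by rw [← c.mul_mul_cancel_I a b, ← e, c.mul_self_I])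
  obtain ⟨q, hq, hqU⟩ : ∃ q ∈ c.Fx (a * b), q ∉ c.U := by
    by_contra hcon
    push Not at hcon
    have h := AddSubgroup.card_le_of_le (K := c.U) (H := c.Fx (a * b)) fun q hq => hcon q hq
    rw [c.card_Fx hc1, c.card_U] at h
    norm_num at h
  set v0 := c.D a q with hv0
  have hb0 : c.D b q = v0 := (c.add_eq_zero_V (by rw [← c.D_mul]; exact c.D_eq_zero.2 hq)).symm
  have h0 : v0 ∈ c.Li a ⊓ c.Li b := ⟨c.D_mem a q, hb0 ▸ c.D_mem b q⟩
  have hv00 : v0 ≠ 0 := fun h => hqU (c.Fx_inf ha hc1 hac ▸ ⟨c.D_eq_zero.1 h, hq⟩)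
  -- the criterion for the vector from `q`
  have key : v0 ∈ c.Li (a * b) ↔ c.Iso a v0 := by
    rw [c.iso_iff h0.1 rfl]
    constructor
    · intro h
      exact c.mem_perp.1 (c.Li_om h) q hq
    · intro h
      have hperp : ∀ x : c.Vs, x ∈ c.Fx (a * b) → c.Bf x v0 = 0 := by
        intro x hx
        let K : AddSubgroup c.Vs := c.Fx (a * b) ⊓ c.perp (AddSubgroup.closure {v0})
        suffices hK : c.Fx (a * b) ≤ K by
          rw [c.Bf_symm]; exact c.mem_perp.1 (hK hx).2 v0 (AddSubgroup.subset_closure rfl)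
        have hmem : ∀ x : c.Vs, c.Bf x v0 = 0 → x ∈ c.perp (AddSubgroup.closure {v0}) := by
          intro x hx
          refine c.mem_perp.2 fun u hu => ?_
          induction hu using AddSubgroup.closure_induction with
          | mem u hu => rw [Set.mem_singleton_iff] at hu; subst hu; rw [c.Bf_symm]; exact hx
          | zero => exact c.Bf_zero_left x
          | add p r _ _ ep er => rw [c.Bf_add_left, ep, er, add_zero]
          | neg p _ ep => rw [neg_eq_of_add_eq_zero_left (c.two_V p)]; exact ep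
        have hUK : c.U ≤ K := fun u hu => ⟨c.U_le_Fx _ hu, hmem u (c.Bf_U hu (c.Li_le_U a h0.1))⟩
        have hqK : q ∈ K := ⟨hq, hmem q (by rw [c.Bf_symm, hv0, c.D_apply]; exact c.disp_perp (c.lv_mem a) q)⟩
        have hoqK : c.om q ∈ K := ⟨c.Fx_om hq, hmem _ (by
          have e : c.Bf (c.om q) v0 = c.Bf q (c.om (c.om v0)) := by
            nth_rewrite 1 [← c.om_cube v0]
            exact c.Bf_act c.pg_H _ _
          rw [e, c.om_two, c.Bf_add_right, h, add_zero, c.Bf_symm, hv0, c.D_apply]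
          exact c.disp_perp (c.lv_mem a) q)⟩
        -- order 2 ^ 8
        obtain ⟨k, hk, hck⟩ := c.card_addSubgroup K
        have hle : Nat.card ↥K ≤ 2 ^ 8 := c.card_Fx hc1 ▸ AddSubgroup.card_le_of_le inf_le_left
        have hlt : 2 ^ 7 < Nat.card ↥K := by
          classical
          let f : ↥c.U × Fin 4 → ↥K := fun w => ⟨(w.1 : c.Vs) +
            (if w.2 = 0 then 0 else if w.2 = 1 then q else if w.2 = 2 then c.om q else q + c.om q), add_mem (hUK w.1.2) (by
              split_ifs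
              exacts [zero_mem _, hqK, hoqK, add_mem hqK hoqK])⟩
          have hf : Function.Injective f := by
            rintro ⟨u, i⟩ ⟨u', i'⟩ he
            have he' := congrArg Subtype.val he
            simp only [f] at he'
            set r : Fin 4 → c.Vs :=
              fun i => if i = 0 then 0 else if i = 1 then q else if i = 2 then c.om q else q + c.om q with hr
            have he'' : (u : c.Vs) + r i = u' + r i' := he'
            have hd : r i + r i' ∈ c.U := by
              rw [show r i + r i' = (u : c.Vs) + u' from ?_]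
              · exact add_mem u.2 u'.2
              calc r i + r i' = (u : c.Vs) + (u + r i) + r i' := by rw [← add_assoc, c.two_V, zero_add]
                _ = (u : c.Vs) + (u' + r i') + r i' := by rw [he'']
                _ = _ := by rw [← add_assoc, add_assoc ((u : c.Vs) + u'), c.two_V, add_zero]
            have hii : i = i' := by
              have hoq : c.om q ∉ c.U := fun h => hqU (by
                have := c.U_om (c.U_om h)
                rwa [c.om_cube] at this)
              have hqq : q + c.om q ∉ c.U := fun h => hqU (by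
                rw [← c.om_two] at h
                have := c.U_om h
                rwa [c.om_cube] at this)
              have n01 : q + (q + c.om q) = c.om q := by rw [← add_assoc, c.two_V, zero_add]
              have n02 : c.om q + (q + c.om q) = q := by rw [add_left_comm, c.two_V, add_zero]
              have n03 : c.om q + q = q + c.om q := add_comm _ _
              have n04 : (q + c.om q) + q = c.om q := by rw [add_comm, n01]
              have n05 : (q + c.om q) + c.om q = q := by rw [add_comm, n02]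
              revert hd
              fin_cases i <;> fin_cases i' <;>
                simp [hr, n01, n02, n03, n04, n05, hqU, hoq, hqq]
            subst hii
            exact Prod.ext (Subtype.ext (add_right_cancel he'')) rfl
          have := Nat.card_le_card_of_injective f hf
          rw [Nat.card_prod, c.card_U, Nat.card_fin] at this
          omega
        have h8 : Nat.card ↥K = 2 ^ 8 := by
          rw [hck] at hle hlt ⊢
          interval_cases k <;> omega
        exact (AddSubgroup.eq_of_le_of_card_ge inf_le_left (by rw [h8, c.card_Fx hc1])).ge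
      exact c.mem_perp.2 hperp
  have hpt := c.eq_or_of_card_four (K := c.Li a ⊓ c.Li b) (fun w hw => ⟨c.Li_om hw.1, c.Li_om hw.2⟩)
    (le_of_eq (c.card_Li_inf ha hb hab)) h0 hv00 (y := v) ⟨hva, hvb⟩
  have hom : ∀ w, c.om w ∈ c.Li (a * b) ↔ w ∈ c.Li (a * b) := fun w => ⟨fun h => by
    have := c.Li_om (c.Li_om h)
    rwa [c.om_cube] at this, c.Li_om⟩
  rcases hpt with h | rfl | rfl | rfl
  · exact absurd h hv
  · exact key
  · rw [hom, c.iso_om_iff]; exact key
  · rw [hom, hom, c.iso_om_iff, c.iso_om_iff]; exact key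

end CfsgLib.Spor.JFourType.Ctx
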