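import Cfsg.Agent.Lib.Spor.JFourType.Interface

/-!
# Further facts on the automorphism group of the Mathieu group of degree 22: orders five and seven
-/

set_option autoImplicit false

namespace CfsgLib.Spor.JFourType

open Subgroup

universe u

/-- The facts about elements of order five and seven. -/
structure FiveSeven {A : Type u} [Group A] (J I R : Subgroup A) : Prop where
  five : ∃ r ∈ J, ∃ n ∈ J, ∃ o : A, ∃ j ∈ J, orderOf r = 5 ∧ n * r * n⁻¹ = r ^ 2 ∧
    r ∈ normalizer (R : Set A) ∧ n ∈ normalizer (R : Set A) ∧ j⁻¹ * r * j ∈ normalizer (I : Set A) ∧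
    o ∉ J ∧ o * o = 1 ∧ o * r = r * o ∧ Nat.card ↥(centralizer ({r} : Set A)) = 10 ∧
    Nat.card ↥(normalizer (zpowers r : Set A) ⊓ J) = 20 ∧
    (∃ i ∈ I, j * i * j⁻¹ ∉ normalizer (R : Set A)) ∧
    ∃ w ∈ closure ((fun i => j * i * j⁻¹) '' (I : Set A) ∪ (fun i => o * (j * i * j⁻¹) * o⁻¹) '' (I : Set A)),
      orderOf w = 7
  R_quot : ∃ f : ↥(normalizer (R : Set A) ⊓ J) →* Equiv.Perm (Fin 5),
    Function.Surjective f ∧ f.ker = R.subgroupOf (normalizer (R : Set A) ⊓ J)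
  seven : ∃ g ∈ J, orderOf g = 7 ∧ Nat.card ↥(centralizer ({g} : Set A) ⊓ J) = 7 ∧
    Nat.card ↥(centralizer ({g} : Set A)) = 14 ∧ Nat.card ↥(normalizer (zpowers g : Set A)) = 42

end CfsgLib.Spor.JFourType
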