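import Cfsg.Agent.Lib.Spor.JFourType.FixEight

/-!
# The other subgroup of order sixteen fixes four vectors

A pair `T`, `N` with `N T N⁻¹ = T²`, `T` of order five, commuting with `om`: an invariant subgroup is either fixed by
`T` or contains the whole commutator space, which has order `2 ^ 8`.
-/

set_option autoImplicit false
set_option linter.style.haveILetI false

namespace CfsgLib.Spor.JFourType.Ctx

open Subgroup

universe u

variable {G : Type u} [Group G] [Finite G] {A : Type} [Group A] {J I R : Subgroup A}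
  {z : G} {P : Subgroup G} (c : Ctx J I R z P)

/-- The pair of elements. -/
structure FivePair (T N : G) : Prop where
  T_mem : T ∈ c.C0
  N_mem : N ∈ c.C0
  T_five : T ^ 5 = 1
  conj : N * T * N⁻¹ = T ^ 2

/-- Invariance under the pair and `om`. -/
structure PairInvariant (T N : G) (S : AddSubgroup c.Vs) : Prop where
  T_inv : ∀ v ∈ S, c.act T v ∈ S
  N_inv : ∀ v ∈ S, c.act N v ∈ S
  om_inv : ∀ v ∈ S, c.om v ∈ S

include c

/-- The sum over the powers. -/
noncomputable def tr (T : G) : c.Vs →+ c.Vs :=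
  AddMonoidHom.mk' (fun v => v + c.act T v + c.act (T ^ 2) v + c.act (T ^ 3) v + c.act (T ^ 4) v) fun a b => by
    simp only [map_add]; abel

theorem tr_apply (T : G) (v : c.Vs) :
    c.tr T v = v + c.act T v + c.act (T ^ 2) v + c.act (T ^ 3) v + c.act (T ^ 4) v := rfl

variable {T N : G} {c}

namespace FivePair

variable (hp : FivePair c T N)
include hp

theorem act_pow_comp (i j : ℕ) (v : c.Vs) : c.act (T ^ i) (c.act (T ^ j) v) = c.act (T ^ (i + j)) v := by
  rw [← c.act_apply_mul (pow_mem hp.T_mem.1 i) (pow_mem hp.T_mem.1 j), ← pow_add]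

theorem act_five (v : c.Vs) : c.act (T ^ 5) v = v := by rw [hp.T_five, c.act_one]; rfl

theorem act_N_pow (k : ℕ) (v : c.Vs) : c.act N (c.act (T ^ k) v) = c.act (T ^ (2 * k)) (c.act N v) := by
  rw [← c.act_apply_mul hp.N_mem.1 (pow_mem hp.T_mem.1 k), ← c.act_apply_mul (pow_mem hp.T_mem.1 _) hp.N_mem.1,
    pow_mul, ← hp.conj, conj_pow, inv_mul_cancel_right]

theorem T_tr (v : c.Vs) : c.act T (c.tr T v) = c.tr T v := by
  have e : ∀ j : ℕ, c.act T (c.act (T ^ j) v) = c.act (T ^ (1 + j)) v := fun j => by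
    rw [← hp.act_pow_comp, pow_one]
  have e1 : c.act T (c.act T v) = c.act (T ^ 2) v := by simpa using e 1
  rw [c.tr_apply, map_add, map_add, map_add, map_add, e1, e, e, e, hp.act_five]
  abel

theorem pow_fixed {v : c.Vs} (h : c.act T v = v) (k : ℕ) : c.act (T ^ k) v = v := by
  induction k with
  | zero => rw [pow_zero, c.act_one]; rfl
  | succ n ih => rw [pow_succ, c.act_apply_mul (pow_mem hp.T_mem.1 n) hp.T_mem.1, h, ih]

theorem tr_of_fixed {v : c.Vs} (h : c.act T v = v) : c.tr T v = v := by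
  rw [c.tr_apply, h, hp.pow_fixed h, hp.pow_fixed h, hp.pow_fixed h, c.two_V, zero_add, c.two_V, zero_add]

theorem tr_om (v : c.Vs) : c.tr T (c.om v) = c.om (c.tr T v) := by
  rw [c.tr_apply, c.tr_apply, c.om_C0 hp.T_mem, c.om_C0 (pow_mem hp.T_mem 2), c.om_C0 (pow_mem hp.T_mem 3),
    c.om_C0 (pow_mem hp.T_mem 4)]
  simp only [map_add]

/-- The two halves of the commutator space. -/
theorem half_card {S : AddSubgroup c.Vs} (hS : PairInvariant c T N S) :
    ∃ h : ℕ, Nat.card ↥(S ⊓ (c.tr T).ker) = h * h ∧ h % 15 = 1 ∧ ∃ k, h = 2 ^ k := by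
  classical
  haveI : Fact (Nat.Prime 5) := ⟨by norm_num⟩
  set K := S ⊓ (c.tr T).ker with hK
  let a : c.Vs →+ c.Vs := AddMonoidHom.mk' (fun v => c.act T v + c.act (T ^ 4) v) fun a b => by
    simp only [map_add]; abel
  have ha : ∀ v, a v = c.act T v + c.act (T ^ 4) v := fun _ => rfl
  have hTk : ∀ (k : ℕ) v, v ∈ S → c.act (T ^ k) v ∈ S := by
    intro k
    induction k with
    | zero => intro v hv; rw [pow_zero, c.act_one]; exact hv
    | succ n ih =>
      intro v hv
      rw [pow_succ, c.act_apply_mul (pow_mem hp.T_mem.1 n) hp.T_mem.1]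
      exact ih _ (hS.T_inv v hv)
  have hTK : ∀ v ∈ K, c.act T v ∈ K := by
    intro v hv
    refine ⟨hS.T_inv v hv.1, ?_⟩
    have h0 : c.tr T v = 0 := hv.2
    show c.tr T (c.act T v) = 0
    have e : c.tr T (c.act T v) = c.act T (c.tr T v) := by
      have e' : ∀ j : ℕ, c.act (T ^ j) (c.act T v) = c.act T (c.act (T ^ j) v) := fun j => by
        rw [← c.act_apply_mul (pow_mem hp.T_mem.1 j) hp.T_mem.1, ← c.act_apply_mul hp.T_mem.1 (pow_mem hp.T_mem.1 j),
          (Commute.self_pow T j).eq]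
      simp only [c.tr_apply, map_add, e']
    rw [e, h0, map_zero]
  have haa : ∀ v ∈ K, a (a v) = a v + v := by
    intro v hv
    have h0 : c.tr T v = 0 := hv.2
    have e11 : c.act T (c.act T v) = c.act (T ^ 2) v := by simpa using hp.act_pow_comp 1 1 v
    have e14 : c.act T (c.act (T ^ 4) v) = v := by
      have := hp.act_pow_comp 1 4 v
      rwa [pow_one, hp.act_five] at this
    have e41 : c.act (T ^ 4) (c.act T v) = v := by
      have := hp.act_pow_comp 4 1 v
      rwa [pow_one, hp.act_five] at this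
    have e44 : c.act (T ^ 4) (c.act (T ^ 4) v) = c.act (T ^ 3) v := by
      rw [hp.act_pow_comp, show 4 + 4 = 3 + 5 from rfl, ← hp.act_pow_comp, hp.act_five]
    rw [c.tr_apply] at h0
    simp only [ha, map_add, e11, e14, e41, e44]
    refine c.add_eq_zero_V ?_
    calc _ = (v + v) + (v + c.act T v + c.act (T ^ 2) v + c.act (T ^ 3) v + c.act (T ^ 4) v) := by abel
      _ = 0 := by rw [h0, c.two_V, add_zero]
  have haom : ∀ v, a (c.om v) = c.om (a v) := fun v => by
    simp only [ha, c.om_C0 hp.T_mem, c.om_C0 (pow_mem hp.T_mem 4), map_add]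
  let H1 : AddSubgroup c.Vs :=
    { carrier := {v | v ∈ K ∧ a v = c.om v}
      zero_mem' := ⟨zero_mem _, by rw [map_zero, map_zero]⟩
      add_mem' := fun {x y} hx hy => ⟨add_mem hx.1 hy.1, by rw [map_add, map_add, hx.2, hy.2]⟩
      neg_mem' := fun {x} hx => ⟨neg_mem hx.1, by rw [map_neg, map_neg, hx.2]⟩ }
  let H2 : AddSubgroup c.Vs :=
    { carrier := {v | v ∈ K ∧ a v = c.om (c.om v)}
      zero_mem' := ⟨zero_mem _, by rw [map_zero, map_zero, map_zero]⟩
      add_mem' := fun {x y} hx hy => ⟨add_mem hx.1 hy.1, by rw [map_add, map_add, map_add, hx.2, hy.2]⟩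
      neg_mem' := fun {x} hx => ⟨neg_mem hx.1, by rw [map_neg, map_neg, map_neg, hx.2]⟩ }
  have homK : ∀ v ∈ K, c.om v ∈ K := fun v hv =>
    ⟨hS.om_inv v hv.1, by show c.tr T _ = 0; rw [hp.tr_om, (show c.tr T v = 0 from hv.2), map_zero]⟩
  have haK : ∀ v ∈ K, a v ∈ K := fun v hv => by
    have h4 : c.act (T ^ 4) v ∈ K := by
      have e : c.act (T ^ 4) v = c.act T (c.act T (c.act T (c.act T v))) := by
        rw [show T ^ 4 = T * (T * (T * T)) by simp [pow_succ, mul_assoc]]
        simp only [c.act_apply_mul hp.T_mem.1 (mul_mem hp.T_mem.1 (mul_mem hp.T_mem.1 hp.T_mem.1)),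
          c.act_apply_mul hp.T_mem.1 (mul_mem hp.T_mem.1 hp.T_mem.1), c.act_apply_mul hp.T_mem.1 hp.T_mem.1]
      rw [e]
      exact hTK _ (hTK _ (hTK _ (hTK _ hv)))
    exact add_mem (hTK v hv) h4
  have hone : ∀ v : c.Vs, c.om v + c.om (c.om v) = v := fun v => by
    rw [c.om_two, ← add_assoc, add_comm (c.om v), add_assoc, c.two_V, add_zero]
  have hsplit : Nat.card ↥K = Nat.card ↥H1 * Nat.card ↥H2 := by
    rw [← Nat.card_prod]
    refine Nat.card_congr
      { toFun := fun v => (⟨a v + c.om (c.om v), ⟨add_mem (haK v v.2) (homK _ (homK _ v.2)), ?_⟩⟩,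
          ⟨a v + c.om v, ⟨add_mem (haK v v.2) (homK _ v.2), ?_⟩⟩)
        invFun := fun w => ⟨(w.1 : c.Vs) + w.2, add_mem w.1.2.1 w.2.2.1⟩
        left_inv := fun v => Subtype.ext ?_
        right_inv := fun w => ?_ }
    · rw [map_add, haa v v.2, haom, haom, map_add, c.om_cube]
      calc _ = (a (v : c.Vs) + c.om (c.om (a (v : c.Vs)))) + v := by abel
        _ = _ := by
          congr 1
          rw [c.om_two, ← add_assoc, c.two_V, zero_add]
    · rw [map_add, haa v v.2, haom, map_add, map_add, c.om_cube, c.om_two (a (v : c.Vs))]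
      abel
    · show a (v : c.Vs) + c.om (c.om v) + (a v + c.om v) = v
      calc _ = (a (v : c.Vs) + a v) + (c.om v + c.om (c.om v)) := by abel
        _ = v := by rw [c.two_V, zero_add, hone]
    · have h1 := w.1.2.2
      have h2 := w.2.2.2
      refine Prod.ext (Subtype.ext ?_) (Subtype.ext ?_)
      · show a ((w.1 : c.Vs) + w.2) + c.om (c.om ((w.1 : c.Vs) + w.2)) = w.1
        rw [map_add, map_add, map_add, h1, h2]
        calc _ = (c.om (w.1 : c.Vs) + c.om (c.om w.1)) + (c.om (c.om (w.2 : c.Vs)) + c.om (c.om w.2)) := by abel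
          _ = w.1 := by rw [c.two_V, add_zero, hone]
      · show a ((w.1 : c.Vs) + w.2) + c.om ((w.1 : c.Vs) + w.2) = w.2
        rw [map_add, map_add, h1, h2]
        calc _ = (c.om (w.1 : c.Vs) + c.om w.1) + (c.om (w.2 : c.Vs) + c.om (c.om w.2)) := by abel
          _ = w.2 := by rw [c.two_V, zero_add, hone]
  have hN : ∀ v ∈ K, c.act N v ∈ K ∧ a (c.act N v) + c.act N v = c.act N (a v) := by
    intro v hv
    have hm : c.act N v ∈ K := by
      refine ⟨hS.N_inv v hv.1, ?_⟩
      show c.tr T (c.act N v) = 0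
      have e : c.act N (c.tr T v) = c.tr T (c.act N v) := by
        have e1 : c.act N (c.act T v) = c.act (T ^ 2) (c.act N v) := by simpa using hp.act_N_pow 1 v
        have e6 : ∀ w, c.act (T ^ (2 * 3)) w = c.act T w := fun w => by
          rw [show 2 * 3 = 1 + 5 from rfl, ← hp.act_pow_comp, hp.act_five, pow_one]
        have e8 : ∀ w, c.act (T ^ (2 * 4)) w = c.act (T ^ 3) w := fun w => by
          rw [show 2 * 4 = 3 + 5 from rfl, ← hp.act_pow_comp, hp.act_five]
        rw [c.tr_apply, c.tr_apply, map_add, map_add, map_add, map_add, e1, hp.act_N_pow, hp.act_N_pow,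
          hp.act_N_pow, e6, e8, show 2 * 2 = 4 from rfl]
        abel
      rw [← e, (show c.tr T v = 0 from hv.2), map_zero]
    refine ⟨hm, ?_⟩
    have h0 : c.tr T (c.act N v) = 0 := hm.2
    have e1 : c.act N (c.act T v) = c.act (T ^ 2) (c.act N v) := by simpa using hp.act_N_pow 1 v
    have e8 : c.act N (c.act (T ^ 4) v) = c.act (T ^ 3) (c.act N v) := by
      rw [hp.act_N_pow, show 2 * 4 = 3 + 5 from rfl, ← hp.act_pow_comp, hp.act_five]
    rw [ha, ha, map_add, e1, e8]
    rw [c.tr_apply] at h0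
    refine c.add_eq_zero_V ?_
    rw [← h0]
    abel
  have hle12 : Nat.card ↥H1 ≤ Nat.card ↥H2 :=
    Nat.card_le_card_of_injective
      (fun v : ↥H1 => (⟨c.act N v, (hN v v.2.1).1, by
        have h := (hN v v.2.1).2
        rw [v.2.2, c.om_C0 hp.N_mem] at h
        rw [c.om_two]
        calc a (c.act N (v : c.Vs)) = a (c.act N (v : c.Vs)) + c.act N v + c.act N v := by
              rw [add_assoc, c.two_V, add_zero]
          _ = _ := by rw [h, add_comm]⟩ : ↥H2))
      fun x y e => Subtype.ext (c.act_injective hp.N_mem.1 (congrArg Subtype.val e))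
  have hle21 : Nat.card ↥H2 ≤ Nat.card ↥H1 :=
    Nat.card_le_card_of_injective
      (fun v : ↥H2 => (⟨c.act N v, (hN v v.2.1).1, by
        have h := (hN v v.2.1).2
        rw [v.2.2, c.om_C0 hp.N_mem, c.om_C0 hp.N_mem, c.om_two] at h
        rw [add_comm _ (c.act N (v : c.Vs))] at h
        exact add_left_cancel h⟩ : ↥H1))
      fun x y e => Subtype.ext (c.act_injective hp.N_mem.1 (congrArg Subtype.val e))
  have heq := le_antisymm hle12 hle21
  refine ⟨Nat.card ↥H1, by rw [hsplit, ← heq], ?_, ?_⟩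
  · have h3 := c.card_om_invariant H1 fun v hv => ⟨homK v hv.1, by rw [haom, hv.2]⟩
    have hH1T : ∀ v ∈ H1, c.act T v ∈ H1 := fun v hv => ⟨hTK v hv.1, by
      have e : a (c.act T v) = c.act T (a v) := by
        simp only [ha, map_add]
        rw [← c.act_apply_mul (pow_mem hp.T_mem.1 4) hp.T_mem.1, ← c.act_apply_mul hp.T_mem.1 (pow_mem hp.T_mem.1 4),
          (Commute.self_pow T 4).eq]
      rw [e, hv.2, c.om_C0 hp.T_mem]⟩
    have hpow : ∀ (x : ↥(zpowers T)) (v : c.Vs), v ∈ H1 → c.act (x : G) v ∈ H1 := by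
      rintro ⟨x, hx⟩ v hv
      obtain ⟨n, rfl⟩ := (mem_powers_iff_mem_zpowers.2 hx : x ∈ Submonoid.powers T)
      show c.act (T ^ n) v ∈ H1
      clear hx
      induction n generalizing v with
      | zero => rw [pow_zero, c.act_one]; exact hv
      | succ n ih =>
        rw [pow_succ, c.act_apply_mul (pow_mem hp.T_mem.1 n) hp.T_mem.1]
        exact ih _ (hH1T v hv)
    have hzH : ∀ x : ↥(zpowers T), (x : G) ∈ c.H := fun x => zpowers_le.2 hp.T_mem.1 x.2
    letI : MulAction ↥(zpowers T) ↥H1 :=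
      { smul := fun x v => ⟨c.act x v, hpow x v v.2⟩
        one_smul := fun v => Subtype.ext (by
          show c.act ((1 : ↥(zpowers T)) : G) (v : c.Vs) = _
          rw [OneMemClass.coe_one, c.act_one]; rfl)
        mul_smul := fun x y v => Subtype.ext (c.act_apply_mul (hzH x) (hzH y) v) }
    have hpg : IsPGroup 5 ↥(zpowers T) := fun x => ⟨1, Subtype.ext (by
      obtain ⟨n, hn⟩ := (mem_powers_iff_mem_zpowers.2 x.2 : (x : G) ∈ Submonoid.powers T)
      show (x : G) ^ (5 ^ 1) = 1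
      rw [← hn, pow_one, ← pow_mul, mul_comm, pow_mul, hp.T_five, one_pow])⟩
    have h := hpg.card_modEq_card_fixedPoints ↥H1
    have hfix : MulAction.fixedPoints ↥(zpowers T) ↥H1 = {0} := by
      ext v
      refine ⟨fun hv => Subtype.ext ?_, fun hv x => ?_⟩
      · have e : c.act T (v : c.Vs) = v := congrArg Subtype.val (hv ⟨T, mem_zpowers T⟩)
        have h0 : c.tr T (v : c.Vs) = 0 := v.2.1.2
        rwa [hp.tr_of_fixed e] at h0
      · rw [Set.mem_singleton_iff] at hv
        subst hv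
        exact Subtype.ext (map_zero (c.act (x : G)))
    rw [hfix, Nat.card_coe_set_eq, Set.ncard_singleton] at h
    have h5 : Nat.card ↥H1 % 5 = 1 := h
    omega
  · obtain ⟨k, -, e⟩ := c.card_addSubgroup H1
    exact ⟨k, e⟩

theorem tr_sub (v : c.Vs) : c.tr T (v + c.tr T v) = 0 := by
  rw [map_add, hp.tr_of_fixed (hp.T_tr v)]
  exact c.two_V _

/-- The orders of the fixed space and the commutator space. -/
theorem card_parts (hne : ∃ v, c.act T v ≠ v) :
    Nat.card ↥(c.fix {T}) = 2 ^ 4 ∧ Nat.card ↥(c.tr T).ker = 2 ^ 8 := by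
  obtain ⟨h, hh, h15, k, rfl⟩ := hp.half_card (S := ⊤) ⟨fun _ _ => trivial, fun _ _ => trivial, fun _ _ => trivial⟩
  rw [top_inf_eq] at hh
  have hrange : (c.tr T).range = c.fix {T} := by
    refine le_antisymm ?_ fun v hv => ⟨v, hp.tr_of_fixed (c.mem_fix_singleton.1 hv)⟩
    rintro _ ⟨v, rfl⟩
    exact c.mem_fix_singleton.2 (hp.T_tr v)
  have hmul := (c.tr T).ker.card_mul_index
  rw [AddSubgroup.index_ker, hrange, c.card_V, hh] at hmul
  have hk : k ≤ 6 := by
    by_contra hk
    have h7 : 2 ^ 7 ≤ 2 ^ k := Nat.pow_le_pow_right (by norm_num) (by omega)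
    have hpos : 0 < Nat.card ↥(c.fix {T}) := Nat.card_pos
    nlinarith
  interval_cases k <;> first
    | omega
    | skip
  exfalso
  obtain ⟨v, hv⟩ := hne
  have hbot := AddSubgroup.card_eq_one.1 hh
  refine hv ?_
  have := hp.tr_sub v
  rw [← AddMonoidHom.mem_ker, hbot, AddSubgroup.mem_bot] at this
  rw [c.add_eq_zero_V this]
  exact hp.T_tr v

/-- An invariant subgroup is fixed or contains the commutator space. -/
theorem fixed_or_ker_le (hne : ∃ v, c.act T v ≠ v) {S : AddSubgroup c.Vs} (hS : PairInvariant c T N S) :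
    S ≤ c.fix {T} ∨ (c.tr T).ker ≤ S := by
  obtain ⟨h, hh, h15, k, rfl⟩ := hp.half_card hS
  have h8 := (hp.card_parts hne).2
  by_cases h1 : 2 ^ k = 1
  · refine Or.inl fun v hv => c.mem_fix_singleton.2 ?_
    rw [h1, one_mul] at hh
    have hbot := AddSubgroup.card_eq_one.1 hh
    have hTS : ∀ (j : ℕ) w, w ∈ S → c.act (T ^ j) w ∈ S := by
      intro j
      induction j with
      | zero => intro w hw; rw [pow_zero, c.act_one]; exact hw
      | succ n ih =>
        intro w hw
        rw [pow_succ, c.act_apply_mul (pow_mem hp.T_mem.1 n) hp.T_mem.1]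
        exact ih _ (hS.T_inv w hw)
    have hmem : v + c.tr T v ∈ S ⊓ (c.tr T).ker := ⟨add_mem hv (by
      rw [c.tr_apply]
      exact add_mem (add_mem (add_mem (add_mem hv (hS.T_inv v hv)) (hTS 2 v hv)) (hTS 3 v hv)) (hTS 4 v hv)),
      hp.tr_sub v⟩
    rw [hbot, AddSubgroup.mem_bot] at hmem
    rw [c.add_eq_zero_V hmem]
    exact hp.T_tr v
  · refine Or.inr (inf_eq_right.1 (AddSubgroup.eq_of_le_of_card_ge inf_le_right ?_))
    rw [h8, hh]
    have h16 : 16 ≤ 2 ^ k := by
      have hpos : 0 < 2 ^ k := Nat.two_pow_pos k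
      generalize 2 ^ k = n at h1 h15 hpos ⊢
      omega
    nlinarith

end FivePair

variable (c)

/-- Elements normalizing a subgroup keep the fixed space of its two-part. -/
theorem fix_L16_conj {K : Subgroup A} (hK : Sixteen J K) {g : G} (hg : g ∈ c.C0)
    (hn : c.im g ∈ normalizer (K : Set A)) {v : c.Vs} (hv : v ∈ c.fix (c.L16 K : Set G)) :
    c.act g v ∈ c.fix (c.L16 K : Set G) := fun l hl => by
  have hl' : g⁻¹ * l * g ∈ c.L16 K := by
    have := c.L16_conj hK (inv_mem hg) (by rw [c.im_inv hg.1]; exact inv_mem hn) hl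
    rwa [inv_inv] at this
  have hlH := (c.L16_le hl).1
  rw [← c.act_apply_mul hlH hg.1, show l * g = g * (g⁻¹ * l * g) by group,
    c.act_apply_mul hg.1 (c.L16_le hl').1, hv _ hl']

theorem fix_L16_om {K : Subgroup A} {v : c.Vs} (hv : v ∈ c.fix (c.L16 K : Set G)) :
    c.om v ∈ c.fix (c.L16 K : Set G) := c.fix_om (fun _ hx => c.C0_le_M (c.L16_le hx)) hv

theorem exists_five_lift : ∃ T N : G, FivePair c T N ∧ c.im T ∈ normalizer (R : Set A) ∧
    c.im N ∈ normalizer (R : Set A) ∧ ∃ v, c.act T v ≠ v := by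
  obtain ⟨r, hr, n, hn, hrR, hnR, hro, hrn⟩ := c.facts.five_R
  obtain ⟨x, hx, hxr⟩ := c.exists_C0_im hr
  obtain ⟨N, hN, hNn⟩ := c.exists_C0_im hn
  have hr5 : r ^ 5 = 1 := by rw [← hro, pow_orderOf_eq_one]
  have hker : ∀ k, k ∈ c.C0 → c.im k = 1 → k ^ 6 = 1 := by
    intro k hk h
    rw [c.im_eq hk.1] at h
    obtain ⟨q, hq, he | he⟩ := c.ker_C0 hk h
    all_goals
      have hq3 : q ^ 3 = 1 := by
        have := pow_card_eq_one' (G := ↥P) (x := ⟨q, hq⟩)
        rw [c.card_P] at this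
        exact congrArg Subtype.val this
    · rw [he, show 6 = 3 * 2 from rfl, pow_mul, hq3, one_pow]
    · rw [he, (show Commute z q from (c.comm_z (c.P_le_C0 hq).1).symm).mul_pow, show 6 = 2 * 3 from rfl,
        pow_mul, pow_two, c.zz, one_pow, pow_mul', hq3, one_pow, one_mul]
  have hT : c.im (x ^ 6) = r := by rw [c.im_pow hx.1, hxr, pow_succ, hr5, one_mul]
  have hT5 : (x ^ 6) ^ 5 = 1 := by
    rw [← pow_mul, show 6 * 5 = 5 * 6 from rfl, pow_mul]
    exact hker _ (pow_mem hx 5) (by rw [c.im_pow hx.1, hxr, hr5])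
  have hTC := pow_mem hx 6
  refine ⟨x ^ 6, N, ⟨hTC, hN, hT5, ?_⟩, hT ▸ isConjugateBy_self_iff.1 hrR, hNn ▸ isConjugateBy_self_iff.1 hnR, ?_⟩
  · set T := x ^ 6
    have hm : N * T * N⁻¹ ∈ c.C0 := mul_mem (mul_mem hN hTC) (inv_mem hN)
    have him : c.im ((T ^ 2)⁻¹ * (N * T * N⁻¹)) = 1 := by
      rw [c.im_mul (inv_mem (pow_mem hTC.1 2)) hm.1, c.im_inv (pow_mem hTC.1 2), c.im_pow hTC.1,
        c.im_conj hN.1 hTC.1, hT, hNn, hrn, inv_mul_cancel]
    set k := (T ^ 2)⁻¹ * (N * T * N⁻¹) with hk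
    have hkC : k ∈ c.C0 := mul_mem (inv_mem (pow_mem hTC 2)) hm
    have hk6 := hker k hkC him
    have e : N * T * N⁻¹ = T ^ 2 * k := by rw [hk, mul_inv_cancel_left]
    have hkP : ∃ q ∈ P, k = q ∨ k = z * q := c.ker_C0 hkC (by rw [← c.im_eq hkC.1]; exact him)
    have hcom : Commute (T ^ 2) k := by
      obtain ⟨q, hq, he | he⟩ := hkP
      · rw [he]; exact (c.comm_P (pow_mem hTC 2) hq).symm
      · rw [he]; exact (show Commute (T ^ 2) z from c.comm_z (pow_mem hTC.1 2)).mul_right (c.comm_P (pow_mem hTC 2) hq).symm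
    have hk5 : k ^ 5 = 1 := by
      have h5 : (N * T * N⁻¹) ^ 5 = 1 := by rw [conj_pow, hT5, mul_one, mul_inv_cancel]
      rwa [e, hcom.mul_pow, ← pow_mul, mul_comm, pow_mul, hT5, one_pow, one_mul] at h5
    rw [e, show k = 1 by rw [← pow_one k, show 1 = 6 - 5 from rfl] ; rw [pow_sub _ (by norm_num), hk6, hk5]; simp,
      mul_one]
  · by_contra hcon
    push Not at hcon
    have hE := (c.act_eq_one hTC.1).1 (AddMonoidHom.ext hcon)
    have := c.im_E hE
    rw [hT] at this
    rw [this, orderOf_one] at hro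
    norm_num at hro

/-- The other subgroup of order sixteen fixes four vectors. -/
theorem card_fix_R : Nat.card ↥(c.fix (c.L16 R : Set G)) = 4 := by
  obtain ⟨T, N, hp, hTn, hNn, hne⟩ := c.exists_five_lift
  set C := c.fix (c.L16 R : Set G) with hC
  have hCinv : PairInvariant c T N C := ⟨fun v hv => c.fix_L16_conj c.sixteen_R hp.T_mem hTn hv,
    fun v hv => c.fix_L16_conj c.sixteen_R hp.N_mem hNn hv, fun v hv => c.fix_L16_om hv⟩
  obtain ⟨hF, hK⟩ := hp.card_parts hne
  -- an element of the two-part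
  obtain ⟨i, hi, hi1⟩ : ∃ i ∈ R, i ≠ 1 := by
    by_contra hcon
    push Not at hcon
    have := c.facts.card_R
    rw [(Subgroup.eq_bot_iff_forall _).2 hcon, Subgroup.card_bot] at this
    norm_num at this
  obtain ⟨l, hl, hli⟩ := c.exists_L16 c.sixteen_R hi
  have hfl : Nat.card ↥(c.fix {l}) = 2 ^ 8 :=
    c.card_fix_inner (c.C0_le_M (c.L16_le hl)) (by rw [hli]; exact orderOf_eq_prime (c.facts.ea_R.2 i hi) hi1)
      (a := 5) ((c.mem_L16 c.sixteen_R).1 hl).2.2
  have hCl : C ≤ c.fix {l} := c.fix_anti (Set.singleton_subset_iff.2 hl)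
  have hperp : ∀ x ∈ c.L16 R, ∀ v ∈ c.perp C, c.act x v ∈ c.perp C := fun x hx v hv =>
    c.perp_invariant (c.L16_le hx).1 (fun u hu => by rw [hu x⁻¹ (inv_mem hx)]; exact hu) hv
  have hne' : c.perp C ≠ ⊥ := by
    intro h
    have h1 := c.card_perp C
    rw [h, AddSubgroup.card_bot, mul_one] at h1
    have h2 := AddSubgroup.card_le_of_le hCl
    rw [h1, hfl] at h2
    norm_num at h2
  obtain ⟨v, hv, hv0, hvC⟩ := c.exists_fixed (fun _ hx => (c.L16_le hx).1) (c.L16_isPGroup c.sixteen_R)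
    (c.perp C) hperp hne'
  -- the fixed space of `T` is orthogonal to the commutator space
  have horth : ∀ a ∈ c.fix {T}, ∀ b ∈ (c.tr T).ker, c.Bf a b = 0 := by
    intro a ha b hb
    have hpow : ∀ k, c.Bf a (c.act (T ^ k) b) = c.Bf a b := fun k => by
      nth_rewrite 1 [← hp.pow_fixed (c.mem_fix_singleton.1 ha) k]
      exact c.Bf_act (pow_mem hp.T_mem.1 k) a b
    have h1 : c.Bf a (c.act T b) = c.Bf a b := by simpa using hpow 1
    have h0 : c.Bf a (c.tr T b) = 0 := by rw [(show c.tr T b = 0 from hb), c.Bf_zero_right]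
    rw [c.tr_apply, c.Bf_add_right, c.Bf_add_right, c.Bf_add_right, c.Bf_add_right, h1, hpow, hpow, hpow,
      CharTwo.add_self_eq_zero, zero_add, CharTwo.add_self_eq_zero, zero_add] at h0
    exact h0
  have hdisj : ∀ a ∈ c.fix {T}, a ∈ (c.tr T).ker → a = 0 := fun a ha hb => by
    rw [AddMonoidHom.mem_ker, hp.tr_of_fixed (c.mem_fix_singleton.1 ha)] at hb
    exact hb
  rcases hp.fixed_or_ker_le hne hCinv with hCF | hKC
  · have h3 := c.card_om_invariant C fun v hv => c.fix_L16_om hv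
    have hle := AddSubgroup.card_le_of_le hCF
    rw [hF] at hle
    have hne1 : Nat.card ↥C ≠ 1 := fun h => hv0 (AddSubgroup.mem_bot.1 (AddSubgroup.card_eq_one.1 h ▸ hvC))
    obtain ⟨k, -, e⟩ := c.card_addSubgroup C
    by_contra h4
    have h16 : C = c.fix {T} := by
      refine AddSubgroup.eq_of_le_of_card_ge hCF ?_
      rw [hF, e]
      rw [e] at h3 hle hne1 h4
      have hk : k ≤ 4 := (Nat.pow_le_pow_iff_right (by norm_num)).1 hle
      interval_cases k <;> omega
    -- then it would be nondegenerate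
    refine hv0 (c.Bf_nondeg fun w => ?_)
    rw [c.Bf_symm]
    have hw : w = c.tr T w + (w + c.tr T w) := by
      rw [add_comm w, ← add_assoc, c.two_V, zero_add]
    rw [hw, c.Bf_add_left, c.Bf_symm (w + c.tr T w), horth v (hCF hvC) _ (hp.tr_sub w),
      c.mem_perp.1 hv _ (h16 ▸ c.mem_fix_singleton.2 (hp.T_tr w)), add_zero]
  · exfalso
    have e1 : (c.tr T).ker = C := AddSubgroup.eq_of_le_of_card_ge hKC (by
      rw [hK, ← hfl]; exact AddSubgroup.card_le_of_le hCl)
    have hsub : (c.tr T).ker ≤ c.perp (c.fix {T}) := fun b hb => c.mem_perp.2 fun a ha => horth a ha b hb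
    have hv' : v ∈ c.perp (c.perp (c.fix {T})) := by
      have hpc := c.card_perp (c.fix {T})
      rw [hF] at hpc
      have e2 : (c.tr T).ker = c.perp (c.fix {T}) := AddSubgroup.eq_of_le_of_card_ge hsub (by rw [hK]; omega)
      rw [← e2, e1]
      exact hv
    rw [c.perp_perp] at hv'
    exact hv0 (hdisj v hv' (e1 ▸ hvC))

/-- The fixed vectors of a two-subgroup of `M` with image covering a conjugate of `R`. -/
theorem fix_R_type_mem {S : Subgroup G} (hS : S ≤ c.M) (h2 : IsPGroup 2 ↥S) {g : G} (hg : g ∈ c.C0)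
    (hcov : ∀ r ∈ R, ∃ x ∈ S, c.im x = c.im g * r * (c.im g)⁻¹) {v : c.Vs} (hv : v ∈ c.fix (S : Set G)) :
    c.act g⁻¹ v ∈ c.fix (c.L16 R : Set G) := by
  intro l hl
  have hlC := c.L16_le hl
  obtain ⟨x, hx, hxe⟩ := hcov _ ((c.mem_L16 c.sixteen_R).1 hl).2.1
  obtain ⟨a, ha⟩ := h2 ⟨x, hx⟩
  have ha' : x ^ 2 ^ a = 1 := congrArg Subtype.val ha
  have hgl : g * l * g⁻¹ ∈ c.M :=
    mul_mem (mul_mem (c.C0_le_M hg) (c.C0_le_M hlC)) (inv_mem (c.C0_le_M hg))
  have hl32 := ((c.mem_L16 c.sixteen_R).1 hl).2.2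
  have hact : c.act x = c.act (g * l * g⁻¹) :=
    c.act_eq_of_im (hS hx) hgl (by rw [hxe, c.im_conj hg.1 hlC.1]) (n := 2 ^ (a + 5))
      ((by norm_num : Nat.Coprime 2 3).pow_left _)
      (by rw [← c.act_pow (c.H_of_M (hS hx)), pow_add, pow_mul, ha', one_pow, c.act_one])
      (by rw [← c.act_pow (c.H_of_M hgl), pow_add, mul_comm, pow_mul, show (2 : ℕ) ^ 5 = 32 from rfl, conj_pow,
        hl32, mul_one, mul_inv_cancel, one_pow, c.act_one])
  have hv' := hv x hx
  rw [hact] at hv'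
  exact c.mem_fix_singleton.1 ((c.fix_conj hg.1 hlC.1).1 (c.mem_fix_singleton.2 hv'))

/-- A two-subgroup of `M` with image covering a conjugate of `R` fixes at most four vectors. -/
theorem card_fix_R_type {S : Subgroup G} (hS : S ≤ c.M) (h2 : IsPGroup 2 ↥S) {j : A} (hj : j ∈ J)
    (hcov : ∀ r ∈ R, ∃ x ∈ S, c.im x = j * r * j⁻¹) : Nat.card ↥(c.fix (S : Set G)) ≤ 4 := by
  obtain ⟨g, hg, rfl⟩ := c.exists_C0_im hj
  rw [← c.card_fix_R]
  exact Nat.card_le_card_of_injective
    (fun v : ↥(c.fix (S : Set G)) => (⟨c.act g⁻¹ v, c.fix_R_type_mem hS h2 hg hcov v.2⟩ : ↥(c.fix (c.L16 R : Set G))))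
    fun x y e => Subtype.ext (c.act_injective (inv_mem hg.1) (congrArg Subtype.val e))

end CfsgLib.Spor.JFourType.Ctx
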