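import Cfsg.Agent.Lib.Spor.JFourType.ZPoint
import Cfsg.Agent.Lib.Spor.JFourType.FiveSevenInterface
import Cfsg.Agent.Lib.Spor.JFourType.FixDuad

/-!
# The element of order five and the line fixed by `R`
-/

set_option autoImplicit false
set_option linter.style.haveILetI false

namespace CfsgLib.Spor.JFourType.Ctx

open Subgroup

universe u

variable {G : Type u} [Group G] [Finite G] {A : Type} [Group A] {J I R : Subgroup A}
  {z : G} {P : Subgroup G} (c : Ctx J I R z P)
include c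

/-- Lifts of the facts on order five. -/
structure FiveData (x n : G) : Prop where
  x_mem : x ∈ c.C0
  n_mem : n ∈ c.C0
  ord_im : orderOf (c.im x) = 5
  pow_x : x ^ 5 = 1
  conj : c.im n * c.im x * (c.im n)⁻¹ = c.im x ^ 2
  x_R : c.im x ∈ normalizer (R : Set A)
  n_R : c.im n ∈ normalizer (R : Set A)

variable {c}

theorem FiveData.xH {x n : G} (d : c.FiveData x n) : x ∈ c.H := d.x_mem.1

theorem FiveData.notMem_E {x n : G} (d : c.FiveData x n) : x ∉ c.E := fun h => by
  have := d.ord_im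
  rw [c.im_E h, orderOf_one] at this
  omega

theorem FiveData.act_pow_five {x n : G} (d : c.FiveData x n) : c.act (x ^ 5) = 1 := by
  rw [d.pow_x, c.act_one]

theorem FiveData.act_conj {x n : G} (d : c.FiveData x n) : c.act (n * x * n⁻¹) = c.act (x ^ 2) := by
  have hn := d.n_mem.1
  have hmem : n * x * n⁻¹ ∈ c.C0 := mul_mem (mul_mem d.n_mem d.x_mem) (inv_mem d.n_mem)
  refine c.act_eq_of_im (c.C0_le_M hmem) (c.C0_le_M (pow_mem d.x_mem 2))
    (by rw [c.im_conj hn d.xH, c.im_pow d.xH, d.conj]) (n := 5) (by norm_num) ?_ ?_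
  · rw [← c.act_pow hmem.1, conj_pow, d.pow_x, mul_one, mul_inv_cancel, c.act_one]
  · rw [← c.act_pow (pow_mem d.xH 2), ← pow_mul, mul_comm, pow_mul, d.pow_x, one_pow, c.act_one]

theorem KR_eq : c.KR = c.fix (c.L16 R : Set G) := by
  refine le_antisymm (fun v hv => ?_) fun v hv => ?_
  · intro l hl
    obtain ⟨hlC, hlR, hl32⟩ := (c.mem_L16 c.sixteen_R).1 hl
    exact hv l ⟨hlC, hlR, 5, hl32⟩
  · intro l hl
    obtain ⟨t, ht, hti⟩ := c.exists_L16 c.sixteen_R hl.2.1
    obtain ⟨a, ha⟩ := hl.2.2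
    obtain ⟨htC, -, ht32⟩ := (c.mem_L16 c.sixteen_R).1 ht
    have e : c.act l = c.act t := by
      refine c.act_eq_of_im (c.C0_le_M hl.1) (c.C0_le_M htC) hti.symm (c.coprime_two_pow (a + 5)) ?_ ?_
      · rw [← c.act_pow hl.1.1, pow_add, pow_mul, ha, one_pow, c.act_one]
      · rw [← c.act_pow htC.1, pow_add, mul_comm, pow_mul, show (2 : ℕ) ^ 5 = 32 from rfl, ht32, one_pow, c.act_one]
    rw [e]
    exact hv t ht

/-- The lifts of `R` fix exactly four vectors. -/
theorem card_KR : Nat.card ↥c.KR = 4 := by rw [c.KR_eq]; exact c.card_fix_R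

variable {x n : G} (d : c.FiveData x n)
include d

theorem KR_le_fix : c.KR ≤ c.fix {x} := by
  haveI : Fact (Nat.Prime 5) := ⟨by norm_num⟩
  have hmod := c.card_fix_mod d.xH d.act_pow_five c.KR fun v hv => c.KR_invariant d.xH d.x_R hv
  have hle := AddSubgroup.card_le_of_le (inf_le_left : c.KR ⊓ c.fix {x} ≤ c.KR)
  rw [c.card_KR] at hmod hle
  exact inf_eq_left.1 (AddSubgroup.eq_of_le_of_card_ge inf_le_left (by rw [c.card_KR]; omega))

theorem fix_five_ne_bot : c.fix {x} ≠ ⊥ := fun h => by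
  have := AddSubgroup.card_le_of_le (KR_le_fix d)
  rw [c.card_KR, h, AddSubgroup.card_bot] at this
  omega

theorem card_fix_x : Nat.card ↥(c.fix {x}) = 16 :=
  c.card_fix_five (c.C0_le_M d.x_mem) d.act_pow_five (c.C0_le_M d.n_mem) d.act_conj d.notMem_E
    (fix_five_ne_bot d)

end CfsgLib.Spor.JFourType.Ctx
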