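import Cfsg.Agent.Lib.Spor.JFourType.FixDuad

/-!
# The conjugates of `z` in `W`

The statement proved in the fusion files and used for the local results.
-/

set_option autoImplicit false
set_option linter.style.haveILetI false

namespace CfsgLib.Spor.JFourType.Ctx

open Subgroup

universe u

variable {G : Type u} [Group G] [Finite G] {A : Type} [Group A] {J I R : Subgroup A}
  {z : G} {P : Subgroup G} (c : Ctx J I R z P)

/-- The conjugates of `z` in `W`: one, ninety and, over each involution of `I`, 96 paired and 16 single. -/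
structure Split : Prop where
  fusion : ∀ x ∈ c.W, IsConj z x → ∃ n ∈ normalizer (c.W : Set G), n * z * n⁻¹ = x
  card_conj : Set.ncard {x : G | x ∈ c.W ∧ IsConj z x} = 1771
  card_Ut_conj : Set.ncard {x : G | x ∈ c.Ut ∧ IsConj z x} = 91
  Ut_pair : ∀ x ∈ c.Ut, IsConj z x → x ≠ z → IsConj z (x * z)
  card_fibre : ∀ i ∈ I, i ≠ 1 → Set.ncard {x : G | x ∈ c.W ∧ c.im x = i ∧ IsConj z x} = 112
  card_fibre_pair : ∀ i ∈ I, i ≠ 1 →
    Set.ncard {x : G | x ∈ c.W ∧ c.im x = i ∧ IsConj z x ∧ IsConj z (x * z)} = 96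
  L0_single : ∀ l ∈ c.L0, c.im l ≠ 1 → (IsConj z l ↔ ¬ IsConj z (l * z))

end CfsgLib.Spor.JFourType.Ctx
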