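import Cfsg.Agent.Lib.Spor.JFourType.PrimeLift
import Cfsg.Agent.Lib.Spor.JFourType.RFixed
import Cfsg.Agent.Lib.Spor.JFourType.SplitDef
import Cfsg.Agent.Lib.Spor.JFourType.Lines

/-!
# The conjugates of `z` in the core commuting with an element of order five

They form, with `1`, the elementary abelian preimage of order eight of the fixed line of `R`.
-/

set_option autoImplicit false
set_option linter.style.haveILetI false

namespace CfsgLib.Spor.JFourType.Ctx

open Subgroup

universe u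

variable {G : Type u} [Group G] [Finite G] {A : Type} [Group A] {J I R : Subgroup A}
  {z : G} {P : Subgroup G} (c : Ctx J I R z P)
include c

/-- An element of odd order fixing the image of an element of the core fixes the element. -/
theorem comm_of_pv_fixed {p : ℕ} (hp : Odd p) {x : G} (hx : x ∈ c.H) (hxp : x ^ p = 1) {e : G} (he : e ∈ c.E)
    (h : c.act x (c.pv e) = c.pv e) : x * e = e * x := by
  rw [← c.pv_conj hx he] at h
  rcases (c.pv_eq_iff (c.conj_E hx he) he).1 h with h | h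
  · exact mul_inv_eq_iff_eq_mul.1 h
  exfalso
  have key : ∀ k : ℕ, x ^ k * e * (x ^ k)⁻¹ = z ^ k * e := by
    intro k
    induction k with
    | zero => simp
    | succ k ih =>
      calc x ^ (k + 1) * e * (x ^ (k + 1))⁻¹ = x * (x ^ k * e * (x ^ k)⁻¹) * x⁻¹ := by rw [pow_succ']; group
        _ = (x * z ^ k) * e * x⁻¹ := by rw [ih]; group
        _ = (z ^ k * x) * e * x⁻¹ := by rw [((show Commute x z from c.comm_z hx).pow_right k).eq]
        _ = z ^ k * (x * e * x⁻¹) := by group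
        _ = _ := by rw [h, pow_succ]; group
  have h' := key p
  obtain ⟨j, rfl⟩ := hp
  rw [hxp, one_mul, inv_one, mul_one, pow_succ, pow_mul, pow_two, c.zz, one_pow, one_mul] at h'
  exact c.z_ne (mul_eq_right.1 h'.symm)

/-- The centralizer in the core of an element of odd order. -/
theorem centralizer_E_eq {p : ℕ} (hp : Odd p) {x : G} (hx : x ∈ c.H) (hxp : x ^ p = 1) :
    c.E ⊓ centralizer ({x} : Set G) = c.lift (c.fix {x}) := by
  ext e
  constructor
  · rintro ⟨he, he'⟩
    refine ⟨he, c.mem_fix_singleton.2 ?_⟩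
    rw [← c.pv_conj hx he, ← mem_centralizer_singleton_iff.1 he', mul_inv_cancel_right]
  · rintro ⟨he, he'⟩
    exact ⟨he, mem_centralizer_singleton_iff.2
      (c.comm_of_pv_fixed hp hx hxp he (c.mem_fix_singleton.1 he')).symm⟩

omit c in
/-- An element carrying a generator into the group it generates normalizes it. -/
theorem mem_normalizer_zpowers {B : Type*} [Group B] [Finite B] {g r : B} (h : g * r * g⁻¹ ∈ zpowers r) :
    g ∈ normalizer (zpowers r : Set B) := by
  have hmap : (zpowers r).map (MulAut.conj g).toMonoidHom ≤ zpowers r := by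
    rw [MonoidHom.map_zpowers, zpowers_le]; exact h
  have heq := eq_of_le_of_card_ge hmap
    (le_of_eq (Nat.card_congr (equivMapOfInjective _ _ (MulAut.conj g).injective).toEquiv))
  refine mem_normalizer_iff.2 fun w => ⟨fun hw => hmap (Subgroup.mem_map.2 ⟨w, hw, rfl⟩), fun hw => ?_⟩
  obtain ⟨w', hw', he⟩ := heq.symm.le hw
  rwa [← (MulAut.conj g).injective he]

/-- Some element of the core moves a noncentral element to its product with `z`. -/
theorem isConj_z_mul {e : G} (he : e ∈ c.E) (h1 : e ≠ 1) (hz : e ≠ z) : IsConj e (z * e) := by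
  obtain ⟨f, hf, hne⟩ : ∃ f ∈ c.E, f * e ≠ e * f := by
    by_contra hcon
    push Not at hcon
    rcases c.eq_of_E_center he hcon with h | h
    · exact h1 h
    · exact hz h
  refine isConj_iff.2 ⟨f, ?_⟩
  rw [(c.comm_E hf he).resolve_left hne, mul_assoc, mul_inv_cancel_right]

/-- Lifts of the facts on order five, with the normalizer bound. -/
structure FiveCtx (x n : G) : Prop where
  data : c.FiveData x n
  card_norm : Nat.card ↥(normalizer (zpowers (c.im x) : Set A) ⊓ J) = 20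

variable {c} {x n : G}

theorem FiveCtx.ord_x (f : c.FiveCtx x n) : orderOf x = 5 := by
  haveI : Fact (Nat.Prime 5) := ⟨by norm_num⟩
  exact orderOf_eq_prime f.data.pow_x fun h => f.data.notMem_E (h ▸ one_mem _)

/-- The normalizer of the subgroup of order five in `J` normalizes `R`. -/
theorem FiveCtx.norm_le (f : c.FiveCtx x n) : normalizer (zpowers (c.im x) : Set A) ⊓ J ≤ normalizer (R : Set A) := by
  haveI := c.finite_A
  set r := c.im x with hr
  set m := c.im n with hm
  have hxJ : r ∈ J := c.im_C0 f.data.x_mem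
  have hmJ : m ∈ J := c.im_C0 f.data.n_mem
  have hro : orderOf r = 5 := f.data.ord_im
  have hconj : ∀ k : ℕ, m ^ k * r * (m ^ k)⁻¹ = r ^ 2 ^ k := by
    intro k
    induction k with
    | zero => simp
    | succ k ih =>
      calc m ^ (k + 1) * r * (m ^ (k + 1))⁻¹ = m * (m ^ k * r * (m ^ k)⁻¹) * m⁻¹ := by rw [pow_succ']; group
        _ = (m * r * m⁻¹) ^ 2 ^ k := by rw [ih, conj_pow]
        _ = _ := by rw [f.data.conj, ← pow_mul, pow_succ' 2 k]
  have hm4 : 4 ∣ orderOf m := by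
    have h := hconj (orderOf m)
    rw [pow_orderOf_eq_one, one_mul, inv_one, mul_one] at h
    have h' : 2 ^ orderOf m % 5 = 1 := by
      have := pow_eq_pow_iff_modEq.1 (h.symm.trans (pow_one r).symm)
      rw [hro] at this
      exact this
    have key : ∀ q t, 2 ^ (t + 4 * q) % 5 = 2 ^ t % 5 := fun q t => by
      rw [pow_add, pow_mul, Nat.mul_mod, Nat.pow_mod (2 ^ 4)]; norm_num
    rw [← Nat.mod_add_div (orderOf m) 4, key] at h'
    rw [Nat.dvd_iff_mod_eq_zero]
    have hlt : orderOf m % 4 < 4 := Nat.mod_lt _ (by norm_num)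
    generalize orderOf m % 4 = t at h' hlt ⊢
    interval_cases t
    · rfl
    all_goals norm_num at h'
  set S : Subgroup A := closure {r, m} with hS
  have hSN : S ≤ normalizer (zpowers r : Set A) ⊓ J := by
    rw [hS, closure_le]
    rintro w (rfl | rfl)
    · exact ⟨le_normalizer (mem_zpowers r), hxJ⟩
    · exact ⟨mem_normalizer_zpowers (by rw [f.data.conj]; exact npow_mem_zpowers r 2), hmJ⟩
  have h20 : 20 ∣ Nat.card ↥S := by
    have h4 : 4 ∣ Nat.card ↥S := hm4.trans (by
      rw [← Nat.card_zpowers]; exact card_dvd_of_le (zpowers_le.2 (subset_closure (Or.inr rfl))))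
    have h5 : 5 ∣ Nat.card ↥S := by
      rw [← hro, ← Nat.card_zpowers]; exact card_dvd_of_le (zpowers_le.2 (subset_closure (Or.inl rfl)))
    exact (Nat.Coprime.mul_dvd_of_dvd_of_dvd (by norm_num) h4 h5 : 4 * 5 ∣ _)
  have he := eq_of_le_of_card_ge hSN (by rw [f.card_norm]; exact Nat.le_of_dvd Nat.card_pos h20)
  rw [← he, hS, closure_le]
  rintro w (rfl | rfl)
  exacts [f.data.x_R, f.data.n_R]

/-- A conjugate of `z` in the core commuting with `x` lies over the fixed line. -/
theorem FiveCtx.rpoint (f : c.FiveCtx x n) {e : G} (he : e ∈ c.E) (hz : e ≠ z) (hconj : IsConj z e)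
    (hcomm : x * e = e * x) : c.RPoint e := by
  haveI := c.finite_A
  obtain ⟨g, hg⟩ := isConj_iff.1 hconj
  obtain ⟨j, hj, hc⟩ := c.KC_shape hg he hz
  set r := c.im x with hr
  have hxH := f.data.xH
  haveI : J.Normal := normal_of_index_eq_two c.facts.index_J
  -- `x` keeps the subgroup attached to `e`
  have hk : g⁻¹ * x * g ∈ c.H := c.conj_centralizer hg hcomm
  have hKx : ∀ a, a ∈ c.KC g ↔ r⁻¹ * a * r ∈ c.KC g := fun a => by
    rw [hr, ← c.KC_left_mul hxH, show x * g = g * (g⁻¹ * x * g) by group, c.KC_right_mul hk]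
  have hrJ : r ∈ J := c.im_C0 f.data.x_mem
  set r' := j⁻¹ * r * j with hr'
  have hr'R : r' ∈ normalizer (R : Set A) := by
    refine mem_normalizer_iff''.2 fun a => ?_
    have key : ∀ b, b ∈ R ↔ j * b * j⁻¹ ∈ c.KC g ⊓ J := fun b => by
      rw [hc, show j⁻¹ * (j * b * j⁻¹) * j = b by group]
    rw [key, key, show j * (r'⁻¹ * a * r') * j⁻¹ = r⁻¹ * (j * a * j⁻¹) * r by rw [hr']; group, mem_inf, mem_inf,
      ← hKx]
    refine and_congr_right fun _ => ⟨fun h => mul_mem (mul_mem (inv_mem hrJ) h) hrJ, fun h => ?_⟩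
    have := mul_mem (mul_mem hrJ h) (inv_mem hrJ)
    rwa [show r * (r⁻¹ * (j * a * j⁻¹) * r) * r⁻¹ = j * a * j⁻¹ by group] at this
  set N := normalizer (R : Set A) ⊓ J with hN
  haveI : Fact (Nat.Prime 5) := ⟨by norm_num⟩
  have hr'J : r' ∈ J := mul_mem (mul_mem (inv_mem hj) hrJ) hj
  have hrN : r ∈ N := ⟨f.data.x_R, hrJ⟩
  have hr'o : orderOf r' = 5 := by
    rw [hr', show j⁻¹ * r * j = MulAut.conj j⁻¹ r by simp, MulEquiv.orderOf_eq, f.data.ord_im]
  have hfac : (Nat.card ↥N).factorization 5 = 1 := by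
    have h5 : 5 ∣ Nat.card ↥N := by
      rw [← f.data.ord_im, ← Nat.card_zpowers]; exact card_dvd_of_le (zpowers_le.2 hrN)
    have h1 := ((by norm_num : Nat.Prime 5).dvd_iff_one_le_factorization Nat.card_pos.ne').1 h5
    by_contra hne
    have h25 := ((by norm_num : Nat.Prime 5).pow_dvd_iff_le_factorization Nat.card_pos.ne').2
      (show 2 ≤ (Nat.card ↥N).factorization 5 by omega)
    have h := h25.trans (card_dvd_of_le (inf_le_right : N ≤ J))
    rw [c.facts.card_J] at h
    norm_num at h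
  have hcz : ∀ {w : ↥N}, orderOf w = 5 → Nat.card ↥(zpowers w) = 5 ^ (Nat.card ↥N).factorization 5 := fun h => by
    rw [hfac, pow_one, Nat.card_zpowers, h]
  obtain ⟨m, hm⟩ := MulAction.exists_smul_eq ↥N
    (Sylow.ofCard (zpowers ⟨r, hrN⟩) (hcz (by rw [← Subgroup.orderOf_coe]; exact f.data.ord_im)))
    (Sylow.ofCard (zpowers ⟨r', hr'R, hr'J⟩) (hcz (by rw [← Subgroup.orderOf_coe]; exact hr'o)))
  have hmem : (m : A) * r * (m : A)⁻¹ ∈ zpowers r' := by
    have h := congrArg (fun S : Sylow 5 ↥N => (S : Subgroup ↥N)) hm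
    simp only [Sylow.coe_subgroup_smul, Sylow.coe_ofCard] at h
    have h' : m * ⟨r, hrN⟩ * m⁻¹ ∈ zpowers (⟨r', hr'R, hr'J⟩ : ↥N) := by
      rw [← h]; exact Subgroup.mem_map.2 ⟨_, mem_zpowers _, rfl⟩
    obtain ⟨k, hk⟩ := mem_zpowers_iff.1 h'
    exact mem_zpowers_iff.2 ⟨k, congrArg Subtype.val hk⟩
  have hjm : j * (m : A) ∈ normalizer (zpowers r : Set A) ⊓ J := by
    refine ⟨?_, mul_mem hj m.2.2⟩
    have h1 : j * (m : A) * r * (j * (m : A))⁻¹ ∈ zpowers r := by
      obtain ⟨k, hk⟩ := mem_zpowers_iff.1 hmem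
      refine mem_zpowers_iff.2 ⟨k, ?_⟩
      rw [show j * (m : A) * r * (j * (m : A))⁻¹ = j * ((m : A) * r * (m : A)⁻¹) * j⁻¹ by group, ← hk, ← conj_zpow,
        hr', show j * (j⁻¹ * r * j) * j⁻¹ = r by group]
    exact mem_normalizer_zpowers h1
  have hjR : j ∈ normalizer (R : Set A) := by
    have := mul_mem (f.norm_le hjm) (inv_mem m.2.1)
    rwa [mul_inv_cancel_right] at this
  refine ⟨he, hz, g, hg, ?_⟩
  ext a
  rw [hc]
  exact (mem_normalizer_iff''.1 hjR a).symm

/-- A conjugate of `z` in the core commuting with `x` lies over the fixed line. -/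
theorem FiveCtx.pv_mem_KR (f : c.FiveCtx x n) {e : G} (he : e ∈ c.E) (hz : e ≠ z) (hconj : IsConj z e)
    (hcomm : x * e = e * x) : c.pv e ∈ c.KR := RPoint.pv_mem c (f.rpoint he hz hconj hcomm)

/-- Some conjugate of `z` other than `z` in the core commutes with `x`. -/
theorem FiveCtx.exists_point (f : c.FiveCtx x n) (hS : c.Split) :
    ∃ u ∈ c.E, u ≠ z ∧ u ≠ 1 ∧ IsConj z u ∧ c.pv u ∈ c.KR := by
  obtain ⟨u, hu, hne⟩ := Set.exists_ne_of_one_lt_ncard (by rw [hS.card_Ut_conj]; norm_num : 1 < Set.ncard _) z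
  obtain ⟨g, hg⟩ := isConj_iff.1 hu.2
  obtain ⟨j, hj, -, hmove⟩ := c.exists_rPoint hg hu.1.1 hne
  obtain ⟨h, hh, hhi⟩ := c.exists_C0_im (inv_mem hj)
  have hR := hmove h hh hhi
  refine ⟨_, hR.1, hR.2.1, fun e => ?_, hu.2.trans (isConj_iff.2 ⟨h, rfl⟩), RPoint.pv_mem c hR⟩
  have : u = 1 := by simpa using e
  exact c.z_ne (by simpa [this] using hg)

/-- All nonidentity elements over the fixed line are conjugate to `z`. -/
theorem FiveCtx.isConj_of_mem (f : c.FiveCtx x n) (hS : c.Split) {a : G} (ha : a ∈ c.lift c.KR) (h1 : a ≠ 1) :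
    IsConj z a := by
  by_cases hz : a = z
  · rw [hz]
  obtain ⟨u, hu, huz, hu1, huc, huK⟩ := f.exists_point hS
  have hv0 : c.pv u ≠ 0 := fun h => by
    rcases (c.pv_eq_zero hu).1 h with h' | h'
    exacts [hu1 h', huz h']
  have key : ∀ b ∈ c.E, IsConj z b → b ≠ z → c.pv a = c.pv b → IsConj z a := by
    intro b hb hbc hbz hab
    rcases (c.pv_eq_iff ha.1 hb).1 hab with rfl | rfl
    · exact hbc
    · refine hbc.trans (c.isConj_z_mul hb (fun e => ?_) hbz)
      obtain ⟨g, hg⟩ := isConj_iff.1 hbc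
      exact c.z_ne (by simpa [e] using hg)
  have hconjP : ∀ b ∈ c.E, IsConj z b → b ≠ z →
      c.pg * b * c.pg⁻¹ ∈ c.E ∧ IsConj z (c.pg * b * c.pg⁻¹) ∧ c.pg * b * c.pg⁻¹ ≠ z ∧
        c.pv (c.pg * b * c.pg⁻¹) = c.om (c.pv b) := by
    intro b hb hbc hbz
    refine ⟨c.conj_E c.pg_H hb, hbc.trans (isConj_iff.2 ⟨_, rfl⟩), fun e => hbz ?_, c.pv_conj c.pg_H hb⟩
    calc b = c.pg⁻¹ * (c.pg * b * c.pg⁻¹) * c.pg := by group
      _ = c.pg⁻¹ * z * c.pg := by rw [e]
      _ = z := by rw [mul_assoc, ← c.comm_z c.pg_H, inv_mul_cancel_left]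
  obtain ⟨hu', huc', huz', hpv'⟩ := hconjP u hu huc huz
  obtain ⟨hu'', huc'', huz'', hpv''⟩ := hconjP _ hu' huc' huz'
  rcases c.eq_or_of_card_four (K := c.KR) (fun v hv => c.KR_om hv) c.card_KR.le huK hv0 ha.2 with h | h | h | h
  · rcases (c.pv_eq_zero ha.1).1 h with h' | h'
    exacts [absurd h' h1, absurd h' hz]
  · exact key u hu huc huz h
  · exact key _ hu' huc' huz' (h.trans hpv'.symm)
  · exact key _ hu'' huc'' huz'' (h.trans (by rw [hpv'', hpv']))

/-- The members of the subgroup of order eight. -/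
theorem FiveCtx.mem_iff (f : c.FiveCtx x n) (hS : c.Split) {a : G} :
    a ∈ c.lift c.KR ↔ a = 1 ∨ (a ∈ c.E ∧ IsConj z a ∧ x * a = a * x) := by
  constructor
  · intro ha
    by_cases h1 : a = 1
    · exact Or.inl h1
    · exact Or.inr ⟨ha.1, f.isConj_of_mem hS ha h1, c.comm_of_pv_fixed (by decide : Odd 5) f.data.xH f.data.pow_x
        ha.1 (c.mem_fix_singleton.1 (KR_le_fix f.data ha.2))⟩
  · rintro (rfl | ⟨ha, hac, hcomm⟩)
    · exact one_mem _
    · by_cases hz : a = z
      · rw [hz]; exact c.z_mem_lift _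
      · exact ⟨ha, f.pv_mem_KR ha hz hac hcomm⟩

theorem FiveCtx.elementary (f : c.FiveCtx x n) (hS : c.Split) : Cfsg.IsElementaryAbelian 2 (c.lift c.KR) := by
  have hsq : ∀ a ∈ c.lift c.KR, a ^ 2 = 1 := by
    intro a ha
    by_cases h1 : a = 1
    · rw [h1, one_pow]
    · obtain ⟨g, hg⟩ := isConj_iff.1 (f.isConj_of_mem hS ha h1)
      rw [← hg, conj_pow, pow_two z, c.zz, mul_one, mul_inv_cancel]
  refine ⟨⟨⟨fun a b => Subtype.ext ?_⟩⟩, hsq⟩
  show (a : G) * b = b * a
  have ha := hsq _ a.2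
  have hb := hsq _ b.2
  have hab := hsq _ (mul_mem a.2 b.2)
  rw [pow_two] at ha hb hab
  have hi := inv_eq_of_mul_eq_one_right hab
  rw [mul_inv_rev, inv_eq_of_mul_eq_one_right ha, inv_eq_of_mul_eq_one_right hb] at hi
  exact hi.symm

end CfsgLib.Spor.JFourType.Ctx
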