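import Cfsg.Prelude.Def_Transfer
import Cfsg.Prelude.Def_Spor_Mathieu
import Mathlib

/-!
# What is used about the automorphism group of the Mathieu group of degree 22

`A` stands for the automorphism group, `J` for its simple subgroup of index two, `I` for the pointwise stabilizer
of a hexad and `R` for the other elementary abelian subgroup of order sixteen of `J`.
-/

set_option autoImplicit false

namespace CfsgLib.Spor.JFourType

open Subgroup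

universe u

/-- The conjugate of a subgroup, by its members. -/
def IsConjugateBy {A : Type u} [Group A] (g : A) (K L : Subgroup A) : Prop := ∀ x, x ∈ L ↔ g⁻¹ * x * g ∈ K

/-- The facts. -/
structure Facts {A : Type u} [Group A] (J I R : Subgroup A) : Prop where
  index_J : J.index = 2
  iso_J : Nonempty (↥J ≃* ↥Cfsg.Spor.M22)
  card_J : Nat.card ↥J = 443520
  simple_J : IsSimpleGroup ↥J
  I_le : I ≤ J
  R_le : R ≤ J
  card_I : Nat.card ↥I = 16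
  card_R : Nat.card ↥R = 16
  ea_I : Cfsg.IsElementaryAbelian 2 I
  ea_R : Cfsg.IsElementaryAbelian 2 R
  ea_cases : ∀ K : Subgroup A, K ≤ J → Cfsg.IsElementaryAbelian 2 K → 16 ≤ Nat.card ↥K →
    ∃ g ∈ J, IsConjugateBy g I K ∨ IsConjugateBy g R K
  I_unique : ∀ T : Subgroup A, IsPGroup 2 ↥T → ∀ K L : Subgroup A, K ≤ T → L ≤ T →
    (∃ g ∈ J, IsConjugateBy g I K) → (∃ g ∈ J, IsConjugateBy g I L) → K = L
  big_abelian : ∀ K : Subgroup A, IsPGroup 2 ↥K → (∀ x ∈ K, ∀ y ∈ K, x * y = y * x) → 32 ≤ Nat.card ↥K →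
    Nat.card ↥K = 32 ∧ (∀ x ∈ K, x * x = 1) ∧ ∃ g ∈ J, IsConjugateBy g R (K ⊓ J)
  invol_I : ∀ x ∈ J, orderOf x = 2 → ∃ g ∈ J, g * x * g⁻¹ ∈ I
  I_trans : ∀ x ∈ I, ∀ y ∈ I, x ≠ 1 → y ≠ 1 → ∃ g ∈ J, IsConjugateBy g I I ∧ g * x * g⁻¹ = y
  three : ∃ a b n : A, a ∈ J ∧ b ∈ J ∧ n ∈ J ∧ IsConjugateBy a I I ∧ IsConjugateBy b I I ∧
    orderOf a = 3 ∧ orderOf b = 3 ∧ a * b = b * a ∧ b ∉ zpowers a ∧
    n * a * n⁻¹ = b ∧ n * b * n⁻¹ = a⁻¹ ∧
    (∃ i ∈ I, ∃ j ∈ I, i ≠ 1 ∧ j ≠ 1 ∧ i ≠ j ∧ i * a = a * i ∧ j * a = a * j) ∧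
    (∀ v ∈ closure ({a, b} : Set A), v ≠ 1 →
      ∃ g ∈ J, IsConjugateBy g (closure {a, b}) (closure {a, b}) ∧ g * a * g⁻¹ = v) ∧
    Nat.card ↥(centralizer ({a} : Set A) ⊓ J) = 36 ∧
    Nat.card ↥(normalizer ((closure {a, b} : Subgroup A) : Set A) ⊓ J) = 72
  five_I : ∃ r ∈ J, IsConjugateBy r I I ∧ orderOf r = 5 ∧
    Nat.card ↥(centralizer ({r} : Set A) ⊓ J) = 5
  five_R : ∃ r ∈ J, ∃ n ∈ J, IsConjugateBy r R R ∧ IsConjugateBy n R R ∧ orderOf r = 5 ∧ n * r * n⁻¹ = r ^ 2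

end CfsgLib.Spor.JFourType
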