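import Cfsg.Prelude.Def_JankoFourType
import Cfsg.Agent.Lib.Spor.JFourType.Interface
import Cfsg.Agent.Lib.PGroup.ExtraspecialClassify
import Cfsg.Agent.Lib.Coprime.Action

/-!
# The centralizer of an involution of Janko-four type

`E` is the core, `C0` the centralizer of `P` in the centralizer `H` of `z`, `pr` the map onto the automorphism
group of the Mathieu group.
-/

set_option autoImplicit false
set_option linter.style.haveILetI false

namespace CfsgLib.Spor.JFourType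

open Subgroup

universe u

variable {G : Type u} [Group G] {A : Type} [Group A] {J I R : Subgroup A}

/-- The data in use: the facts on the quotient and the hypothesis. -/
structure Ctx (J I R : Subgroup A) (z : G) (P : Subgroup G) : Type u where
  facts : Facts J I R
  iso : MulAut ↥Cfsg.Spor.M22 ≃* A
  type : Cfsg.IsOfJankoFourTypeWith z P

namespace Ctx

variable {z : G} {P : Subgroup G} (c : Ctx J I R z P)
include c

/-- The centralizer of `z`. -/
abbrev H (_ : Ctx J I R z P) : Subgroup G := centralizer ({z} : Set G)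

/-- The largest normal 2-subgroup of the centralizer. -/
abbrev E (_ : Ctx J I R z P) : Subgroup G := Cfsg.twoCoreOfCentralizer z

/-- The centralizer of `P` in `H`. -/
abbrev C0 (_ : Ctx J I R z P) : Subgroup G := centralizer ({z} : Set G) ⊓ centralizer (P : Set G)

/-- The normalizer of `P` in `H`. -/
abbrev NH (_ : Ctx J I R z P) : Subgroup G := centralizer ({z} : Set G) ⊓ normalizer (P : Set G)

theorem ord : orderOf z = 2 := c.type.1

theorem zz : z * z = 1 := by rw [← pow_two, ← c.ord, pow_orderOf_eq_one]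

theorem z_ne : z ≠ 1 := fun e => by simpa [e] using c.ord

theorem z_mem_H : z ∈ c.H := mem_centralizer_singleton_iff.2 rfl

theorem E_le : c.E ≤ c.H := map_subtype_le _

theorem conj_E {h : G} (hh : h ∈ c.H) {e : G} (he : e ∈ c.E) : h * e * h⁻¹ ∈ c.E := by
  obtain ⟨e', he', rfl⟩ := he
  haveI := CfsgLib.Coprime.pCore_normal' (G := ↥c.H) 2
  exact ⟨⟨h, hh⟩ * e' * ⟨h, hh⟩⁻¹, Normal.conj_mem inferInstance e' he' _, rfl⟩

theorem conj_E' {h : G} (hh : h ∈ c.H) {e : G} (he : e ∈ c.E) : h⁻¹ * e * h ∈ c.E := by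
  have := c.conj_E (inv_mem hh) he
  rwa [inv_inv] at this

theorem E_isPGroup [Finite G] : IsPGroup 2 ↥c.E := by
  haveI : Fact (Nat.Prime 2) := ⟨Nat.prime_two⟩
  exact (CfsgLib.Coprime.pCore_isPGroup 2).map _

theorem card_E : Nat.card ↥c.E = 2 ^ 13 := c.type.2.2.1

theorem E_selfcent {x : G} (hx : x ∈ c.H) (h : ∀ e ∈ c.E, e * x = x * e) : x ∈ c.E :=
  c.type.2.2.2.1 ⟨hx, mem_centralizer_iff.2 h⟩

theorem z_mem_E : z ∈ c.E :=
  c.E_selfcent c.z_mem_H fun e he => mem_centralizer_singleton_iff.1 (c.E_le he)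

theorem comm_z {x : G} (hx : x ∈ c.H) : x * z = z * x := mem_centralizer_singleton_iff.1 hx

variable [Finite G]

theorem smallCenter : CfsgLib.PGroup.SmallCenter 2 ↥c.E := by
  haveI : Fact (Nat.Prime 2) := ⟨Nat.prime_two⟩
  exact (CfsgLib.PGroup.smallCenter_of_extraspecial c.type.2.1).1

theorem z_center : (⟨z, c.z_mem_E⟩ : ↥c.E) ∈ center ↥c.E :=
  mem_center_iff.2 fun e => Subtype.ext (c.comm_z (c.E_le e.2))

theorem mem_center_E {x : ↥c.E} : x ∈ center ↥c.E ↔ (x : G) = 1 ∨ (x : G) = z := by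
  classical
  refine ⟨fun hx => ?_, ?_⟩
  · by_contra hcon
    push Not at hcon
    have h3 : ({1, ⟨z, c.z_mem_E⟩, x} : Finset ↥c.E).card = 3 :=
      Finset.card_eq_three.2 ⟨_, _, _, fun h => c.z_ne (congrArg Subtype.val h).symm,
        fun h => hcon.1 (congrArg Subtype.val h).symm, fun h => hcon.2 (congrArg Subtype.val h).symm, rfl⟩
    have hle := Finset.card_le_card (s := ({1, ⟨z, c.z_mem_E⟩, x} : Finset ↥c.E))
      (t := (center ↥c.E : Set ↥c.E).toFinite.toFinset) (by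
        intro y hy
        rw [Set.Finite.mem_toFinset]
        simp only [Finset.mem_insert, Finset.mem_singleton] at hy
        rcases hy with rfl | rfl | rfl
        exacts [one_mem _, c.z_center, hx])
    rw [h3, ← Set.ncard_eq_toFinset_card _ (center ↥c.E : Set ↥c.E).toFinite, ← Nat.card_coe_set_eq,
      show Nat.card ↥(center ↥c.E : Set ↥c.E) = 2 from c.smallCenter.card_center] at hle
    omega
  · rintro (h | h)
    · rw [show x = 1 from Subtype.ext h]; exact one_mem _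
    · rw [show x = ⟨z, c.z_mem_E⟩ from Subtype.ext h]; exact c.z_center

theorem sq_E {a : G} (ha : a ∈ c.E) : a * a = 1 ∨ a * a = z := by
  have := c.mem_center_E.1 (c.smallCenter.pow_mem ⟨a, ha⟩)
  rwa [SubgroupClass.coe_pow, pow_two] at this

theorem comm_E {a b : G} (ha : a ∈ c.E) (hb : b ∈ c.E) : a * b = b * a ∨ a * b = z * (b * a) := by
  rcases c.mem_center_E.1 (c.smallCenter.comm_mem ⟨a, ha⟩ ⟨b, hb⟩) with h | h
  · left
    have h' : a * b * a⁻¹ * b⁻¹ = 1 := h
    calc a * b = a * b * a⁻¹ * b⁻¹ * (b * a) := by group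
      _ = b * a := by rw [h', one_mul]
  · right
    have h' : a * b * a⁻¹ * b⁻¹ = z := h
    calc a * b = a * b * a⁻¹ * b⁻¹ * (b * a) := by group
      _ = z * (b * a) := by rw [h']

theorem eq_of_E_center {x : G} (hx : x ∈ c.E) (h : ∀ e ∈ c.E, e * x = x * e) : x = 1 ∨ x = z :=
  (c.mem_center_E (x := ⟨x, hx⟩)).1 (mem_center_iff.2 fun e => Subtype.ext (h e e.2))

omit [Finite G] in
theorem card_P : Nat.card ↥P = 3 := c.type.2.2.2.2.2.1

omit [Finite G] in
theorem E_inf_centralizer : c.E ⊓ centralizer (P : Set G) = zpowers z := c.type.2.2.2.2.2.2.1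

omit [Finite G] in
theorem P_comm : P ≤ ⁅c.C0, c.C0⁆ := c.type.2.2.2.2.2.2.2.2

omit [Finite G] in
theorem norm_ne : c.NH ≠ c.C0 := c.type.2.2.2.2.2.2.2.1

omit [Finite G] in
theorem P_le_C0 : P ≤ c.C0 := c.P_comm.trans (commutator_le.2 fun _ hg _ hk =>
  mul_mem (mul_mem (mul_mem hg hk) (inv_mem hg)) (inv_mem hk))

omit [Finite G] in
theorem C0_le_NH : c.C0 ≤ c.NH := inf_le_inf_left _ (centralizer_le_normalizer _)

omit [Finite G] in
theorem comm_P {x : G} (hx : x ∈ c.C0) {p : G} (hp : p ∈ P) : p * x = x * p :=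
  mem_centralizer_iff.1 hx.2 p hp

omit [Finite G] in
/-- The map onto the automorphism group. -/
theorem exists_pr : ∃ f : ↥c.H →* A, Function.Surjective f ∧ (∀ e (he : e ∈ c.E), f ⟨e, c.E_le he⟩ = 1) ∧
    (∀ p (hp : p ∈ P), f ⟨p, (c.P_le_C0 hp).1⟩ = 1) ∧ Nat.card ↥f.ker = 3 * 2 ^ 13 := by
  obtain ⟨N, hEN, hNH, -, hcN, ⟨hn, ⟨ε⟩⟩, hPN⟩ := c.type.2.2.2.2.1
  haveI := hn
  refine ⟨(ε.trans c.iso).toMonoidHom.comp (QuotientGroup.mk' _), ?_, fun e he => ?_, fun p hp => ?_, ?_⟩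
  · exact (ε.trans c.iso).surjective.comp (QuotientGroup.mk'_surjective _)
  · show (ε.trans c.iso) _ = 1
    rw [QuotientGroup.mk'_apply, (QuotientGroup.eq_one_iff _).2 (show (⟨e, c.E_le he⟩ : ↥c.H) ∈ N.subgroupOf c.H from hEN he),
      map_one]
  · show (ε.trans c.iso) _ = 1
    rw [QuotientGroup.mk'_apply, (QuotientGroup.eq_one_iff _).2 (show (⟨p, (c.P_le_C0 hp).1⟩ : ↥c.H) ∈ N.subgroupOf c.H from hPN hp),
      map_one]
  · rw [show ((ε.trans c.iso).toMonoidHom.comp (QuotientGroup.mk' (N.subgroupOf c.H))).ker = N.subgroupOf c.H by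
        ext x
        rw [MonoidHom.mem_ker, MonoidHom.comp_apply, MulEquiv.coe_toMonoidHom, MulEquiv.map_eq_one_iff,
          QuotientGroup.mk'_apply, QuotientGroup.eq_one_iff], Nat.card_congr (subgroupOfEquivOfLe hNH).toEquiv, hcN,
      c.type.2.2.1]

/-- The chosen map. -/
noncomputable def pr : ↥c.H →* A := c.exists_pr.choose

omit [Finite G] in
theorem pr_surj : Function.Surjective c.pr := c.exists_pr.choose_spec.1

omit [Finite G] in
theorem pr_E {e : G} (he : e ∈ c.E) : c.pr ⟨e, c.E_le he⟩ = 1 := c.exists_pr.choose_spec.2.1 e he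

omit [Finite G] in
theorem pr_P {p : G} (hp : p ∈ P) : c.pr ⟨p, (c.P_le_C0 hp).1⟩ = 1 := c.exists_pr.choose_spec.2.2.1 p hp

omit [Finite G] in
theorem card_ker : Nat.card ↥c.pr.ker = 3 * 2 ^ 13 := c.exists_pr.choose_spec.2.2.2

omit [Finite G] in
/-- A generator of `P`. -/
theorem exists_gen : ∃ p ∈ P, orderOf p = 3 ∧ zpowers p = P := by
  haveI : Fact (Nat.Prime 3) := ⟨Nat.prime_three⟩
  haveI : Finite ↥P := Nat.finite_of_card_ne_zero (by rw [c.card_P]; omega)
  obtain ⟨p, hp⟩ := exists_prime_orderOf_dvd_card' (G := ↥P) 3 (by rw [c.card_P])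
  rw [← Subgroup.orderOf_coe] at hp
  refine ⟨p, p.2, hp, eq_of_le_of_card_ge (zpowers_le.2 p.2) ?_⟩
  rw [Nat.card_zpowers, hp, c.card_P]

/-- The chosen generator of `P`. -/
noncomputable def pg : G := c.exists_gen.choose

omit [Finite G] in
theorem pg_mem : c.pg ∈ P := c.exists_gen.choose_spec.1

omit [Finite G] in
theorem ord_pg : orderOf c.pg = 3 := c.exists_gen.choose_spec.2.1

omit [Finite G] in
theorem zpowers_pg : zpowers c.pg = P := c.exists_gen.choose_spec.2.2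

omit [Finite G] in
theorem centralizer_P : centralizer (P : Set G) = centralizer ({c.pg} : Set G) := by
  conv_lhs => rw [← c.zpowers_pg, zpowers_eq_closure, centralizer_closure]

theorem pg_notMem_E : c.pg ∉ c.E := fun h => by
  have hd := orderOf_dvd_natCard (⟨c.pg, h⟩ : ↥c.E)
  rw [← Subgroup.orderOf_coe, c.ord_pg, c.card_E] at hd
  exact absurd (Nat.prime_three.dvd_of_dvd_pow hd) (by norm_num)

/-- The kernel is the product of the core and `P`. -/
theorem ker_decomp {x : G} (hx : x ∈ c.H) (h : c.pr ⟨x, hx⟩ = 1) :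
    ∃ e ∈ c.E, ∃ p ∈ P, x = e * p := by
  classical
  have hpH : ∀ q ∈ P, q ∈ c.H := fun q hq => (c.P_le_C0 hq).1
  let f : ↥c.E × ↥P → ↥c.pr.ker := fun w => ⟨⟨w.1 * w.2, mul_mem (c.E_le w.1.2) (hpH _ w.2.2)⟩, by
    rw [MonoidHom.mem_ker]
    have : (⟨(w.1 : G) * w.2, mul_mem (c.E_le w.1.2) (hpH _ w.2.2)⟩ : ↥c.H) =
        ⟨w.1, c.E_le w.1.2⟩ * ⟨w.2, hpH _ w.2.2⟩ := rfl
    rw [this, map_mul, c.pr_E w.1.2, c.pr_P w.2.2, one_mul]⟩
  have hinj : Function.Injective f := by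
    rintro ⟨a, p⟩ ⟨b, q⟩ hab
    have h' : (a : G) * p = b * q := congrArg (fun w : ↥c.pr.ker => ((w : ↥c.H) : G)) hab
    have hm : (b : G)⁻¹ * a = q * (p : G)⁻¹ := by
      rw [eq_mul_inv_iff_mul_eq, mul_assoc, h', inv_mul_cancel_left]
    have h1 : (b : G)⁻¹ * a = 1 := by
      have hd : orderOf ((b : G)⁻¹ * a) ∣ 2 ^ 13 := by
        rw [← c.card_E, ← Subgroup.orderOf_mk _ (mul_mem (inv_mem b.2) a.2 : _ ∈ c.E)]
        exact orderOf_dvd_natCard _
      have hd' : orderOf ((b : G)⁻¹ * a) ∣ 3 := by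
        rw [hm]
        rw [← c.card_P, ← Subgroup.orderOf_mk _ (mul_mem q.2 (inv_mem p.2) : _ ∈ P)]
        exact orderOf_dvd_natCard _
      exact orderOf_eq_one_iff.1 (Nat.eq_one_of_dvd_coprimes (by norm_num) hd hd')
    have e1 : a = b := Subtype.ext (inv_mul_eq_one.1 h1).symm
    subst e1
    exact Prod.ext rfl (Subtype.ext (mul_left_cancel h'))
  haveI : Finite ↥c.pr.ker := inferInstance
  have hbij := (Nat.bijective_iff_injective_and_card f).2 ⟨hinj, by
    rw [Nat.card_prod, c.card_E, c.card_P, c.card_ker, mul_comm]⟩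
  obtain ⟨⟨a, p⟩, hap⟩ := hbij.2 ⟨⟨x, hx⟩, MonoidHom.mem_ker.2 h⟩
  exact ⟨a, a.2, p, p.2, (congrArg (fun w : ↥c.pr.ker => ((w : ↥c.H) : G)) hap).symm⟩

end Ctx

end CfsgLib.Spor.JFourType
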