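import Cfsg.Agent.Lib.Spor.JFourType.Closed

/-!
# The centralizer of a non-conjugate in `W`

It normalizes `W`: otherwise a product of two suitable conjugates of `z` would be centralized inside one of the
two small parts.
-/

set_option autoImplicit false
set_option linter.style.haveILetI false

namespace CfsgLib.Spor.JFourType.Ctx

open Subgroup

universe u

variable {G : Type u} [Group G] [Finite G] {A : Type} [Group A] {J I R : Subgroup A}
  {z : G} {P : Subgroup G} (c : Ctx J I R z P)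
include c

omit c [Finite G] [Group G] in
theorem even_card_of_involution {α : Type u} (s : Finset α) (f : α → α) (hs : ∀ x ∈ s, f x ∈ s)
    (hne : ∀ x ∈ s, f x ≠ x) (hff : ∀ x ∈ s, f (f x) = x) : Even s.card := by
  have h : ∑ _x ∈ s, (1 : ZMod 2) = 0 := Finset.sum_involution (fun a _ => f a) (fun a _ => by decide)
    (fun a ha _ => hne a ha) (fun a ha => hs a ha) (fun a ha => hff a ha)
  rw [Finset.sum_const, nsmul_one, ZMod.natCast_eq_zero_iff_even] at h
  exact h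

/-- The part of `W` normalizing the conjugate is small. -/
theorem card_Wnorm_le (hs : c.Split) {g t : G} (ht : t ∈ c.Ut) (htT : t ∈ c.Tset) (hgt : g * t * g⁻¹ = t)
    (hgN : g ∉ normalizer (c.W : Set G)) : Nat.card ↥(c.Wnorm g) ≤ 4 := by
  by_contra hcon
  push Not at hcon
  obtain ⟨x, hx, hxc⟩ := c.exists_conj_of_card hs ht htT hgt (S := c.Wnorm g) inf_le_left
    (c.Wint_le_Wnorm g (c.t_mem_Wint htT.1 hgt)) hcon
  refine hgN (c.normW_of_conj_mem hs ht htT hgt (c.mem_Wnorm.1 hx).1 ?_ ?_)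
  · have := (c.isConj_z_conj g⁻¹ x).2 hxc
    rwa [inv_inv] at this
  · rw [show g * (g⁻¹ * x * g) * g⁻¹ = x by group]
    exact (c.mem_Wnorm.1 hx).2

/-- A member of the orbit avoiding a small subgroup. -/
theorem exists_avoid (hs : c.Split) {t : G} (ht : t ∈ c.Ut) (htT : t ∈ c.Tset) {B : Subgroup G} (hB : B ≤ c.W)
    (htB : t ∈ B) (hc : Nat.card ↥B ≤ 4) : ∃ x ∈ c.Xone t, ∀ b ∈ B, b ≠ 1 → x * b ∉ c.Xone t := by
  classical
  have hnt : ∀ x ∈ c.Xone t, x * t ∉ c.Xone t := fun x hx h => c.Xone_mul_t hs ht htT hx (c.Xone_sub h).2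
  by_cases hsmall : ∀ b ∈ B, b = 1 ∨ b = t
  · refine ⟨z, c.z_mem_Xone t, fun b hb hb1 => ?_⟩
    rw [(hsmall b hb).resolve_left hb1]
    exact hnt z (c.z_mem_Xone t)
  push Not at hsmall
  obtain ⟨u, hu, hu1, hut⟩ := hsmall
  have hu2 := c.W_sq (hB hu)
  have hutne : u * t ≠ 1 := fun h => hut (by
    rw [eq_inv_of_mul_eq_one_left h, inv_eq_of_mul_eq_one_left (c.W_sq htT.1)])
  have hBeq : (B : Set G) = {1, t, u, u * t} := by
    have h4 : ({1, t, u, u * t} : Set G).ncard = 4 := by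
      rw [Set.ncard_insert_of_notMem (by simp [Ne.symm hu1, Ne.symm hutne, Ne.symm htT.2.1]) (Set.toFinite _),
        Set.ncard_insert_of_notMem (by
          simp only [Set.mem_insert_iff, Set.mem_singleton_iff, not_or]
          exact ⟨Ne.symm hut, fun h => hu1 (mul_eq_right.1 h.symm)⟩) (Set.toFinite _),
        Set.ncard_insert_of_notMem (by
          rw [Set.mem_singleton_iff]
          exact fun h => htT.2.1 (mul_eq_left.1 h.symm)) (Set.toFinite _), Set.ncard_singleton]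
    refine (Set.eq_of_subset_of_ncard_le ?_ ?_ (Set.toFinite _)).symm
    · rintro x (rfl | rfl | rfl | rfl)
      exacts [one_mem _, htB, hu, mul_mem hu htB]
    · rw [h4, ← Nat.card_coe_set_eq]; exact hc
  haveI : Fintype G := Fintype.ofFinite _
  set X : Finset G := Finset.univ.filter fun x => x ∈ c.Xone t with hX
  set S1 := X.filter fun x => x * u ∈ c.Xone t with hS1
  set S2 := X.filter fun x => x * (u * t) ∈ c.Xone t with hS2
  have heven : ∀ b, b * b = 1 → b ≠ 1 → Even (X.filter fun x => x * b ∈ c.Xone t).card := by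
    intro b hb2 hb1
    refine even_card_of_involution _ (fun x => x * b) (fun x hx => ?_) (fun x _ h => hb1 (mul_eq_left.1 h))
      (fun x _ => by show x * b * b = x; rw [mul_assoc, hb2, mul_one])
    simp only [hX, Finset.mem_filter, Finset.mem_univ, true_and] at hx ⊢
    exact ⟨hx.2, by rw [mul_assoc, hb2, mul_one]; exact hx.1⟩
  obtain ⟨x, hx, hx1, hx2⟩ : ∃ x ∈ c.Xone t, x * u ∉ c.Xone t ∧ x * (u * t) ∉ c.Xone t := by
    by_contra hcon
    push Not at hcon
    have hdis : Disjoint S1 S2 := by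
      refine Finset.disjoint_left.2 fun x h1 h2 => ?_
      simp only [hS1, hS2, hX, Finset.mem_filter, Finset.mem_univ, true_and] at h1 h2
      rw [← mul_assoc] at h2
      exact hnt _ h1.2 h2.2
    have hun : S1 ∪ S2 = X := by
      ext x
      simp only [hS1, hS2, hX, Finset.mem_union, Finset.mem_filter, Finset.mem_univ, true_and]
      exact ⟨fun h => h.elim (fun h => h.1) (fun h => h.1), fun h => by
        by_cases h1 : x * u ∈ c.Xone t
        exacts [Or.inl ⟨h, h1⟩, Or.inr ⟨h, hcon x h h1⟩]⟩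
    have hXc : X.card = 231 := by
      rw [← c.card_Xone hs ht htT, ← Set.ncard_coe_finset]
      congr 1
      ext; simp [hX]
    have h := (heven u hu2 hu1).add (heven (u * t) (c.W_sq (mul_mem (hB hu) htT.1)) hutne)
    rw [← hS1, ← hS2, ← Finset.card_union_of_disjoint hdis, hun, hXc] at h
    revert h
    decide
  refine ⟨x, hx, fun b hb hb1 => ?_⟩
  have hb' : b ∈ ({1, t, u, u * t} : Set G) := hBeq.le hb
  rcases hb' with rfl | rfl | rfl | rfl
  exacts [absurd rfl hb1, hnt x hx, hx1, hx2]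

theorem cent_Tset_Ut (hs : c.Split) {g t : G} (ht : t ∈ c.Ut) (htT : t ∈ c.Tset) (hgt : g * t * g⁻¹ = t) :
    g ∈ normalizer (c.W : Set G) := by
  classical
  by_contra hgN
  have hgN' : g⁻¹ ∉ normalizer (c.W : Set G) := fun h => hgN (inv_mem_iff.1 h)
  have hgti : g⁻¹ * t * g = t := inv_fix hgt
  -- the two small parts
  set B := (c.Wnorm g⁻¹).map (MulAut.conj g).toMonoidHom with hBdef
  set B0 := (c.Wnorm g).map (MulAut.conj g⁻¹).toMonoidHom with hB0def
  have hBm : ∀ x, x ∈ c.W → g⁻¹ * x * g ∈ normalizer (c.W : Set G) → x ∈ B := fun x hx hn =>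
    ⟨g⁻¹ * x * g, c.mem_Wnorm.2 ⟨by rwa [inv_inv, show g * (g⁻¹ * x * g) * g⁻¹ = x by group], hn⟩,
      by simp [mul_assoc]⟩
  have hBW : B ≤ c.W := by
    rintro _ ⟨x, hx, rfl⟩
    have := (c.mem_Wnorm.1 hx).1
    rwa [inv_inv] at this
  have hB4 : Nat.card ↥B ≤ 4 := (Nat.card_congr (equivMapOfInjective _ _ (MulAut.conj g).injective).toEquiv).symm.trans_le
    (c.card_Wnorm_le hs ht htT (by rw [inv_inv]; exact hgti) hgN')
  have hB04 : Nat.card ↥B0 ≤ 4 :=
    (Nat.card_congr (equivMapOfInjective _ _ (MulAut.conj g⁻¹).injective).toEquiv).symm.trans_le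
      (c.card_Wnorm_le hs ht htT hgt hgN)
  obtain ⟨x, hx, hxB⟩ := c.exists_avoid hs ht htT hBW
    (hBm t htT.1 (by rw [hgti]; exact c.W_le_normalizer htT.1)) hB4
  -- a conjugate in `W` avoiding the other
  obtain ⟨x0, ⟨hx0W, hx0c⟩, hx0B⟩ : ∃ x0, (x0 ∈ c.W ∧ IsConj z x0) ∧ ∀ b ∈ B0, x0 * b ∉ c.Xone t := by
    by_contra hcon
    push Not at hcon
    let F : ↥B0 × ↥(c.Xone t) → G := fun w => (w.2 : G) * (w.1 : G)⁻¹
    have hsub : {x : G | x ∈ c.W ∧ IsConj z x} ⊆ Set.range F := fun y hy => by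
      obtain ⟨b, hb, hyb⟩ := hcon y hy
      exact ⟨(⟨b, hb⟩, ⟨_, hyb⟩), mul_inv_cancel_right y b⟩
    have h := Set.ncard_le_ncard hsub (Set.toFinite _)
    rw [hs.card_conj, ← Nat.card_coe_set_eq] at h
    have h' := Finite.card_range_le F
    simp only [Nat.card_prod, Nat.card_coe_set_eq, c.card_Xone hs ht htT] at h' h
    have := Nat.mul_le_mul_right 231 hB04
    omega
  have hx0N : x0 ∉ c.Xone t := by simpa using hx0B 1 (one_mem _)
  obtain ⟨hxW, hxc⟩ := c.Xone_sub hx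
  set x' := g * x0 * g⁻¹ with hx'
  have hxx := c.W_sq hxW
  have hx'x' : x' * x' = 1 := by rw [hx', conj_mul, c.W_sq hx0W, mul_one, mul_inv_cancel]
  have hxt : Commute x t := c.W_comm hxW htT.1
  have hx't : Commute x' t := by
    show x' * t = t * x'
    calc x' * t = g * (x0 * (g⁻¹ * t * g)) * g⁻¹ := by rw [hx']; group
      _ = g * ((g⁻¹ * t * g) * x0) * g⁻¹ := by rw [hgti, c.W_comm hx0W htT.1]
      _ = t * x' := by rw [hx']; group
  set d := x * x' with hd
  have hdt : Commute d t := hxt.mul_left hx't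
  have hxd : x * d = x' := by rw [hd, ← mul_assoc, hxx, one_mul]
  have hxdx : x * d * x⁻¹ = d⁻¹ := by
    rw [hxd, hd, mul_inv_rev, inv_eq_of_mul_eq_one_left hx'x']
  have key : ∀ i : ℕ, (d ^ i)⁻¹ * x * d ^ i = x * d ^ (2 * i) := by
    intro i
    have h : x * d ^ i * x⁻¹ = (d ^ i)⁻¹ := by rw [← conj_pow, hxdx, inv_pow]
    rw [← h, inv_mul_cancel_right, two_mul, pow_add, mul_assoc]
  have hfix : ∀ i : ℕ, (d ^ i)⁻¹ * t * (d ^ i)⁻¹⁻¹ = t := fun i => by
    rw [(hdt.pow_left i).inv_left.eq, mul_inv_cancel_right]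
  -- the two are not conjugate there
  have hnconj : ∀ i : ℕ, (d ^ i)⁻¹ * x * d ^ i ≠ x' := by
    intro i h
    set a := g⁻¹ * (d ^ i)⁻¹ with ha
    have hat : a * t * a⁻¹ = t := by
      calc a * t * a⁻¹ = g⁻¹ * ((d ^ i)⁻¹ * t * (d ^ i)⁻¹⁻¹) * g := by rw [ha]; group
        _ = t := by rw [hfix, hgti]
    have hax : a * x * a⁻¹ = x0 := by
      calc a * x * a⁻¹ = g⁻¹ * ((d ^ i)⁻¹ * x * d ^ i) * g := by rw [ha]; group
        _ = x0 := by rw [h, hx']; group
    have haN := c.normW_of_fusion hs htT hxW hxc hat (by rw [hax]; exact hx0W)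
    exact hx0N (hax ▸ c.conj_Xone (c.mem_Mt.2 ⟨haN, hat⟩) hx)
  have hn : 0 < orderOf d := orderOf_pos d
  rcases Nat.even_or_odd' (orderOf d) with ⟨k, hk | hk⟩
  swap
  · refine hnconj (k + 1) ?_
    rw [key, show 2 * (k + 1) = orderOf d + 1 by omega, pow_succ, pow_orderOf_eq_one, one_mul, hxd]
  set w := d ^ k with hw
  have hw1 : w ≠ 1 := fun h => by
    have := Nat.le_of_dvd (by omega) (orderOf_dvd_of_pow_eq_one h)
    omega
  have hww : w * w = 1 := by rw [hw, ← pow_add, ← two_mul, ← hk, pow_orderOf_eq_one]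
  have hwx : w * x * w⁻¹ = x := by
    have h : x * w * x⁻¹ = w⁻¹ := by rw [hw, ← conj_pow, hxdx, inv_pow]
    calc w * x * w⁻¹ = w * x * (x * w * x⁻¹) := by rw [h]
      _ = w * (x * x) * w * x⁻¹ := by group
      _ = x := by rw [hxx, mul_one, hww, one_mul, inv_eq_of_mul_eq_one_left hxx]
  have hwt : w * t * w⁻¹ = t := by rw [hw, (hdt.pow_left k).eq, mul_inv_cancel_right]
  have hwx' : w * x' * w⁻¹ = x' := by
    rw [← hxd, ← mul_assoc, mul_assoc (w * x) d, show d * w⁻¹ = w⁻¹ * d from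
      ((Commute.refl d).pow_right k).inv_right.eq, ← mul_assoc, hwx]
  have hwN := c.normW_of_fix hs htT hxW hxc hwt hwx
  have hwN' : g⁻¹ * w * g ∈ normalizer (c.W : Set G) := by
    refine c.normW_of_fix hs htT hx0W hx0c ?_ ?_
    · calc g⁻¹ * w * g * t * (g⁻¹ * w * g)⁻¹ = g⁻¹ * (w * (g * t * g⁻¹) * w⁻¹) * g := by group
        _ = t := by rw [hgt, hwt, hgti]
    · calc g⁻¹ * w * g * x0 * (g⁻¹ * w * g)⁻¹ = g⁻¹ * (w * x' * w⁻¹) * g := by rw [hx']; group
        _ = x0 := by rw [hwx', hx']; group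
  rcases Nat.even_or_odd' k with ⟨i, hi | hi⟩
  · -- inside the first part
    set a := (d ^ i)⁻¹ with ha
    have hax : a * x * a⁻¹ = x * w := by rw [ha, inv_inv, key, hw, hi]
    have haN := c.normW_of_conj_mem hs ht htT (hfix i) hxW hxc
      (by rw [hax]; exact mul_mem (c.W_le_normalizer hxW) hwN)
    have hX := hax ▸ c.conj_Xone (c.mem_Mt.2 ⟨haN, hfix i⟩) hx
    have hwW : w ∈ c.W := (mul_mem_cancel_left hxW).1 (c.Xone_sub hX).1
    exact hxB w (hBm w hwW hwN') hw1 hX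
  · -- inside the second part
    set a := g⁻¹ * (d ^ (i + 1))⁻¹ with ha
    have hat : a * t * a⁻¹ = t := by
      calc a * t * a⁻¹ = g⁻¹ * ((d ^ (i + 1))⁻¹ * t * (d ^ (i + 1))⁻¹⁻¹) * g := by rw [ha]; group
        _ = t := by rw [hfix, hgti]
    have hax : a * x * a⁻¹ = x0 * (g⁻¹ * w * g) := by
      calc a * x * a⁻¹ = g⁻¹ * ((d ^ (i + 1))⁻¹ * x * d ^ (i + 1)) * g := by rw [ha]; group
        _ = g⁻¹ * (x * d * w) * g := by
            rw [key, show 2 * (i + 1) = 1 + k by omega, pow_add, pow_one, hw, mul_assoc x d]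
        _ = _ := by rw [hxd, hx']; group
    have haN := c.normW_of_conj_mem hs ht htT hat hxW hxc
      (by rw [hax]; exact mul_mem (c.W_le_normalizer hx0W) hwN')
    have hX := hax ▸ c.conj_Xone (c.mem_Mt.2 ⟨haN, hat⟩) hx
    have hw0W : g⁻¹ * w * g ∈ c.W := (mul_mem_cancel_left hx0W).1 (c.Xone_sub hX).1
    exact hx0B _ ⟨w, c.mem_Wnorm.2 ⟨hw0W, hwN⟩, by simp [mul_assoc]⟩ hX

/-- The centralizer of a non-conjugate in `W` normalizes `W`. -/
theorem cent_Tset_le (hs : c.Split) {t : G} (ht : t ∈ c.Tset) :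
    centralizer ({t} : Set G) ≤ normalizer (c.W : Set G) := by
  intro g hg
  obtain ⟨t0, ht0T, ht0⟩ := Set.nonempty_of_ncard_ne_zero (s := {x | x ∈ c.Tset ∧ x ∈ c.Ut})
    (by rw [c.card_Tset_Ut hs]; norm_num)
  obtain ⟨n, hn, rfl⟩ := c.trans_Tset hs ht0T ht
  have hgt : g * (n * t0 * n⁻¹) * g⁻¹ = n * t0 * n⁻¹ :=
    mul_inv_eq_iff_eq_mul.2 (mem_centralizer_singleton_iff.1 hg)
  have h := c.cent_Tset_Ut hs ht0 ht0T (g := n⁻¹ * g * n) (by
    calc n⁻¹ * g * n * t0 * (n⁻¹ * g * n)⁻¹ = n⁻¹ * (g * (n * t0 * n⁻¹) * g⁻¹) * n := by group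
      _ = t0 := by rw [hgt]; group)
  rw [show g = n * (n⁻¹ * g * n) * n⁻¹ by group]
  exact mul_mem (mul_mem hn h) (inv_mem hn)

end CfsgLib.Spor.JFourType.Ctx
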