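import Cfsg.Agent.Lib.Spor.JFourType.Data
import Cfsg.Agent.Lib.Spor.ChainCands

/-!
# Checks on the data for the automorphism group of the Mathieu group of degree 22
-/

set_option autoImplicit false
set_option maxRecDepth 20000

namespace CfsgLib.Spor.JFourType

open Cfsg

/-- The listed element. -/
def el (i : ℕ) : ℕ := arrGet 120 syList i

/-- The commuting mask of a listed element. -/
def cmask (i : ℕ) : ℕ := arrGet 256 syComm i

/-- The mask bit is correct. -/
def commRow (i : ℕ) : Bool := (List.range 256).all fun j =>
  (decide (j < i) && ((cmask j).testBit i == (cmask i).testBit j)) || (decide (i ≤ j) && ((cmask i).testBit j == commCodes (el i) (el j)))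

/-- No subgroup of order sixteen of involutions fixing both points goes through this element. -/
def smallEA (a : ℕ) : Bool :=
  !(mInv.testBit a) || (mI ||| mR).testBit a ||
    (let cs := cmask a &&& mInv
     decide (((List.range 256).countP fun b => cs.testBit b && decide (16 ≤ pop 256 (cs &&& cmask b))) < 16))

/-- The numbers of set bits of the bytes. -/
def byteTab : ℕ := 95125173855764218123276304889944061997689682402263585766959741291920687686033329201817409157123347502415384089435969498586180241031507595463600295898153685276653211633572815512294064538494957912327413386667662218713394765509704508661031522276467630197481635010039778342554499416459730172574551513689147646224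

/-- The number of set bits among the first `k` bytes. -/
def popB : ℕ → ℕ → ℕ
  | 0, _ => 0
  | k + 1, m => arrGet 4 byteTab (m &&& 255) + popB k (m >>> 8)

theorem byteTab_ok : ((List.range 256).all fun b => arrGet 4 byteTab b == pop 8 b) = true := by decide +kernel

theorem pop_add (a b m : ℕ) : pop (a + b) m = pop a m + pop b (m >>> a) := by
  rw [pop, pop, pop, List.range_add, List.countP_append, List.countP_map]
  congr 1
  refine List.countP_congr fun i _ => ?_
  simp [Nat.testBit_shiftRight]

theorem popB_eq : ∀ k m, popB k m = pop (8 * k) m
  | 0, m => rfl
  | k + 1, m => by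
    rw [popB, popB_eq k, show 8 * (k + 1) = 8 + 8 * k by ring, pop_add 8]
    congr 1
    have h := List.all_eq_true.1 byteTab_ok (m &&& 255) (List.mem_range.2 (Nat.lt_succ_of_le Nat.and_le_right))
    rw [beq_iff_eq] at h
    rw [h]
    refine List.countP_congr fun i hi => ?_
    rw [List.mem_range] at hi
    rw [Nat.testBit_and, show (255 : ℕ) = 2 ^ 8 - 1 by norm_num, Nat.testBit_two_pow_sub_one]
    simp [hi]

/-- No abelian subgroup of order 32 goes through this element. -/
def smallAb (a : ℕ) : Bool :=
  mRR.testBit a ||
    (let cs := cmask a
     decide (popB 32 cs < 32) ||
       decide (((List.range 256).countP fun b => cs.testBit b && decide (32 ≤ popB 32 (cs &&& cmask b))) < 32))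

/-- The meaning of the masks. -/
def maskRow (i : ℕ) : Bool :=
  let c := el i
  let inner := permFn c 23 == 23
  ((inner && (permFn c 0 == 0)) || ((permFn c 23 == 0) && (permFn c 0 == 23))) &&
  (mInv.testBit i == (inner && sqCode c)) &&
  (!(mRR.testBit i) || sqCode c) &&
  (!(mI.testBit i) || mInv.testBit i) && (!(mR.testBit i) || mInv.testBit i) &&
  ((mRR.testBit i && inner) == mR.testBit i)

/-- Fixed points common to a set of listed elements. -/
def commonFix (mask : ℕ) : ℕ :=
  maskFn (fun p => (List.range 256).all fun i => !(mask.testBit i) || (permFn (el i) p == p)) 24

theorem list_ok : ListedOk syGens syList syMul syPar 256 := by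
  refine listedOk_of_rows (len := 256) (by norm_num) (by decide +kernel) (by decide +kernel) (by norm_num) ?_
  intro j hj
  interval_cases j <;> decide +kernel

theorem distinct_ok : distinctCheck 120 syList syOrd 256 = true := by decide +kernel

theorem comm_ok0 : ((List.range' 0 64).all commRow) = true := by decide +kernel
theorem comm_ok1 : ((List.range' 64 64).all commRow) = true := by decide +kernel
theorem comm_ok2 : ((List.range' 128 64).all commRow) = true := by decide +kernel
theorem comm_ok3 : ((List.range' 192 64).all commRow) = true := by decide +kernel

theorem mask_ok : ((List.range 256).all maskRow) = true := by decide +kernel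

theorem ea_ok : ((List.range 256).all smallEA) = true := by decide +kernel

theorem ab_ok : ((List.range 256).all smallAb) = true := by decide +kernel

theorem pop_ok : pop 256 mI = 16 ∧ pop 256 mR = 16 ∧ pop 256 mRR = 32 ∧ pop 24 (commonFix mI) = 8 ∧
    pop 24 (commonFix mR) = 4 := by decide +kernel

theorem inner_ok : ((List.range 256).countP fun i => permFn (el i) 23 == 23) = 128 := by decide +kernel

end CfsgLib.Spor.JFourType
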