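import Cfsg.Agent.Lib.Spor.JFourType.Frame

/-!
# No further conjugate of `z` from a conjugate of `W`

If `g` fixes `t` and carries a conjugate of `z` in `W` into the normalizer of `W`, then `g` normalizes `W`: the
two parts have order at least `2 ^ 6`, and in the frame one bounds the other by `2 ^ 5`.
-/

set_option autoImplicit false
set_option linter.style.haveILetI false

namespace CfsgLib.Spor.JFourType.Ctx

open Subgroup

universe u

variable {G : Type u} [Group G] [Finite G] {A : Type} [Group A] {J I R : Subgroup A}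
  {z : G} {P : Subgroup G} (c : Ctx J I R z P)
include c

open scoped _root_.Classical in
/-- The vector of the part in the core. -/
noncomputable def qv (a : G) : c.Vs := if h : c.im a ∈ I then c.pv (a * c.lv ⟨c.im a, h⟩) else 0

theorem qv_eq {a : G} {i : ↥I} (h : c.im a = i) : c.qv a = c.pv (a * c.lv i) := by
  rw [qv, dif_pos (h ▸ i.2)]
  congr

theorem lv_sq (i : ↥I) : c.lv i * c.lv i = 1 := c.L0_elementary (c.lv_mem i)

/-- The part in the core. -/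
theorem Kin_spec {g t a : G} (ht : t ∈ c.Ut) (htT : t ∈ c.Tset) (hgt : g * t * g⁻¹ = t) {hH : c.Wnorm g ≤ c.H}
    (ha : a ∈ c.Kin g hH) (hp0 : c.pv t ≠ 0) {i : ↥I} (hi : c.im a = i) :
    a * c.lv i ∈ c.E ∧ c.pv (a * c.lv i) = c.qv a ∧ c.Bf (c.qv a) (c.pv t) = 0 := by
  have haH := hH ha.1
  have hlH := c.lv_H i
  have hk : c.pr ⟨a * c.lv i, mul_mem haH hlH⟩ = 1 := by
    rw [← c.im_eq, c.im_mul haH hlH, hi, c.im_lv, ← Subgroup.coe_mul, c.mul_self_I, coe_one]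
  obtain ⟨e, he, q, hq, hd⟩ := c.ker_decomp (mul_mem haH hlH) hk
  have hat := c.Wnorm_fix ha.1 htT.1 hgt
  have hlt : c.lv i * t * (c.lv i)⁻¹ = t := by rw [c.L0_comm_Ut (c.lv_mem i) ht, mul_inv_cancel_right]
  have hqH := (c.P_le_C0 hq).1
  have hfix : c.act q (c.pv t) = c.pv t := by
    have h : c.act (a * c.lv i) (c.pv t) = c.pv t := by
      rw [← c.pv_conj (mul_mem haH hlH) ht.1]
      congr 1
      calc a * c.lv i * t * (a * c.lv i)⁻¹ = a * (c.lv i * t * (c.lv i)⁻¹) * a⁻¹ := by group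
        _ = t := by rw [hlt, hat]
    rwa [hd, c.act_mul (c.E_le he) hqH, (c.act_eq_one (c.E_le he)).2 he, one_mul] at h
  have hq1 : q = 1 := by
    rcases c.mem_P hq with rfl | rfl | rfl
    · rfl
    · exact absurd (c.om_fixed hfix) hp0
    · refine absurd (c.om_fixed ?_) hp0
      calc c.om (c.pv t) = c.act c.pg (c.act c.pg⁻¹ (c.pv t)) := by rw [hfix]; rfl
        _ = c.pv t := c.act_apply_inv c.pg_H _
  rw [hq1, mul_one] at hd
  have hE : a * c.lv i ∈ c.E := hd ▸ he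
  refine ⟨hE, (c.qv_eq hi).symm, ?_⟩
  rw [c.qv_eq hi, c.Bf_comm hE ht.1]
  calc a * c.lv i * t = a * (c.lv i * t * (c.lv i)⁻¹) * a⁻¹ * (a * c.lv i) := by group
    _ = _ := by rw [hlt, hat]

theorem qv_mul {g t a b : G} (ht : t ∈ c.Ut) (htT : t ∈ c.Tset) (hgt : g * t * g⁻¹ = t) {hH : c.Wnorm g ≤ c.H}
    (ha : a ∈ c.Kin g hH) (hb : b ∈ c.Kin g hH) (hp0 : c.pv t ≠ 0) :
    c.qv (a * b) + c.qv a + c.qv b ∈ c.U := by
  set i : ↥I := ⟨c.im a, ha.2⟩
  set j : ↥I := ⟨c.im b, hb.2⟩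
  obtain ⟨hea, hqa, -⟩ := c.Kin_spec ht htT hgt ha hp0 (i := i) rfl
  obtain ⟨heb, hqb, -⟩ := c.Kin_spec ht htT hgt hb hp0 (i := j) rfl
  have hab : c.im (a * b) = ((i * j : ↥I) : A) := c.im_mul (hH ha.1) (hH hb.1)
  have hli : (c.lv i)⁻¹ = c.lv i := inv_eq_of_mul_eq_one_left (c.lv_sq i)
  have hcE := c.conj_E (c.lv_H i) heb
  have hm : c.lv i * c.lv j * c.lv (i * j) ∈ c.L0 :=
    mul_mem (mul_mem (c.lv_mem i) (c.lv_mem j)) (c.lv_mem _)
  have hm1 : c.im (c.lv i * c.lv j * c.lv (i * j)) = 1 := by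
    rw [c.im_mul (mul_mem (c.lv_H i) (c.lv_H j)) (c.lv_H _), c.im_mul (c.lv_H i) (c.lv_H j), c.im_lv, c.im_lv,
      c.im_lv, ← Subgroup.coe_mul, ← Subgroup.coe_mul, c.mul_self_I, coe_one]
  have hm0 : c.lv i * c.lv j * c.lv (i * j) ∈ c.E ∧ c.pv (c.lv i * c.lv j * c.lv (i * j)) = 0 := by
    rcases c.L0_ker hm hm1 with h | h <;> rw [h]
    exacts [⟨one_mem _, c.pv_one⟩, ⟨c.z_mem_E, c.pv_z⟩]
  have e1 : a * b * c.lv (i * j) =
      a * c.lv i * (c.lv i * (b * c.lv j) * (c.lv i)⁻¹) * (c.lv i * c.lv j * c.lv (i * j)) := by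
    symm
    calc a * c.lv i * (c.lv i * (b * c.lv j) * (c.lv i)⁻¹) * (c.lv i * c.lv j * c.lv (i * j))
        = a * (c.lv i * c.lv i) * b * (c.lv j * c.lv j) * c.lv (i * j) := by group
      _ = _ := by rw [c.lv_sq, c.lv_sq, mul_one, mul_one]
  rw [c.qv_eq hab, e1, c.pv_mul (mul_mem hea hcE) hm0.1, hm0.2, add_zero, c.pv_mul hea hcE,
    c.pv_conj (c.lv_H i) heb, hqa, hqb,
    show c.act (c.lv i) (c.qv b) = c.D i (c.qv b) + c.qv b by rw [c.D_apply, add_assoc, c.two_V, add_zero]]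
  rw [show c.qv a + (c.D i (c.qv b) + c.qv b) + c.qv a + c.qv b =
    c.D i (c.qv b) + ((c.qv a + c.qv a) + (c.qv b + c.qv b)) by abel, c.two_V, c.two_V, add_zero, add_zero]
  exact c.D_mem_U i _

theorem qv_mem_U {g t a : G} (ht : t ∈ c.Ut) (htT : t ∈ c.Tset) (hgt : g * t * g⁻¹ = t) {hH : c.Wnorm g ≤ c.H}
    (ha : a ∈ c.Kin g hH) (hp0 : c.pv t ≠ 0) : c.qv a ∈ c.U ↔ a ∈ c.W := by
  set i : ↥I := ⟨c.im a, ha.2⟩
  obtain ⟨hea, hqa, -⟩ := c.Kin_spec ht htT hgt ha hp0 (i := i) rfl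
  refine ⟨fun h => ?_, fun h => ?_⟩
  · have := (c.fibre_mk (u := a * c.lv i) ⟨hea, hqa.symm ▸ h⟩ i).1
    rwa [mul_assoc, c.lv_sq, mul_one] at this
  · rw [← hqa]; exact (c.fibre_Ut h (i := i) rfl).2

/-- The elements whose vector is orthogonal to the point. -/
noncomputable def Kperp (g : G) (hH : c.Wnorm g ≤ c.H) {t : G} (ht : t ∈ c.Ut) (htT : t ∈ c.Tset)
    (hgt : g * t * g⁻¹ = t) (hp0 : c.pv t ≠ 0) : Subgroup G where
  carrier := {a | a ∈ c.Kin g hH ∧ c.Bf (c.qv a) (c.om (c.pv t)) = 0}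
  one_mem' := ⟨one_mem _, c.Bf_U ((c.qv_mem_U ht htT hgt (hH := hH) (one_mem _) hp0).2 (one_mem _)) (c.U_om ht.2)⟩
  mul_mem' := fun {a b} ha hb => ⟨mul_mem ha.1 hb.1, by
    have h := c.Bf_U (c.qv_mul ht htT hgt ha.1 hb.1 hp0) (c.U_om ht.2)
    rwa [c.Bf_add_left, c.Bf_add_left, ha.2, hb.2, add_zero, add_zero] at h⟩
  inv_mem' := fun {a} ha => by
    rw [inv_eq_of_mul_eq_one_left (c.Wnorm_sq ha.1.1)]
    exact ha

theorem mem_Kperp {g t a : G} {hH : c.Wnorm g ≤ c.H} {ht : t ∈ c.Ut} {htT : t ∈ c.Tset} {hgt : g * t * g⁻¹ = t}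
    {hp0 : c.pv t ≠ 0} : a ∈ c.Kperp g hH ht htT hgt hp0 ↔
      a ∈ c.Kin g hH ∧ c.Bf (c.qv a) (c.om (c.pv t)) = 0 := Iff.rfl

theorem card_Kperp {g t : G} (hH : c.Wnorm g ≤ c.H) (ht : t ∈ c.Ut) (htT : t ∈ c.Tset)
    (hgt : g * t * g⁻¹ = t) (hp0 : c.pv t ≠ 0) :
    Nat.card ↥(c.Kin g hH) ≤ 2 * Nat.card ↥(c.Kperp g hH ht htT hgt hp0) := by
  classical
  set K := c.Kperp g hH ht htT hgt hp0
  by_cases hall : ∀ a ∈ c.Kin g hH, a ∈ K
  · have := card_le_of_le (show c.Kin g hH ≤ K from hall)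
    omega
  push Not at hall
  obtain ⟨a0, ha0, ha0K⟩ := hall
  have hx : ∀ a ∈ c.Kin g hH, a ∉ K → a * a0 ∈ K := by
    intro a ha haK
    have h := c.Bf_U (c.qv_mul ht htT hgt ha ha0 hp0) (c.U_om ht.2)
    rw [c.Bf_add_left, c.Bf_add_left] at h
    refine c.mem_Kperp.2 ⟨mul_mem ha ha0, ?_⟩
    have h2 : ∀ x y w : ZMod 2, x + y + w = 0 → y ≠ 0 → w ≠ 0 → x = 0 := by decide
    exact h2 _ _ _ h (fun h => haK (c.mem_Kperp.2 ⟨ha, h⟩)) (fun h => ha0K (c.mem_Kperp.2 ⟨ha0, h⟩))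
  let f : ↥(c.Kin g hH) → ↥K × Fin 2 := fun a =>
    if h : (a : G) ∈ K then (⟨a, h⟩, 0) else (⟨(a : G) * a0, hx a a.2 h⟩, 1)
  have hf : Function.Injective f := by
    intro a b e
    simp only [f] at e
    split at e <;> split at e
    · exact Subtype.ext (congrArg (fun w : ↥K × Fin 2 => (w.1 : G)) e)
    · exact absurd (congrArg Prod.snd e) (Fin.zero_ne_one)
    · exact absurd (congrArg Prod.snd e).symm (Fin.zero_ne_one)
    · exact Subtype.ext (mul_right_cancel (congrArg (fun w : ↥K × Fin 2 => (w.1 : G)) e))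
  have := Nat.card_le_card_of_injective f hf
  rw [Nat.card_prod, Nat.card_fin, mul_comm] at this
  exact this

/-- An element orthogonal to the point lies in the fixed space of a line. -/
theorem exists_line {p q : c.Vs} (hp : c.IsN p) (h1 : c.Bf q p = 0) (h2 : c.Bf q (c.om p) = 0) :
    ∃ j : ↥I, j ≠ 1 ∧ q ∈ c.Fx j := by
  classical
  have hom : ∀ u, c.Bf (c.om q) u = c.Bf q u + c.Bf q (c.om u) := fun u => by
    nth_rewrite 1 [← c.om_cube u]
    rw [← c.Bf_add_right, ← c.om_two]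
    exact c.Bf_act c.pg_H _ _
  let K : AddSubgroup c.Vs :=
    { carrier := {u | u ∈ c.U ∧ c.Bf q u = 0 ∧ c.Bf q (c.om u) = 0}
      zero_mem' := ⟨zero_mem _, c.Bf_zero_right _, by rw [map_zero]; exact c.Bf_zero_right _⟩
      add_mem' := fun {u v} hu hv => ⟨add_mem hu.1 hv.1, by rw [c.Bf_add_right, hu.2.1, hv.2.1, add_zero],
        by rw [map_add, c.Bf_add_right, hu.2.2, hv.2.2, add_zero]⟩
      neg_mem' := fun {u} hu => by rw [neg_eq_of_add_eq_zero_left (c.two_V u)]; exact hu }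
  have hKom : ∀ u ∈ K, c.om u ∈ K := fun u hu => ⟨c.U_om hu.1, hu.2.2, by
    rw [c.om_two, c.Bf_add_right, hu.2.1, hu.2.2, add_zero]⟩
  let φ : ↥c.U →+ ZMod 2 × ZMod 2 :=
    AddMonoidHom.mk' (fun u => (c.Bf q u, c.Bf q (c.om u))) fun u v => by
      simp only [AddSubgroup.coe_add, map_add, c.Bf_add_right, Prod.mk_add_mk]
  have hφ := φ.ker.card_mul_index
  rw [AddSubgroup.index_ker, c.card_U] at hφ
  have hr : Nat.card ↥φ.range ≤ 4 := (Nat.card_le_card_of_injective _ Subtype.val_injective).trans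
    (le_of_eq (by rw [Nat.card_prod, Nat.card_zmod]))
  have hkK : Nat.card ↥φ.ker ≤ Nat.card ↥K := by
    refine Nat.card_le_card_of_injective (fun u => (⟨((u : ↥c.U) : c.Vs), (u : ↥c.U).2, ?_, ?_⟩ : ↥K))
      fun u v h => Subtype.ext (Subtype.ext (congrArg (fun w : ↥K => (w : c.Vs)) h))
    · exact congrArg Prod.fst (AddMonoidHom.mem_ker.1 u.2)
    · exact congrArg Prod.snd (AddMonoidHom.mem_ker.1 u.2)
  have h16 : 16 ≤ Nat.card ↥K := by
    have := Nat.mul_le_mul hkK hr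
    omega
  obtain ⟨w, hwK, hwp⟩ : ∃ w ∈ K, w ∉ c.Pt p := by
    by_contra hcon
    push Not at hcon
    have := Set.ncard_le_ncard (s := (K : Set c.Vs)) (t := c.Pt p) hcon (Set.toFinite _)
    rw [c.ncard_Pt hp.2.1, ← Nat.card_coe_set_eq] at this
    have e : Nat.card ↥(K : Set c.Vs) = Nat.card ↥K := rfl
    omega
  obtain ⟨j, hj, hpj, hwj⟩ := c.isN_cover hp hwK.1
  refine ⟨j, hj, ?_⟩
  set L := K ⊓ c.Li j
  have hL : ∀ u ∈ L, c.om u ∈ L := fun u hu => ⟨hKom u hu.1, c.Li_om hu.2⟩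
  have hpL : p ∈ L := ⟨⟨hp.1, h1, h2⟩, hpj⟩
  have hbig : 4 < Nat.card ↥L := by
    by_contra hcon
    push Not at hcon
    exact hwp (by simpa [Pt] using c.eq_or_of_card_four hL hcon hpL hp.2.1 ⟨hwK, hwj⟩)
  have h3 := c.card_om_invariant L hL
  obtain ⟨k, hk, hck⟩ := c.card_addSubgroup L
  have hle : Nat.card ↥L ≤ 16 := (AddSubgroup.card_le_of_le inf_le_right).trans (le_of_eq (c.card_Li hj))
  have h16' : Nat.card ↥L = 16 := by
    rw [hck] at hbig h3 hle ⊢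
    interval_cases k <;> omega
  have heq : L = c.Li j := AddSubgroup.eq_of_le_of_card_ge inf_le_right (by rw [h16', c.card_Li hj]; norm_num)
  rw [← c.perp_perp (c.Fx j)]
  exact c.mem_perp.2 fun u hu => by
    rw [c.Bf_symm]
    exact (heq.ge hu).1.2.1

/-- An element orthogonal to the point centralizes at least `2 ^ 7` of `W`. -/
theorem card_cent_Kperp {g t a : G} (hH : c.Wnorm g ≤ c.H) (ht : t ∈ c.Ut) (htT : t ∈ c.Tset)
    (hgt : g * t * g⁻¹ = t) (hpN : c.IsN (c.pv t)) (ha : a ∈ c.Kperp g hH ht htT hgt hpN.2.1) (haW : a ∉ c.W) :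
    128 ≤ Nat.card ↥(c.W ⊓ centralizer ({a} : Set G) : Subgroup G) := by
  classical
  rw [c.mem_Kperp] at ha
  set i : ↥I := ⟨c.im a, ha.1.2⟩
  obtain ⟨he, hq, hqp⟩ := c.Kin_spec ht htT hgt ha.1 hpN.2.1 (i := i) rfl
  obtain ⟨j, hj, hqj⟩ := c.exists_line hpN hqp ha.2
  set e := a * c.lv i with he0
  have hqU : c.qv a ∉ c.U := fun h => haW ((c.qv_mem_U ht htT hgt ha.1 hpN.2.1).1 h)
  have hae : a = e * c.lv i := by rw [he0, mul_assoc, c.lv_sq, mul_one]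
  have hcomm : ∀ w ∈ c.W, e * w * e⁻¹ = w → w ∈ centralizer ({a} : Set G) := fun w hw h => by
    rw [mem_centralizer_singleton_iff, hae, ← mul_assoc, (mul_inv_eq_iff_eq_mul.1 h).symm, mul_assoc,
      c.W_comm hw (c.lv_mem_W' i), ← mul_assoc]
  -- the part in `Ut`
  set U1 := c.Ut ⊓ centralizer ({e} : Set G) with hU1
  obtain ⟨u0, hu0, hu0q⟩ : ∃ u ∈ c.Ut, c.Bf (c.qv a) (c.pv u) ≠ 0 := by
    by_contra hcon
    push Not at hcon
    refine hqU (c.perp_U.le (c.mem_perp.2 fun v hv => ?_))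
    obtain ⟨u, hu, rfl⟩ := c.pv_surj v
    rw [c.Bf_symm]
    exact hcon u ⟨hu, hv⟩
  have hU1mem : ∀ u ∈ c.Ut, c.Bf (c.qv a) (c.pv u) = 0 → u ∈ U1 := fun u hu h =>
    ⟨hu, mem_centralizer_singleton_iff.2 ((c.Bf_comm he hu.1).1 (by rw [hq]; exact h)).symm⟩
  have hU64 : Nat.card ↥c.Ut ≤ 2 * Nat.card ↥U1 := by
    have h2 : ∀ x y : ZMod 2, x ≠ 0 → y ≠ 0 → x + y = 0 := by decide
    let f : ↥c.Ut → ↥U1 × Fin 2 := fun u =>
      if h : c.Bf (c.qv a) (c.pv u) = 0 then (⟨u, hU1mem u u.2 h⟩, 0)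
      else (⟨(u : G) * u0, hU1mem _ (mul_mem u.2 hu0) (by rw [c.pv_mul u.2.1 hu0.1, c.Bf_add_right]; exact h2 _ _ h hu0q)⟩, 1)
    have hf : Function.Injective f := by
      intro x y e
      simp only [f] at e
      split at e <;> split at e
      · exact Subtype.ext (congrArg (fun w : ↥U1 × Fin 2 => (w.1 : G)) e)
      · exact absurd (congrArg Prod.snd e) (Fin.zero_ne_one)
      · exact absurd (congrArg Prod.snd e).symm (Fin.zero_ne_one)
      · exact Subtype.ext (mul_right_cancel (congrArg (fun w : ↥U1 × Fin 2 => (w.1 : G)) e))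
    have := Nat.card_le_card_of_injective f hf
    rw [Nat.card_prod, Nat.card_fin, mul_comm] at this
    exact this
  rw [c.card_Ut] at hU64
  -- one element outside
  obtain ⟨hE, hpv⟩ := c.pv_E_lift he j
  rw [hq, c.D_eq_zero.2 hqj, c.pv_eq_zero hE] at hpv
  obtain ⟨u, hu, hfix⟩ : ∃ u ∈ c.Ut, e * (u * c.lv j) * e⁻¹ = u * c.lv j := by
    rcases hpv with h | h
    · refine ⟨1, one_mem _, ?_⟩
      rw [one_mul]
      exact (eq_inv_of_mul_eq_one_left h).trans (inv_eq_of_mul_eq_one_left (c.lv_sq j))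
    · refine ⟨u0, hu0, ?_⟩
      have hlz : e * c.lv j * e⁻¹ = c.lv j * z := by
        rw [eq_mul_inv_of_mul_eq h, inv_eq_of_mul_eq_one_left (c.lv_sq j), c.comm_z (c.lv_H j)]
      rw [← conj_mul, (c.E_conj_eq he hu0.1).2 (by rw [hq]; exact hu0q), hlz, mul_assoc u0,
        ← mul_assoc z, ← c.comm_z (c.lv_H j), mul_assoc (c.lv j), c.zz, mul_one]
  set w0 := u * c.lv j with hw0
  obtain ⟨hw0W, hw0i⟩ := c.fibre_mk hu j
  have hw0C : w0 ∈ centralizer ({a} : Set G) := hcomm w0 hw0W hfix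
  have hu1C : ∀ x : ↥U1, (x : G) ∈ c.W ⊓ centralizer ({a} : Set G) := fun x =>
    ⟨c.Ut_sub_W x.2.1, hcomm _ (c.Ut_sub_W x.2.1) (mul_inv_eq_iff_eq_mul.2 (mem_centralizer_singleton_iff.1 x.2.2).symm)⟩
  let f : ↥U1 × Fin 2 → ↥(c.W ⊓ centralizer ({a} : Set G) : Subgroup G) := fun x =>
    if x.2 = 0 then ⟨x.1, hu1C x.1⟩ else ⟨(x.1 : G) * w0, mul_mem (hu1C x.1) ⟨hw0W, hw0C⟩⟩
  have hout : ∀ x y : ↥U1, (x : G) ≠ (y : G) * w0 := fun x y h => hj (Subtype.ext (by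
    have h' := congrArg c.im h
    rw [c.im_E x.2.1.1, c.im_mul (c.E_le y.2.1.1) (c.W_le_H hw0W), c.im_E y.2.1.1, one_mul, hw0i] at h'
    exact h'.symm))
  have hf : Function.Injective f := by
    rintro ⟨x, k⟩ ⟨y, l⟩ h
    simp only [f] at h
    split at h <;> rename_i hk <;> split at h <;> rename_i hl
    · exact Prod.ext (Subtype.ext (congrArg (fun w : ↥(c.W ⊓ centralizer ({a} : Set G) : Subgroup G) => (w : G)) h))
        (hk.trans hl.symm)
    · exact absurd (congrArg (fun w : ↥(c.W ⊓ centralizer ({a} : Set G) : Subgroup G) => (w : G)) h) (hout x y)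
    · exact absurd (congrArg (fun w : ↥(c.W ⊓ centralizer ({a} : Set G) : Subgroup G) => (w : G)) h).symm (hout y x)
    · exact Prod.ext (Subtype.ext (mul_right_cancel
        (congrArg (fun w : ↥(c.W ⊓ centralizer ({a} : Set G) : Subgroup G) => (w : G)) h)))
        ((Fin.eq_one_of_ne_zero k hk).trans (Fin.eq_one_of_ne_zero l hl).symm)
  have := Nat.card_le_card_of_injective f hf
  rw [Nat.card_prod, Nat.card_fin] at this
  omega

/-- A large part contains a conjugate of `z`. -/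
theorem exists_conj_of_card (hs : c.Split) {g t : G} (ht : t ∈ c.Ut) (htT : t ∈ c.Tset) (hgt : g * t * g⁻¹ = t)
    {S : Subgroup G} (hS : S ≤ c.W.map (MulAut.conj g).toMonoidHom) (htS : t ∈ S) (hc : 4 < Nat.card ↥S) :
    ∃ x ∈ S, IsConj z x := by
  by_contra hcon
  push Not at hcon
  set B := S.map (MulAut.conj g⁻¹).toMonoidHom with hB
  have hcB : Nat.card ↥B = Nat.card ↥S :=
    (Nat.card_congr (equivMapOfInjective _ _ (MulAut.conj g⁻¹).injective).toEquiv).symm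
  have h4 := c.card_free_le hs (B := B) (t := t) ?_ ?_ ⟨t, htS, ?_⟩ ht htT
  · omega
  · rintro _ ⟨x, hx, rfl⟩
    simpa [mul_assoc] using c.mem_map_W.1 (hS hx)
  · rintro _ ⟨x, hx, rfl⟩ h
    exact hcon x hx ((c.isConj_z_conj g⁻¹ x).1 h)
  · show g⁻¹ * t * g⁻¹⁻¹ = t
    rw [inv_inv]
    exact inv_fix hgt

theorem Wnorm_mul_right {g m : G} (hm : m ∈ normalizer (c.W : Set G)) : c.Wnorm (g * m) = c.Wnorm g := by
  ext x
  rw [c.mem_Wnorm, c.mem_Wnorm, show (g * m)⁻¹ * x * (g * m) = m⁻¹ * (g⁻¹ * x * g) * m⁻¹⁻¹ by group]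
  rw [← SetLike.mem_coe, ← SetLike.mem_coe, SetLike.mem_coe, ← mem_normalizer_iff.1 (inv_mem hm) (g⁻¹ * x * g)]

theorem Wnorm_mul_left {g m : G} (hm : m ∈ normalizer (c.W : Set G)) :
    c.Wnorm (m * g) = (c.Wnorm g).map (MulAut.conj m).toMonoidHom ∧
      c.Wint (m * g) = (c.Wint g).map (MulAut.conj m).toMonoidHom := by
  have e : ∀ x, x ∈ c.W.map (MulAut.conj (m * g)).toMonoidHom ↔
      m⁻¹ * x * m ∈ c.W.map (MulAut.conj g).toMonoidHom := fun x => by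
    rw [c.mem_map_W, c.mem_map_W, show (m * g)⁻¹ * x * (m * g) = g⁻¹ * (m⁻¹ * x * m) * g by group]
  have hmap : ∀ (K : Subgroup G) x, x ∈ K.map (MulAut.conj m).toMonoidHom ↔ m⁻¹ * x * m ∈ K := fun K x =>
    ⟨by rintro ⟨y, hy, rfl⟩; simpa [mul_assoc] using hy, fun h => ⟨_, h, by simp [mul_assoc]⟩⟩
  constructor <;> ext x <;> rw [hmap]
  · rw [Wnorm, mem_inf, e, Wnorm, mem_inf]
    refine and_congr_right fun _ => ?_
    refine ⟨fun h => mul_mem (mul_mem (inv_mem hm) h) hm, fun h => ?_⟩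
    rw [show x = m * (m⁻¹ * x * m) * m⁻¹ by group]
    exact mul_mem (mul_mem hm h) (inv_mem hm)
  · rw [Wint, mem_inf, e, Wint, mem_inf]
    refine and_congr_right fun _ => ?_
    have h := mem_normalizer_iff.1 (inv_mem hm) x
    rwa [inv_inv] at h

/-- One may assume that the part lies in `H`. -/
theorem exists_frame (hs : c.Split) {g t : G} (ht : t ∈ c.Ut) (htT : t ∈ c.Tset) (hgt : g * t * g⁻¹ = t)
    (hgN : g ∉ normalizer (c.W : Set G)) :
    ∃ g' : G, g' * t * g'⁻¹ = t ∧ g' ∉ normalizer (c.W : Set G) ∧ c.Wnorm g' ≤ c.H ∧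
      Nat.card ↥(c.Wnorm g') = Nat.card ↥(c.Wnorm g) ∧ Nat.card ↥(c.Wint g') = Nat.card ↥(c.Wint g) ∧
      c.Wnorm g'⁻¹ = c.Wnorm g⁻¹ := by
  haveI : Fact (Nat.Prime 2) := ⟨Nat.prime_two⟩
  have hp : IsPGroup 2 ↥(c.Wnorm g) := fun x => ⟨1, Subtype.ext (by rw [pow_one, pow_two]; exact c.Wnorm_sq x.2)⟩
  have hmt : ∀ a ∈ c.Wnorm g, a ∈ c.Mt t := fun a ha =>
    c.mem_Mt.2 ⟨(c.mem_Wnorm.1 ha).2, c.Wnorm_fix ha htT.1 hgt⟩
  letI : MulAction ↥(c.Wnorm g) ↥(c.Xone t) :=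
    { smul := fun a x => ⟨(a : G) * x * (a : G)⁻¹, c.conj_Xone (hmt a a.2) x.2⟩
      one_smul := fun x => Subtype.ext (by show (1 : G) * x * (1 : G)⁻¹ = x; group)
      mul_smul := fun a b x => Subtype.ext (by
        show ((a : G) * b) * x * ((a : G) * b)⁻¹ = a * ((b : G) * x * (b : G)⁻¹) * (a : G)⁻¹
        group) }
  obtain ⟨⟨x, m, hm, rfl⟩, hx⟩ := hp.nonempty_fixed_point_of_prime_not_dvd_card ↥(c.Xone t)
    (by rw [Nat.card_coe_set_eq, c.card_Xone hs ht htT]; norm_num)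
  obtain ⟨hmN, hmt'⟩ := c.mem_Mt.1 hm
  obtain ⟨h1, h2⟩ := c.Wnorm_mul_left (g := g) (inv_mem hmN)
  refine ⟨m⁻¹ * g, ?_, fun h => hgN ?_, ?_, ?_, ?_, ?_⟩
  · calc m⁻¹ * g * t * (m⁻¹ * g)⁻¹ = m⁻¹ * (g * t * g⁻¹) * m := by group
      _ = t := by rw [hgt, inv_fix hmt']
  · rw [show g = m * (m⁻¹ * g) by group]
    exact mul_mem hmN h
  · rw [h1]
    rintro _ ⟨a, ha, rfl⟩
    have he : a * (m * z * m⁻¹) * a⁻¹ = m * z * m⁻¹ := congrArg Subtype.val (hx ⟨a, ha⟩)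
    refine c.mem_H_iff_fix.2 ?_
    show m⁻¹ * a * m⁻¹⁻¹ * z * (m⁻¹ * a * m⁻¹⁻¹)⁻¹ = z
    calc m⁻¹ * a * m⁻¹⁻¹ * z * (m⁻¹ * a * m⁻¹⁻¹)⁻¹ = m⁻¹ * (a * (m * z * m⁻¹) * a⁻¹) * m := by group
      _ = z := by rw [he]; group
  · rw [h1]; exact (Nat.card_congr (equivMapOfInjective _ _ (MulAut.conj m⁻¹).injective).toEquiv).symm
  · rw [h2]; exact (Nat.card_congr (equivMapOfInjective _ _ (MulAut.conj m⁻¹).injective).toEquiv).symm
  · rw [mul_inv_rev, inv_inv, c.Wnorm_mul_right hmN]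

/-- The bound on the other part. -/
theorem card_Wnorm_bound (hs : c.Split) {g t : G} (ht : t ∈ c.Ut) (htT : t ∈ c.Tset) (hgt : g * t * g⁻¹ = t)
    (hgN : g ∉ normalizer (c.W : Set G)) (h1 : 64 ≤ Nat.card ↥(c.Wnorm g))
    (h2 : 64 ≤ Nat.card ↥(c.Wnorm g⁻¹)) :
    32 * Nat.card ↥(c.Wint g) ≤ Nat.card ↥(c.Wnorm g⁻¹) := by
  obtain ⟨g', hgt', hgN', hH, hc1, hc2, hinv⟩ := c.exists_frame hs ht htT hgt hgN
  rw [← hc1] at h1
  rw [← hinv] at h2
  rw [← hc2, ← hinv]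
  rcases c.card_Wint hs ht htT hgt' hgN' with h | h
  · omega
  have hpN : c.IsN (c.pv t) := (c.Tset_Ut_iff hs ht).1 htT
  have hK := c.card_Kin hs ht htT hgt' hH
  have hK1 := c.card_Kperp hH ht htT hgt' hpN.2.1
  set K := c.Kperp g' hH ht htT hgt' hpN.2.1 with hKdef
  obtain ⟨a, ha, haW⟩ : ∃ a ∈ K, a ∉ c.W := by
    by_contra hcon
    push Not at hcon
    have := card_le_of_le (show K ≤ c.Wint g' from fun a ha =>
      c.mem_Wint.2 ⟨(c.mem_Wnorm.1 (c.mem_Kperp.1 ha).1.1).1, hcon a ha⟩)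
    omega
  set S := c.Wint g' ⊔ zpowers a with hS
  have hSN : S ≤ c.Wnorm g' := sup_le (c.Wint_le_Wnorm g') (zpowers_le.2 (c.mem_Kperp.1 ha).1.1)
  have hlt : 4 < Nat.card ↥S := by
    rw [← h]
    refine lt_of_le_of_ne (card_le_of_le le_sup_left) fun e => haW ?_
    have heq : c.Wint g' = S := eq_of_le_of_card_ge le_sup_left e.ge
    exact (c.mem_Wint.1 (heq.ge (mem_sup_right (mem_zpowers a)))).2
  obtain ⟨y, hy, hyc⟩ := c.exists_conj_of_card hs ht htT hgt' (hSN.trans inf_le_left)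
    (mem_sup_left (c.t_mem_Wint htT.1 hgt')) hlt
  have h128 := c.card_cent_Kperp hH ht htT hgt' hpN ha haW
  have hcen : S ≤ centralizer ((c.W ⊓ centralizer ({a} : Set G) : Subgroup G) : Set G) := by
    refine sup_le (fun b hb => mem_centralizer_iff.2 fun w hw => c.W_comm hw.1 (c.mem_Wint.1 hb).2) ?_
    exact zpowers_le.2 (mem_centralizer_iff.2 fun w hw => mem_centralizer_singleton_iff.1 hw.2)
  have := c.card_Wnorm_inv hs htT hgt' (hSN hy) hyc _ inf_le_left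
    fun w hw => mem_centralizer_iff.1 (hcen hy) w hw
  omega

/-- An element fixing `t` which carries a conjugate of `z` in `W` into the normalizer normalizes `W`. -/
theorem normW_of_conj_mem (hs : c.Split) {g t y : G} (ht : t ∈ c.Ut) (htT : t ∈ c.Tset) (hgt : g * t * g⁻¹ = t)
    (hy : y ∈ c.W) (hc : IsConj z y) (hmem : g * y * g⁻¹ ∈ normalizer (c.W : Set G)) :
    g ∈ normalizer (c.W : Set G) := by
  classical
  by_contra hgN
  have hgN' : g⁻¹ ∉ normalizer (c.W : Set G) := fun h => hgN (inv_mem_iff.1 h)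
  have hgt' : g⁻¹ * t * g⁻¹⁻¹ = t := by rw [inv_inv]; exact inv_fix hgt
  have hlow : ∀ {g : G}, g * t * g⁻¹ = t → (∃ x ∈ c.Wnorm g, IsConj z x) → 64 ≤ Nat.card ↥(c.Wnorm g⁻¹) := by
    rintro g hgt ⟨x, hx, hxc⟩
    exact (c.card_cent_ge (c.mem_Wnorm.1 hx).2 (c.Wnorm_sq hx)).trans
      (c.card_Wnorm_inv hs htT hgt hx hxc _ inf_le_left fun w hw => mem_centralizer_singleton_iff.1 hw.2)
  have hb : 64 ≤ Nat.card ↥(c.Wnorm g⁻¹) := hlow hgt ⟨g * y * g⁻¹,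
    c.mem_Wnorm.2 ⟨by rwa [show g⁻¹ * (g * y * g⁻¹) * g = y by group], hmem⟩, (c.isConj_z_conj g y).2 hc⟩
  have ha : 64 ≤ Nat.card ↥(c.Wnorm g) := by
    obtain ⟨x, hx, hxc⟩ := c.exists_conj_of_card hs ht htT hgt' (S := c.Wnorm g⁻¹) inf_le_left
      (c.Wint_le_Wnorm _ (c.t_mem_Wint htT.1 hgt')) (by omega)
    have := hlow hgt' ⟨x, hx, hxc⟩
    rwa [inv_inv] at this
  have hbound : 32 * Nat.card ↥(c.Wint g) ≤ Nat.card ↥(c.Wnorm g) := by
    have h := c.card_Wnorm_bound hs ht htT hgt' hgN' hb (by rwa [inv_inv])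
    rw [inv_inv] at h
    have e : c.Wint g⁻¹ = (c.Wint g).map (MulAut.conj g⁻¹).toMonoidHom := by
      ext x
      constructor
      · intro hx
        obtain ⟨h1, h2⟩ := c.mem_Wint.1 hx
        rw [inv_inv] at h1
        exact ⟨g * x * g⁻¹, c.mem_Wint.2 ⟨by rwa [show g⁻¹ * (g * x * g⁻¹) * g = x by group], h1⟩,
          by simp [mul_assoc]⟩
      · rintro ⟨w, hw, rfl⟩
        obtain ⟨h1, h2⟩ := c.mem_Wint.1 hw
        refine c.mem_Wint.2 ⟨?_, ?_⟩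
        · show g⁻¹⁻¹ * (g⁻¹ * w * g⁻¹⁻¹) * g⁻¹ ∈ c.W
          rwa [show g⁻¹⁻¹ * (g⁻¹ * w * g⁻¹⁻¹) * g⁻¹ = w by group]
        · show g⁻¹ * w * g⁻¹⁻¹ ∈ c.W
          rwa [inv_inv]
    rwa [e, ← Nat.card_congr (equivMapOfInjective _ _ (MulAut.conj g⁻¹).injective).toEquiv] at h
  obtain ⟨f, hft, hfN, hH, hc1, hc2, hinv⟩ := c.exists_frame hs ht htT hgt hgN
  rw [← hc1, ← hc2] at hbound
  rw [← hc1] at ha
  rw [← hinv] at hb
  have hpN : c.IsN (c.pv t) := (c.Tset_Ut_iff hs ht).1 htT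
  have hK := c.card_Kin hs ht htT hft hH
  have hK1 := c.card_Kperp hH ht htT hft hpN.2.1
  set K := c.Kperp f hH ht htT hft hpN.2.1 with hKdef
  have hZ := c.card_Wint hs ht htT hft hfN
  obtain ⟨a0, ha0, ha0W⟩ : ∃ a ∈ K, a ∉ c.W := by
    by_contra hcon
    push Not at hcon
    have := card_le_of_le (show K ≤ c.Wint f from fun a ha =>
      c.mem_Wint.2 ⟨(c.mem_Wnorm.1 (c.mem_Kperp.1 ha).1.1).1, hcon a ha⟩)
    omega
  rw [c.mem_Kperp] at ha0
  -- the space spanned with the vectors of the parts in the core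
  let S : AddSubgroup c.Vs :=
    { carrier := {v | ∃ a ∈ c.Kin f hH, v + c.qv a ∈ c.U}
      zero_mem' := ⟨1, one_mem _, add_mem (zero_mem _) ((c.qv_mem_U ht htT hft (hH := hH) (one_mem _) hpN.2.1).2 (one_mem _))⟩
      add_mem' := by
        rintro v w ⟨a, ha, hv⟩ ⟨b, hb, hw⟩
        refine ⟨a * b, mul_mem ha hb, ?_⟩
        have h := add_mem (add_mem hv hw) (c.qv_mul ht htT hft ha hb hpN.2.1)
        rwa [show v + c.qv a + (w + c.qv b) + (c.qv (a * b) + c.qv a + c.qv b) =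
          v + w + c.qv (a * b) + ((c.qv a + c.qv a) + (c.qv b + c.qv b)) by abel, c.two_V, c.two_V, add_zero,
          add_zero] at h
      neg_mem' := fun {v} hv => by rw [neg_eq_of_add_eq_zero_left (c.two_V v)]; exact hv }
  have hUS : c.U ≤ S := fun v hv =>
    ⟨1, one_mem _, add_mem hv ((c.qv_mem_U ht htT hft (hH := hH) (one_mem _) hpN.2.1).2 (one_mem _))⟩
  choose r hr hrU using fun v : ↥S => (show ∃ a ∈ c.Kin f hH, (v : c.Vs) + c.qv a ∈ c.U from v.2)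
  have hmk : ∀ (a : ↥(c.Kin f hH)) (u : ↥c.U), c.qv a + u ∈ S := fun a u =>
    ⟨a, a.2, by rw [add_comm (c.qv a), add_assoc, c.two_V, add_zero]; exact u.2⟩
  have hrW : ∀ (a : ↥(c.Kin f hH)) (u : ↥c.U), (a : G) * r ⟨_, hmk a u⟩ ∈ c.Wint f := by
    intro a u
    have hab := mul_mem a.2 (hr ⟨_, hmk a u⟩)
    refine c.mem_Wint.2 ⟨(c.mem_Wnorm.1 hab.1).1, (c.qv_mem_U ht htT hft hab hpN.2.1).1 ?_⟩
    have h := add_mem (add_mem (hrU ⟨_, hmk a u⟩) (c.qv_mul ht htT hft a.2 (hr ⟨_, hmk a u⟩) hpN.2.1)) u.2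
    set b := r ⟨_, hmk a u⟩
    rwa [show c.qv a + u + c.qv b + (c.qv ((a : G) * b) + c.qv a + c.qv b) + u =
      c.qv ((a : G) * b) + ((c.qv a + c.qv a) + (((u : c.Vs) + u) + (c.qv b + c.qv b))) by abel, c.two_V,
      c.two_V, c.two_V, add_zero, add_zero, add_zero] at h
  have hScard : Nat.card ↥(c.Kin f hH) * 64 ≤ Nat.card ↥S * Nat.card ↥(c.Wint f) := by
    rw [show (64 : ℕ) = Nat.card ↥c.U by rw [c.card_U]; norm_num, ← Nat.card_prod, ← Nat.card_prod]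
    refine Nat.card_le_card_of_injective
      (fun w : ↥(c.Kin f hH) × ↥c.U => ((⟨_, hmk w.1 w.2⟩ : ↥S), (⟨_, hrW w.1 w.2⟩ : ↥(c.Wint f)))) ?_
    rintro ⟨a, u⟩ ⟨b, v⟩ e
    obtain ⟨e1, e2⟩ := Prod.ext_iff.1 e
    have e2' : (a : G) * r ⟨_, hmk a u⟩ = (b : G) * r ⟨_, hmk b v⟩ := congrArg Subtype.val e2
    rw [show (⟨_, hmk a u⟩ : ↥S) = ⟨_, hmk b v⟩ from e1] at e2'
    have hab : a = b := Subtype.ext (mul_right_cancel e2')
    subst hab
    exact Prod.ext rfl (Subtype.ext (add_left_cancel (congrArg Subtype.val e1)))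
  have h512 : 512 ≤ Nat.card ↥S := by rcases hZ with h | h <;> rw [h] at hScard hbound <;> omega
  set T := c.perp S with hT
  have hT8 : Nat.card ↥T ≤ 8 := by
    by_contra hcon
    push Not at hcon
    have := Nat.mul_le_mul h512 hcon
    rw [c.card_perp] at this
    norm_num at this
  -- the other part, seen in `W`
  set An := (c.Wnorm f⁻¹).map (MulAut.conj f).toMonoidHom with hAn
  have hAnc : 64 ≤ Nat.card ↥An :=
    hb.trans (le_of_eq (Nat.card_congr (equivMapOfInjective _ _ (MulAut.conj f).injective).toEquiv))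
  have hAnm : ∀ w ∈ An, w ∈ c.W ∧ f⁻¹ * w * f ∈ normalizer (c.W : Set G) := by
    rintro _ ⟨x, hx, rfl⟩
    obtain ⟨h1, h2⟩ := c.mem_Wnorm.1 hx
    rw [inv_inv] at h1
    refine ⟨h1, ?_⟩
    show f⁻¹ * (f * x * f⁻¹) * f ∈ _
    rwa [show f⁻¹ * (f * x * f⁻¹) * f = x by group]
  have hfree := c.Wint_free hs htT hft hfN
  have hzc : z ∉ c.Wint f := fun h => hfree z h (IsConj.refl _)
  -- the part in `Ut` is orthogonal to `S`
  have hUt : ∀ w ∈ An, c.im w = 1 → w ∈ c.lift T := by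
    intro w hw hw1
    have hwU := c.mem_Ut_of_im_W (hAnm w hw).1 hw1
    refine ⟨hwU.1, c.mem_perp.2 ?_⟩
    rintro v ⟨a, ha, hva⟩
    set i : ↥I := ⟨c.im a, ha.2⟩
    obtain ⟨he, hq, -⟩ := c.Kin_spec ht htT hft ha hpN.2.1 (i := i) rfl
    have hqw : c.Bf (c.qv a) (c.pv w) = 0 := by
      by_contra hne
      refine hzc ?_
      have h := c.comm_mem_Wint ha.1 (hAnm w hw).1 (hAnm w hw).2
      have e1 : a * w * a⁻¹ = a * c.lv i * w * (a * c.lv i)⁻¹ := by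
        calc a * w * a⁻¹ = a * (c.lv i * c.lv i) * w * (c.lv i * c.lv i)⁻¹ * a⁻¹ := by
              rw [c.lv_sq]; group
          _ = a * c.lv i * (c.lv i * w * (c.lv i)⁻¹) * (a * c.lv i)⁻¹ := by group
          _ = _ := by rw [c.W_comm (c.lv_mem_W' i) (hAnm w hw).1, mul_inv_cancel_right]
      rw [e1, (c.E_conj_eq he hwU.1).2 (by rw [hq]; exact hne), mul_assoc, c.comm_z (c.E_le (inv_mem hwU.1)) |>.symm,
        ← mul_assoc, mul_inv_cancel, one_mul] at h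
      exact h
    have h0 := c.Bf_U hva hwU.2
    rwa [c.Bf_add_left, hqw, add_zero] at h0
  -- outside, only one involution of `I`
  obtain ⟨j0, hj0, hq0⟩ := c.exists_line hpN
    (c.Kin_spec ht htT hft ha0.1 hpN.2.1 (i := ⟨c.im a0, ha0.1.2⟩) rfl).2.2 ha0.2
  have himA : ∀ w ∈ An, c.im w = 1 ∨ c.im w = j0 := by
    intro w hw
    set j : ↥I := ⟨c.im w, c.im_mem_I_of_W (hAnm w hw).1⟩
    by_cases hj : j = 1
    · exact Or.inl (congrArg Subtype.val hj)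
    refine Or.inr ?_
    by_contra hne
    set i : ↥I := ⟨c.im a0, ha0.1.2⟩
    obtain ⟨he, hq, hqp⟩ := c.Kin_spec ht htT hft ha0.1 hpN.2.1 (i := i) rfl
    refine ha0W ((c.qv_mem_U ht htT hft ha0.1 hpN.2.1).1 ?_)
    have hqj : c.qv a0 ∈ c.Fx j := by
      refine c.D_eq_zero.1 ?_
      by_contra hne0
      set v := c.D j (c.qv a0) with hv
      have hW := (hAnm w hw).1
      have hcm := c.comm_mem_Wint ha0.1.1 hW (hAnm w hw).2
      set e := a0 * c.lv i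
      have e1 : a0 * w * a0⁻¹ = e * w * e⁻¹ := by
        calc a0 * w * a0⁻¹ = a0 * (c.lv i * c.lv i) * w * (c.lv i * c.lv i)⁻¹ * a0⁻¹ := by
              rw [c.lv_sq]; group
          _ = a0 * c.lv i * (c.lv i * w * (c.lv i)⁻¹) * (a0 * c.lv i)⁻¹ := by group
          _ = _ := by rw [c.W_comm (c.lv_mem_W' i) hW, mul_inv_cancel_right]
      obtain ⟨him, hmove⟩ := c.E_move he hW (i := j) rfl
      have hc1 : e * w * e⁻¹ * w⁻¹ = e * w * e⁻¹ * c.lv j * (w * c.lv j) := by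
        rw [inv_eq_of_mul_eq_one_left (c.W_sq hW), mul_assoc (e * w * e⁻¹) (c.lv j), ← mul_assoc (c.lv j) w,
          c.W_comm (c.lv_mem_W' j) hW, mul_assoc w, c.lv_sq, mul_one]
      rw [e1, hc1] at hcm
      have h1U := c.fibre_Ut (c.conj_W_E he hW) (i := j) him
      have h2U := c.fibre_Ut hW (i := j) rfl
      have hv' : c.pv (e * w * e⁻¹ * c.lv j * (w * c.lv j)) = v := by
        rw [c.pv_mul h1U.1 h2U.1, hmove, add_right_comm, c.two_V, zero_add, hq, hv]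
      have hpt := c.free_Ut_pt hs inf_le_right hfree (c.t_mem_Wint htT.1 hft) ht hcm
        (mul_mem h1U h2U) htT.2.1
      rw [hv'] at hpt
      have hvN : c.IsN v := c.isN_of_Pt hpN hpt hne0
      refine (c.isN_iff hj (c.D_mem j _) hne0).1 hvN ((c.iso_iff (c.D_mem j _) rfl).2 ?_)
      rw [← hv]
      simp only [Pt, Set.mem_insert_iff, Set.mem_singleton_iff] at hpt
      rcases hpt with h | h | h | h
      · exact absurd h hne0
      · rw [h]; exact ha0.2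
      · rw [h, c.om_two, c.Bf_add_right, hqp, ha0.2, add_zero]
      · rw [h, c.om_cube]; exact hqp
    exact c.Fx_inf hj hj0 (fun h => hne (congrArg Subtype.val h)) ▸ ⟨hqj, hq0⟩
  let ψ : ↥An →* A :=
    { toFun := fun w => c.im w
      map_one' := by rw [OneMemClass.coe_one, c.im_one]
      map_mul' := fun v w => c.im_mul (c.W_le_H (hAnm v v.2).1) (c.W_le_H (hAnm w w.2).1) }
  have hk : Nat.card ↥ψ.ker ≤ 16 := by
    refine (Nat.card_le_card_of_injective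
      (fun w : ↥ψ.ker => (⟨((w : ↥An) : G), hUt _ (w : ↥An).2 w.2⟩ : ↥(c.lift T)))
      fun v w h => Subtype.ext (Subtype.ext (congrArg (fun y : ↥(c.lift T) => (y : G)) h))).trans ?_
    rw [c.card_lift]
    omega
  haveI := c.finite_A
  have hr2 : Nat.card ↥ψ.range ≤ 2 := by
    have hsub : (ψ.range : Set A) ⊆ {1, (j0 : A)} := by
      rintro _ ⟨w, rfl⟩
      exact himA w w.2
    have := Set.ncard_le_ncard hsub (Set.toFinite _)
    have h2 := Set.ncard_insert_le (1 : A) ({(j0 : A)} : Set A)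
    rw [Set.ncard_singleton] at h2
    rw [← Nat.card_coe_set_eq] at this
    have e : Nat.card ↥ψ.range = Nat.card ↥(ψ.range : Set A) := rfl
    omega
  have h := ψ.ker.card_mul_index
  rw [Subgroup.index_ker] at h
  have := Nat.mul_le_mul hk hr2
  omega

end CfsgLib.Spor.JFourType.Ctx
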