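import Cfsg.Agent.Lib.Spor.JFourType.ZPoint

/-!
# Subgroups of order five and seven of `H`

For a prime `p ≠ 2, 3` the subgroups of order `p` of `H` over one subgroup of order `p` of the quotient are conjugate
by elements over that subgroup.
-/

set_option autoImplicit false
set_option linter.style.haveILetI false

namespace CfsgLib.Spor.JFourType.Ctx

open Subgroup

universe u

variable {G : Type u} [Group G] [Finite G] {A : Type} [Group A] {J I R : Subgroup A}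
  {z : G} {P : Subgroup G} (c : Ctx J I R z P)
include c

/-- The whole preimage. -/
noncomputable def pre (S : Subgroup A) : Subgroup G := (S.comap c.pr).map c.H.subtype

theorem mem_pre {S : Subgroup A} {x : G} : x ∈ c.pre S ↔ x ∈ c.H ∧ c.im x ∈ S := by
  constructor
  · rintro ⟨w, hw, rfl⟩
    exact ⟨w.2, show c.im (w : G) ∈ S by rw [c.im_eq w.2]; exact hw⟩
  · rintro ⟨hx, hi⟩
    exact ⟨⟨x, hx⟩, by rw [c.im_eq hx] at hi; exact hi, rfl⟩

theorem pre_le (S : Subgroup A) : c.pre S ≤ c.H := map_subtype_le _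

theorem card_pre (S : Subgroup A) : Nat.card ↥(c.pre S) = 3 * 2 ^ 13 * Nat.card ↥S := by
  rw [pre, ← Nat.card_congr (equivMapOfInjective _ _ c.H.subtype_injective).toEquiv]
  let g : ↥(S.comap c.pr) →* ↥S := c.pr.subgroupComap S
  have hsurj : Function.Surjective g := MonoidHom.subgroupComap_surjective_of_surjective c.pr S c.pr_surj
  have hk : Nat.card ↥g.ker = Nat.card ↥c.pr.ker := Nat.card_congr
    { toFun := fun w => ⟨((w : ↥(S.comap c.pr)) : ↥c.H), congrArg Subtype.val (MonoidHom.mem_ker.1 w.2)⟩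
      invFun := fun v => ⟨⟨v, by rw [mem_comap, MonoidHom.mem_ker.1 v.2]; exact one_mem _⟩,
        MonoidHom.mem_ker.2 (Subtype.ext (MonoidHom.mem_ker.1 v.2))⟩
      left_inv := fun w => rfl
      right_inv := fun v => rfl }
  rw [← g.ker.card_mul_index, Subgroup.index_ker, MonoidHom.range_eq_top.2 hsurj, Subgroup.card_top, hk, c.card_ker]

/-- An element of order prime to six acts faithfully in the quotient. -/
theorem im_ne_one {p : ℕ} (hp : p.Prime) (h6 : ¬ p ∣ 6) {x : G} (hx : x ∈ c.H) (ho : orderOf x = p) :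
    c.im x ≠ 1 := fun h => by
  rw [c.im_eq hx] at h
  have hd := orderOf_dvd_natCard (⟨⟨x, hx⟩, MonoidHom.mem_ker.2 h⟩ : ↥c.pr.ker)
  rw [← Subgroup.orderOf_coe, ← Subgroup.orderOf_coe, c.card_ker] at hd
  change orderOf x ∣ _ at hd
  rw [ho] at hd
  rcases hp.dvd_mul.1 hd with h3 | h2
  · exact h6 (h3.trans (by norm_num))
  · exact h6 ((hp.dvd_of_dvd_pow h2).trans (by norm_num))

theorem orderOf_im {p : ℕ} (hp : p.Prime) (h6 : ¬ p ∣ 6) {x : G} (hx : x ∈ c.H) (ho : orderOf x = p) :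
    orderOf (c.im x) = p := by
  haveI : Fact p.Prime := ⟨hp⟩
  exact orderOf_eq_prime (by rw [← c.im_pow hx, ← ho, pow_orderOf_eq_one, c.im_one]) (c.im_ne_one hp h6 hx ho)

/-- Conjugating one lift to a power of another. -/
theorem conj_of_im {p : ℕ} (hp : p.Prime) (h6 : ¬ p ∣ 6) {x y : G} (hx : x ∈ c.H) (hy : y ∈ c.H)
    (hxo : orderOf x = p) (hy1 : y ^ p = 1) {i : ℕ} (hi : c.im y = c.im x ^ i) (hne : c.im y ≠ 1) :
    ∃ k ∈ c.H, c.im k ∈ zpowers (c.im x) ∧ k * y * k⁻¹ = x ^ i := by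
  classical
  haveI : Fact p.Prime := ⟨hp⟩
  haveI := c.finite_A
  set K := c.pre (zpowers (c.im x)) with hK
  have hcard : Nat.card ↥K = 3 * 2 ^ 13 * p := by rw [hK, c.card_pre, Nat.card_zpowers, c.orderOf_im hp h6 hx hxo]
  have hfac : (Nat.card ↥K).factorization p = 1 := by
    have hnd : ¬ p ∣ 3 * 2 ^ 13 := fun h => by
      rcases hp.dvd_mul.1 h with h3 | h2
      · exact h6 (h3.trans (by norm_num))
      · exact h6 ((hp.dvd_of_dvd_pow h2).trans (by norm_num))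
    rw [hcard, Nat.factorization_mul (by norm_num) hp.ne_zero, Finsupp.add_apply,
      Nat.factorization_eq_zero_of_not_dvd hnd, Nat.Prime.factorization_self hp]
  have hxK : x ∈ K := c.mem_pre.2 ⟨hx, mem_zpowers _⟩
  have hyK : y ∈ K := c.mem_pre.2 ⟨hy, by rw [hi]; exact npow_mem_zpowers _ i⟩
  have hy0 : y ≠ 1 := fun h => hne (by rw [h, c.im_one])
  have hyo : orderOf y = p := orderOf_eq_prime hy1 hy0
  have hcz : ∀ {w : ↥K}, orderOf w = p → Nat.card ↥(zpowers w) = p ^ (Nat.card ↥K).factorization p := fun h => by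
    rw [hfac, pow_one, Nat.card_zpowers, h]
  let Sx : Sylow p ↥K := Sylow.ofCard (zpowers ⟨x, hxK⟩) (hcz (by rw [← Subgroup.orderOf_coe]; exact hxo))
  let Sy : Sylow p ↥K := Sylow.ofCard (zpowers ⟨y, hyK⟩) (hcz (by rw [← Subgroup.orderOf_coe]; exact hyo))
  obtain ⟨k, hk⟩ := MulAction.exists_smul_eq ↥K Sy Sx
  have hmem : k * ⟨y, hyK⟩ * k⁻¹ ∈ zpowers (⟨x, hxK⟩ : ↥K) := by
    have h1 : (Sx : Subgroup ↥K) = zpowers ⟨x, hxK⟩ := Sylow.coe_ofCard _ _
    rw [← h1, ← hk, Sylow.coe_subgroup_smul]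
    refine Subgroup.mem_map.2 ⟨⟨y, hyK⟩, ?_, rfl⟩
    rw [show (Sy : Subgroup ↥K) = zpowers ⟨y, hyK⟩ from Sylow.coe_ofCard _ _]
    exact mem_zpowers _
  obtain ⟨hkH, hkim⟩ := c.mem_pre.1 k.2
  refine ⟨k, hkH, hkim, ?_⟩
  obtain ⟨m, hm⟩ := mem_zpowers_iff.1 hmem
  have hm' : x ^ m = (k : G) * y * (k : G)⁻¹ := congrArg Subtype.val hm
  have hcom : Commute (c.im (k : G)) (c.im y) := by
    obtain ⟨a, ha⟩ := mem_zpowers_iff.1 hkim
    rw [← ha, hi]
    exact ((Commute.refl (c.im x)).zpow_left a).pow_right i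
  have him : c.im (x ^ m) = c.im x ^ i := by
    rw [hm', c.im_conj hkH hy, hcom.eq, mul_inv_cancel_right, hi]
  -- the two powers agree
  have hd : x ^ m * (x ^ i)⁻¹ = 1 := by
    by_contra hne'
    have hmemx : x ^ m * (x ^ i)⁻¹ ∈ zpowers x :=
      mul_mem (zpow_mem (mem_zpowers x) m) (inv_mem (npow_mem_zpowers x i))
    have hord : orderOf (x ^ m * (x ^ i)⁻¹) = p := by
      refine ((Nat.dvd_prime hp).1 ?_).resolve_left fun h => hne' (orderOf_eq_one_iff.1 h)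
      rw [← hxo]
      exact orderOf_dvd_of_mem_zpowers hmemx
    refine c.im_ne_one hp h6 (mul_mem (zpow_mem hx m) (inv_mem (pow_mem hx i))) hord ?_
    rw [c.im_mul (zpow_mem hx m) (inv_mem (pow_mem hx i)), c.im_inv (pow_mem hx i), him, c.im_pow hx, mul_inv_cancel]
  rw [← hm']
  exact mul_inv_eq_one.1 hd

/-- Correcting an element of `H` to one which acts on `x` as its image does. -/
theorem exists_adjust {p : ℕ} (hp : p.Prime) (h6 : ¬ p ∣ 6) {x h : G} (hx : x ∈ c.H) (hh : h ∈ c.H)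
    (hxo : orderOf x = p) {i : ℕ} (hi : c.im h * c.im x * (c.im h)⁻¹ = c.im x ^ i) :
    ∃ k ∈ c.H, c.im k ∈ zpowers (c.im x) ∧ k * h * x * (k * h)⁻¹ = x ^ i := by
  have hne : c.im (h * x * h⁻¹) ≠ 1 := by
    rw [c.im_conj hh hx, ne_eq, conj_eq_one_iff]
    exact c.im_ne_one hp h6 hx hxo
  obtain ⟨k, hk, hki, hkx⟩ := c.conj_of_im hp h6 hx (mul_mem (mul_mem hh hx) (inv_mem hh)) hxo
    (by rw [conj_pow, ← hxo, pow_orderOf_eq_one, mul_one, mul_inv_cancel]) (by rw [c.im_conj hh hx, hi]) hne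
  exact ⟨k, hk, hki, by rw [← hkx]; group⟩

/-- Two subgroups of order five, or seven, of `H` are conjugate in `H`. -/
theorem conj_prime {p : ℕ} (hp : p.Prime) (h6 : ¬ p ∣ 6) (hp2 : ¬ p ^ 2 ∣ 887040) {x y : G} (hx : x ∈ c.H)
    (hy : y ∈ c.H) (hxo : orderOf x = p) (hyo : orderOf y = p) :
    ∃ h ∈ c.H, ∃ i : ℕ, h * y * h⁻¹ = x ^ i ∧ ¬ p ∣ i := by
  classical
  haveI : Fact p.Prime := ⟨hp⟩
  haveI := c.finite_A
  have hox := c.orderOf_im hp h6 hx hxo
  have hoy := c.orderOf_im hp h6 hy hyo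
  have hfac : (Nat.card A).factorization p = 1 := by
    have h1 : p ∣ Nat.card A := hox ▸ orderOf_dvd_natCard _
    have h2 := (hp.dvd_iff_one_le_factorization Nat.card_pos.ne').1 h1
    by_contra hne
    exact hp2 (c.natCard_A ▸ (hp.pow_dvd_iff_le_factorization Nat.card_pos.ne').2 (by omega))
  have hcz : ∀ {w : A}, orderOf w = p → Nat.card ↥(zpowers w) = p ^ (Nat.card A).factorization p := fun h => by
    rw [hfac, pow_one, Nat.card_zpowers, h]
  obtain ⟨a, ha⟩ := MulAction.exists_smul_eq A (Sylow.ofCard (zpowers (c.im y)) (hcz hoy))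
    (Sylow.ofCard (zpowers (c.im x)) (hcz hox))
  have hmem : a * c.im y * a⁻¹ ∈ zpowers (c.im x) := by
    have h1 : ((Sylow.ofCard (zpowers (c.im x)) (hcz hox) : Sylow p A) : Subgroup A) = zpowers (c.im x) :=
      Sylow.coe_ofCard _ _
    rw [← h1, ← ha, Sylow.coe_subgroup_smul]
    refine Subgroup.mem_map.2 ⟨c.im y, ?_, rfl⟩
    rw [Sylow.coe_ofCard]
    exact mem_zpowers _
  obtain ⟨i, hi⟩ := (mem_powers_iff_mem_zpowers.2 hmem)
  have hi' : c.im x ^ i = a * c.im y * a⁻¹ := hi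
  obtain ⟨⟨h, hh⟩, hha⟩ := c.pr_surj a
  rw [← c.im_eq hh] at hha
  have him : c.im (h * y * h⁻¹) = c.im x ^ i := by rw [c.im_conj hh hy, hha, hi']
  have hne : c.im (h * y * h⁻¹) ≠ 1 := by
    rw [c.im_conj hh hy, ne_eq, conj_eq_one_iff]
    exact c.im_ne_one hp h6 hy hyo
  obtain ⟨k, hk, -, hkx⟩ := c.conj_of_im hp h6 hx (mul_mem (mul_mem hh hy) (inv_mem hh)) hxo
    (by rw [conj_pow, ← hyo, pow_orderOf_eq_one, mul_one, mul_inv_cancel]) him hne
  refine ⟨k * h, mul_mem hk hh, i, by rw [← hkx]; group, fun hd => hne ?_⟩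
  obtain ⟨j, rfl⟩ := hd
  rw [him, pow_mul, ← hox, pow_orderOf_eq_one, one_pow]

end CfsgLib.Spor.JFourType.Ctx
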