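import Cfsg.Agent.Lib.Spor.JFourType.StarCode
import Cfsg.Agent.Lib.Spor.JFourType.PrimeLift
import Cfsg.Agent.Lib.Spor.Golay.SteinerUnique
import Cfsg.Agent.Lib.Spor.M24Aut

/-!
# The normalizer of `W` is an extension by the Mathieu group

The Steiner system on the stars is the one of octads, so the normalizer maps to `M24` with kernel `W`; by its
order it maps onto `M24`.
-/

set_option autoImplicit false
set_option linter.style.haveILetI false

namespace CfsgLib.Spor.JFourType.Ctx

open Subgroup Cfsg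
open scoped Pointwise

universe u

variable {G : Type u} [Group G] [Finite G] {A : Type} [Group A] {J I R : Subgroup A}
  {z : G} {P : Subgroup G} (c : Ctx J I R z P)
include c

/-- The normalizer in `G` is large. -/
theorem card_normalizer_W_ge (hs : c.Split) (hNI : 11520 ≤ Nat.card ↥(normalizer (I : Set A))) :
    2 ^ 11 * 244823040 ≤ Nat.card ↥(normalizer (c.W : Set G)) := by
  rw [← ncard_orbit_mul (normalizer (c.W : Set G)) z, c.orbit_z hs, hs.card_conj]
  have hle : c.pre (normalizer (I : Set A)) ≤ normalizer (c.W : Set G) ⊓ centralizer ({z} : Set G) := fun x hx => by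
    obtain ⟨hxH, hxI⟩ := c.mem_pre.1 hx
    exact ⟨c.normW_of_im hxH hxI, hxH⟩
  have h := Subgroup.card_le_of_le hle
  rw [c.card_pre, c.card_normalizer_I hs hNI] at h
  calc 2 ^ 11 * 244823040 = 1771 * (3 * 2 ^ 13 * 11520) := by norm_num
    _ ≤ _ := Nat.mul_le_mul_left _ h

/-- The map to `M24`, with the blocks going to the octads. -/
theorem exists_hom_M24_blocks (hs : c.Split) (hNI : 11520 ≤ Nat.card ↥(normalizer (I : Set A))) :
    ∃ (φ : ↥(normalizer (c.W : Set G)) →* ↥M24) (e : c.Star ≃ GolayPt) (o : c.Star),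
      φ.ker = c.W.subgroupOf (normalizer (c.W : Set G)) ∧ Function.Surjective φ ∧
      Nat.card ↥(normalizer (c.W : Set G)) = 2 ^ 11 * 244823040 ∧
      (∀ n a, ((φ n : ↥M24) : Equiv.Perm GolayPt) (e a) = e (c.starHom hs hNI n a)) ∧
      (fun B : Finset c.Star => B.image e) '' c.Blocks hs o = octads := by
  classical
  haveI : Fintype c.Star := Fintype.ofFinite _
  obtain ⟨o⟩ : Nonempty c.Star := Finite.card_pos_iff.1 (by rw [c.card_Star hs]; norm_num)
  obtain ⟨e, he⟩ := CfsgLib.Spor.Golay.steiner_iso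
    (show Fintype.card c.Star = 24 by rw [← Nat.card_eq_fintype_card, c.card_Star hs])
    (show Fintype.card GolayPt = 24 by simp) (c.blocks_steiner hs hNI o) CfsgLib.Spor.isSteinerSystem_octads
  let f : ↥(normalizer (c.W : Set G)) →* Equiv.Perm GolayPt :=
    e.permCongrHom.toMonoidHom.comp (c.starHom hs hNI)
  have hfv : ∀ n a, f n (e a) = e (c.starHom hs hNI n a) := fun n a => by
    show e.permCongr (c.starHom hs hNI n) (e a) = _
    rw [Equiv.permCongr_apply, e.symm_apply_apply]
  have hmem : ∀ n, f n ∈ M24 := by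
    intro n
    rw [CfsgLib.Spor.M24_eq_octad_aut, MulAction.mem_stabilizer_iff]
    refine Set.eq_of_subset_of_ncard_le ?_ (le_of_eq (Set.ncard_smul_set (f n) _).symm) (Set.toFinite _)
    rintro _ ⟨O, hO, rfl⟩
    rw [← he] at hO ⊢
    obtain ⟨B, hB, rfl⟩ := hO
    refine ⟨B.image (c.starHom hs hNI n), c.blocks_invariant hs hNI o n hB, ?_⟩
    show (B.image (c.starHom hs hNI n)).image e = f n • B.image e
    rw [Finset.image_image, Finset.smul_finset_def, Finset.image_image]
    refine Finset.image_congr fun a _ => ?_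
    exact (hfv n a).symm
  let φ := f.codRestrict M24 hmem
  have hker : φ.ker = c.W.subgroupOf (normalizer (c.W : Set G)) := by
    ext n
    rw [MonoidHom.mem_ker, mem_subgroupOf]
    constructor
    · intro h
      have h1 : c.starHom hs hNI n = 1 := Equiv.ext fun a => e.injective (by
        rw [← hfv, show f n = 1 from congrArg Subtype.val h]; rfl)
      exact c.centralizer_W.le (c.fix_W_of_stars hs hNI h1)
    · intro h
      have hfix : ∀ a, c.starHom hs hNI n a = a := fun a =>
        c.isImage_unique hs (c.starPerm_spec hs hNI n a) fun d hd => by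
          rw [c.W_comm h (c.tau_W hs a d), mul_inv_cancel_right]
          exact (c.tau_spec hs (Ne.symm hd)).1
      refine Subtype.ext (Equiv.ext fun p => ?_)
      show f n p = p
      rw [← e.apply_symm_apply p, hfv, hfix]
  have h1 := φ.ker.card_mul_index
  rw [Subgroup.index_ker, hker, Nat.card_congr (subgroupOfEquivOfLe le_normalizer).toEquiv, c.card_W] at h1
  have hge := c.card_normalizer_W_ge hs hNI
  rw [← h1] at hge
  have hrange : φ.range = ⊤ := eq_top_of_le_card _ (by
    rw [CfsgLib.Spor.card_M24]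
    exact Nat.le_of_mul_le_mul_left hge (by norm_num))
  refine ⟨φ, e, o, hker, MonoidHom.range_eq_top.1 hrange, ?_, hfv, he⟩
  rw [← h1, hrange, Subgroup.card_top, CfsgLib.Spor.card_M24]

/-- The map to `M24`. -/
theorem exists_hom_M24 (hs : c.Split) (hNI : 11520 ≤ Nat.card ↥(normalizer (I : Set A))) :
    ∃ (φ : ↥(normalizer (c.W : Set G)) →* ↥M24) (e : c.Star ≃ GolayPt),
      φ.ker = c.W.subgroupOf (normalizer (c.W : Set G)) ∧ Function.Surjective φ ∧
      Nat.card ↥(normalizer (c.W : Set G)) = 2 ^ 11 * 244823040 ∧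
      ∀ n a, ((φ n : ↥M24) : Equiv.Perm GolayPt) (e a) = e (c.starHom hs hNI n a) := by
  obtain ⟨φ, e, -, h1, h2, h3, h4, -⟩ := c.exists_hom_M24_blocks hs hNI
  exact ⟨φ, e, h1, h2, h3, h4⟩

theorem card_normalizer_W (hs : c.Split) (hNI : 11520 ≤ Nat.card ↥(normalizer (I : Set A))) :
    Nat.card ↥(normalizer (c.W : Set G)) = 2 ^ 11 * 244823040 := by
  obtain ⟨φ, e, -, -, h, -⟩ := c.exists_hom_M24 hs hNI
  exact h

end CfsgLib.Spor.JFourType.Ctx
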