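import Cfsg.Agent.Lib.Spor.JFourType.NotClosed

/-!
# A conjugate of `z` in its core

For `u = g z g⁻¹` in the core: `z` lies in the core at `u`, the two cores meet in a group of order `2 ^ 7`, and the
centralizer of `z` in the core at `u` maps onto a conjugate of `R` extended by an outer element.
-/

set_option autoImplicit false
set_option linter.style.haveILetI false

namespace CfsgLib.Spor.JFourType.Ctx

open Subgroup

universe u

variable {G : Type u} [Group G] [Finite G] {A : Type} [Group A] {J I R : Subgroup A}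
  {z : G} {P : Subgroup G} (c : Ctx J I R z P)
include c

theorem card_A : Nat.card A = 2 ^ 8 * 3465 := by
  rw [← J.card_mul_index, c.facts.card_J, c.facts.index_J]
  norm_num

theorem card_two_subgroup {K : Subgroup A} (hK : IsPGroup 2 ↥K) : Nat.card ↥K ≤ 2 ^ 8 := by
  haveI : Finite A := Finite.of_surjective c.pr c.pr_surj
  obtain ⟨k, hk⟩ := hK.exists_card_eq
  rw [hk]
  refine Nat.pow_le_pow_right (by norm_num) ?_
  have hd := Subgroup.card_subgroup_dvd_card K
  rw [hk, c.card_A] at hd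
  have h8 : 2 ^ k ∣ 2 ^ 8 := (Nat.Coprime.pow_left k (by norm_num : Nat.Coprime 2 3465)).dvd_of_dvd_mul_right hd
  exact (Nat.pow_dvd_pow_iff_le_right (by norm_num)).1 h8

/-- The centralizer in the core of an element of it. -/
theorem card_E_centralizer {u : G} (hu : u ∈ c.E) :
    2 ^ 12 ≤ Nat.card ↥(c.E ⊓ centralizer ({u} : Set G) : Subgroup G) := by
  classical
  set S := c.E ⊓ centralizer ({u} : Set G)
  by_cases hall : ∀ e ∈ c.E, e * u = u * e
  · have h1 := card_le_of_le (show c.E ≤ S from fun e he => ⟨he, mem_centralizer_singleton_iff.2 (hall e he)⟩)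
    rw [c.card_E] at h1
    omega
  push Not at hall
  obtain ⟨f, hf, hfu⟩ := hall
  have hflip : ∀ e ∈ c.E, e * u ≠ u * e → e * u * e⁻¹ = z * u := fun e he h => by
    rcases c.comm_E he hu with h' | h'
    · exact absurd h' h
    · rw [h', mul_assoc, mul_assoc, mul_inv_cancel, mul_one]
  have hmem : ∀ e : ↥c.E, (e : G) * u ≠ u * e → f * (e : G) ∈ S := fun e h => by
    refine ⟨mul_mem hf e.2, mem_centralizer_singleton_iff.2 ?_⟩
    refine mul_inv_eq_iff_eq_mul.1 ?_
    calc f * e * u * (f * (e : G))⁻¹ = f * ((e : G) * u * (e : G)⁻¹) * f⁻¹ := by group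
      _ = (f * z * f⁻¹) * (f * u * f⁻¹) := by rw [hflip e e.2 h]; group
      _ = u := by rw [c.comm_z (c.E_le hf), mul_inv_cancel_right, hflip f hf hfu, ← mul_assoc, c.zz, one_mul]
  let Φ : ↥c.E → Fin 2 × ↥S := fun e =>
    if h : (e : G) * u = u * e then (0, ⟨e, e.2, mem_centralizer_singleton_iff.2 h⟩) else (1, ⟨f * e, hmem e h⟩)
  have hΦ : Function.Injective Φ := by
    intro x y h
    by_cases hx : (x : G) * u = u * x <;> by_cases hy : (y : G) * u = u * y <;>
      simp only [Φ, hx, hy, dite_true, dite_false, Prod.mk.injEq, zero_ne_one, one_ne_zero, false_and, true_and] at h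
    · have h2 := congrArg Subtype.val h
      exact Subtype.ext h2
    · have h2 := congrArg Subtype.val h
      exact Subtype.ext (mul_left_cancel h2)
  have := Nat.card_le_card_of_injective Φ hΦ
  rw [Nat.card_prod, Nat.card_fin, c.card_E] at this
  omega

theorem pair_commute {u : G} (hu : u ∈ c.E) : z * u = u * z := (c.comm_z (c.E_le hu)).symm

theorem pair_comm {g : G} (hne : g * z * g⁻¹ ≠ z) {a b : G} (ha : a ∈ c.E) (ha' : a ∈ (c.conj g).E)
    (hb : b ∈ c.E) (hb' : b ∈ (c.conj g).E) : a * b = b * a := by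
  rcases c.comm_E ha hb with h | h
  · exact h
  rcases (c.conj g).comm_E ha' hb' with h' | h'
  · exact h'
  exact absurd (mul_right_cancel (h'.symm.trans h)) hne

/-- The core of `z` at `u` contains `z`. -/
theorem z_mem_conj_E {g : G} (hu : g * z * g⁻¹ ∈ c.E) (hne : g * z * g⁻¹ ≠ z) : z ∈ (c.conj g).E := by
  haveI : Finite A := Finite.of_surjective c.pr c.pr_surj
  set u := g * z * g⁻¹ with hudef
  let c' := c.conj g
  by_contra hz
  set S := c.E ⊓ centralizer ({u} : Set G) with hS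
  have hSH : S ≤ c'.H := inf_le_right
  have h2 : IsPGroup 2 ↥S := c.E_isPGroup.to_le inf_le_left
  set D := S ⊓ c'.E with hD
  have hnz : ∀ x ∈ c'.E, x = 1 ∨ x = z → x = 1 := fun x hx h => h.resolve_right fun e => hz (e ▸ hx)
  have hcen : ∀ d ∈ D, ∀ e ∈ S, e * d = d * e := by
    intro d hd e he
    rcases c.comm_E he.1 hd.1.1 with h | h
    · exact h
    · exfalso
      have hm : e * d * e⁻¹ * d⁻¹ ∈ c'.E := mul_mem (c'.conj_E (hSH he) hd.2) (inv_mem hd.2)
      have e1 : e * d * e⁻¹ * d⁻¹ = z := by rw [h]; group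
      exact hz (e1 ▸ hm)
  -- elements centralizing this part of the core are few
  have hD4 : Nat.card ↥D ≤ 4 := by
    have hsub : (D : Set G) ⊆ {1, z, u, z * u} := by
      intro d hd
      by_cases hall : ∀ e ∈ c.E, e * d = d * e
      · rcases c.eq_of_E_center hd.1.1 hall with h | h
        · exact Or.inl h
        · exact Or.inr (Or.inl h)
      · push Not at hall
        obtain ⟨e, he, hed⟩ := hall
        have hflip : ∀ {x e : G}, x ∈ c.E → e ∈ c.E → e * x ≠ x * e → e * x * e⁻¹ = z * x := fun hx he h => by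
          rcases c.comm_E he hx with h' | h'
          · exact absurd h' h
          · rw [h', mul_assoc, mul_assoc, mul_inv_cancel, mul_one]
        have heu : e * u ≠ u * e := fun h => hed (hcen d hd e ⟨he, mem_centralizer_singleton_iff.2 h⟩)
        have hdu : d * u⁻¹ ∈ c.E := mul_mem hd.1.1 (inv_mem hu)
        have hc : ∀ f ∈ c.E, f * (d * u⁻¹) = d * u⁻¹ * f := fun f hf => by
          refine mul_inv_eq_iff_eq_mul.1 ?_
          by_cases hfu : f * u = u * f
          · calc f * (d * u⁻¹) * f⁻¹ = (f * d * f⁻¹) * (f * u * f⁻¹)⁻¹ := by group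
              _ = d * u⁻¹ := by
                rw [hcen d hd f ⟨hf, mem_centralizer_singleton_iff.2 hfu⟩, mul_inv_cancel_right, hfu,
                  mul_inv_cancel_right]
          · have hfd : f * d ≠ d * f := by
              intro h
              refine hed ?_
              have hfe : f⁻¹ * e ∈ S := by
                refine ⟨(show f⁻¹ * e ∈ c.E from mul_mem (inv_mem hf) he), mem_centralizer_singleton_iff.2 (mul_inv_eq_iff_eq_mul.1 ?_)⟩
                have e2 : e * u * e⁻¹ = f * u * f⁻¹ := by rw [hflip hu he heu, hflip hu hf hfu]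
                calc f⁻¹ * e * u * (f⁻¹ * e)⁻¹ = f⁻¹ * (e * u * e⁻¹) * f := by group
                  _ = u := by rw [e2]; group
              calc e * d = f * ((f⁻¹ * e) * d) := by group
                _ = f * d * (f⁻¹ * e) := by rw [hcen d hd _ hfe, mul_assoc]
                _ = d * f * (f⁻¹ * e) := by rw [h]
                _ = d * e := by group
            calc f * (d * u⁻¹) * f⁻¹ = (f * d * f⁻¹) * (f * u * f⁻¹)⁻¹ := by group
              _ = z * (d * u⁻¹) * z⁻¹ := by rw [hflip hd.1.1 hf hfd, hflip hu hf hfu]; group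
              _ = d * u⁻¹ := by rw [← c.comm_z (c.E_le hdu), mul_inv_cancel_right]
        rcases c.eq_of_E_center hdu hc with h | h
        · exact Or.inr (Or.inr (Or.inl (mul_inv_eq_one.1 h)))
        · exact Or.inr (Or.inr (Or.inr (mul_inv_eq_iff_eq_mul.1 h)))
    have := Set.ncard_le_ncard hsub (Set.toFinite _)
    have a1 := Set.ncard_insert_le (1 : G) {z, u, z * u}
    have a2 := Set.ncard_insert_le z {u, z * u}
    have a3 := Set.ncard_insert_le u {z * u}
    rw [Set.ncard_singleton] at a3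
    have hcs : (D : Set G).ncard = Nat.card ↥D := (Nat.card_coe_set_eq _).symm
    omega
  have h := c'.card_le_inf hSH h2
  have h8 := c.card_two_subgroup (c'.imS_isPGroup h2)
  have h12 := c.card_E_centralizer hu
  have h12' : 2 ^ 12 ≤ Nat.card ↥S := h12
  have : Nat.card ↥S ≤ 2 ^ 8 * 4 := h.trans (Nat.mul_le_mul h8 hD4)
  exact absurd (h12'.trans this) (by norm_num)

theorem pair_inf_isotropic {g : G} (hne : g * z * g⁻¹ ≠ z) :
    c.pvS (c.conj g).E ≤ c.perp (c.pvS (c.conj g).E) := by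
  rintro _ ⟨e, he', he, rfl⟩ _ ⟨f, hf', hf, rfl⟩
  exact (c.Bf_comm hf he).2 (c.pair_comm hne hf hf' he he')

theorem card_pair_inf_le {g : G} (hne : g * z * g⁻¹ ≠ z) :
    Nat.card ↥((c.conj g).E ⊓ c.E : Subgroup G) ≤ 2 ^ 7 := by
  have h1 := card_le_of_le (c.inf_E_le_lift (c.conj g).E)
  rw [c.card_lift] at h1
  have h2 := c.card_perp (c.pvS (c.conj g).E)
  have h3 := AddSubgroup.card_le_of_le (c.pair_inf_isotropic hne)
  have h6 : Nat.card ↥(c.pvS (c.conj g).E) ≤ 2 ^ 6 := by
    by_contra h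
    push Not at h
    have := Nat.mul_le_mul h (le_trans h h3)
    omega
  omega

theorem conj_E_inv {g : G} {x : G} (hx : x ∈ centralizer ({g * z * g⁻¹} : Set G)) :
    x ∈ normalizer ((c.conj g).E : Set G) := (c.conj g).E_normal_in hx

theorem conj_symm_E (g : G) {x : G} : x ∈ ((c.conj g).conj g⁻¹).E ↔ x ∈ c.E := by
  rw [(c.conj g).E_conj_iff g⁻¹, c.E_conj_iff g]
  constructor <;> intro h
  · simpa [mul_assoc] using h
  · simpa [mul_assoc] using h

/-- The two cores meet in order `2 ^ 7`. -/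
theorem card_pair_inf {g : G} (hu : g * z * g⁻¹ ∈ c.E) (hne : g * z * g⁻¹ ≠ z) :
    Nat.card ↥((c.conj g).E ⊓ c.E : Subgroup G) = 2 ^ 7 := by
  haveI : Finite A := Finite.of_surjective c.pr c.pr_surj
  let c' := c.conj g
  have hz' := c.z_mem_conj_E hu hne
  set S := c.E ⊓ centralizer ({g * z * g⁻¹} : Set G)
  have h2 : IsPGroup 2 ↥S := c.E_isPGroup.to_le inf_le_left
  have hSH : S ≤ c'.H := inf_le_right
  have hab : ∀ a ∈ c'.imS S, ∀ b ∈ c'.imS S, a * b = b * a := by
    intro a ha b hb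
    obtain ⟨x, hx, rfl⟩ := (c'.mem_imS hSH).1 ha
    obtain ⟨y, hy, rfl⟩ := (c'.mem_imS hSH).1 hb
    rw [← c'.im_mul (hSH hx) (hSH hy), ← c'.im_mul (hSH hy) (hSH hx)]
    rcases c.comm_E hx.1 hy.1 with h | h
    · rw [h]
    · rw [h, c'.im_mul (c'.E_le hz') (mul_mem (hSH hy) (hSH hx)), c'.im_E hz', one_mul]
  have h12 := c.card_E_centralizer hu
  have hle := c.card_pair_inf_le hne
  have hinf : Nat.card ↥(S ⊓ c'.E : Subgroup G) ≤ Nat.card ↥(c'.E ⊓ c.E : Subgroup G) :=
    card_le_of_le fun x hx => ⟨hx.2, hx.1.1⟩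
  have h := c'.card_le_inf hSH h2
  have h12' : 2 ^ 12 ≤ Nat.card ↥S := h12
  refine le_antisymm hle ?_
  have hi32 : Nat.card ↥(c'.imS S) ≤ 32 := by
    by_cases h32 : 32 ≤ Nat.card ↥(c'.imS S)
    · exact (c.facts.big_abelian _ (c'.imS_isPGroup h2) hab h32).1.le
    · omega
  have hh := h12'.trans (h.trans (Nat.mul_le_mul hi32 hinf))
  show 2 ^ 7 ≤ Nat.card ↥(c'.E ⊓ c.E : Subgroup G)
  omega

/-- The centralizer of `z` in the core at the conjugate, mapped to the quotient. -/
theorem pair_image {g : G} (hu : g * z * g⁻¹ ∈ c.E) (hne : g * z * g⁻¹ ≠ z) :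
    ((c.conj g).E ⊓ c.H ≤ c.H ∧ IsPGroup 2 ↥((c.conj g).E ⊓ c.H : Subgroup G)) ∧
    (∀ a ∈ c.imS ((c.conj g).E ⊓ c.H), ∀ b ∈ c.imS ((c.conj g).E ⊓ c.H), a * b = b * a) ∧
    32 ≤ Nat.card ↥(c.imS ((c.conj g).E ⊓ c.H)) := by
  haveI : Finite A := Finite.of_surjective c.pr c.pr_surj
  let c' := c.conj g
  set T := c'.E ⊓ c.H
  have h2 : IsPGroup 2 ↥T := c'.E_isPGroup.to_le inf_le_left
  refine ⟨⟨inf_le_right, h2⟩, ?_, ?_⟩
  · intro a ha b hb
    obtain ⟨x, hx, rfl⟩ := (c.mem_imS inf_le_right).1 ha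
    obtain ⟨y, hy, rfl⟩ := (c.mem_imS inf_le_right).1 hb
    rw [← c.im_mul hx.2 hy.2, ← c.im_mul hy.2 hx.2]
    rcases c'.comm_E hx.1 hy.1 with h | h
    · rw [h]
    · rw [h, c.im_mul (c.E_le hu) (mul_mem hy.2 hx.2), c.im_E hu, one_mul]
  · have h12 : 2 ^ 12 ≤ Nat.card ↥T := by
      have := c'.card_E_centralizer (c.z_mem_conj_E hu hne)
      exact this
    have h := c.card_le_inf (S := T) inf_le_right h2
    have hinf : Nat.card ↥(T ⊓ c.E : Subgroup G) ≤ 2 ^ 7 :=
      (card_le_of_le (show T ⊓ c.E ≤ c'.E ⊓ c.E from fun x hx => ⟨hx.1.1, hx.2⟩)).trans (c.card_pair_inf_le hne)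
    by_contra h32
    have := h.trans (Nat.mul_le_mul (Nat.le_of_lt_succ (show Nat.card ↥(c.imS T) < 31 + 1 by omega)) hinf)
    omega

/-- The image is a conjugate of `R` with an outer element; the inner part fixes the vector of `u`. -/
theorem pair_R {g : G} (hu : g * z * g⁻¹ ∈ c.E) (hne : g * z * g⁻¹ ≠ z) :
    (∃ j ∈ J, IsConjugateBy j R (c.imS ((c.conj g).E ⊓ c.H) ⊓ J)) ∧
      (∃ s ∈ (c.conj g).E ⊓ c.H, s ∉ c.M) ∧
      c.pv (g * z * g⁻¹) ∈ c.fix (((c.conj g).E ⊓ c.H : Subgroup G) : Set G) := by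
  obtain ⟨⟨hle, h2⟩, hab, h32⟩ := c.pair_image hu hne
  haveI : Finite A := Finite.of_surjective c.pr c.pr_surj
  obtain ⟨he, -, hR⟩ := c.facts.big_abelian _ (c.imS_isPGroup h2) hab h32
  refine ⟨hR, ?_, fun x hx => ?_⟩
  · obtain ⟨j, hj, hjR⟩ := hR
    by_contra hcon
    push Not at hcon
    have hJ : c.imS ((c.conj g).E ⊓ c.H) ≤ J := fun a ha => by
      obtain ⟨x, hx, rfl⟩ := (c.mem_imS hle).1 ha
      exact (c.mem_M_iff_im hx.2).1 (hcon x hx)
    have := hjR.card_eq
    rw [inf_eq_left.2 hJ, he, c.facts.card_R] at this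
    norm_num at this
  · rw [← c.pv_conj hx.2 hu, (c.conj g).comm_z ((c.conj g).E_le hx.1), mul_inv_cancel_right]

end CfsgLib.Spor.JFourType.Ctx
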