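import Cfsg.Agent.Lib.Spor.JFourType.ConjPair

/-!
# The conjugates of `z` over `U`

One of them besides `z` lies there; an element of order five normalizing `I` fixes none, so with an element of the
group of order 27 they are 91.
-/

set_option autoImplicit false
set_option linter.style.haveILetI false

namespace CfsgLib.Spor.JFourType.Ctx

open Subgroup

universe u

variable {G : Type u} [Group G] [Finite G] {A : Type} [Group A] {J I R : Subgroup A}
  {z : G} {P : Subgroup G} (c : Ctx J I R z P)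
include c

/-- An element of the centralizer commuting with `u` normalizes the image attached to `u`. -/
theorem im_mem_normalizer_pair {g : G} {x : G} (hx : x ∈ c.H) (hxu : x ∈ (c.conj g).H) :
    c.im x ∈ normalizer ((c.imS ((c.conj g).E ⊓ c.H) ⊓ J : Subgroup A) : Set A) := by
  haveI : J.Normal := Subgroup.normal_of_index_eq_two c.facts.index_J
  have hfor : ∀ {x : G}, x ∈ c.H → x ∈ (c.conj g).H → ∀ a ∈ c.imS ((c.conj g).E ⊓ c.H) ⊓ J,
      c.im x * a * (c.im x)⁻¹ ∈ c.imS ((c.conj g).E ⊓ c.H) ⊓ J := by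
    intro x hx hxu a ha
    refine ⟨?_, (inferInstance : J.Normal).conj_mem a ha.2 _⟩
    obtain ⟨y, hy, rfl⟩ := (c.mem_imS inf_le_right).1 ha.1
    exact (c.mem_imS inf_le_right).2 ⟨x * y * x⁻¹, ⟨(c.conj g).conj_E hxu hy.1,
      c.H.mul_mem (c.H.mul_mem hx hy.2) (c.H.inv_mem hx)⟩, c.im_conj hx hy.2⟩
  refine mem_normalizer_iff.2 fun a => ⟨hfor hx hxu a, fun ha => ?_⟩
  have := hfor (inv_mem hx) (inv_mem hxu) _ ha
  rwa [c.im_inv hx, inv_inv, show (c.im x)⁻¹ * (c.im x * a * (c.im x)⁻¹) * c.im x = a by group] at this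

/-- A lifted element of order five of the normalizer of `I`. -/
theorem exists_five_lift_I : ∃ T ∈ c.C0, T ^ 5 = 1 ∧ orderOf (c.im T) = 5 ∧
    c.im T ∈ normalizer (I : Set A) ∧ Nat.card ↥(centralizer ({c.im T} : Set A) ⊓ J) = 5 := by
  obtain ⟨r, hr, hrI, hro, hcard⟩ := c.facts.five_I
  obtain ⟨x, hx, hxr⟩ := c.exists_C0_im hr
  have hr5 : r ^ 5 = 1 := by rw [← hro, pow_orderOf_eq_one]
  have hT : c.im (x ^ 6) = r := by rw [c.im_pow hx.1, hxr, pow_succ, hr5, one_mul]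
  have h5 : c.pr ⟨x ^ 5, pow_mem hx.1 5⟩ = 1 := by rw [← c.im_eq, c.im_pow hx.1, hxr, hr5]
  refine ⟨x ^ 6, pow_mem hx 6, ?_, hT ▸ hro, hT ▸ isConjugateBy_self_iff.1 hrI, hT ▸ hcard⟩
  rw [← pow_mul, show 6 * 5 = 5 * 6 from rfl, pow_mul]
  obtain ⟨q, hq, h | h⟩ := c.ker_C0 (pow_mem hx 5) h5
  all_goals
    have hq3 : q ^ 3 = 1 := by
      have := pow_card_eq_one' (G := ↥P) (x := ⟨q, hq⟩)
      rw [c.card_P] at this
      exact congrArg Subtype.val this
  · rw [h, show 6 = 3 * 2 from rfl, pow_mul, hq3, one_pow]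
  · rw [h, (show Commute z q from (c.comm_z (c.P_le_C0 hq).1).symm).mul_pow, show q ^ 6 = 1 by
      rw [show 6 = 3 * 2 from rfl, pow_mul, hq3, one_pow], mul_one, show 6 = 2 * 3 from rfl, pow_mul, pow_two,
      c.zz, one_pow]

/-- A conjugate of `z` over `U` is not fixed by the element of order five. -/
theorem five_no_fixed {T : G} (hT : T ∈ c.C0) (hT5 : T ^ 5 = 1) (hTo : orderOf (c.im T) = 5)
    (hTI : c.im T ∈ normalizer (I : Set A)) (hcard : Nat.card ↥(centralizer ({c.im T} : Set A) ⊓ J) = 5)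
    {u : G} (hu : u ∈ c.Ut) (huz : IsConj z u) (hne : u ≠ z) : c.act T (c.pv u) ≠ c.pv u := by
  haveI : Finite A := Finite.of_surjective c.pr c.pr_surj
  haveI : J.Normal := Subgroup.normal_of_index_eq_two c.facts.index_J
  intro hfix
  obtain ⟨g, rfl⟩ := isConj_iff.1 huz
  have huE : g * z * g⁻¹ ∈ c.E := hu.1
  set u := g * z * g⁻¹
  have hTu : T ∈ (c.conj g).H := by
    rw [← c.pv_conj hT.1 huE] at hfix
    rcases (c.pv_eq_iff (c.conj_E hT.1 huE) huE).1 hfix with h | h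
    · exact mem_centralizer_singleton_iff.2 (mul_inv_eq_iff_eq_mul.1 h)
    · exfalso
      have hz : ∀ n : ℕ, T ^ n * u * (T ^ n)⁻¹ = z ^ n * u := by
        intro n
        induction n with
        | zero => simp
        | succ n ih =>
          calc T ^ (n + 1) * u * (T ^ (n + 1))⁻¹ = T * (T ^ n * u * (T ^ n)⁻¹) * T⁻¹ := by rw [pow_succ']; group
            _ = T * z ^ n * T⁻¹ * (T * u * T⁻¹) := by rw [ih]; group
            _ = z ^ n * (z * u) := by
              rw [show T * z ^ n = z ^ n * T from ((show Commute T z from c.comm_z hT.1).pow_right n).eq,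
                mul_inv_cancel_right, h]
            _ = _ := by rw [pow_succ, mul_assoc]
      have h5 := hz 5
      rw [hT5, one_mul, inv_one, mul_one, show z ^ 5 = z by
        rw [show 5 = 2 * 2 + 1 from rfl, pow_succ, pow_mul, pow_two z, c.zz, one_pow, one_mul]] at h5
      exact c.z_ne (mul_eq_right.1 h5.symm)
  obtain ⟨⟨j, hj, hjR⟩, -, -⟩ := c.pair_R huE hne
  obtain ⟨-, hab, -⟩ := c.pair_image huE hne
  set R0 := c.imS ((c.conj g).E ⊓ c.H) ⊓ J with hR0
  have hR02 : IsPGroup 2 ↥R0 := IsPGroup.of_card (n := 4) (by rw [hjR.card_eq, c.facts.card_R]; norm_num)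
  have hI2 : IsPGroup 2 ↥I := IsPGroup.of_card (n := 4) (by rw [c.facts.card_I]; norm_num)
  have hIN : I ≤ normalizer (R0 : Set A) := by
    intro i hi
    obtain ⟨l, hl, rfl⟩ := c.exists_L0 hi
    exact c.im_mem_normalizer_pair (c.L0_le hl).1 (mem_centralizer_singleton_iff.2 (c.L0_comm_Ut hl hu))
  set L := I ⊔ R0 with hL
  have hL2 : IsPGroup 2 ↥L := hI2.to_sup_of_normal_right' hR02 hIN
  have hLJ : L ≤ J := sup_le c.facts.I_le inf_le_right
  have hrR := c.im_mem_normalizer_pair hT.1 hTu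
  have hconj : ∀ {r : A}, r ∈ normalizer (I : Set A) → r ∈ normalizer (R0 : Set A) → ∀ x ∈ L, r * x * r⁻¹ ∈ L := by
    intro r h1 h2 x hx
    have hle : L ≤ L.comap (MulAut.conj r).toMonoidHom := sup_le
      (fun y hy => mem_sup_left ((mem_normalizer_iff.1 h1 y).1 hy))
      (fun y hy => mem_sup_right ((mem_normalizer_iff.1 h2 y).1 hy))
    exact hle hx
  have hpow : ∀ k : ↥(zpowers (c.im T)), ∀ x ∈ L, (k : A) * x * (k : A)⁻¹ ∈ L := fun k =>
    hconj (zpowers_le.2 hTI k.2) (zpowers_le.2 hrR k.2)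
  letI : MulAction ↥(zpowers (c.im T)) ↥L :=
    { smul := fun k x => ⟨k * x * (k : A)⁻¹, hpow k x x.2⟩
      one_smul := fun x => Subtype.ext (by show ((1 : A) * x * (1 : A)⁻¹) = _; rw [one_mul, inv_one, mul_one])
      mul_smul := fun a b x => Subtype.ext (by
        show ((a * b : ↥(zpowers (c.im T))) : A) * x * ((a * b : ↥(zpowers (c.im T))) : A)⁻¹ =
          (a : A) * ((b : A) * x * (b : A)⁻¹) * (a : A)⁻¹
        rw [Subgroup.coe_mul]; group) }
  haveI : Fact (Nat.Prime 5) := ⟨by norm_num⟩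
  have hpg : IsPGroup 5 ↥(zpowers (c.im T)) := IsPGroup.of_card (n := 1) (by rw [Nat.card_zpowers, hTo, pow_one])
  have h := hpg.card_modEq_card_fixedPoints ↥L
  have hfixed : MulAction.fixedPoints ↥(zpowers (c.im T)) ↥L = {1} := by
    ext x
    refine ⟨fun hx => Subtype.ext ?_, fun hx k => ?_⟩
    · have e : c.im T * (x : A) * (c.im T)⁻¹ = x := congrArg Subtype.val (hx ⟨_, mem_zpowers _⟩)
      have hxC : (x : A) ∈ centralizer ({c.im T} : Set A) ⊓ J :=
        ⟨mem_centralizer_singleton_iff.2 (mul_inv_eq_iff_eq_mul.1 e).symm, hLJ x.2⟩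
      have h5 := orderOf_dvd_natCard (⟨_, hxC⟩ : ↥(centralizer ({c.im T} : Set A) ⊓ J))
      rw [← Subgroup.orderOf_coe, hcard] at h5
      obtain ⟨n, hn⟩ := hL2 x
      have hn' : (x : A) ^ 2 ^ n = 1 := congrArg Subtype.val hn
      exact orderOf_eq_one_iff.1 (Nat.eq_one_of_dvd_coprimes ((by norm_num : Nat.Coprime 2 5).pow_left n)
        (orderOf_dvd_of_pow_eq_one hn') h5)
    · rw [Set.mem_singleton_iff] at hx
      subst hx
      refine Subtype.ext ?_
      show (k : A) * ((1 : ↥L) : A) * (k : A)⁻¹ = ((1 : ↥L) : A)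
      rw [OneMemClass.coe_one, mul_one, mul_inv_cancel]
  rw [hfixed, Nat.card_coe_set_eq, Set.ncard_singleton] at h
  have h5 : Nat.card ↥L % 5 = 1 := h
  obtain ⟨k, hk⟩ := hL2.exists_card_eq
  have hk7 : k ≤ 7 := by
    have hd := Subgroup.card_dvd_of_le hLJ
    rw [hk, c.facts.card_J, show (443520 : ℕ) = 2 ^ 7 * 3465 by norm_num] at hd
    exact (Nat.pow_dvd_pow_iff_le_right (by norm_num)).1
      ((Nat.Coprime.pow_left k (by norm_num : Nat.Coprime 2 3465)).dvd_of_dvd_mul_right hd)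
  have hge := card_le_of_le (le_sup_left : I ≤ L)
  rw [c.facts.card_I, hk] at hge
  rw [hk] at h5
  have hk4 : k = 4 := by interval_cases k <;> omega
  have hIL : I = L := eq_of_le_of_card_ge le_sup_left (by rw [hk, hk4, c.facts.card_I]; norm_num)
  have hR0L : R0 = L := eq_of_le_of_card_ge le_sup_right (by rw [hk, hk4, hjR.card_eq, c.facts.card_R]; norm_num)
  have h4 := c.card_fix_R_type (S := c.L0) (c.L0_le.trans c.C0_le_M) c.L0_isPGroup hj fun r hr => by
    have hm : j * r * j⁻¹ ∈ I := by rw [hIL, ← hR0L]; exact hjR.mem_conj hr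
    exact c.exists_L0 hm
  have h64 : Nat.card ↥(c.fix (c.L0 : Set G)) = 2 ^ 6 := c.card_U
  omega

/-- A conjugate of `z` over `U` besides `z`. -/
theorem exists_conj_Ut [IsSimpleGroup G] (hG : ¬ IsMulCommutative G) :
    ∃ u ∈ c.Ut, u ≠ z ∧ IsConj z u := by
  haveI : Finite A := Finite.of_surjective c.pr c.pr_surj
  obtain ⟨u, hu, hne, huz⟩ := c.exists_conj_E hG
  obtain ⟨g, rfl⟩ := isConj_iff.1 huz
  obtain ⟨⟨j, hj, hjR⟩, -, hufix⟩ := c.pair_R hu hne
  obtain ⟨g0, hg0, rfl⟩ := c.exists_C0_im hj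
  set T0 := (c.L16 R).map (MulAut.conj g0).toMonoidHom
  have hT0H : T0 ≤ c.H := by
    rintro _ ⟨x, hx, rfl⟩
    simp only [MulEquiv.coe_toMonoidHom, MulAut.conj_apply]
    exact mul_mem (mul_mem hg0.1 (c.L16_le hx).1) (inv_mem hg0.1)
  obtain ⟨S, hSH, hT0S, -⟩ := c.exists_sylow_ge hT0H ((c.L16_isPGroup c.sixteen_R).map _)
  obtain ⟨V, ⟨hVS, hVE, hVc⟩, -⟩ := c.sylow_eleven_unique S
  obtain ⟨⟨k, hk, hkI⟩, -⟩ := c.imS_eleven (hVS.trans hSH) hVE hVc
  obtain ⟨g1, hg1, hg1k⟩ := c.exists_C0_im hk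
  have hVW := c.eleven_conj (hVS.trans hSH) hVE hVc hkI hg1 hg1k
  set L : Subgroup G := (S : Subgroup G) ⊓ c.M
  obtain ⟨v, -, hv0, hv⟩ := c.exists_fixed (L := L) (fun x hx => hSH hx.1) (S.2.to_le inf_le_left) ⊤
    (fun _ _ _ _ => trivial) (fun h => by
      have := congrArg (fun W : AddSubgroup c.Vs => Nat.card ↥W) h
      simp [c.card_V] at this)
  -- in the line fixed by the conjugate of `R`
  have hvR : c.act g0⁻¹ v ∈ c.fix (c.L16 R : Set G) := fun l hl =>
    c.mem_fix_singleton.1 ((c.fix_conj hg0.1 (c.L16_le hl).1).1 (c.mem_fix_singleton.2 (hv _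
      ⟨hT0S ⟨l, hl, by simp⟩, c.M.mul_mem (c.M.mul_mem (c.C0_le_M hg0) (c.C0_le_M (c.L16_le hl)))
        (c.M.inv_mem (c.C0_le_M hg0))⟩)))
  have huR : c.act g0⁻¹ (c.pv (g * z * g⁻¹)) ∈ c.fix (c.L16 R : Set G) := by
    refine c.fix_R_type_mem (S := (c.conj g).E ⊓ c.H ⊓ c.M) inf_le_right
      ((c.conj g).E_isPGroup.to_le (inf_le_left.trans inf_le_left)) hg0 (fun r hr => ?_)
      (c.fix_anti (inf_le_left : (c.conj g).E ⊓ c.H ⊓ c.M ≤ _) hufix)
    obtain ⟨hmem, hJ⟩ := hjR.mem_conj hr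
    obtain ⟨x, hx, e⟩ := (c.mem_imS inf_le_right).1 hmem
    exact ⟨x, ⟨hx, (c.mem_M_iff_im hx.2).2 (by rw [e]; exact hJ)⟩, e⟩
  set w := c.act g0⁻¹ v with hwdef
  have hw0 : w ≠ 0 := fun h => hv0 (by rw [← c.act_apply_inv hg0.1 v, ← hwdef, h, map_zero])
  have hcard := c.card_fix_R
  have hlist : c.act g0⁻¹ (c.pv (g * z * g⁻¹)) ∈ ({0, w, c.om w, c.om (c.om w)} : Set c.Vs) := by
    have hne1 : c.om w ≠ w := fun h => hw0 (c.om_fixed h)
    have hne2 : c.om (c.om w) ≠ w := fun h => hne1 (by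
      calc c.om w = c.om (c.om (c.om w)) := by rw [h]
        _ = w := c.om_cube w)
    have hne3 : c.om (c.om w) ≠ c.om w := fun h => hne1 (c.om_injective h)
    have hz : ∀ x : c.Vs, x ≠ 0 → c.om x ≠ 0 := fun x hx h => hx (c.om_injective (by rw [h, map_zero]))
    have heq : ({0, w, c.om w, c.om (c.om w)} : Set c.Vs) = ((c.fix (c.L16 R : Set G) : AddSubgroup c.Vs) : Set c.Vs) := by
      refine Set.eq_of_subset_of_ncard_le ?_ ?_ (Set.toFinite _)
      · rintro x (rfl | rfl | rfl | rfl)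
        · exact zero_mem _
        · exact hvR
        · exact c.fix_L16_om hvR
        · exact c.fix_L16_om (c.fix_L16_om hvR)
      · rw [← Nat.card_coe_set_eq]
        refine le_of_eq (hcard.trans ?_)
        rw [Set.ncard_insert_of_notMem ?_ (Set.toFinite _), Set.ncard_insert_of_notMem ?_ (Set.toFinite _),
          Set.ncard_pair hne3.symm]
        · simp only [Set.mem_insert_iff, Set.mem_singleton_iff, not_or]
          exact ⟨hne1.symm, hne2.symm⟩
        · simp only [Set.mem_insert_iff, Set.mem_singleton_iff, not_or]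
          exact ⟨hw0.symm, (hz w hw0).symm, (hz _ (hz w hw0)).symm⟩
    rw [heq]
    exact huR
  -- the line lies in the conjugate of `U`
  have hvU : c.act g1⁻¹ v ∈ c.U := fun l hl =>
    c.mem_fix_singleton.1 ((c.fix_conj hg1.1 (c.L0_le hl).1).1 (c.mem_fix_singleton.2 (hv _
      ⟨hVS (by rw [hVW]; exact ⟨l, Subgroup.mem_sup_right hl, by simp⟩),
        c.M.mul_mem (c.M.mul_mem (c.C0_le_M hg1) (c.C0_le_M (c.L0_le hl))) (c.M.inv_mem (c.C0_le_M hg1))⟩)))
  have hgg : g1⁻¹ * g0 ∈ c.C0 := mul_mem (inv_mem hg1) hg0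
  have hwU : c.act (g1⁻¹ * g0) w ∈ c.U := by
    rw [c.act_apply_mul (inv_mem hg1.1) hg0.1, c.act_apply_inv hg0.1]
    exact hvU
  have hpvU : c.act g1⁻¹ (c.pv (g * z * g⁻¹)) ∈ c.U := by
    rw [← c.act_apply_inv hg0.1 (c.pv (g * z * g⁻¹)), ← c.act_apply_mul (inv_mem hg1.1) hg0.1]
    rcases hlist with h | h | h | h
    · rw [h, map_zero]; exact zero_mem _
    · rw [h]; exact hwU
    · rw [h, c.om_C0 hgg]; exact c.U_om hwU
    · rw [Set.mem_singleton_iff] at h
      rw [h, c.om_C0 hgg, c.om_C0 hgg]; exact c.U_om (c.U_om hwU)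
  refine ⟨g1⁻¹ * (g * z * g⁻¹) * g1, ⟨c.conj_E' hg1.1 hu, ?_⟩, fun h => hne ?_, isConj_iff.2 ⟨g1⁻¹ * g, by group⟩⟩
  · have := c.pv_conj (inv_mem hg1.1) hu
    rw [inv_inv] at this
    rw [this]
    exact hpvU
  · calc g * z * g⁻¹ = g1 * (g1⁻¹ * (g * z * g⁻¹) * g1) * g1⁻¹ := by group
      _ = z := by rw [h, c.comm_z hg1.1, mul_inv_cancel_right]

/-- A conjugate over `U` besides `z` comes with its product by `z`. -/
theorem Ut_pair {x : G} (hx : x ∈ c.Ut) (hxc : IsConj z x) (hne : x ≠ z) : IsConj z (x * z) := by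
  obtain ⟨e, he, hex⟩ : ∃ e ∈ c.E, e * x ≠ x * e := by
    by_contra h
    push Not at h
    rcases c.eq_of_E_center hx.1 h with h' | h'
    · rw [h', isConj_comm, isConj_one_right] at hxc
      exact c.z_ne hxc
    · exact hne h'
  rcases c.comm_E he hx.1 with h | h
  · exact absurd h hex
  refine hxc.trans (isConj_iff.2 ⟨e, ?_⟩)
  calc e * x * e⁻¹ = z * (x * e) * e⁻¹ := by rw [h]
    _ = z * x := by group
    _ = x * z := (c.comm_z (c.E_le hx.1)).symm

/-- The vectors of conjugates of `z` over `U`. -/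
def conjVec : Set c.Vs := {v | v ≠ 0 ∧ ∃ u ∈ c.Ut, IsConj z u ∧ c.pv u = v}

theorem conjVec_conj {x : G} (hx : x ∈ c.C0) (hxI : c.im x ∈ normalizer (I : Set A)) {v : c.Vs}
    (hv : v ∈ c.conjVec) : c.act x v ∈ c.conjVec := by
  obtain ⟨hv0, u, hu, huc, rfl⟩ := hv
  refine ⟨fun h => hv0 (c.act_injective hx.1 (h.trans (map_zero _).symm)), x * u * x⁻¹, ?_,
    huc.trans (isConj_iff.2 ⟨x, rfl⟩), c.pv_conj hx.1 hu.1⟩
  exact ⟨c.conj_E hx.1 hu.1, by rw [c.pv_conj hx.1 hu.1]; exact c.U_conj hx hxI hu.2⟩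

theorem ncard_conjVec [IsSimpleGroup G] (hG : ¬ IsMulCommutative G) : c.conjVec.ncard = 45 := by
  classical
  have h9 : 9 ∣ c.conjVec.ncard := c.nine_dvd_card c.Q0_three c.conjVec (fun h => h.1 rfl)
    fun x hx v hv => c.conjVec_conj (c.Q0_three.le hx) (c.Q0_norm hx) hv
  obtain ⟨T, hT, hT5, hTo, hTI, hcard⟩ := c.exists_five_lift_I
  haveI : Fact (Nat.Prime 5) := ⟨by norm_num⟩
  have hpow : ∀ k : ↥(zpowers T), ∀ v ∈ c.conjVec, c.act (k : G) v ∈ c.conjVec := fun k v hv => by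
    obtain ⟨n, hn⟩ := mem_zpowers_iff.1 k.2
    refine c.conjVec_conj (zpowers_le.2 hT k.2) ?_ hv
    rw [← hn]
    have e : c.im (T ^ n) = c.im T ^ n := by rw [c.im_eq (show T ∈ c.H from hT.1), c.im_eq (zpow_mem (show T ∈ c.H from hT.1) n), ← map_zpow]; rfl
    rw [e]
    exact zpow_mem hTI n
  letI : MulAction ↥(zpowers T) ↥c.conjVec :=
    { smul := fun k v => ⟨c.act (k : G) v, hpow k v v.2⟩
      one_smul := fun v => Subtype.ext (by
        show c.act ((1 : ↥(zpowers T)) : G) (v : c.Vs) = _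
        rw [OneMemClass.coe_one, c.act_one]; rfl)
      mul_smul := fun a b v => Subtype.ext (by
        show c.act ((a : G) * b) (v : c.Vs) = c.act (a : G) (c.act (b : G) v)
        rw [c.act_apply_mul (zpowers_le.2 hT.1 a.2) (zpowers_le.2 hT.1 b.2)]) }
  have hT5o : orderOf T = 5 := orderOf_eq_prime hT5 fun h => by
    rw [h, c.im_one, orderOf_one] at hTo
    omega
  have hpg : IsPGroup 5 ↥(zpowers T) := IsPGroup.of_card (n := 1) (by rw [Nat.card_zpowers, hT5o, pow_one])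
  have h := hpg.card_modEq_card_fixedPoints ↥c.conjVec
  have hfixed : MulAction.fixedPoints ↥(zpowers T) ↥c.conjVec = ∅ := by
    refine Set.eq_empty_of_forall_notMem fun v hv => ?_
    obtain ⟨hv0, u, hu, huc, hvu⟩ := v.2
    have e : c.act T (v : c.Vs) = v := congrArg Subtype.val (hv ⟨T, mem_zpowers T⟩)
    rw [← hvu] at e
    exact c.five_no_fixed hT hT5 hTo hTI hcard hu huc (fun hz => hv0 (by rw [← hvu, hz, c.pv_z])) e
  rw [hfixed, Nat.card_coe_set_eq, Nat.card_coe_set_eq, Set.ncard_empty] at h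
  have h5 : c.conjVec.ncard % 5 = 0 := h
  have hsub : c.conjVec ⊆ (c.U : Set c.Vs) \ {0} := by
    rintro v ⟨hv0, u, hu, -, rfl⟩
    exact ⟨hu.2, hv0⟩
  have hle := Set.ncard_le_ncard hsub (Set.toFinite _)
  have hUc : (c.U : Set c.Vs).ncard = 2 ^ 6 := (Nat.card_coe_set_eq _).symm.trans c.card_U
  rw [Set.ncard_sdiff_singleton_of_mem c.U.zero_mem, hUc] at hle
  have hpos : 0 < c.conjVec.ncard := by
    obtain ⟨u, hu, hne, huc⟩ := c.exists_conj_Ut hG
    refine (Set.ncard_pos (Set.toFinite _)).2 ⟨c.pv u, fun h0 => ?_, u, hu, huc, rfl⟩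
    rcases (c.pv_eq_zero hu.1).1 h0 with h' | h'
    · rw [h', isConj_comm, isConj_one_right] at huc
      exact c.z_ne huc
    · exact hne h'
  omega

/-- There are 91 conjugates of `z` over `U`. -/
theorem card_Ut_conj [IsSimpleGroup G] (hG : ¬ IsMulCommutative G) :
    Set.ncard {x : G | x ∈ c.Ut ∧ IsConj z x} = 91 := by
  classical
  set O := {x : G | x ∈ c.Ut ∧ IsConj z x}
  have hzO : z ∈ O := ⟨c.z_mem_lift _, IsConj.refl z⟩
  choose s hs hsc hsv using fun v : ↥c.conjVec => v.2.2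
  have hsz : ∀ v : ↥c.conjVec, s v ≠ z := fun v h => v.2.1 (by rw [← hsv v, h, c.pv_z])
  let f : Fin 2 × ↥c.conjVec → ↥(O \ {z}) := fun w =>
    if w.1 = 0 then ⟨s w.2, ⟨hs _, hsc _⟩, hsz _⟩
    else ⟨s w.2 * z, ⟨mul_mem (hs _) (c.z_mem_lift _), c.Ut_pair (hs _) (hsc _) (hsz _)⟩, fun h =>
      w.2.2.1 (by
        have h1 : s w.2 = 1 := mul_eq_right.1 h
        rw [← hsv w.2, h1, c.pv_one])⟩
  have hpv : ∀ w, c.pv ((f w : G)) = w.2 := by
    intro w
    simp only [f]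
    split
    · exact hsv _
    · show c.pv (s w.2 * z) = _
      rw [c.pv_mul (hs _).1 c.z_mem_E, c.pv_z, add_zero, hsv]
  have hf : Function.Bijective f := by
    refine ⟨?_, ?_⟩
    · rintro ⟨i, v⟩ ⟨j, w⟩ h
      have hvw : v = w := Subtype.ext (by rw [← hpv (i, v), h, hpv])
      subst hvw
      refine Prod.ext ?_ rfl
      have h' := congrArg (fun x : ↥(O \ {z}) => (x : G)) h
      fin_cases i <;> fin_cases j <;> simp [f] at h' ⊢
      · exact c.z_ne h'
      · exact c.z_ne h'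
    · rintro ⟨x, ⟨hx, hxc⟩, hxz⟩
      have hv : c.pv x ∈ c.conjVec := by
        refine ⟨fun h0 => ?_, x, hx, hxc, rfl⟩
        rcases (c.pv_eq_zero hx.1).1 h0 with h' | h'
        · rw [h', isConj_comm, isConj_one_right] at hxc
          exact c.z_ne hxc
        · exact hxz h'
      rcases (c.pv_eq_iff hx.1 (hs ⟨_, hv⟩).1).1 (hsv ⟨_, hv⟩).symm with h | h
      · exact ⟨(0, ⟨_, hv⟩), Subtype.ext (by simp [f, ← h])⟩
      · refine ⟨(1, ⟨_, hv⟩), Subtype.ext ?_⟩
        simp only [f, Fin.one_eq_zero_iff, show ¬ (2 = 1) by norm_num, if_false]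
        show s _ * z = x
        rw [c.comm_z (c.E_le (hs _).1), ← h]
  have hc := Nat.card_congr (Equiv.ofBijective f hf)
  rw [Nat.card_prod, Nat.card_fin, Nat.card_coe_set_eq, Nat.card_coe_set_eq, c.ncard_conjVec hG,
    Set.ncard_sdiff_singleton_of_mem hzO] at hc
  have hpos : 0 < O.ncard := (Set.ncard_pos (Set.toFinite _)).2 ⟨z, hzO⟩
  omega

end CfsgLib.Spor.JFourType.Ctx
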