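import Cfsg.Agent.Lib.Spor.JFourType.Facts22
import Cfsg.Agent.Lib.Spor.JFourType.Basic

/-!
# The data attached to a group of Janko-four type
-/

set_option autoImplicit false

namespace CfsgLib.Spor.JFourType

universe u

/-- The data over the pair stabilizer. -/
noncomputable def ctx22 {G : Type u} [Group G] {z : G} {P : Subgroup G}
    (h : Cfsg.IsOfJankoFourTypeWith z P) : Ctx J22 I22 R22 z P where
  facts := facts22
  iso := autM22Equiv
  type := h

end CfsgLib.Spor.JFourType
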