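import Cfsg.Agent.Lib.Spor.JFourType.FixEight

/-!
# The displacement lines in `U`

For an element `i` of `I`, `D i` is the displacement of a lift, `Fx i` its fixed space and `Li i` the orthogonal
of the fixed space.  The line of an involution has order `2 ^ 4`, two lines meet in a point, and a vector common to
the lines of `a` and `b` lies on the line of `a * b` exactly when it is isotropic for `a`.
-/

set_option autoImplicit false
set_option linter.style.haveILetI false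

namespace CfsgLib.Spor.JFourType.Ctx

open Subgroup

universe u

variable {G : Type u} [Group G] [Finite G] {A : Type} [Group A] {J I R : Subgroup A}
  {z : G} {P : Subgroup G} (c : Ctx J I R z P)
include c

/-- The chosen lift of an element of `I`. -/
noncomputable def lv (i : ↥I) : G := (c.exists_L0 i.2).choose

theorem lv_mem (i : ↥I) : c.lv i ∈ c.L0 := (c.exists_L0 i.2).choose_spec.1

theorem lv_H (i : ↥I) : c.lv i ∈ c.H := (c.L0_le (c.lv_mem i)).1

theorem im_lv (i : ↥I) : c.im (c.lv i) = i := (c.exists_L0 i.2).choose_spec.2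

theorem act_lv {l : G} (hl : l ∈ c.L0) (i : ↥I) (h : c.im l = i) : c.act l = c.act (c.lv i) := by
  refine c.act_eq_of_im (c.C0_le_M (c.L0_le hl)) (c.C0_le_M (c.L0_le (c.lv_mem i))) (by rw [h, c.im_lv]) (n := 2)
    (by norm_num) ?_ ?_
  · rw [← c.act_pow (c.L0_le hl).1, pow_two, c.L0_elementary hl, c.act_one]
  · rw [← c.act_pow (c.lv_H i), pow_two, c.L0_elementary (c.lv_mem i), c.act_one]

/-- The displacement. -/
noncomputable def D (i : ↥I) : c.Vs →+ c.Vs :=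
  AddMonoidHom.mk' (fun v => c.act (c.lv i) v + v) fun a b => by rw [map_add]; abel

theorem D_apply (i : ↥I) (v : c.Vs) : c.D i v = c.act (c.lv i) v + v := rfl

/-- The fixed space. -/
noncomputable def Fx (i : ↥I) : AddSubgroup c.Vs := c.fix {c.lv i}

/-- The line. -/
noncomputable def Li (i : ↥I) : AddSubgroup c.Vs := c.perp (c.Fx i)

theorem D_eq_zero {i : ↥I} {v : c.Vs} : c.D i v = 0 ↔ v ∈ c.Fx i := by
  rw [Fx, c.mem_fix_singleton, c.D_apply]
  exact ⟨c.add_eq_zero_V, fun h => by rw [h, c.two_V]⟩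

theorem U_le_Fx (i : ↥I) : c.U ≤ c.Fx i := c.U_le_fix (c.lv_mem i)

theorem card_Fx {i : ↥I} (hi : i ≠ 1) : Nat.card ↥(c.Fx i) = 2 ^ 8 :=
  c.card_fix_L0 (c.lv_mem i) (by rw [c.im_lv]; exact fun h => hi (Subtype.ext h))

theorem card_Li {i : ↥I} (hi : i ≠ 1) : Nat.card ↥(c.Li i) = 2 ^ 4 := by
  have h := c.card_perp (c.Fx i)
  rw [c.card_Fx hi] at h
  rw [Li]
  omega

theorem Li_le_U (i : ↥I) : c.Li i ≤ c.U := by
  rw [Li, ← c.perp_U]
  exact c.perp_anti (c.U_le_Fx i)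

theorem Fx_om {i : ↥I} {v : c.Vs} (hv : v ∈ c.Fx i) : c.om v ∈ c.Fx i :=
  c.fix_om (Set.singleton_subset_iff.2 (c.C0_le_M (c.L0_le (c.lv_mem i)))) hv

theorem Li_om {i : ↥I} {v : c.Vs} (hv : v ∈ c.Li i) : c.om v ∈ c.Li i := c.perp_om (fun _ hw => c.Fx_om hw) hv

theorem D_mem (i : ↥I) (v : c.Vs) : c.D i v ∈ c.Li i := c.displacement_mem (c.lv_H i) v

theorem D_mem_U (i : ↥I) (v : c.Vs) : c.D i v ∈ c.U := c.Li_le_U i (c.D_mem i v)

theorem D_surj {i : ↥I} (hi : i ≠ 1) {v : c.Vs} (hv : v ∈ c.Li i) : ∃ w, c.D i w = v := by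
  have hker : (c.D i).ker = c.Fx i := by
    ext w; rw [AddMonoidHom.mem_ker, c.D_eq_zero]
  have hle : (c.D i).range ≤ c.Li i := by rintro _ ⟨w, rfl⟩; exact c.D_mem i w
  have h := (c.D i).ker.card_mul_index
  rw [AddSubgroup.index_ker, hker, c.card_Fx hi, c.card_V] at h
  have heq : (c.D i).range = c.Li i := AddSubgroup.eq_of_le_of_card_ge hle (by rw [c.card_Li hi]; omega)
  rw [← heq] at hv
  exact hv

theorem D_om (i : ↥I) (v : c.Vs) : c.D i (c.om v) = c.om (c.D i v) := by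
  rw [c.D_apply, c.D_apply, map_add, c.om_C0 (c.L0_le (c.lv_mem i))]

theorem D_mul (i j : ↥I) (v : c.Vs) : c.D (i * j) v = c.D i v + c.D j v := by
  have hm : c.lv i * c.lv j ∈ c.L0 := mul_mem (c.lv_mem i) (c.lv_mem j)
  rw [c.D_apply, ← c.act_lv hm (i * j) (by rw [c.im_mul (c.lv_H i) (c.lv_H j), c.im_lv, c.im_lv]; rfl),
    c.act_apply_mul (c.lv_H i) (c.lv_H j), show c.act (c.lv j) v = c.D j v + v by
      rw [c.D_apply, add_assoc, c.two_V, add_zero], map_add, c.U_le_fix (c.lv_mem i) (c.D_mem_U j v) (c.lv i) rfl,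
    c.D_apply i]
  abel

theorem D_one (v : c.Vs) : c.D 1 v = 0 := by
  have h := c.D_mul 1 1 v
  rwa [one_mul, left_eq_add] at h

theorem mul_self_I (i : ↥I) : i * i = 1 := Subtype.ext (by
  rw [Subgroup.coe_mul, ← pow_two]; exact c.facts.ea_I.2 i i.2)

theorem inv_I (i : ↥I) : i⁻¹ = i := inv_eq_of_mul_eq_one_right (c.mul_self_I i)

theorem comm_I (i j : ↥I) : i * j = j * i := by
  calc i * j = (i * j)⁻¹ := (c.inv_I _).symm
    _ = j * i := by rw [mul_inv_rev, c.inv_I, c.inv_I]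

theorem mul_mul_cancel_I (i j : ↥I) : i * (i * j) = j := by rw [← mul_assoc, c.mul_self_I, one_mul]

theorem mul_ne_one_I {i j : ↥I} (h : i ≠ j) : i * j ≠ 1 := fun e => h (by
  rw [eq_inv_of_mul_eq_one_left e, c.inv_I])

/-- Subgroups of the space: order of a sum. -/
theorem card_sup_inf (K L : AddSubgroup c.Vs) :
    Nat.card ↥(K ⊔ L) * Nat.card ↥(K ⊓ L) = Nat.card ↥K * Nat.card ↥L := by
  let f : ↥K × ↥L →+ ↥(K ⊔ L) :=
    { toFun := fun w => ⟨(w.1 : c.Vs) + w.2, add_mem (AddSubgroup.mem_sup_left w.1.2) (AddSubgroup.mem_sup_right w.2.2)⟩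
      map_zero' := Subtype.ext (add_zero _)
      map_add' := fun a b => Subtype.ext (by
        show (a.1 : c.Vs) + b.1 + ((a.2 : c.Vs) + b.2) = (a.1 : c.Vs) + a.2 + ((b.1 : c.Vs) + b.2)
        abel) }
  have hs : Function.Surjective f := by
    rintro ⟨x, hx⟩
    obtain ⟨a, ha, b, hb, rfl⟩ := AddSubgroup.mem_sup.1 hx
    exact ⟨(⟨a, ha⟩, ⟨b, hb⟩), rfl⟩
  have e : ↥f.ker ≃ ↥(K ⊓ L) :=
    { toFun := fun w => ⟨(w.1.1 : c.Vs), w.1.1.2, by
        rw [c.add_eq_zero_V (congrArg Subtype.val (AddMonoidHom.mem_ker.1 w.2) : (w.1.1 : c.Vs) + w.1.2 = 0)]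
        exact w.1.2.2⟩
      invFun := fun x => ⟨(⟨x, x.2.1⟩, ⟨x, x.2.2⟩), AddMonoidHom.mem_ker.2 (Subtype.ext (c.two_V _))⟩
      left_inv := fun w => Subtype.ext (Prod.ext rfl (Subtype.ext
        (c.add_eq_zero_V (congrArg Subtype.val (AddMonoidHom.mem_ker.1 w.2) : (w.1.1 : c.Vs) + w.1.2 = 0))))
      right_inv := fun x => rfl }
  have h := f.ker.card_mul_index
  rw [AddSubgroup.index_ker, f.range_eq_top_of_surjective hs, AddSubgroup.card_top, Nat.card_congr e,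
    Nat.card_prod] at h
  rw [← h, mul_comm]

/-- The isotropic vectors of a line. -/
def Iso (i : ↥I) (v : c.Vs) : Prop := ∃ w, c.D i w = v ∧ c.Bf w (c.om v) = 0

theorem iso_iff {i : ↥I} {v w : c.Vs} (hv : v ∈ c.Li i) (hw : c.D i w = v) :
    c.Iso i v ↔ c.Bf w (c.om v) = 0 := by
  refine ⟨fun ⟨w', h', hb⟩ => ?_, fun h => ⟨w, hw, h⟩⟩
  have hk : w + w' ∈ c.Fx i := c.D_eq_zero.1 (by rw [map_add, hw, h', c.two_V])
  have h0 : c.Bf (w + w') (c.om v) = 0 := c.mem_perp.1 (c.Li_om hv) _ hk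
  rwa [c.Bf_add_left, hb, add_zero] at h0

theorem iso_om {i : ↥I} {v : c.Vs} (h : c.Iso i v) : c.Iso i (c.om v) := by
  obtain ⟨w, hw, hb⟩ := h
  exact ⟨c.om w, by rw [c.D_om, hw], by rw [om, c.Bf_act c.pg_H]; exact hb⟩

theorem iso_om_iff {i : ↥I} {v : c.Vs} : c.Iso i (c.om v) ↔ c.Iso i v := by
  refine ⟨fun h => ?_, c.iso_om⟩
  have := c.iso_om (c.iso_om h)
  rwa [c.om_cube] at this

end CfsgLib.Spor.JFourType.Ctx
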