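import Cfsg.Agent.Lib.Invol.ZStar
import Cfsg.Agent.Lib.Coprime.Action

/-!
# Two criteria for a subgroup holding involution centralizers to be the whole group

No two classes of involutions survive in a proper subgroup containing the centralizers of its involutions; the
second criterion applies this to the normalizer of an elementary abelian subgroup of one class which is closed
among the conjugates commuting with one of its members.
-/

set_option autoImplicit false
set_option linter.style.haveILetI false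

namespace CfsgLib.Spor.JFourType

open Subgroup

universe u

variable {G : Type u} [Group G] [Finite G]

/-- Two nonconjugate involutions commute with a third one. -/
theorem exists_commuting_of_not_isConj {a b : G} (ha : orderOf a = 2) (hb : orderOf b = 2) (h : ¬ IsConj a b) :
    ∃ i : G, orderOf i = 2 ∧ i * a = a * i ∧ i * b = b * i := by
  have he : Even (orderOf (a * b)) := by
    by_contra hodd
    exact h (CfsgLib.Invol.isConj_of_odd ha hb (Nat.not_even_iff_odd.1 hodd))
  exact ⟨_, CfsgLib.Invol.orderOf_pow_half he,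
    (CfsgLib.Invol.commute_pow_half (CfsgLib.Invol.invol_conj_mul ha hb) he).eq,
    (CfsgLib.Invol.commute_pow_half (CfsgLib.Invol.invol_conj_mul' ha hb) he).eq⟩

/-- A subgroup containing the centralizers of its involutions and two classes of them is everything. -/
theorem eq_top_of_centralizers_le (M : Subgroup G) {z y : G} (hzo : orderOf z = 2) (hz : z ∈ M)
    (hyo : orderOf y = 2) (hy : y ∈ M) (hne : ¬ IsConj z y)
    (hC : ∀ i ∈ M, orderOf i = 2 → centralizer ({i} : Set G) ≤ M)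
    (hfus : ∀ g : G, g * z * g⁻¹ ∈ M → ∃ m ∈ M, m * z * m⁻¹ = g * z * g⁻¹) : M = ⊤ := by
  rw [eq_top_iff]
  intro g _
  have hs : g * z * g⁻¹ ∈ M := by
    have hnc : ¬ IsConj (g * z * g⁻¹) y := fun h =>
      hne ((isConj_iff.2 ⟨g, rfl⟩ : IsConj z (g * z * g⁻¹)).trans h)
    obtain ⟨i, hio, hia, hib⟩ := exists_commuting_of_not_isConj (CfsgLib.Invol.invol_conj hzo g) hyo hnc
    have hiM : i ∈ M := hC y hy hyo (mem_centralizer_singleton_iff.2 hib)
    exact hC i hiM hio (mem_centralizer_singleton_iff.2 hia.symm)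
  obtain ⟨m, hm, he⟩ := hfus g hs
  have hc : m⁻¹ * g ∈ centralizer ({z} : Set G) := mem_centralizer_singleton_iff.2 (by
    calc m⁻¹ * g * z = m⁻¹ * (g * z * g⁻¹) * g := by group
      _ = m⁻¹ * (m * z * m⁻¹) * g := by rw [he]
      _ = z * (m⁻¹ * g) := by group)
  rw [show g = m * (m⁻¹ * g) by group]
  exact mul_mem hm (hC z hz hzo hc)

/-- The normalizer of a closed one-class elementary abelian subgroup is everything. -/
theorem eq_top_of_closed_elementary (A : Subgroup G) (hA : Cfsg.IsElementaryAbelian 2 A) (z : G) (hzA : z ∈ A)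
    (hz : z ≠ 1)
    (hfus : ∀ a ∈ A, a ≠ 1 → ∃ m ∈ normalizer (A : Set G), m * z * m⁻¹ = a)
    (hC : centralizer ({z} : Set G) ≤ normalizer (A : Set G))
    (hclosed : ∀ g : G, g * z * g⁻¹ ∈ centralizer ({z} : Set G) → g * z * g⁻¹ ∈ A)
    (hrank : ∀ i ∈ normalizer (A : Set G), orderOf i = 2 → i ∉ A →
      ∃ a ∈ A, a ≠ 1 ∧ (∀ x ∈ A, i * x * i⁻¹ * x⁻¹ ∈ zpowers a) ∧ (∃ x ∈ A, i * x * i⁻¹ ≠ x) ∧
        ∃ b ∈ A, b ≠ 1 ∧ b ≠ a ∧ i * b = b * i)
    {y : G} (hy : y ∈ normalizer (A : Set G)) (hyA : y ∉ A) (hyo : orderOf y = 2) :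
    normalizer (A : Set G) = ⊤ := by
  classical
  have ord2 : ∀ a ∈ A, a ≠ 1 → orderOf a = 2 := fun a ha h1 => orderOf_eq_prime (hA.2 a ha) h1
  have hzo := ord2 z hzA hz
  have hCa : ∀ a ∈ A, a ≠ 1 → centralizer ({a} : Set G) ≤ normalizer (A : Set G) := by
    intro a ha h1 x hx
    obtain ⟨m, hm, rfl⟩ := hfus a ha h1
    have hx' : m⁻¹ * x * m ∈ normalizer (A : Set G) := hC (mem_centralizer_singleton_iff.2 (by
      calc m⁻¹ * x * m * z = m⁻¹ * (x * (m * z * m⁻¹)) * m := by group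
        _ = m⁻¹ * (m * z * m⁻¹ * x) * m := by rw [mem_centralizer_singleton_iff.1 hx]
        _ = _ := by group))
    rw [show x = m * (m⁻¹ * x * m) * m⁻¹ by group]
    exact mul_mem (mul_mem hm hx') (inv_mem hm)
  have hclosed' : ∀ a ∈ A, a ≠ 1 → ∀ g : G, g * z * g⁻¹ ∈ centralizer ({a} : Set G) → g * z * g⁻¹ ∈ A := by
    intro a ha h1 g hg
    obtain ⟨m, hm, rfl⟩ := hfus a ha h1
    have h := hclosed (m⁻¹ * g) (mem_centralizer_singleton_iff.2 (by
      calc m⁻¹ * g * z * (m⁻¹ * g)⁻¹ * z = m⁻¹ * (g * z * g⁻¹ * (m * z * m⁻¹)) * m := by group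
        _ = m⁻¹ * (m * z * m⁻¹ * (g * z * g⁻¹)) * m := by rw [mem_centralizer_singleton_iff.1 hg]
        _ = _ := by group))
    have h' := (mem_normalizer_iff.1 hm _).1 h
    rwa [show m * (m⁻¹ * g * z * (m⁻¹ * g)⁻¹) * m⁻¹ = g * z * g⁻¹ by group] at h'
  -- the only conjugate of `A` through a nontrivial element
  have huniq : ∀ a ∈ A, a ≠ 1 → ∀ g : G, g * a * g⁻¹ ∈ A → g ∈ normalizer (A : Set G) := by
    intro a ha h1 g hg
    have hg1 : g * a * g⁻¹ ≠ 1 := by simpa using h1
    obtain ⟨m, hm, hma⟩ := hfus a ha h1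
    obtain ⟨k, hk, hka⟩ := hfus _ hg hg1
    have hc : k⁻¹ * g * m ∈ centralizer ({z} : Set G) := mem_centralizer_singleton_iff.2 (by
      calc k⁻¹ * g * m * z = k⁻¹ * (g * (m * z * m⁻¹) * g⁻¹) * g * m := by group
        _ = k⁻¹ * (k * z * k⁻¹) * g * m := by rw [hma, hka]
        _ = _ := by group)
    rw [show g = k * (k⁻¹ * g * m) * m⁻¹ by group]
    exact mul_mem (mul_mem hk (hC hc)) (inv_mem hm)
  -- centralizers of the other involutions
  have hCi : ∀ i ∈ normalizer (A : Set G), orderOf i = 2 →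
      centralizer ({i} : Set G) ≤ normalizer (A : Set G) := by
    intro i hi hio
    by_cases hiA : i ∈ A
    · exact hCa i hiA fun h => by rw [h, orderOf_one] at hio; omega
    obtain ⟨a, ha, ha1, hcomm, ⟨x, hx, hxne⟩, b, hb, hb1, hba, hib⟩ := hrank i hi hio hiA
    have hii := CfsgLib.Invol.invol_mul_self hio
    have hmem : ∀ w ∈ zpowers a, w = 1 ∨ w = a := by
      intro w hw
      obtain ⟨n, rfl⟩ := mem_zpowers_iff.1 hw
      rcases Int.even_or_odd' n with ⟨k, rfl | rfl⟩
      · exact Or.inl (by rw [zpow_mul, zpow_ofNat, hA.2 a ha, one_zpow])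
      · exact Or.inr (by rw [zpow_add, zpow_mul, zpow_ofNat, hA.2 a ha, one_zpow, one_mul, zpow_one])
    have hxa : i * x * i⁻¹ * x⁻¹ = a :=
      (hmem _ (hcomm x hx)).resolve_left fun h => hxne (mul_inv_eq_one.1 h)
    have hia : i * a = a * i := by
      rcases hmem _ (hcomm a ha) with h | h
      · exact mul_inv_eq_iff_eq_mul.1 (mul_inv_eq_one.1 h)
      · exfalso
        have h2 : i * a * i⁻¹ = a * a := mul_inv_eq_iff_eq_mul.1 h
        rw [← pow_two, hA.2 a ha] at h2
        exact ha1 (by simpa using h2)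
    set C := centralizer ({i} : Set G) with hCdef
    have haC : a ∈ C := mem_centralizer_singleton_iff.2 hia.symm
    have hbC : b ∈ C := mem_centralizer_singleton_iff.2 hib.symm
    have hiso : Cfsg.IsIsolatedInvolution (⟨a, haC⟩ : ↥C) := by
      refine ⟨by rw [Subgroup.orderOf_mk]; exact ord2 a ha ha1, fun g hg => Subtype.ext ?_⟩
      show (g : G) * a * (g : G)⁻¹ = a
      obtain ⟨m, hm, hma⟩ := hfus a ha ha1
      have hmemA : (g : G) * a * (g : G)⁻¹ ∈ A := by
        have h := hclosed' a ha ha1 ((g : G) * m) (mem_centralizer_singleton_iff.2 (by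
          rw [show (g : G) * m * z * ((g : G) * m)⁻¹ = g * (m * z * m⁻¹) * (g : G)⁻¹ by group, hma]
          exact (congrArg Subtype.val hg.eq).symm))
        rwa [show (g : G) * m * z * ((g : G) * m)⁻¹ = g * (m * z * m⁻¹) * (g : G)⁻¹ by group, hma] at h
      have hgN := huniq a ha ha1 g hmemA
      have hgi : i * (g : G) = g * i := (mem_centralizer_singleton_iff.1 g.2).symm
      have hy' : (g : G) * x * (g : G)⁻¹ ∈ A := (mem_normalizer_iff.1 hgN x).1 hx
      have e : i * ((g : G) * x * (g : G)⁻¹) * i⁻¹ * ((g : G) * x * (g : G)⁻¹)⁻¹ =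
          g * a * (g : G)⁻¹ := by
        rw [← hxa]
        calc i * ((g : G) * x * (g : G)⁻¹) * i⁻¹ * ((g : G) * x * (g : G)⁻¹)⁻¹
            = (i * g) * x * (i * g)⁻¹ * ((g : G) * x * (g : G)⁻¹)⁻¹ := by group
          _ = _ := by rw [hgi]; group
      exact (hmem _ (e ▸ hcomm _ hy')).resolve_left fun h => ha1 (by simpa using h)
    have hz' := CfsgLib.Invol.zstar hiso
    -- the core
    set O : Subgroup G := (Cfsg.pPrimeCore 2 ↥C).map C.subtype with hOdef
    haveI := CfsgLib.Coprime.pPrimeCore_characteristic (G := ↥C) 2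
    have hOn : (Cfsg.pPrimeCore 2 ↥C).Normal := inferInstance
    let V : Subgroup G := closure {a, b}
    have hVA : V ≤ A := (closure_le _).2 (Set.insert_subset ha (Set.singleton_subset_iff.2 hb))
    haveI : IsMulCommutative ↥A := hA.1
    haveI : IsMulCommutative ↥V := ⟨⟨fun u v => Subtype.ext (by
      have h := congrArg (fun w : ↥A => (w : G)) (mul_comm' (⟨(u : G), hVA u.2⟩ : ↥A) ⟨v, hVA v.2⟩)
      exact h)⟩⟩
    have hVC : V ≤ C := (closure_le _).2 (Set.insert_subset haC (Set.singleton_subset_iff.2 hbC))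
    have hVcyc : ¬ IsCyclic ↥V := by
      intro hc
      obtain ⟨v, hv⟩ := hc.exists_generator
      have hv2 : (v : G) ^ 2 = 1 := hA.2 _ (hVA v.2)
      have hmemv : ∀ w ∈ V, w = 1 ∨ w = v := by
        intro w hw
        obtain ⟨n, hn⟩ := mem_zpowers_iff.1 (hv ⟨w, hw⟩)
        have hn' : (v : G) ^ n = w := congrArg Subtype.val hn
        rcases Int.even_or_odd' n with ⟨k, rfl | rfl⟩
        · exact Or.inl (by rw [← hn', zpow_mul, zpow_ofNat, hv2, one_zpow])
        · exact Or.inr (by rw [← hn', zpow_add, zpow_mul, zpow_ofNat, hv2, one_zpow, one_mul, zpow_one])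
      have h1 := (hmemv a (subset_closure (Or.inl rfl))).resolve_left ha1
      have h2 := (hmemv b (subset_closure (Or.inr rfl))).resolve_left hb1
      exact hba (h2.trans h1.symm)
    have hnormO : C ≤ normalizer (O : Set G) := by
      intro w hw
      refine mem_normalizer_iff.2 fun o => ⟨?_, ?_⟩
      · rintro ⟨o', ho', rfl⟩
        exact ⟨⟨w, hw⟩ * o' * ⟨w, hw⟩⁻¹, hOn.conj_mem _ ho' _, rfl⟩
      · rintro ⟨o', ho', he⟩
        refine ⟨⟨w, hw⟩⁻¹ * o' * ⟨w, hw⟩⁻¹⁻¹, hOn.conj_mem _ ho' _, ?_⟩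
        have he' : (o' : G) = w * o * w⁻¹ := he
        show w⁻¹ * (o' : G) * w⁻¹⁻¹ = o
        rw [he']; group
    have hcop : (Nat.card ↥V).Coprime (Nat.card ↥O) := by
      obtain ⟨k, hk⟩ := IsPGroup.iff_card.1 (show IsPGroup 2 ↥V from fun v =>
        ⟨1, Subtype.ext (by rw [pow_one, SubgroupClass.coe_pow]; exact hA.2 _ (hVA v.2))⟩)
      rw [hk, hOdef, ← Nat.card_congr (equivMapOfInjective _ C.subtype C.subtype_injective).toEquiv]
      exact Nat.Coprime.pow_left k (CfsgLib.Coprime.pPrimeCore_coprime (G := ↥C) Nat.prime_two).symm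
    have hON : O ≤ normalizer (A : Set G) :=
      CfsgLib.Coprime.le_of_centralizers_le (A := V) hVcyc (hVC.trans hnormO) hcop
        fun v hv hv1 => inf_le_right.trans (hCa v (hVA hv) hv1)
    -- the centralizer is the core times the centralizer of `a`
    intro g hg
    have hg' := hz' ⟨g, hg⟩
    set o : G := a * g * a⁻¹ * g⁻¹ with ho
    have hoO : o ∈ O := ⟨_, hg', rfl⟩
    have hinv : o⁻¹ ∈ O := inv_mem hoO
    have hflip : a * o * a⁻¹ = o⁻¹ := by
      rw [ho]
      calc a * (a * g * a⁻¹ * g⁻¹) * a⁻¹ = (a * a) * g * a⁻¹ * g⁻¹ * a⁻¹ := by group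
        _ = g * a * g⁻¹ * a⁻¹ := by
          rw [← pow_two, hA.2 a ha, one_mul, inv_eq_of_mul_eq_one_right (by rw [← pow_two]; exact hA.2 a ha)]
        _ = _ := by group
    -- a square root of `o` in the core
    have hodd : (orderOf o).Coprime 2 := by
      refine Nat.Coprime.coprime_dvd_left ?_ (CfsgLib.Coprime.pPrimeCore_coprime (G := ↥C) Nat.prime_two).symm.symm
      rw [Nat.card_congr (equivMapOfInjective (Cfsg.pPrimeCore 2 ↥C) C.subtype C.subtype_injective).toEquiv]
      show orderOf o ∣ Nat.card ↥O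
      simpa using orderOf_dvd_natCard (⟨o, hoO⟩ : ↥O)
    obtain ⟨n, hn⟩ := exists_pow_eq_self_of_coprime hodd.symm
    set r := o ^ n with hr
    have hr2 : r * r = o := by rw [hr, ← pow_add, ← two_mul, pow_mul, hn]
    have hra : a * r * a⁻¹ = r⁻¹ := by rw [hr, ← conj_pow, hflip, inv_pow]
    have hrg : r * g ∈ centralizer ({a} : Set G) := mem_centralizer_singleton_iff.2 (by
      have e : a * (r * g) * a⁻¹ = r * g := by
        calc a * (r * g) * a⁻¹ = (a * r * a⁻¹) * (a * g * a⁻¹ * g⁻¹) * g := by group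
          _ = r⁻¹ * o * g := by rw [hra]
          _ = r * g := by rw [← hr2]; group
      exact (mul_inv_eq_iff_eq_mul.1 e).symm)
    rw [show g = r⁻¹ * (r * g) by group]
    exact mul_mem (inv_mem (hON (pow_mem hoO n))) (hCa a ha ha1 hrg)
  refine eq_top_of_centralizers_le _ hzo (Subgroup.le_normalizer hzA) hyo hy ?_ hCi ?_
  · intro hconj
    obtain ⟨g, hg⟩ := isConj_iff.1 hconj
    obtain ⟨a, ha, ha1, hcomm, -, -⟩ := hrank y hy hyo hyA
    obtain ⟨x, hx, hxy⟩ : ∃ x ∈ A, x ≠ 1 ∧ y * x = x * y := by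
      obtain ⟨a', ha', ha1', -, -, b, hb, hb1, -, hyb⟩ := hrank y hy hyo hyA
      exact ⟨b, hb, hb1, hyb⟩
    exact hyA (hg ▸ hclosed' x hx hxy.1 g (hg.symm ▸ mem_centralizer_singleton_iff.2 hxy.2))
  · intro g hg
    by_cases h : g * z * g⁻¹ ∈ A
    · exact hfus _ h (by simpa using hz)
    · exfalso
      obtain ⟨a, ha, ha1, -, -, b, hb, hb1, -, hib⟩ := hrank _ hg (CfsgLib.Invol.invol_conj hzo g) h
      exact h (hclosed' b hb hb1 g (mem_centralizer_singleton_iff.2 hib))

end CfsgLib.Spor.JFourType
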