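import Cfsg.Agent.Lib.Spor.JFourType.FiveFusion
import Cfsg.Agent.Lib.Spor.JFourType.LocalClosed

/-!
# The centralizer of an element of order five

It meets `H` in a group of order 960; the eight-group is normal in it and only `x` centralizes it besides itself;
the closed-subgroup criterion gives that it normalizes the eight-group and has order 6720.
-/

set_option autoImplicit false
set_option linter.style.haveILetI false

namespace CfsgLib.Spor.JFourType.Ctx

open Subgroup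

universe u

variable {G : Type u} [Group G] [Finite G] {A : Type} [Group A] {J I R : Subgroup A}
  {z : G} {P : Subgroup G} (c : Ctx J I R z P)
include c

omit c in
/-- An involution acting nontrivially on an elementary abelian group of order eight is a transvection. -/
theorem exists_transvection {B : Type*} [Group B] [Finite B] {K : Subgroup B} (hK : Cfsg.IsElementaryAbelian 2 K)
    (h8 : Nat.card ↥K = 8) {i : B} (hi : i * i = 1) (hn : ∀ x ∈ K, i * x * i⁻¹ ∈ K)
    (hne : ∃ x ∈ K, i * x * i⁻¹ ≠ x) :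
    ∃ a ∈ K, a ≠ 1 ∧ (∀ x ∈ K, i * x * i⁻¹ * x⁻¹ ∈ zpowers a) ∧ (∃ x ∈ K, i * x * i⁻¹ ≠ x) ∧
      ∃ b ∈ K, b ≠ 1 ∧ b ≠ a ∧ i * b = b * i := by
  classical
  have hcomm : ∀ a ∈ K, ∀ b ∈ K, a * b = b * a := fun a ha b hb => by
    haveI := hK.1
    exact congrArg Subtype.val (mul_comm' (⟨a, ha⟩ : ↥K) ⟨b, hb⟩)
  have hsq : ∀ a ∈ K, a⁻¹ = a := fun a ha => inv_eq_of_mul_eq_one_right (by rw [← pow_two]; exact hK.2 a ha)
  let f : ↥K →* ↥K :=
    { toFun := fun x => ⟨i * x * i⁻¹ * (x : B)⁻¹, mul_mem (hn x x.2) (inv_mem x.2)⟩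
      map_one' := Subtype.ext (by simp)
      map_mul' := fun x y => Subtype.ext (by
        show i * ((x : B) * y) * i⁻¹ * ((x : B) * y)⁻¹ = i * x * i⁻¹ * (x : B)⁻¹ * (i * y * i⁻¹ * (y : B)⁻¹)
        calc i * ((x : B) * y) * i⁻¹ * ((x : B) * y)⁻¹
            = (i * x * i⁻¹) * ((i * y * i⁻¹ * (y : B)⁻¹) * (x : B)⁻¹) := by group
          _ = (i * x * i⁻¹) * ((x : B)⁻¹ * (i * y * i⁻¹ * (y : B)⁻¹)) := by
            rw [hcomm _ (mul_mem (hn y y.2) (inv_mem y.2)) _ (inv_mem x.2)]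
          _ = _ := by group) }
  have hff : f.range ≤ f.ker := by
    rintro _ ⟨x, rfl⟩
    refine MonoidHom.mem_ker.2 (Subtype.ext ?_)
    show i * (i * x * i⁻¹ * (x : B)⁻¹) * i⁻¹ * (i * x * i⁻¹ * (x : B)⁻¹)⁻¹ = 1
    have hii : i⁻¹ = i := inv_eq_of_mul_eq_one_right hi
    have h1 : i * (i * x * i⁻¹ * (x : B)⁻¹) * i⁻¹ = (x : B) * (i * x * i⁻¹)⁻¹ := by
      calc i * (i * x * i⁻¹ * (x : B)⁻¹) * i⁻¹ = (i * i) * x * (i⁻¹ * (x : B)⁻¹ * i⁻¹) := by group
        _ = 1 * x * (i⁻¹ * (x : B)⁻¹ * i⁻¹) := by rw [hi]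
        _ = _ := by simp only [one_mul, mul_inv_rev, inv_inv, hii, mul_assoc]
    rw [h1, mul_inv_rev (i * (x : B) * i⁻¹) (x : B)⁻¹, inv_inv, hcomm _ x.2 _ (inv_mem (hn x x.2))]
    have e := hK.2 _ (mul_mem (inv_mem (hn x x.2)) x.2)
    rw [pow_two] at e
    exact e
  have hmul := f.ker.card_mul_index
  rw [Subgroup.index_ker, h8] at hmul
  have hle := card_le_of_le hff
  have hr1 : Nat.card ↥f.range ≠ 1 := fun h => by
    obtain ⟨x, hx, hxne⟩ := hne
    have : f ⟨x, hx⟩ ∈ f.range := ⟨_, rfl⟩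
    rw [Subgroup.card_eq_one.1 h, mem_bot] at this
    exact hxne (mul_inv_eq_one.1 (congrArg Subtype.val this))
  have hr2 : Nat.card ↥f.range = 2 ∧ Nat.card ↥f.ker = 4 := by
    have hd : Nat.card ↥f.range ∣ 8 := Dvd.intro_left _ hmul
    have hle8 := Nat.le_of_dvd (by norm_num) hd
    interval_cases hh : Nat.card ↥f.range <;> omega
  obtain ⟨⟨a, ha1⟩, hane⟩ : ∃ a : ↥f.range, a ≠ 1 := by
    haveI : Nontrivial ↥f.range := Finite.one_lt_card_iff_nontrivial.1 (by rw [hr2.1]; norm_num)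
    exact exists_ne 1
  have hza : zpowers a = f.range := eq_of_le_of_card_ge (zpowers_le.2 ha1) (by
    rw [hr2.1, Nat.card_zpowers]
    refine le_of_eq (orderOf_eq_prime (Subtype.ext (by rw [SubgroupClass.coe_pow]; exact hK.2 _ a.2)) ?_).symm
    exact fun h => hane (Subtype.ext h))
  obtain ⟨⟨b, hb⟩, hb1, hba⟩ : ∃ b : ↥f.ker, b ≠ 1 ∧ (b : ↥K) ≠ a := by
    have h2 : Nat.card ↥(zpowers a) < Nat.card ↥f.ker := by rw [hza, hr2.1, hr2.2]; norm_num
    by_contra hcon
    push Not at hcon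
    refine absurd (card_le_of_le (show f.ker ≤ zpowers a from fun b hb => ?_)) (not_le.2 h2)
    by_cases hb1 : (⟨b, hb⟩ : ↥f.ker) = 1
    · rw [show b = 1 from congrArg Subtype.val hb1]; exact one_mem _
    · rw [show b = a from hcon _ hb1]; exact mem_zpowers a
  refine ⟨a, a.2, fun h => hane (Subtype.ext (Subtype.ext h)), fun x hx => ?_, hne, b, b.2,
    fun h => hb1 (Subtype.ext (Subtype.ext h)), fun h => hba (Subtype.ext h), ?_⟩
  · have hm : f ⟨x, hx⟩ ∈ zpowers a := by rw [hza]; exact ⟨_, rfl⟩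
    obtain ⟨k, hk⟩ := mem_zpowers_iff.1 hm
    exact mem_zpowers_iff.2 ⟨k, congrArg Subtype.val hk⟩
  · exact mul_inv_eq_iff_eq_mul.1 (mul_inv_eq_one.1 (congrArg Subtype.val (MonoidHom.mem_ker.1 hb)))

variable {c} {x n s : G}

theorem FiveFull.card_lift_KR : Nat.card ↥(c.lift c.KR) = 8 := by rw [c.card_lift, c.card_KR]

theorem FiveFull.pow_five (f : c.FiveFull x n s) : x ^ 5 = 1 := f.base.data.pow_x

/-- The kernel part of the centralizer. -/
theorem FiveFull.ker_decomp' (f : c.FiveFull x n s) {t : G} (ht : t ∈ c.H) (hx : t * x = x * t) (him : c.im t = 1) :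
    ∃ e ∈ c.E, ∃ q ∈ P, t = e * q ∧ x * e = e * x ∧ q * x = x * q := by
  rw [c.im_eq ht] at him
  obtain ⟨e, he, q, hq, rfl⟩ := c.ker_decomp ht him
  have hqx : q * x = x * q := c.comm_P f.base.data.x_mem hq
  refine ⟨e, he, q, hq, rfl, mul_right_cancel (b := q) ?_, hqx⟩
  calc x * e * q = x * (e * q) := mul_assoc _ _ _
    _ = e * q * x := hx.symm
    _ = e * x * q := by rw [mul_assoc e q x, hqx, ← mul_assoc]

/-- The centralizer in `H` has order 960. -/
theorem FiveFull.card_CH (f : c.FiveFull x n s) : Nat.card ↥(c.H ⊓ centralizer ({x} : Set G)) = 960 := by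
  classical
  haveI := c.finite_A
  set K := c.H ⊓ centralizer ({x} : Set G) with hK
  let φ : ↥K →* A := c.pr.comp (Subgroup.inclusion inf_le_left)
  have hφ : ∀ t : ↥K, φ t = c.im (t : G) := fun t => (c.im_eq t.2.1).symm
  have hxK : x ∈ K := ⟨f.xH, mem_centralizer_singleton_iff.2 rfl⟩
  have hsK : s ∈ K := ⟨f.s_mem, mem_centralizer_singleton_iff.2 f.s_comm⟩
  set r := c.im x
  have hrange : φ.range = centralizer ({r} : Set A) := by
    have hle : φ.range ≤ centralizer ({r} : Set A) := by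
      rintro _ ⟨t, rfl⟩
      rw [hφ, mem_centralizer_singleton_iff, ← c.im_mul t.2.1 f.xH, ← c.im_mul f.xH t.2.1,
        mem_centralizer_singleton_iff.1 t.2.2]
    refine eq_of_le_of_card_ge hle ?_
    rw [f.card_cent]
    have h5 : 5 ∣ Nat.card ↥φ.range := by
      rw [← f.base.data.ord_im, ← Nat.card_zpowers]
      exact card_dvd_of_le (zpowers_le.2 ⟨⟨x, hxK⟩, hφ _⟩)
    have hd : Nat.card ↥φ.range ∣ 10 := f.card_cent ▸ card_dvd_of_le hle
    have hne : Nat.card ↥φ.range ≠ 5 := by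
      intro h
      have he : zpowers r = φ.range := eq_of_le_of_card_ge (zpowers_le.2 ⟨⟨x, hxK⟩, hφ _⟩)
        (by rw [h, Nat.card_zpowers, f.base.data.ord_im])
      have hs : φ ⟨s, hsK⟩ ∈ zpowers r := he ▸ ⟨_, rfl⟩
      rw [hφ] at hs
      refine f.s_out (c.mem_M.2 ⟨f.s_mem, ?_⟩)
      rw [← c.im_eq]
      exact zpowers_le.2 (c.im_C0 f.base.data.x_mem) hs
    obtain ⟨k, hk⟩ := h5
    have := Nat.le_of_dvd (by norm_num) hd
    rw [hk] at hd hne ⊢
    have : k ≤ 2 := by omega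
    interval_cases k <;> omega
  have hker : Nat.card ↥φ.ker = 96 := by
    have hE : Nat.card ↥(c.E ⊓ centralizer ({x} : Set G)) = 32 := by
      rw [c.centralizer_E_eq (by decide : Odd 5) f.xH f.pow_five, c.card_lift, card_fix_x f.base.data]
    let g : ↥(c.E ⊓ centralizer ({x} : Set G)) × ↥P → ↥φ.ker := fun w => ⟨⟨w.1 * w.2,
      mul_mem (c.E_le w.1.2.1) (c.P_le_C0 w.2.2).1, mem_centralizer_singleton_iff.2 (by
        rw [mul_assoc, c.comm_P f.base.data.x_mem w.2.2, ← mul_assoc, mem_centralizer_singleton_iff.1 w.1.2.2,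
          mul_assoc])⟩, by
      rw [MonoidHom.mem_ker, hφ]
      show c.im ((w.1 : G) * w.2) = 1
      rw [c.im_mul (c.E_le w.1.2.1) (c.P_le_C0 w.2.2).1, c.im_E w.1.2.1, one_mul, c.im_eq (c.P_le_C0 w.2.2).1,
        c.pr_P w.2.2]⟩
    have hg : Function.Bijective g := by
      refine ⟨?_, fun t => ?_⟩
      · rintro ⟨a, p⟩ ⟨b, q⟩ hab
        have h' : (a : G) * p = b * q := congrArg (fun w : ↥φ.ker => ((w : ↥K) : G)) hab
        have hm : (b : G)⁻¹ * a = q * (p : G)⁻¹ := by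
          rw [eq_mul_inv_iff_mul_eq, mul_assoc, h', inv_mul_cancel_left]
        have h1 := c.E_inf_P (mul_mem (inv_mem b.2.1) a.2.1) (by rw [hm]; exact mul_mem q.2 (inv_mem p.2))
        have e1 : a = b := Subtype.ext (inv_mul_eq_one.1 h1).symm
        subst e1
        exact Prod.ext rfl (Subtype.ext (mul_left_cancel h'))
      · have him : c.im ((t : ↥K) : G) = 1 := by rw [← hφ]; exact t.2
        obtain ⟨e, he, q, hq, heq, hex, -⟩ := f.ker_decomp' (t : ↥K).2.1
          (mem_centralizer_singleton_iff.1 (t : ↥K).2.2) him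
        exact ⟨(⟨e, he, mem_centralizer_singleton_iff.2 hex.symm⟩, ⟨q, hq⟩), Subtype.ext (Subtype.ext heq.symm)⟩
    rw [← Nat.card_eq_of_bijective g hg, Nat.card_prod, hE, c.card_P]
  have h := φ.ker.card_mul_index
  rw [Subgroup.index_ker, hrange, hker, f.card_cent] at h
  exact h.symm

/-- Only the eight-group and `x` centralize the eight-group in the centralizer of `x`. -/
theorem FiveFull.centralizing (f : c.FiveFull x n s) (hS : c.Split) {t : G} (htx : t * x = x * t)
    (htA : ∀ a ∈ c.lift c.KR, t * a = a * t) : ∃ a ∈ c.lift c.KR, ∃ i : ℕ, t = a * x ^ i := by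
  classical
  haveI := c.finite_A
  have hd := f.base.data
  have htH : t ∈ c.H := mem_centralizer_singleton_iff.2 (htA z (c.z_mem_lift _))
  obtain ⟨u, hu, huz, hu1, -, huK⟩ := f.base.exists_point hS
  have hv0 : c.pv u ≠ 0 := fun h => by
    rcases (c.pv_eq_zero hu).1 h with h' | h'
    exacts [hu1 h', huz h']
  have hfixK : ∀ v ∈ c.KR, c.act t v = v := by
    intro v hv
    obtain ⟨a, ha, rfl⟩ := c.pv_surj v
    rw [← c.pv_conj htH ha, htA a ⟨ha, hv⟩, mul_inv_cancel_right]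
  have htM : t ∈ c.M := by
    by_contra hM
    have h := c.om_outer htH hM (c.pv u)
    rw [hfixK _ huK, hfixK _ (c.KR_om huK)] at h
    exact hv0 (c.om_fixed (c.om_injective h.symm))
  set r := c.im x with hr
  have htJ : c.im t ∈ centralizer ({r} : Set A) ⊓ J := by
    refine ⟨mem_centralizer_singleton_iff.2 ?_, ?_⟩
    · rw [hr, ← c.im_mul htH f.xH, htx, c.im_mul f.xH htH]
    · obtain ⟨h, h'⟩ := c.mem_M.1 htM
      rw [c.im_eq h]; exact h'
  have hC5 : centralizer ({r} : Set A) ⊓ J = zpowers r := by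
    refine (eq_of_le_of_card_ge (zpowers_le.2 (mem_inf.2 ⟨mem_centralizer_singleton_iff.2 rfl, c.im_C0 hd.x_mem⟩)) ?_).symm
    have hd10 := card_dvd_of_le (inf_le_left : centralizer ({r} : Set A) ⊓ J ≤ _)
    have hlt : Nat.card ↥(centralizer ({r} : Set A) ⊓ J) ≠ 10 := by
      intro h10
      have he := eq_of_le_of_card_ge (inf_le_left : centralizer ({r} : Set A) ⊓ J ≤ _) (by rw [h10, f.card_cent])
      have hsC : c.im s ∈ centralizer ({r} : Set A) := mem_centralizer_singleton_iff.2 (by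
        rw [hr, ← c.im_mul f.s_mem f.xH, f.s_comm, c.im_mul f.xH f.s_mem])
      rw [← he] at hsC
      exact f.s_out (c.mem_M.2 ⟨f.s_mem, by rw [← c.im_eq]; exact hsC.2⟩)
    rw [f.card_cent] at hd10
    rw [Nat.card_zpowers, hd.ord_im]
    have hle := Nat.le_of_dvd (by norm_num) hd10
    interval_cases hh : Nat.card ↥(centralizer ({r} : Set A) ⊓ J) <;> omega
  rw [hC5] at htJ
  obtain ⟨i, hi⟩ := (mem_powers_iff_mem_zpowers.2 htJ)
  have hi' : r ^ i = c.im t := hi
  set k := t * (x ^ i)⁻¹ with hk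
  have hkH : k ∈ c.H := mul_mem htH (inv_mem (pow_mem f.xH i))
  have hkx : k * x = x * k :=
    ((show Commute t x from htx).mul_left (((Commute.refl x).pow_left i).inv_left)).eq
  have hkim : c.im k = 1 := by
    rw [hk, c.im_mul htH (inv_mem (pow_mem f.xH i)), c.im_inv (pow_mem f.xH i), c.im_pow f.xH, ← hr, hi',
      mul_inv_cancel]
  have hkA : ∀ a ∈ c.lift c.KR, k * a = a * k := fun a ha => by
    have hxa : Commute x a := by
      rcases (f.base.mem_iff hS).1 ha with rfl | ⟨-, -, h⟩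
      exacts [Commute.one_right x, h]
    exact ((show Commute t a from htA a ha).mul_left ((hxa.pow_left i).inv_left)).eq
  obtain ⟨e, he, q, hq, heq, hex, -⟩ := f.ker_decomp' hkH hkx hkim
  have hkfix : ∀ v ∈ c.KR, c.act q v = v := by
    intro v hv
    obtain ⟨a, ha, rfl⟩ := c.pv_surj v
    have h1 : c.act k (c.pv a) = c.pv a := by rw [← c.pv_conj hkH ha, hkA a ⟨ha, hv⟩, mul_inv_cancel_right]
    rw [heq, c.act_apply_mul (c.E_le he) (c.P_le_C0 hq).1, (c.act_eq_one (c.E_le he)).2 he] at h1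
    exact h1
  have hq1 : q = 1 := by
    have h := hkfix _ huK
    rcases c.mem_P hq with h1 | h1 | h1
    · exact h1
    · rw [h1] at h; exact absurd (c.om_fixed h) hv0
    · rw [h1, c.act_pg_inv] at h
      have e := congrArg c.om h
      rw [c.om_cube] at e
      exact absurd (c.om_fixed e.symm) hv0
  rw [hq1, mul_one] at heq
  refine ⟨k, ?_, i, by rw [hk, inv_mul_cancel_right]⟩
  have hkE : k ∈ c.E := heq ▸ he
  refine ⟨hkE, ?_⟩
  -- the fixed space meets the orthogonal of the line only in the line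
  set F := c.fix {x} with hF
  have hkF : c.pv k ∈ F := by
    rw [hF, c.mem_fix_singleton, ← c.pv_conj f.xH hkE, ← hkx, mul_inv_cancel_right]
  have hkP : c.pv k ∈ c.perp c.KR := c.mem_perp.2 fun v hv => by
    obtain ⟨a, ha, rfl⟩ := c.pv_surj v
    exact (c.Bf_comm ha hkE).2 (hkA a ⟨ha, hv⟩).symm
  have hKF : c.KR ≤ F ⊓ c.perp c.KR := fun v hv => ⟨KR_le_fix hd hv, c.mem_perp.2 fun w hw => by
    obtain ⟨a, ha, rfl⟩ := c.pv_surj v
    obtain ⟨b, hb, rfl⟩ := c.pv_surj w
    haveI := (f.base.elementary hS).1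
    exact (c.Bf_comm hb ha).2 (congrArg Subtype.val (mul_comm' (⟨b, hb, hw⟩ : ↥(c.lift c.KR)) ⟨a, ha, hv⟩))⟩
  have htop : F ⊔ c.perp c.KR = ⊤ := by
    have hb : c.perp F ⊓ c.KR = ⊥ := by
      rw [eq_bot_iff]
      exact fun v hv => (AddSubgroup.eq_bot_iff_forall _).1 (c.fix_inf_perp (by decide : Odd 5) f.xH hd.act_pow_five)
        v ⟨KR_le_fix hd hv.2, hv.1⟩ |> AddSubgroup.mem_bot.2
    have hle : c.perp (F ⊔ c.perp c.KR) ≤ c.perp F ⊓ c.KR := le_inf (c.perp_anti le_sup_left)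
      ((c.perp_anti le_sup_right).trans (le_of_eq (c.perp_perp _)))
    rw [hb, le_bot_iff] at hle
    have h := c.card_perp (F ⊔ c.perp c.KR)
    rw [hle, AddSubgroup.card_bot, mul_one] at h
    exact AddSubgroup.eq_top_of_card_eq _ (by rw [h, c.card_V])
  have hcard := c.card_sup_inf F (c.perp c.KR)
  have hperp := c.card_perp c.KR
  rw [c.card_KR] at hperp
  rw [htop, AddSubgroup.card_top, c.card_V, card_fix_x hd] at hcard
  have he4 : c.KR = F ⊓ c.perp c.KR := AddSubgroup.eq_of_le_of_card_ge hKF (by rw [c.card_KR]; omega)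
  rw [he4]
  exact ⟨hkF, hkP⟩

/-- An involution commuting with `x` outside the eight-group, in the core. -/
theorem FiveFull.exists_invol (f : c.FiveFull x n s) (hS : c.Split) :
    ∃ y, y ∈ c.E ∧ y * x = x * y ∧ y ∉ c.lift c.KR ∧ orderOf y = 2 := by
  have hd := f.base.data
  obtain ⟨u, hu, huz, hu1, -, huK⟩ := f.base.exists_point hS
  have hv0 : c.pv u ≠ 0 := fun h => by
    rcases (c.pv_eq_zero hu).1 h with h' | h'
    exacts [hu1 h', huz h']
  obtain ⟨w, hw, hwv⟩ : ∃ w ∈ c.fix {x}, c.Bf w (c.pv u) ≠ 0 := by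
    by_contra hcon
    push Not at hcon
    exact hv0 ((AddSubgroup.eq_bot_iff_forall _).1 (c.fix_inf_perp (by decide : Odd 5) f.xH hd.act_pow_five) _
      ⟨KR_le_fix hd huK, c.mem_perp.2 hcon⟩)
  have hSv : c.Sf (c.pv u) = 0 :=
    (c.Sf_sq hu).2 (by rw [← pow_two]; exact (f.base.elementary hS).2 u ⟨hu, huK⟩)
  obtain ⟨w', hw', hS', hwv'⟩ : ∃ w' ∈ c.fix {x}, c.Sf w' = 0 ∧ c.Bf w' (c.pv u) ≠ 0 := by
    by_cases h : c.Sf w = 0
    · exact ⟨w, hw, h, hwv⟩
    · refine ⟨w + c.pv u, add_mem hw (KR_le_fix hd huK), ?_, ?_⟩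
      · rw [c.Sf_add, hSv, add_zero]
        revert h hwv
        generalize c.Sf w = a
        generalize c.Bf w (c.pv u) = b
        revert a b
        decide
      · rw [c.Bf_add_left, c.Bf_self, add_zero]; exact hwv
  obtain ⟨y, hy, rfl⟩ := c.pv_surj w'
  have hyx : y * x = x * y :=
    (c.comm_of_pv_fixed (by decide : Odd 5) f.xH hd.pow_x hy (c.mem_fix_singleton.1 hw')).symm
  have hnot : y ∉ c.lift c.KR := fun h => hwv' (by
    haveI := (f.base.elementary hS).1
    exact (c.Bf_comm hy hu).2 (congrArg Subtype.val (mul_comm' (⟨y, h⟩ : ↥(c.lift c.KR)) ⟨u, hu, huK⟩)))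
  refine ⟨y, hy, hyx, hnot, orderOf_eq_prime (by rw [pow_two]; exact (c.Sf_sq hy).1 hS') fun h => hnot ?_⟩
  rw [h]; exact one_mem _

/-- The centralizer of `x` normalizes the eight-group. -/
theorem FiveFull.cent_norm (f : c.FiveFull x n s) (hS : c.Split) {t : G} (ht : t * x = x * t) :
    t ∈ normalizer (c.lift c.KR : Set G) := by
  classical
  set C := centralizer ({x} : Set G) with hC
  set B := c.lift c.KR with hB
  have hBC : B ≤ C := fun a ha => mem_centralizer_singleton_iff.2 (by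
    rcases (f.base.mem_iff hS).1 ha with rfl | ⟨-, -, h⟩
    exacts [by rw [one_mul, mul_one], h.symm])
  have hea := f.base.elementary hS
  have norm_of : ∀ g : ↥C, (∀ a ∈ B, (g : G) * a * (g : G)⁻¹ ∈ B) → g ∈ normalizer (B.subgroupOf C : Set ↥C) := by
    intro g hg
    have hle : B.map (MulAut.conj (g : G)).toMonoidHom ≤ B := by rintro _ ⟨a, ha, rfl⟩; exact hg a ha
    have heq := eq_of_le_of_card_ge hle
      (le_of_eq (Nat.card_congr (equivMapOfInjective _ _ (MulAut.conj (g : G)).injective).toEquiv))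
    refine mem_normalizer_iff.2 fun a => ⟨fun ha => hg _ ha, fun ha => ?_⟩
    obtain ⟨a', ha', he⟩ := heq.symm.le (show (g : G) * a * (g : G)⁻¹ ∈ B from ha)
    show (a : G) ∈ B
    rwa [← (MulAut.conj (g : G)).injective he]
  have hzC : z ∈ C := hBC (c.z_mem_lift _)
  have hAC : Cfsg.IsElementaryAbelian 2 (B.subgroupOf C) := by
    refine ⟨⟨⟨fun a b => Subtype.ext (Subtype.ext ?_)⟩⟩, fun a ha => Subtype.ext (by
      rw [SubgroupClass.coe_pow, OneMemClass.coe_one]; exact hea.2 _ ha)⟩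
    haveI := hea.1
    show ((a : ↥C) : G) * ((b : ↥C) : G) = ((b : ↥C) : G) * ((a : ↥C) : G)
    exact congrArg Subtype.val (mul_comm' (⟨((a : ↥C) : G), a.2⟩ : ↥B) ⟨((b : ↥C) : G), b.2⟩)
  have hfus : ∀ a : ↥C, a ∈ B.subgroupOf C → a ≠ 1 →
      ∃ m ∈ normalizer (B.subgroupOf C : Set ↥C), m * ⟨z, hzC⟩ * m⁻¹ = a := by
    intro a ha h1
    obtain ⟨g, hgx, hga, hgB⟩ := f.exists_fusion hS ha fun h => h1 (Subtype.ext h)
    have hgC : g ∈ C := mem_centralizer_singleton_iff.2 hgx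
    refine ⟨(⟨g, hgC⟩ : ↥C)⁻¹, inv_mem (norm_of ⟨g, hgC⟩ hgB), Subtype.ext ?_⟩
    show g⁻¹ * z * g⁻¹⁻¹ = a
    rw [← hga, Subgroup.coe_subtype]; group
  have hCz : centralizer ({⟨z, hzC⟩} : Set ↥C) ≤ normalizer (B.subgroupOf C : Set ↥C) := fun g hg =>
    norm_of g fun a ha => f.conj_mem hS (mem_centralizer_singleton_iff.2
      (congrArg Subtype.val (mem_centralizer_singleton_iff.1 hg))) (mem_centralizer_singleton_iff.1 g.2) ha
  -- the conjugates of `z` in the centralizer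
  have hclosed : ∀ g : ↥C, g * ⟨z, hzC⟩ * g⁻¹ ∈ centralizer ({⟨z, hzC⟩} : Set ↥C) →
      g * ⟨z, hzC⟩ * g⁻¹ ∈ B.subgroupOf C := by
    intro g hg
    by_contra hnot
    set w := (g : G) * z * (g : G)⁻¹ with hw
    have hwB : w ∉ B := hnot
    have hwz : w * z = z * w := congrArg Subtype.val (mem_centralizer_singleton_iff.1 hg)
    -- `z` acts on the conjugate of the eight-group
    have hgx := mem_centralizer_singleton_iff.1 g.2
    set B' := B.map (MulAut.conj (g : G)).toMonoidHom with hB'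
    have hmem' : ∀ a, a ∈ B' ↔ (g : G)⁻¹ * a * g ∈ B := fun a => by
      rw [hB', Subgroup.mem_map]
      exact ⟨fun ⟨b, hb, he⟩ => by rw [← he]; simpa [mul_assoc] using hb, fun h => ⟨_, h, by simp [mul_assoc]⟩⟩
    have hzg : (g : G)⁻¹ * z * g ∈ c.H ∧ ((g : G)⁻¹ * z * g) * x = x * ((g : G)⁻¹ * z * g) := by
      refine ⟨mem_centralizer_singleton_iff.2 ?_, ?_⟩
      · calc (g : G)⁻¹ * z * g * z = (g : G)⁻¹ * (z * w) * g := by rw [hw]; group
          _ = (g : G)⁻¹ * (w * z) * g := by rw [hwz]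
          _ = _ := by rw [hw]; group
      · have cg : Commute (g : G) x := hgx
        exact ((cg.inv_left.mul_left (c.comm_z f.xH).symm).mul_left cg).eq
    set z' := (g : G)⁻¹ * z * g with hz'
    have hz'2 : z' * z' = 1 := by
      rw [hz', show (g : G)⁻¹ * z * g * ((g : G)⁻¹ * z * g) = (g : G)⁻¹ * (z * z) * g by group, c.zz, mul_one,
        inv_mul_cancel]
    -- fixed points of `z'` on `B`
    have hfix : ∃ a ∈ B, a ≠ 1 ∧ z' * a = a * z' ∧ (g : G) * a * (g : G)⁻¹ ∈ c.E := by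
      obtain ⟨b, c', hbne, hb, hc', hzb, hzc⟩ : ∃ b c' : G, b ≠ c' ∧ (b ∈ B ∧ b ≠ 1) ∧ (c' ∈ B ∧ c' ≠ 1) ∧
          z' * b = b * z' ∧ z' * c' = c' * z' := by
        by_cases htriv : ∀ a ∈ B, z' * a * z'⁻¹ = a
        · obtain ⟨u, hu, huz, hu1, -, huK⟩ := f.base.exists_point hS
          exact ⟨u, z, huz, ⟨⟨hu, huK⟩, hu1⟩, ⟨c.z_mem_lift _, c.z_ne⟩,
            mul_inv_eq_iff_eq_mul.1 (htriv u ⟨hu, huK⟩), mul_inv_eq_iff_eq_mul.1 (htriv z (c.z_mem_lift _))⟩
        · push Not at htriv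
          obtain ⟨a, ha, ha1, hcl, ⟨v, hv, hvne⟩, b, hb, hb1, hba, hzb⟩ := exists_transvection hea
            FiveFull.card_lift_KR hz'2 (fun a ha => f.conj_mem hS hzg.1 hzg.2 ha) htriv
          refine ⟨a, b, hba.symm, ⟨ha, ha1⟩, ⟨hb, hb1⟩, ?_, hzb⟩
          obtain ⟨k, hk⟩ := mem_zpowers_iff.1 (hcl v hv)
          have hav : z' * v * z'⁻¹ * v⁻¹ = a := by
            rcases Int.even_or_odd' k with ⟨j, rfl | rfl⟩
            · rw [zpow_mul, zpow_ofNat, hea.2 a ha, one_zpow] at hk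
              exact absurd (mul_inv_eq_one.1 hk.symm) hvne
            · rw [zpow_add, zpow_mul, zpow_ofNat, hea.2 a ha, one_zpow, one_mul, zpow_one] at hk
              exact hk.symm
          have hi : z'⁻¹ = z' := inv_eq_of_mul_eq_one_right hz'2
          have hva : (z' * v * z'⁻¹) * (z' * v * z'⁻¹) = 1 := by
            rw [show z' * v * z'⁻¹ * (z' * v * z'⁻¹) = z' * (v * v) * z'⁻¹ by group, ← pow_two v, hea.2 v hv, mul_one,
              mul_inv_cancel]
          have hvv : v⁻¹ = v := inv_eq_of_mul_eq_one_right (by rw [← pow_two]; exact hea.2 v hv)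
          have hconj : z' * a * z'⁻¹ = a⁻¹ := by
            rw [← hav]
            calc z' * (z' * v * z'⁻¹ * v⁻¹) * z'⁻¹ = (z' * z') * v * (z'⁻¹ * v⁻¹ * z'⁻¹) := by group
              _ = v * (z' * v⁻¹ * z'⁻¹) := by rw [hz'2, one_mul, hi]
              _ = _ := by group
          rw [show a⁻¹ = a from inv_eq_of_mul_eq_one_right (by rw [← pow_two]; exact hea.2 a ha)] at hconj
          exact mul_inv_eq_iff_eq_mul.1 hconj
      -- one of three commuting members has image in the core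
      haveI := c.finite_A
      have hcomm : b * c' = c' * b := by
        haveI := hea.1
        exact congrArg Subtype.val (mul_comm' (⟨b, hb.1⟩ : ↥B) ⟨c', hc'.1⟩)
      have hH : ∀ a ∈ B, z' * a = a * z' → (g : G) * a * (g : G)⁻¹ ∈ c.H ∧
          ((g : G) * a * (g : G)⁻¹) * ((g : G) * a * (g : G)⁻¹) = 1 ∧
          ((g : G) * a * (g : G)⁻¹) * x = x * ((g : G) * a * (g : G)⁻¹) := by
        intro a ha hza
        refine ⟨mem_centralizer_singleton_iff.2 ?_, ?_, ?_⟩
        · calc (g : G) * a * (g : G)⁻¹ * z = g * (a * z') * (g : G)⁻¹ := by rw [hz']; group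
            _ = g * (z' * a) * (g : G)⁻¹ := by rw [hza]
            _ = _ := by rw [hz']; group
        · rw [show (g : G) * a * (g : G)⁻¹ * ((g : G) * a * (g : G)⁻¹) = g * (a * a) * (g : G)⁻¹ by group,
            ← pow_two, hea.2 a ha, mul_one, mul_inv_cancel]
        · have cg : Commute (g : G) x := hgx
          exact ((cg.mul_left (mem_centralizer_singleton_iff.1 (hBC ha))).mul_left cg.inv_left).eq
      obtain ⟨hbH, hb2, hbx⟩ := hH b hb.1 hzb
      obtain ⟨hcH, hc2, hcx⟩ := hH c' hc'.1 hzc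
      have hbcmem : b * c' ∈ B := mul_mem hb.1 hc'.1
      have hbc1 : b * c' ≠ 1 := fun h => hbne (by
        rw [← mul_inv_eq_one, inv_eq_of_mul_eq_one_right (by rw [← pow_two]; exact hea.2 c' hc'.1), h])
      have hzbc : z' * (b * c') = (b * c') * z' := ((show Commute z' b from hzb).mul_right hzc).eq
      set β := c.im ((g : G) * b * (g : G)⁻¹)
      set γ := c.im ((g : G) * c' * (g : G)⁻¹)
      have hE_of : ∀ a ∈ B, z' * a = a * z' → c.im ((g : G) * a * (g : G)⁻¹) = 1 → (g : G) * a * (g : G)⁻¹ ∈ c.E :=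
        fun a ha hza h => c.mem_E_of_im (hH a ha hza).1 h (a := 1) (by rw [pow_one, pow_two]; exact (hH a ha hza).2.1)
      by_cases hβ : β = 1
      · exact ⟨b, hb.1, hb.2, hzb, hE_of b hb.1 hzb hβ⟩
      by_cases hγ : γ = 1
      · exact ⟨c', hc'.1, hc'.2, hzc, hE_of c' hc'.1 hzc hγ⟩
      refine ⟨b * c', hbcmem, hbc1, hzbc, hE_of _ hbcmem hzbc ?_⟩
      -- the centralizer of order ten has only one involution
      rw [show (g : G) * (b * c') * (g : G)⁻¹ = (g * b * (g : G)⁻¹) * (g * c' * (g : G)⁻¹) by group, c.im_mul hbH hcH]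
      show β * γ = 1
      have hβ2 : β * β = 1 := by rw [← c.im_mul hbH hbH, hb2, c.im_one]
      have hγ2 : γ * γ = 1 := by rw [← c.im_mul hcH hcH, hc2, c.im_one]
      have hβγ : β * γ = γ * β := by
        rw [← c.im_mul hbH hcH, ← c.im_mul hcH hbH,
          show (g : G) * b * (g : G)⁻¹ * (g * c' * (g : G)⁻¹) = g * (b * c') * (g : G)⁻¹ by group, hcomm]
        congr 1; group
      by_contra hne
      let V : Subgroup A := closure {β, γ}
      have hβC : β ∈ centralizer ({c.im x} : Set A) := mem_centralizer_singleton_iff.2 (by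
        rw [← c.im_mul hbH f.xH, hbx, c.im_mul f.xH hbH])
      have hγC : γ ∈ centralizer ({c.im x} : Set A) := mem_centralizer_singleton_iff.2 (by
        rw [← c.im_mul hcH f.xH, hcx, c.im_mul f.xH hcH])
      have hne' : β ≠ γ := fun h => hne (by rw [h, hγ2])
      have hβi : β⁻¹ = β := inv_eq_of_mul_eq_one_right hβ2
      have hγi : γ⁻¹ = γ := inv_eq_of_mul_eq_one_right hγ2
      let W : Subgroup A :=
        { carrier := {1, β, γ, β * γ}
          one_mem' := Or.inl rfl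
          mul_mem' := by
            intro p q hp hq
            simp only [Set.mem_insert_iff, Set.mem_singleton_iff] at hp hq ⊢
            have a1 : β * (β * γ) = γ := by rw [← mul_assoc, hβ2, one_mul]
            have a2 : γ * (β * γ) = β := by rw [← mul_assoc, ← hβγ, mul_assoc, hγ2, mul_one]
            have a3 : β * γ * β = γ := by rw [hβγ, mul_assoc, hβ2, mul_one]
            have a4 : β * γ * γ = β := by rw [mul_assoc, hγ2, mul_one]
            have a5 : β * γ * (β * γ) = 1 := by rw [mul_assoc, a2, hβ2]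
            rcases hp with rfl | rfl | rfl | rfl <;> rcases hq with rfl | rfl | rfl | rfl <;>
              simp [hβ2, hγ2, ← hβγ, a1, a2, a3, a4, a5]
          inv_mem' := by
            intro p hp
            simp only [Set.mem_insert_iff, Set.mem_singleton_iff] at hp ⊢
            rcases hp with rfl | rfl | rfl | rfl <;> simp [hβi, hγi, ← hβγ] }
      have hW : Nat.card ↥W = 4 := by
        show Nat.card ↥({1, β, γ, β * γ} : Set A) = 4
        rw [Nat.card_coe_set_eq, Set.ncard_insert_of_notMem (by simp [Ne.symm hβ, Ne.symm hγ, Ne.symm hne]) (Set.toFinite _),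
          Set.ncard_insert_of_notMem (by simp [hne', hγ]) (Set.toFinite _),
          Set.ncard_insert_of_notMem (by simp [hβ]) (Set.toFinite _), Set.ncard_singleton]
      have hWC : W ≤ centralizer ({c.im x} : Set A) := by
        rintro p (rfl | rfl | rfl | rfl)
        exacts [one_mem _, hβC, hγC, mul_mem hβC hγC]
      have h4 := card_dvd_of_le hWC
      rw [hW, f.card_cent] at h4
      norm_num at h4
    obtain ⟨a, ha, ha1, -, haE⟩ := hfix
    -- hence the conjugate shares a member with the eight-group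
    set e := (g : G) * a * (g : G)⁻¹ with he
    have hex : x * e = e * x := by
      have cg : Commute x (g : G) := hgx.symm
      exact ((cg.mul_right (mem_centralizer_singleton_iff.1 (hBC ha)).symm).mul_right cg.inv_right).eq
    have heB : e ∈ B := (f.base.mem_iff hS).2 (Or.inr ⟨haE, (f.base.isConj_of_mem hS ha ha1).trans
      (isConj_iff.2 ⟨g, rfl⟩), hex⟩)
    obtain ⟨m, hm, hma⟩ := hfus ⟨a, hBC ha⟩ ha fun h => ha1 (congrArg Subtype.val h)
    obtain ⟨k, hk, hke⟩ := hfus ⟨e, hBC heB⟩ heB fun h => ha1 (by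
      have h' : e = 1 := congrArg Subtype.val h
      simpa [he] using h')
    have hcz : k⁻¹ * g * m ∈ centralizer ({⟨z, hzC⟩} : Set ↥C) := mem_centralizer_singleton_iff.2 (by
      calc k⁻¹ * g * m * ⟨z, hzC⟩ = k⁻¹ * (g * (m * ⟨z, hzC⟩ * m⁻¹) * g⁻¹) * g * m := by group
        _ = k⁻¹ * (k * ⟨z, hzC⟩ * k⁻¹) * g * m := by
          rw [hma, hke, show g * ⟨a, hBC ha⟩ * g⁻¹ = ⟨e, hBC heB⟩ from Subtype.ext rfl]
        _ = _ := by group)
    have hgN : g ∈ normalizer (B.subgroupOf C : Set ↥C) := by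
      rw [show g = k * (k⁻¹ * g * m) * m⁻¹ by group]
      exact mul_mem (mul_mem hk (hCz hcz)) (inv_mem hm)
    exact hnot ((mem_normalizer_iff.1 hgN _).1 (show (⟨z, hzC⟩ : ↥C) ∈ B.subgroupOf C from c.z_mem_lift _))
  have hrank : ∀ i ∈ normalizer (B.subgroupOf C : Set ↥C), orderOf i = 2 → i ∉ B.subgroupOf C →
      ∃ a ∈ B.subgroupOf C, a ≠ 1 ∧ (∀ v ∈ B.subgroupOf C, i * v * i⁻¹ * v⁻¹ ∈ zpowers a) ∧
        (∃ v ∈ B.subgroupOf C, i * v * i⁻¹ ≠ v) ∧ ∃ b ∈ B.subgroupOf C, b ≠ 1 ∧ b ≠ a ∧ i * b = b * i := by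
    intro i hi hio hiB
    have hii : i * i = 1 := by rw [← pow_two, ← hio, pow_orderOf_eq_one]
    refine exists_transvection hAC ?_ hii (fun v hv => (mem_normalizer_iff.1 hi v).1 hv) ?_
    · rw [Nat.card_congr (subgroupOfEquivOfLe hBC).toEquiv]; exact FiveFull.card_lift_KR
    by_contra hcon
    push Not at hcon
    obtain ⟨a, ha, j, hj⟩ := f.centralizing hS (mem_centralizer_singleton_iff.1 i.2) fun b hb =>
      congrArg Subtype.val (mul_inv_eq_iff_eq_mul.1 (hcon ⟨b, hBC hb⟩ hb))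
    refine hiB (show (i : G) ∈ B from ?_)
    have hi2 : (i : G) * i = 1 := congrArg Subtype.val hii
    have haj : a * x ^ j = x ^ j * a :=
      ((show Commute a x from mem_centralizer_singleton_iff.1 (hBC ha)).pow_right j).eq
    have hxj : x ^ (2 * j) = 1 := by
      rw [hj] at hi2
      calc x ^ (2 * j) = (a * a) * (x ^ j * x ^ j) := by rw [← pow_two a, hea.2 a ha, one_mul, ← pow_add, two_mul]
        _ = a * (a * x ^ j) * x ^ j := by group
        _ = a * (x ^ j * a) * x ^ j := by rw [haj]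
        _ = a * x ^ j * (a * x ^ j) := by group
        _ = 1 := hi2
    have h5 : 5 ∣ j := (Nat.Coprime.dvd_mul_left (by norm_num : Nat.Coprime 5 2)).1
      (f.base.ord_x ▸ orderOf_dvd_of_pow_eq_one hxj)
    obtain ⟨l, rfl⟩ := h5
    rw [hj, pow_mul, f.pow_five, one_pow, mul_one]
    exact ha
  obtain ⟨y, hyE, hyx, hyB, hyo⟩ := f.exists_invol hS
  have hyC : y ∈ C := mem_centralizer_singleton_iff.2 hyx
  have htop := eq_top_of_closed_elementary (G := ↥C) (B.subgroupOf C) hAC ⟨z, hzC⟩ (c.z_mem_lift _)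
    (fun h => c.z_ne (congrArg Subtype.val h)) hfus hCz hclosed hrank (y := ⟨y, hyC⟩)
    (norm_of _ fun a ha => f.conj_mem hS (c.E_le hyE) hyx ha) hyB (by rw [Subgroup.orderOf_mk]; exact hyo)
  have htn : (⟨t, mem_centralizer_singleton_iff.2 ht⟩ : ↥C) ∈ normalizer (B.subgroupOf C : Set ↥C) :=
    htop ▸ mem_top _
  refine mem_normalizer_iff.2 fun a => ⟨fun ha => ?_, fun ha => ?_⟩
  · exact (mem_normalizer_iff.1 htn ⟨a, hBC ha⟩).1 ha
  · have h := (mem_normalizer_iff''.1 htn ⟨_, hBC ha⟩).1 ha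
    have h' : t⁻¹ * (t * a * t⁻¹) * t ∈ B := h
    rwa [show t⁻¹ * (t * a * t⁻¹) * t = a by group] at h'

/-- The centralizer of `x` has order 6720. -/
theorem FiveFull.card_centralizer (f : c.FiveFull x n s) (hS : c.Split) :
    Nat.card ↥(centralizer ({x} : Set G)) = 6720 := by
  classical
  set C := centralizer ({x} : Set G) with hC
  set B := c.lift c.KR with hB
  set K := (c.H ⊓ C).subgroupOf C with hK
  have hstab : ∀ g h : ↥C, (g : G) * z * (g : G)⁻¹ = h * z * (h : G)⁻¹ ↔ g⁻¹ * h ∈ K := by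
    intro g h
    have e : g⁻¹ * h ∈ K ↔ (g : G)⁻¹ * h * z = z * ((g : G)⁻¹ * h) := by
      rw [hK, mem_subgroupOf, mem_inf]
      exact ⟨fun hh => mem_centralizer_singleton_iff.1 hh.1,
        fun hh => ⟨mem_centralizer_singleton_iff.2 hh, (g⁻¹ * h).2⟩⟩
    rw [e]
    constructor
    · intro he
      calc (g : G)⁻¹ * h * z = (g : G)⁻¹ * (h * z * (h : G)⁻¹) * h := by group
        _ = (g : G)⁻¹ * (g * z * (g : G)⁻¹) * h := by rw [he]
        _ = _ := by group
    · intro he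
      calc (g : G) * z * (g : G)⁻¹ = g * (z * ((g : G)⁻¹ * h)) * (h : G)⁻¹ := by group
        _ = g * ((g : G)⁻¹ * h * z) * (h : G)⁻¹ := by rw [he]
        _ = _ := by group
  have hmem : ∀ g : ↥C, (g : G) * z * (g : G)⁻¹ ∈ ((B : Set G) \ {1}) := fun g =>
    ⟨(mem_normalizer_iff.1 (f.cent_norm hS (mem_centralizer_singleton_iff.1 g.2)) z).1 (c.z_mem_lift _),
      fun h => c.z_ne (conj_eq_one_iff.1 h)⟩
  let q : ↥C ⧸ K → ↥((B : Set G) \ {1}) := Quotient.lift (fun g : ↥C => ⟨_, hmem g⟩) fun g h hr =>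
    Subtype.ext ((hstab g h).2 (QuotientGroup.leftRel_apply.1 hr))
  have hq : Function.Bijective q := by
    constructor
    · intro p p' he
      induction p using Quotient.inductionOn with
      | h g =>
        induction p' using Quotient.inductionOn with
        | h g' => exact Quotient.sound (QuotientGroup.leftRel_apply.2 ((hstab g g').1 (congrArg Subtype.val he)))
    · rintro ⟨a, ha, ha1⟩
      obtain ⟨g, hgx, hga, -⟩ := f.exists_fusion hS ha ha1
      refine ⟨QuotientGroup.mk (⟨g, mem_centralizer_singleton_iff.2 hgx⟩ : ↥C)⁻¹, Subtype.ext ?_⟩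
      show g⁻¹ * z * g⁻¹⁻¹ = a
      rw [← hga]; group
  have h7 : K.index = 7 := by
    rw [Subgroup.index, Nat.card_eq_of_bijective q hq, Nat.card_coe_set_eq,
      Set.ncard_sdiff (Set.singleton_subset_iff.2 (one_mem B)) (Set.toFinite _), Set.ncard_singleton,
      show (B : Set G).ncard = Nat.card ↥B from rfl, FiveFull.card_lift_KR]
  have hcK : Nat.card ↥K = 960 := by
    rw [hK, Nat.card_congr (subgroupOfEquivOfLe inf_le_right).toEquiv, f.card_CH]
  rw [← K.card_mul_index, hcK, h7]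

end CfsgLib.Spor.JFourType.Ctx
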