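import Cfsg.Agent.Lib.Spor.JFourType.CentT

/-!
# An elementary abelian subgroup of order `2 ^ 11` and the orbits of its normalizer
-/

set_option autoImplicit false
set_option linter.style.haveILetI false

namespace CfsgLib.Spor.JFourType.Ctx

open Subgroup

universe u

variable {G : Type u} [Group G] [Finite G] {A : Type} [Group A] {J I R : Subgroup A}
  {z : G} {P : Subgroup G} (c : Ctx J I R z P)
include c

/-- Every elementary abelian subgroup of order `2 ^ 11` of the group is a conjugate of `W`. -/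
theorem eleven_eq_map {V : Subgroup G} (hV : Cfsg.IsElementaryAbelian 2 V) (hcard : Nat.card ↥V = 2 ^ 11) :
    ∃ g : G, V = c.W.map (MulAut.conj g).toMonoidHom := by
  haveI : Fact (Nat.Prime 2) := ⟨Nat.prime_two⟩
  obtain ⟨T, hT⟩ := (IsPGroup.of_card hcard).exists_le_sylow
  obtain ⟨S, hS⟩ := c.W_isPGroup.exists_le_sylow
  obtain ⟨g, hg⟩ := MulAction.exists_smul_eq G S T
  have hconj : ∀ y ∈ c.W.map (MulAut.conj g).toMonoidHom, ∃ w ∈ c.W, y = g * w * g⁻¹ := by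
    rintro y ⟨w, hw, rfl⟩
    exact ⟨w, hw, rfl⟩
  have hWT : c.W.map (MulAut.conj g).toMonoidHom ≤ (T : Subgroup G) := by
    intro y hy
    obtain ⟨w, hw, rfl⟩ := hconj y hy
    rw [← hg, Sylow.coe_subgroup_smul, Subgroup.mem_pointwise_smul_iff_inv_smul_mem]
    simpa [MulAut.smul_def, mul_assoc] using hS hw
  have hE : Cfsg.IsElementaryAbelian 2 (c.W.map (MulAut.conj g).toMonoidHom) := by
    refine ⟨⟨⟨fun a b => Subtype.ext ?_⟩⟩, fun y hy => ?_⟩
    · obtain ⟨w, hw, ea⟩ := hconj a a.2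
      obtain ⟨v, hv, eb⟩ := hconj b b.2
      show (a : G) * b = b * a
      rw [ea, eb, conj_mul, conj_mul, c.W_comm hw hv]
    · obtain ⟨w, hw, rfl⟩ := hconj y hy
      rw [pow_two, conj_mul, c.W_sq hw, mul_one, mul_inv_cancel]
  obtain ⟨V0, -, huniq⟩ := c.sylow_eleven_unique T
  exact ⟨g, (huniq V ⟨hT, hV, hcard⟩).trans (huniq _ ⟨hWT, hE,
    (Nat.card_congr (equivMapOfInjective _ _ (MulAut.conj g).injective).toEquiv).symm.trans c.card_W⟩).symm⟩

theorem orbit_map {W : Subgroup G} (g x : G) :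
    {v : G | ∃ n ∈ normalizer ((W.map (MulAut.conj g).toMonoidHom : Subgroup G) : Set G),
        n * (g * x * g⁻¹) * n⁻¹ = v} =
      (fun v => g * v * g⁻¹) '' {v | ∃ n ∈ normalizer (W : Set G), n * x * n⁻¹ = v} := by
  rw [← map_equiv_normalizer_eq W (MulAut.conj g)]
  ext v
  constructor
  · rintro ⟨_, ⟨n, hn, rfl⟩, rfl⟩
    refine ⟨n * x * n⁻¹, ⟨n, hn, rfl⟩, ?_⟩
    show g * (n * x * n⁻¹) * g⁻¹ = g * n * g⁻¹ * (g * x * g⁻¹) * (g * n * g⁻¹)⁻¹
    group
  · rintro ⟨_, ⟨n, hn, rfl⟩, rfl⟩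
    refine ⟨g * n * g⁻¹, ⟨n, hn, rfl⟩, ?_⟩
    group

/-- The two orbits and the centralizer of an involution of the shorter one. -/
theorem eleven_orbits (hs : c.Split) {V : Subgroup G} (hV : Cfsg.IsElementaryAbelian 2 V)
    (hcard : Nat.card ↥V = 2 ^ 11) :
    ∃ z' t : G, z' ∈ V ∧ t ∈ V ∧ t ≠ 1 ∧ IsConj z z' ∧ ¬ IsConj z t ∧
    Set.ncard {v : G | ∃ n ∈ normalizer (V : Set G), n * z' * n⁻¹ = v} = 1771 ∧
    Set.ncard {v : G | ∃ n ∈ normalizer (V : Set G), n * t * n⁻¹ = v} = 276 ∧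
    centralizer ({t} : Set G) ≤ normalizer (V : Set G) := by
  obtain ⟨g, rfl⟩ := c.eleven_eq_map hV hcard
  obtain ⟨t, htT⟩ := Set.nonempty_of_ncard_ne_zero (s := c.Tset) (by rw [c.card_Tset hs]; norm_num)
  have hinj : Function.Injective fun v : G => g * v * g⁻¹ := fun a b h => mul_left_cancel (mul_right_cancel h)
  refine ⟨g * z * g⁻¹, g * t * g⁻¹, ⟨z, c.z_mem_W', rfl⟩, ⟨t, htT.1, rfl⟩,
    fun h => htT.2.1 (conj_eq_one_iff.1 h), isConj_iff.2 ⟨g, rfl⟩, fun h => htT.2.2 ((c.isConj_z_conj g t).1 h),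
    ?_, ?_, fun x hx => ?_⟩
  · rw [c.orbit_map, Set.ncard_image_of_injective _ hinj, c.orbit_z hs, hs.card_conj]
  · rw [c.orbit_map, Set.ncard_image_of_injective _ hinj, ← c.card_Tset hs]
    congr 1
    ext v
    exact ⟨fun ⟨n, hn, e⟩ => e ▸ c.conj_Tset hn htT, fun hv => c.trans_Tset hs htT hv⟩
  · rw [← map_equiv_normalizer_eq c.W (MulAut.conj g)]
    refine ⟨g⁻¹ * x * g, c.cent_Tset_le hs htT (mem_centralizer_singleton_iff.2 ?_), by simp [mul_assoc]⟩
    have h := mem_centralizer_singleton_iff.1 hx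
    calc g⁻¹ * x * g * t = g⁻¹ * (x * (g * t * g⁻¹)) * g := by group
      _ = g⁻¹ * (g * t * g⁻¹ * x) * g := by rw [h]
      _ = t * (g⁻¹ * x * g) := by group

end CfsgLib.Spor.JFourType.Ctx
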