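import Cfsg.Agent.Lib.Spor.JFourType.InvolInner

/-!
# Outer involutions; all involutions

Over an outer involution the displacements fill the fixed space, so every involution is conjugate by `H` to a given
one or to its product with `z`, and both lie in a conjugate of the core.  Hence every involution of `G` is conjugate
to `z` or to one outside the class of `z` in `W`.
-/

set_option autoImplicit false
set_option linter.style.haveILetI false

namespace CfsgLib.Spor.JFourType.Ctx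

open Subgroup

universe u

variable {G : Type u} [Group G] [Finite G] {A : Type} [Group A] {J I R : Subgroup A}
  {z : G} {P : Subgroup G} (c : Ctx J I R z P)
include c

/-- An outer involution lifts into a conjugate of the core with its product by `z`. -/
theorem exists_outer_in_core (hs : c.Split) (he : Extra J I R) {s : A} (hsJ : s ∉ J) (hs2 : s * s = 1) :
    ∃ x g : G, x ∈ c.H ∧ x * x = 1 ∧ c.im x = s ∧ x ∈ (c.conj g).E ∧ x * z ∈ (c.conj g).E := by
  haveI := c.finite_A
  haveI := c.J_normal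
  obtain ⟨v, ⟨hvU, hvc⟩, hvne⟩ := Set.exists_ne_of_one_lt_ncard (s := {x : G | x ∈ c.Ut ∧ IsConj z x})
    (by rw [hs.card_Ut_conj]; norm_num) z
  obtain ⟨g, rfl⟩ := isConj_iff.1 hvc
  have hu : g * z * g⁻¹ ∈ c.E := hvU.1
  obtain ⟨⟨hle, h2⟩, hab, h32⟩ := c.pair_image hu hvne
  obtain ⟨⟨j, hj, hjR⟩, -, -⟩ := c.pair_R hu hvne
  set K := c.imS ((c.conj g).E ⊓ c.H) with hK
  obtain ⟨hK32, -, -⟩ := c.facts.big_abelian K (c.imS_isPGroup h2) hab h32
  set K' := K.map (MulAut.conj j⁻¹).toMonoidHom with hK'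
  have hmem : ∀ x, x ∈ K' ↔ j * x * j⁻¹ ∈ K := fun x => by
    rw [hK', mem_map_equiv, MulAut.conj_symm_apply, inv_inv]
  have hK'R : K' ⊓ J = R := by
    ext x
    have e := hjR (j * x * j⁻¹)
    rw [show j⁻¹ * (j * x * j⁻¹) * j = x by group, mem_inf] at e
    rw [mem_inf, hmem, ← e]
    refine and_congr_right fun _ => ⟨fun h => Normal.conj_mem inferInstance x h j, fun h => ?_⟩
    have := Normal.conj_mem inferInstance _ h j⁻¹
    rwa [inv_inv, show j⁻¹ * (j * x * j⁻¹) * j = x by group] at this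
  obtain ⟨k, hk⟩ := he.invol_outer K' ((c.imS_isPGroup h2).map _) (by
      rintro x hx y hy
      have := hab _ ((hmem x).1 hx) _ ((hmem y).1 hy)
      simp only [conj_mul, mul_left_inj, mul_right_inj] at this
      exact this) (by rw [hK', card_map_of_injective (MulEquiv.injective _), hK32]) hK'R s hsJ hs2
  rw [hmem, show j * (k * s * k⁻¹) * j⁻¹ = (j * k) * s * (j * k)⁻¹ by group] at hk
  obtain ⟨y, hy, hy2, hyi⟩ := c.exists_pair_invol hu hvne hk fun e => hsJ (conj_eq_one_iff.1 e ▸ one_mem J)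
  obtain ⟨h, hh, hhi⟩ := c.exists_H_im (j * k)
  refine ⟨h⁻¹ * y * h, h⁻¹ * g, mul_mem (mul_mem (inv_mem hh) hy.2) hh, ?_, ?_, ?_, ?_⟩
  · rw [show h⁻¹ * y * h * (h⁻¹ * y * h) = h⁻¹ * (y * y) * h by group, hy2, mul_one, inv_mul_cancel]
  · rw [c.im_mul (mul_mem (inv_mem hh) hy.2) hh, c.im_mul (inv_mem hh) hy.2, c.im_inv hh, hhi, hyi]
    group
  · rw [c.E_conj_iff, show (h⁻¹ * g)⁻¹ * (h⁻¹ * y * h) * (h⁻¹ * g) = g⁻¹ * y * g by group]
    exact (c.E_conj_iff g).1 hy.1
  · rw [c.E_conj_iff, show (h⁻¹ * g)⁻¹ * (h⁻¹ * y * h * z) * (h⁻¹ * g) = g⁻¹ * y * (h * z * h⁻¹) * g by group,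
      c.mem_H_iff_fix.1 hh, show g⁻¹ * y * z * g = g⁻¹ * (y * z) * g by group]
    exact (c.E_conj_iff g).1 (mul_mem hy.1 (c.z_mem_conj_E hu hvne))

/-- Outer involutions are tame. -/
theorem tame_outer (hs : c.Split) (he : Extra J I R) {t : G} (ht : t ∈ c.H) (ht2 : t * t = 1)
    (hJ : c.im t ∉ J) : c.Tame t := by
  classical
  have hs2 : c.im t * c.im t = 1 := by rw [← c.im_mul ht ht, ht2, c.im_one]
  obtain ⟨x, g, hx, hx2, hxi, hxE, hxzE⟩ := c.exists_outer_in_core hs he hJ hs2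
  have hxM : x ∉ c.M := fun h => hJ (hxi ▸ (c.mem_M_iff_im hx).1 h)
  -- move by `P` to the same action
  obtain ⟨r, hr, hact⟩ : ∃ r ∈ c.H, c.act (r * t * r⁻¹) = c.act x := by
    have hk : t * x ∈ c.H := mul_mem ht hx
    have hk1 : c.pr ⟨t * x, hk⟩ = 1 := by rw [← c.im_eq hk, c.im_mul ht hx, hxi, hs2]
    obtain ⟨e, hee, q, hq, hkq⟩ := c.ker_decomp hk hk1
    have hqH : q ∈ c.H := (c.P_le_C0 hq).1
    have htq : ∀ v, c.act t v = c.act q (c.act x v) := fun v => by
      rw [show t = e * q * x by rw [← hkq, mul_assoc, hx2, mul_one], c.act_apply_mul (mul_mem (c.E_le hee) hqH) hx,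
        c.act_apply_mul (c.E_le hee) hqH, (c.act_eq_one (c.E_le hee)).2 hee]
      rfl
    have hom : ∀ v, c.act x (c.om (c.om v)) = c.om (c.act x v) := fun v => by
      rw [c.om_outer hx hxM, c.om_outer hx hxM, c.om_cube]
    rcases c.mem_P hq with rfl | rfl | rfl
    · refine ⟨1, one_mem _, DFunLike.ext _ _ fun v => ?_⟩
      rw [one_mul, inv_one, mul_one, htq, c.act_one]
      rfl
    · refine ⟨c.pg, c.pg_H, DFunLike.ext _ _ fun v => ?_⟩
      rw [c.act_apply_mul (mul_mem c.pg_H ht) (inv_mem c.pg_H), c.act_apply_mul c.pg_H ht, htq, c.act_pg_inv, hom]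
      exact c.om_cube _
    · refine ⟨c.pg⁻¹, inv_mem c.pg_H, DFunLike.ext _ _ fun v => ?_⟩
      rw [inv_inv, c.act_apply_mul (mul_mem (inv_mem c.pg_H) ht) c.pg_H, c.act_apply_mul (inv_mem c.pg_H) ht, htq,
        c.act_pg_inv, c.act_pg_inv]
      show c.om (c.om (c.om (c.om (c.act x (c.om v))))) = _
      rw [c.om_cube, c.om_outer hx hxM, c.om_cube]
  refine c.tame_conj (g := r) ?_
  set t' := r * t * r⁻¹
  have ht' : t' ∈ c.H := mul_mem (mul_mem hr ht) (inv_mem hr)
  have ht'2 : t' * t' = 1 := by rw [conj_mul, ht2, mul_one, mul_inv_cancel]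
  have hxx : ∀ v, c.act x (c.act x v) = v := fun v => by rw [← c.act_apply_mul hx hx, hx2, c.act_one]; rfl
  have heE : t' * x ∈ c.E := (c.act_eq_one (mul_mem ht' hx)).1 (DFunLike.ext _ _ fun v => by
    rw [c.act_apply_mul ht' hx, hact, hxx]
    rfl)
  set e := t' * x with hedef
  have hex : t' = e * x := by rw [hedef, mul_assoc, hx2, mul_one]
  have hq : c.act x (c.pv e) = c.pv e := by
    have h : x * e * x⁻¹ = e⁻¹ := by
      refine eq_inv_of_mul_eq_one_right ?_
      rw [inv_eq_of_mul_eq_one_left hx2, show e * (x * e * x) = (e * x) * (e * x) by group, ← hex, ht'2]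
    rw [← c.pv_conj hx heE, h, c.pv_inv heE]
  -- displacements fill the fixed space
  let D : c.Vs →+ c.Vs := AddMonoidHom.mk' (fun v => c.act x v + v) fun a b => by
    rw [map_add, add_add_add_comm]
  have hDv : ∀ v, D v = c.act x v + v := fun v => rfl
  have hker : D.ker = c.fix {x} := by
    ext v
    rw [AddMonoidHom.mem_ker, hDv, c.mem_fix_singleton]
    exact ⟨c.add_eq_zero_V, fun h => by rw [h, c.two_V]⟩
  have hrange : D.range = c.fix {x} := by
    have hle : D.range ≤ c.fix {x} := by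
      rintro _ ⟨v, rfl⟩
      rw [c.mem_fix_singleton, hDv, map_add, hxx, add_comm]
    refine AddSubgroup.eq_of_le_of_card_ge hle ?_
    have h64 := c.card_fix_outer hx hxM
    have hcard := D.ker.card_mul_index
    rw [AddSubgroup.index_ker, hker, c.card_V] at hcard
    by_contra hlt
    push Not at hlt
    have := Nat.mul_le_mul h64 (Nat.le_of_lt_succ (Nat.succ_lt_succ hlt))
    have h2 : Nat.card ↥(c.fix {x}) * Nat.card ↥D.range < Nat.card ↥(c.fix {x}) * Nat.card ↥(c.fix {x}) :=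
      Nat.mul_lt_mul_of_pos_left hlt Nat.card_pos
    have h3 := Nat.mul_le_mul h64 h64
    omega
  obtain ⟨p, hp⟩ : c.pv e ∈ D.range := hrange.symm ▸ c.mem_fix_singleton.2 hq
  obtain ⟨f, hf, rfl⟩ := c.pv_surj p
  have hcon : x * f⁻¹ * x⁻¹ ∈ c.E := c.conj_E hx (inv_mem hf)
  set w := f * (x * f⁻¹ * x⁻¹)
  have hw : w ∈ c.E := mul_mem hf hcon
  have hwv : c.pv w = c.pv e := by
    rw [c.pv_mul hf hcon, c.pv_conj hx (inv_mem hf), c.pv_inv hf, ← hp, hDv, add_comm]
  rw [hex]
  rcases (c.pv_eq_iff heE hw).1 hwv.symm with h | h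
  · refine c.tame_conj (g := f⁻¹) ?_
    rw [h, inv_inv, show f⁻¹ * (w * x) * f = x by simp only [w]; group]
    exact c.tame_conj_E hs he hxE hx2
  · refine c.tame_conj (g := f⁻¹) ?_
    rw [h, inv_inv, show f⁻¹ * (z * w * x) * f = f⁻¹ * z * f * x by simp only [w]; group,
      show f⁻¹ * z * f = z by rw [mul_assoc, ← c.comm_z (c.E_le hf), inv_mul_cancel_left], ← c.comm_z hx]
    refine c.tame_conj_E hs he hxzE ?_
    calc x * z * (x * z) = x * (z * x) * z := by group
      _ = x * (x * z) * z := by rw [c.comm_z hx]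
      _ = (x * x) * (z * z) := by group
      _ = 1 := by rw [hx2, c.zz, one_mul]

/-- Every involution outside the class of `z` is conjugate into `Tset`. -/
theorem exists_conj_Tset (hs : c.Split) (he : Extra J I R) {t : G} (ht : orderOf t = 2) (hnc : ¬ IsConj z t) :
    ∃ g : G, g * t * g⁻¹ ∈ c.Tset := by
  have ht2 : t * t = 1 := by rw [← pow_two, ← ht, pow_orderOf_eq_one]
  have ht1 : t ≠ 1 := fun e => by simp [e] at ht
  obtain ⟨g, hg⟩ := c.exists_conj_H ht2
  set t' := g * t * g⁻¹ with ht'def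
  have ht'2 : t' * t' = 1 := by rw [conj_mul, ht2, mul_one, mul_inv_cancel]
  have htame : c.Tame t' := by
    by_cases hJ : c.im t' ∈ J
    · by_cases h1 : c.im t' = 1
      · exact c.tame_E hs he (c.mem_E_of_im hg h1 (a := 1) (by rw [pow_one, pow_two, ht'2])) ht'2
      · exact c.tame_inner hs he hg ht'2 hJ h1
    · exact c.tame_outer hs he hg ht'2 hJ
  rcases c.tame_conj htame with h | ⟨k, hk⟩
  · exact absurd h hnc
  · exact ⟨k, hk, fun e => ht1 (conj_eq_one_iff.1 e), fun h => hnc ((c.isConj_z_conj k t).1 h)⟩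

end CfsgLib.Spor.JFourType.Ctx
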