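import Cfsg.Agent.Lib.Spor.JFourType.SplitLift
import Cfsg.Agent.Lib.Coprime.Gaschutz

/-!
# The normalizer of `W` splits over it

A complement to `W` in a Sylow 2-subgroup of the normalizer: the lift of the image of `U` at a second hexad times
a lift of a group of order 16 fixing both hexads. Gaschütz's theorem gives a complement in the normalizer.
-/

set_option autoImplicit false
set_option linter.style.haveILetI false

namespace CfsgLib.Spor.JFourType

open Subgroup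

universe u

section Words

variable {B : Type u} [Group B]

/-- A dihedral group of order eight times a group of order two, by words. -/
theorem mem_closure_sixteen {a b s x : B} (ha : a * a = 1) (hb : b * b = 1) (hs : s * s = 1)
    (hr : (a * b) ^ 4 = 1) (hsa : s * a = a * s) (hsb : s * b = b * s) (hx : x ∈ closure ({a, b, s} : Set B)) :
    ∃ (i : Fin 4) (j k : Fin 2), x = (a * b) ^ (i : ℕ) * a ^ (j : ℕ) * s ^ (k : ℕ) := by
  set r := a * b with hrdef
  have hmod : ∀ i : ℕ, r ^ i = r ^ (i % 4) := fun i => pow_eq_pow_mod i hr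
  have h2 : ∀ (y : B), y * y = 1 → ∀ i : ℕ, y ^ i = y ^ (i % 2) := fun y hy i =>
    pow_eq_pow_mod i (by rw [pow_two, hy])
  have norm : ∀ i j k : ℕ, ∃ (i' : Fin 4) (j' k' : Fin 2),
      r ^ i * a ^ j * s ^ k = r ^ (i' : ℕ) * a ^ (j' : ℕ) * s ^ (k' : ℕ) := fun i j k =>
    ⟨⟨i % 4, Nat.mod_lt _ (by norm_num)⟩, ⟨j % 2, Nat.mod_lt _ (by norm_num)⟩, ⟨k % 2, Nat.mod_lt _ (by norm_num)⟩,
      by rw [← hmod, ← h2 a ha, ← h2 s hs]⟩
  have hb' : b = r ^ 3 * a := by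
    have h3 : r ^ 3 = r⁻¹ := eq_inv_of_mul_eq_one_left (by rw [← pow_succ]; exact hr)
    rw [h3, hrdef, mul_inv_rev, inv_mul_cancel_right, inv_eq_of_mul_eq_one_right hb]
  have step : ∀ y ∈ ({a, b, s} : Set B), ∀ i j k : ℕ, ∃ i' j' k' : ℕ,
      r ^ i * a ^ j * s ^ k * y = r ^ i' * a ^ j' * s ^ k' := by
    intro y hy i j k
    rcases hy with rfl | rfl | rfl
    · refine ⟨i, j + 1, k, ?_⟩
      rw [mul_assoc, ((show Commute s y from hsa).pow_left k).eq, ← mul_assoc, mul_assoc (r ^ i), ← pow_succ]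
    · rw [mul_assoc, ((show Commute s y from hsb).pow_left k).eq, ← mul_assoc, h2 a ha j]
      rcases Nat.mod_two_eq_zero_or_one j with hj | hj <;> rw [hj]
      · refine ⟨i + 3, 1, k, ?_⟩
        rw [pow_zero, mul_one, pow_one, pow_add, mul_assoc (r ^ i) (r ^ 3), ← hb']
      · refine ⟨i + 1, 0, k, ?_⟩
        rw [pow_one, pow_zero, mul_one, pow_succ, hrdef, mul_assoc (_ ^ i) a]
    · exact ⟨i, j, k + 1, by rw [mul_assoc, ← pow_succ]⟩
  have hinv : ∀ y ∈ ({a, b, s} : Set B), y⁻¹ = y := by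
    rintro y (rfl | rfl | rfl)
    exacts [inv_eq_of_mul_eq_one_right ha, inv_eq_of_mul_eq_one_right hb, inv_eq_of_mul_eq_one_right hs]
  obtain ⟨i, j, k, rfl⟩ : ∃ i j k : ℕ, x = r ^ i * a ^ j * s ^ k := by
    refine closure_induction_right (p := fun x _ => ∃ i j k : ℕ, x = r ^ i * a ^ j * s ^ k) ?_ ?_ ?_ hx
    · exact ⟨0, 0, 0, by simp⟩
    · rintro w - y hy ⟨i, j, k, rfl⟩
      exact step y hy i j k
    · rintro w - y hy ⟨i, j, k, rfl⟩
      rw [hinv y hy]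
      exact step y hy i j k
  exact norm i j k

/-- The sixteen words are distinct when the outer generator lies outside a subgroup containing the others. -/
theorem word_inj {a b s : B} {J : Subgroup B} (haJ : a ∈ J) (hbJ : b ∈ J) (hsJ : s ∉ J) (ha : a * a = 1) (hb : b * b = 1)
    (hr : orderOf (a * b) = 4) {i i' : Fin 4} {j j' k k' : Fin 2}
    (h : (a * b) ^ (i : ℕ) * a ^ (j : ℕ) * s ^ (k : ℕ) = (a * b) ^ (i' : ℕ) * a ^ (j' : ℕ) * s ^ (k' : ℕ)) :
    i = i' ∧ j = j' ∧ k = k' := by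
  set r := a * b with hrdef
  have hJ : ∀ i j : ℕ, r ^ i * a ^ j ∈ J := fun i j => mul_mem (pow_mem (mul_mem haJ hbJ) _) (pow_mem haJ _)
  have hk : k = k' := by
    have hone : ∀ p q : ℕ, ∀ u v : B, u ∈ J → v ∈ J → u * s ^ p = v * s ^ q → p = 1 → q = 0 → False := by
      rintro p q u v hu hv e rfl rfl
      rw [pow_one, pow_zero, mul_one] at e
      exact hsJ (by rw [show s = u⁻¹ * v by rw [← e, inv_mul_cancel_left]]; exact mul_mem (inv_mem hu) hv)
    obtain rfl | rfl : k = 0 ∨ k = 1 := (by omega) <;> obtain rfl | rfl : k' = 0 ∨ k' = 1 := (by omega)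
    · rfl
    · exact (hone _ _ _ _ (hJ _ _) (hJ _ _) h.symm rfl rfl).elim
    · exact (hone _ _ _ _ (hJ _ _) (hJ _ _) h rfl rfl).elim
    · rfl
  subst hk
  have h' := mul_right_cancel h
  have hna : ∀ n : ℕ, a ≠ r ^ n := by
    intro n e
    have hc : a * r = r * a := by rw [e, ← pow_succ, ← pow_succ']
    have hba : a * b * a = b := by
      rw [← hc, hrdef, ← mul_assoc, ha, one_mul]
    have hr2 : r ^ 2 = 1 := by
      rw [pow_two, hrdef, ← mul_assoc, hba, hb]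
    have := orderOf_dvd_of_pow_eq_one hr2
    rw [hr] at this
    norm_num at this
  have hj : j = j' := by
    obtain rfl | rfl : j = 0 ∨ j = 1 := (by omega) <;> obtain rfl | rfl : j' = 0 ∨ j' = 1 := (by omega)
    · rfl
    · exfalso
      simp only [Fin.val_zero, Fin.val_one, pow_zero, mul_one, pow_one] at h'
      exact hna ((4 - (i' : ℕ)) + i) (by
        rw [pow_add, h', ← mul_assoc, ← pow_add, Nat.sub_add_cancel i'.2.le, ← hr, pow_orderOf_eq_one, one_mul])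
    · exfalso
      simp only [Fin.val_zero, Fin.val_one, pow_zero, mul_one, pow_one] at h'
      exact hna ((4 - (i : ℕ)) + i') (by
        rw [pow_add, ← h', ← mul_assoc, ← pow_add, Nat.sub_add_cancel i.2.le, ← hr, pow_orderOf_eq_one, one_mul])
    · rfl
  subst hj
  have hi := mul_right_cancel h'
  rw [pow_inj_mod, hr, Nat.mod_eq_of_lt i.2, Nat.mod_eq_of_lt i'.2] at hi
  exact ⟨Fin.ext hi, rfl, rfl⟩

end Words

end CfsgLib.Spor.JFourType

namespace CfsgLib.Spor.JFourType.Ctx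

open Subgroup

universe u

variable {G : Type u} [Group G] [Finite G] {A : Type} [Group A] {J I R : Subgroup A}
  {z : G} {P : Subgroup G} (c : Ctx J I R z P)
include c

omit c in
theorem card_sup_product {K L : Subgroup G} (hL : L ≤ normalizer (K : Set G)) (hd : K ⊓ L = ⊥) :
    Nat.card ↥(K ⊔ L) = Nat.card ↥K * Nat.card ↥L := by
  rw [← Nat.card_prod]
  refine (Nat.card_congr (Equiv.ofBijective (fun w : ↥K × ↥L =>
    (⟨(w.1 : G) * w.2, mul_mem (mem_sup_left w.1.2) (mem_sup_right w.2.2)⟩ : ↥(K ⊔ L))) ⟨?_, ?_⟩)).symm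
  · rintro ⟨k, l⟩ ⟨k', l'⟩ h
    have h' : (k : G) * l = k' * l' := congrArg Subtype.val h
    have e : (k' : G)⁻¹ * k = l' * (l : G)⁻¹ := by
      rw [eq_mul_inv_iff_mul_eq, mul_assoc, h', inv_mul_cancel_left]
    have hm : (k' : G)⁻¹ * k ∈ K ⊓ L :=
      mem_inf.2 ⟨mul_mem (inv_mem k'.2) k.2, e ▸ mul_mem l'.2 (inv_mem l.2)⟩
    rw [hd, mem_bot] at hm
    have hk : k = k' := Subtype.ext (inv_mul_eq_one.1 hm).symm
    subst hk
    exact Prod.ext rfl (Subtype.ext (mul_left_cancel h'))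
  · rintro ⟨x, hx⟩
    rw [← SetLike.mem_coe, coe_mul_of_right_le_normalizer_left K L hL] at hx
    obtain ⟨k, hk, l, hl, rfl⟩ := hx
    exact ⟨⟨⟨k, hk⟩, l, hl⟩, rfl⟩

theorem card_Tc : Nat.card ↥c.Tc = 2 ^ 6 := by
  have hle : zpowers z ≤ normalizer (c.Tc : Set G) := by
    rw [zpowers_le]
    refine mem_normalizer_fintype fun t ht => ?_
    show z * t * z⁻¹ ∈ c.Tc
    rw [← c.comm_z (c.E_le (c.Tc_le ht).1), mul_inv_cancel_right]
    exact ht
  have hd : c.Tc ⊓ zpowers z = ⊥ := by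
    rw [eq_bot_iff]
    intro x hx
    obtain ⟨hT, n, rfl⟩ := mem_inf.1 hx
    rw [mem_bot]
    obtain ⟨m, rfl⟩ | ⟨m, rfl⟩ := Int.even_or_odd n
    · show z ^ (m + m) = 1
      rw [← two_mul, zpow_mul, zpow_two, c.zz, one_zpow]
    · exfalso
      have : z ^ (2 * m + 1) = z := by rw [zpow_add, zpow_mul, zpow_two, c.zz, one_zpow, one_mul, zpow_one]
      change z ^ (2 * m + 1) ∈ c.Tc at hT
      rw [this] at hT
      exact c.z_notMem_Tc hT
  have hsup : c.Tc ⊔ zpowers z = c.Ut := by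
    refine le_antisymm (sup_le c.Tc_le (zpowers_le.2 c.z_mem_Ut)) fun u hu => ?_
    rcases c.Ut_split hu with h | h
    · exact mem_sup_left h
    · rw [show u = u * z * z by rw [mul_assoc, c.zz, mul_one]]
      exact mul_mem (mem_sup_left h) (mem_sup_right (mem_zpowers z))
  have h := card_sup_product hle hd
  rw [hsup, c.card_Ut, Nat.card_zpowers, c.ord] at h
  omega

/-- An element normalizing `P` over the normalizer of `I` keeps the commutators. -/
theorem Tc_conj_NH {x : G} (hx : x ∈ c.NH) (hn : c.im x ∈ normalizer (I : Set A)) {t : G} (ht : t ∈ c.Tc) :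
    x * t * x⁻¹ ∈ c.Tc := by
  rcases c.inv_or_comm hx with h | h
  · exact c.Tc_conj h hn ht
  obtain ⟨u, hu, rfl⟩ := ht
  have hxH : x ∈ c.H := hx.1
  have hu' : x * u * x⁻¹ ∈ c.Ut :=
    c.W_inf_E (c.conj_W_of_im hxH hn (c.Ut_sub_W hu)) (c.conj_E hxH hu.1)
  set w := c.pg⁻¹ * (x * u * x⁻¹) * c.pg with hw
  have hwU : w ∈ c.Ut := by
    have := c.Ut_conj (inv_mem c.pg_C0) (by rw [c.im_inv c.pg_H, c.im_eq c.pg_H, c.pr_P c.pg_mem, inv_one]; exact one_mem _) hu'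
    rwa [inv_inv] at this
  have e : x * (c.pg * u * c.pg⁻¹ * u⁻¹) * x⁻¹ = (c.pg * w * c.pg⁻¹ * w⁻¹)⁻¹ := by
    calc x * (c.pg * u * c.pg⁻¹ * u⁻¹) * x⁻¹
        = (x * c.pg * x⁻¹) * (x * u * x⁻¹) * (x * c.pg * x⁻¹)⁻¹ * (x * u * x⁻¹)⁻¹ := by group
      _ = c.pg⁻¹ * (x * u * x⁻¹) * c.pg * (x * u * x⁻¹)⁻¹ := by rw [h, inv_inv]
      _ = _ := by rw [hw]; group
  rw [e]
  exact inv_mem ⟨w, hwU, rfl⟩

/-- The image of `U` at a second hexad meets `U` trivially. -/
theorem Uh_disjoint {g a b s : A} {Y : Subgroup A} (hp : HexadPair J I g a b s Y) {h : G} (hh : h ∈ c.C0)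
    (hhg : c.im h = g) : c.U ⊓ c.Uh h = ⊥ := by
  haveI := c.finite_A
  obtain ⟨Q, hQC, hQ27, hPQ, hQY, -, hQc⟩ := c.exists_three Y hp.Y_le hp.card_Y
  have hQ : c.Three Q := ⟨hQC, hQ27, hPQ, hQc⟩
  have hinv : ∀ x ∈ Q, ∀ v ∈ c.U ⊓ c.Uh h, c.act x v ∈ c.U ⊓ c.Uh h := by
    intro x hx v hv
    have hxC := hQC hx
    have hxY : c.im x ∈ Y := by rw [c.im_eq hxC.1]; exact hQY x hxC hx
    obtain ⟨hn, hn'⟩ := hp.fix_Y _ hxY
    refine AddSubgroup.mem_inf.2 ⟨c.U_conj hxC hn hv.1, (c.mem_Uh hh.1).2 ?_⟩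
    have hC : h⁻¹ * x * h ∈ c.C0 := mul_mem (mul_mem (inv_mem hh) hxC) hh
    have him : c.im (h⁻¹ * x * h) ∈ normalizer (I : Set A) := by
      rwa [c.im_mul (mul_mem (inv_mem hh.1) hxC.1) hh.1, c.im_mul (inv_mem hh.1) hxC.1, c.im_inv hh.1, hhg]
    have h1 := c.U_conj hC him ((c.mem_Uh hh.1).1 hv.2)
    rwa [c.act_apply_mul (mul_mem (inv_mem hh.1) hxC.1) hh.1, c.act_apply_inv hh.1,
      c.act_apply_mul (inv_mem hh.1) hxC.1] at h1
  have hle : Nat.card ↥(c.U ⊓ c.Uh h) ≤ 2 ^ 6 := c.card_U ▸ AddSubgroup.card_le_of_le inf_le_left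
  rcases c.card_invariant_cases hQ _ hinv with h' | h' | h'
  · exact AddSubgroup.card_eq_one.1 h'
  · exfalso
    have e1 : c.U ⊓ c.Uh h = c.U :=
      AddSubgroup.eq_of_le_of_card_ge inf_le_left (by rw [h', c.card_U])
    have e2 : c.Uh h = c.U := (AddSubgroup.eq_of_le_of_card_ge (inf_eq_left.1 e1)
      (by rw [c.card_U, c.card_Uh hh.1])).symm
    have hgn := c.im_normalizer_of_Uh hh.1 e2
    rw [hhg] at hgn
    have hall : ∀ i ∈ I, i = 1 := fun i hi => hp.free i hi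
      (le_normalizer ((mem_normalizer_iff''.1 hgn i).1 hi))
    have : I = ⊥ := (eq_bot_iff_forall _).2 hall
    have h16 := c.facts.card_I
    rw [this, card_bot] at h16
    norm_num at h16
  · omega

/-- A subgroup of order `2 ^ 10` of the normalizer meeting `W` trivially. -/
theorem exists_two_complement (hs : c.Split) (he : Extra J I R) :
    ∃ S : Subgroup G, S ≤ normalizer (c.W : Set G) ∧ S ⊓ c.W = ⊥ ∧ Nat.card ↥S = 2 ^ 10 := by
  obtain ⟨g, a, b, s, Y, hp⟩ := he.hexad_pair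
  obtain ⟨h, hh, hhg⟩ := c.exists_C0_im hp.g_mem
  have hne : ∀ x : A, x = 1 → orderOf x = 4 → False := fun x e h => by rw [e, orderOf_one] at h; norm_num at h
  have ha1 : a ≠ 1 := fun e => by
    have := hp.ord_ab
    rw [e, one_mul] at this
    have h2 := orderOf_dvd_of_pow_eq_one (show b ^ 2 = 1 by rw [pow_two, hp.b_sq])
    rw [this] at h2
    norm_num at h2
  have hb1 : b ≠ 1 := fun e => by
    have := hp.ord_ab
    rw [e, mul_one] at this
    have h2 := orderOf_dvd_of_pow_eq_one (show a ^ 2 = 1 by rw [pow_two, hp.a_sq])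
    rw [this] at h2
    norm_num at h2
  obtain ⟨x, hx, hx2, hxi, hxc, hxu⟩ := c.exists_inner_lift hs hp.a_mem hp.a_sq ha1
  obtain ⟨y, hy, hy2, hyi, hyc, hyu⟩ := c.exists_inner_lift hs hp.b_mem hp.b_sq hb1
  obtain ⟨w, hw, hw2, hwi, hwp⟩ := c.exists_outer_lift hs he hp.s_notMem hp.s_sq
  have hwH : w ∈ c.H := hw.1
  have hxH := hx.1
  have hyH := hy.1
  have hxyC : x * y ∈ c.C0 := mul_mem hx hy
  have hxyi : c.im (x * y) = a * b := by rw [c.im_mul hxH hyH, hxi, hyi]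
  have hk4 : (a * b) ^ 4 = 1 := by rw [← hp.ord_ab]; exact pow_orderOf_eq_one _
  -- the product of the lifts keeps its order
  have hr : (x * y) ^ 4 = 1 := by
    have hxr : x * (x * y) * x = (x * y)⁻¹ := by
      rw [mul_inv_rev, inv_eq_of_mul_eq_one_right hx2, inv_eq_of_mul_eq_one_right hy2, ← mul_assoc, hx2, one_mul]
    have hxrn : ∀ n : ℕ, x * (x * y) ^ n * x = ((x * y) ^ n)⁻¹ := fun n => by
      induction n with
      | zero => simp [hx2]
      | succ n ih =>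
        calc x * (x * y) ^ (n + 1) * x = (x * (x * y) ^ n * x) * (x⁻¹ * (x * y) * x) := by rw [pow_succ]; group
          _ = ((x * y) ^ n)⁻¹ * (x * y)⁻¹ := by rw [ih, inv_eq_of_mul_eq_one_right hx2, hxr]
          _ = _ := by rw [← mul_inv_rev, ← pow_succ']
    set v := (x * y) ^ 4 with hv
    have hvC : v ∈ c.C0 := pow_mem hxyC 4
    obtain ⟨q, hq, hvq⟩ := c.ker_C0 hvC (by rw [← c.im_eq, hv, c.im_pow (mul_mem hxH hyH), hxyi, hk4])
    have hvv : v * v = 1 := by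
      have hxv : x * v = v * x := by
        rcases hvq with e | e <;> rw [e]
        · exact (c.comm_P hx hq).symm
        · rw [← mul_assoc, c.comm_z hxH, mul_assoc, ← c.comm_P hx hq, mul_assoc]
      have := hxrn 4
      rw [← hv, hxv, mul_assoc, hx2, mul_one] at this
      exact eq_inv_iff_mul_eq_one.1 this
    have h8 : ((x * y) ^ 2) ^ 2 ^ 2 = 1 := by
      rw [← pow_mul, show 2 * 2 ^ 2 = 4 * 2 from rfl, pow_mul, ← hv, pow_two, hvv]
    have hu1 : (a * b) ^ 2 ≠ 1 := fun e => by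
      have := orderOf_dvd_of_pow_eq_one e
      rw [hp.ord_ab] at this
      norm_num at this
    obtain ⟨u, hu, hu2, hui, -, huu⟩ := c.exists_inner_lift hs (pow_mem (mul_mem hp.a_mem hp.b_mem) 2)
      (by rw [← pow_add]; exact hk4) hu1
    have h4 : (x * y) ^ 4 = (x * y) ^ 2 * (x * y) ^ 2 := by rw [← pow_add]
    rw [hv, h4]
    rcases huu _ (pow_mem hxyC 2) (by rw [c.im_pow (mul_mem hxH hyH), hxyi]) ⟨2, h8⟩ with e | e <;> rw [e]
    · exact hu2
    · rw [show u * z * (u * z) = u * (z * u) * z by group, ← c.comm_z hu.1, ← mul_assoc, hu2, one_mul, c.zz]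
  -- the outer lift commutes with the inner ones
  have hcomm : ∀ l ∈ c.C0, l * l = 1 → (IsConj z l ↔ ¬ IsConj z (l * z)) → s * c.im l = c.im l * s →
      (∀ v ∈ c.C0, c.im v = c.im l → (∃ k : ℕ, v ^ 2 ^ k = 1) → v = l ∨ v = l * z) → w * l = l * w := by
    intro l hl hl2 hlc hsl hlu
    set v := w * l * w⁻¹ with hv
    have hvH : v ∈ c.H := mul_mem (mul_mem hwH hl.1) (inv_mem hwH)
    have hvC : v ∈ c.C0 := by
      refine c.mem_C0_iff.2 ⟨hvH, ?_⟩
      have hwi' : w⁻¹ * c.pg * w = c.pg⁻¹ := by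
        calc w⁻¹ * c.pg * w = w⁻¹ * (c.pg⁻¹)⁻¹ * w := by rw [inv_inv]
          _ = w⁻¹ * (w * c.pg * w⁻¹)⁻¹ * w := by rw [hwp]
          _ = c.pg⁻¹ := by group
      calc v * c.pg * v⁻¹ = w * (l * (w⁻¹ * c.pg * w) * l⁻¹) * w⁻¹ := by rw [hv]; group
        _ = w * (l * c.pg * l⁻¹)⁻¹ * w⁻¹ := by rw [hwi']; group
        _ = (w * c.pg * w⁻¹)⁻¹ := by rw [(c.mem_C0_iff.1 hl).2]; group
        _ = c.pg := by rw [hwp, inv_inv]
    have hvi : c.im v = c.im l := by rw [hv, c.im_conj hwH hl.1, hwi, hsl, mul_inv_cancel_right]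
    have hvl : v = l := by
      rcases hlu v hvC hvi ⟨1, by rw [pow_one, pow_two, hv, conj_mul, hl2, mul_one, mul_inv_cancel]⟩ with e | e
      · exact e
      · exfalso
        have h1 : IsConj z v ↔ IsConj z l := c.isConj_z_conj w l
        rw [e] at h1
        by_cases hc' : IsConj z l
        · exact hlc.1 hc' (h1.2 hc')
        · exact hc' (hlc.2 fun h => hc' (h1.1 h))
    exact mul_inv_eq_iff_eq_mul.1 (hv.symm.trans hvl)
  have hwx : w * x = x * w := hcomm x hx hx2 hxc (hxi.symm ▸ hp.comm_sa) (fun v hv hvi => hxu v hv (hvi.trans hxi))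
  have hwy : w * y = y * w := hcomm y hy hy2 hyc (hyi.symm ▸ hp.comm_sb) (fun v hv hvi => hyu v hv (hvi.trans hyi))
  set T := closure ({x, y, w} : Set G) with hT
  have hTN : ∀ t ∈ T, t ∈ c.NH ∧ c.im t ∈ normalizer (I : Set A) ∧ g⁻¹ * c.im t * g ∈ normalizer (I : Set A) := by
    intro t ht
    refine closure_induction (p := fun t _ => t ∈ c.NH ∧ c.im t ∈ normalizer (I : Set A) ∧
      g⁻¹ * c.im t * g ∈ normalizer (I : Set A)) ?_ ?_ ?_ ?_ ht
    · rintro t (rfl | rfl | rfl)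
      · exact ⟨c.C0_le_NH hx, hxi.symm ▸ hp.fix_a⟩
      · exact ⟨c.C0_le_NH hy, hyi.symm ▸ hp.fix_b⟩
      · exact ⟨hw, hwi.symm ▸ hp.fix_s⟩
    · simp [c.im_one]
    · rintro t t' - - ⟨h1, h2, h3⟩ ⟨h1', h2', h3'⟩
      rw [c.im_mul h1.1 h1'.1]
      refine ⟨mul_mem h1 h1', mul_mem h2 h2', ?_⟩
      rw [show g⁻¹ * (c.im t * c.im t') * g = g⁻¹ * c.im t * g * (g⁻¹ * c.im t' * g) by group]
      exact mul_mem h3 h3'
    · rintro t - ⟨h1, h2, h3⟩
      rw [c.im_inv h1.1]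
      refine ⟨inv_mem h1, inv_mem h2, ?_⟩
      rw [show g⁻¹ * (c.im t)⁻¹ * g = (g⁻¹ * c.im t * g)⁻¹ by group]
      exact inv_mem h3
  -- the sixteen words
  let word : Fin 4 × Fin 2 × Fin 2 → G := fun p => (x * y) ^ (p.1 : ℕ) * x ^ (p.2.1 : ℕ) * w ^ (p.2.2 : ℕ)
  have hwordi : ∀ p, c.im (word p) = (a * b) ^ (p.1 : ℕ) * a ^ (p.2.1 : ℕ) * s ^ (p.2.2 : ℕ) := fun p => by
    simp only [word]
    rw [c.im_mul (mul_mem (pow_mem (mul_mem hxH hyH) _) (pow_mem hxH _)) (pow_mem hwH _),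
      c.im_mul (pow_mem (mul_mem hxH hyH) _) (pow_mem hxH _), c.im_pow (mul_mem hxH hyH), c.im_pow hxH,
      c.im_pow hwH, hxyi, hxi, hwi]
  have hsep : ∀ p q, c.im (word p) = c.im (word q) → p = q := by
    rintro ⟨i, j, k⟩ ⟨i', j', k'⟩ e
    rw [hwordi, hwordi] at e
    obtain ⟨rfl, rfl, rfl⟩ := word_inj hp.a_mem hp.b_mem hp.s_notMem hp.a_sq hp.b_sq hp.ord_ab e
    rfl
  have hwordT : ∀ p, word p ∈ T := fun p => mul_mem (mul_mem
    (pow_mem (mul_mem (subset_closure (by simp)) (subset_closure (by simp))) _)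
    (pow_mem (subset_closure (by simp)) _)) (pow_mem (subset_closure (by simp)) _)
  have hforms : ∀ t ∈ T, ∃ p, t = word p := fun t ht => by
    obtain ⟨i, j, k, e⟩ := mem_closure_sixteen hx2 hy2 hw2 hr hwx hwy ht
    exact ⟨(i, j, k), e⟩
  have hTker : ∀ t ∈ T, c.im t = 1 → t = 1 := by
    intro t ht e
    obtain ⟨p, rfl⟩ := hforms t ht
    have e0 : c.im (word p) = c.im (word (0, 0, 0)) := by rw [e, hwordi]; simp
    rw [hsep _ _ e0]
    simp [word]
  have hTcard : Nat.card ↥T = 16 := by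
    rw [← Nat.card_congr (Equiv.ofBijective (fun p => (⟨word p, hwordT p⟩ : ↥T))
      ⟨fun p q e => hsep p q (congrArg (fun t : ↥T => c.im t) e),
        fun ⟨t, ht⟩ => by obtain ⟨p, rfl⟩ := hforms t ht; exact ⟨p, rfl⟩⟩)]
    simp
  -- the part in the core
  set D := c.Tc.map (MulAut.conj h).toMonoidHom with hD
  have hmemD : ∀ d, d ∈ D ↔ h⁻¹ * d * h ∈ c.Tc := fun d => by rw [hD, mem_map_equiv, MulAut.conj_symm_apply]
  have hDE : ∀ d ∈ D, d ∈ c.E ∧ c.pv d ∈ c.Uh h := by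
    intro d hd
    have hd' := c.Tc_le ((hmemD d).1 hd)
    have hdE : d ∈ c.E := by
      rw [show d = h * (h⁻¹ * d * h) * h⁻¹ by group]
      exact c.conj_E hh.1 hd'.1
    refine ⟨hdE, (c.mem_Uh hh.1).2 ?_⟩
    have := c.pv_conj (inv_mem hh.1) hdE
    rw [inv_inv] at this
    rw [← this]
    exact hd'.2
  have hDcard : Nat.card ↥D = 2 ^ 6 := by rw [hD, card_map_of_injective (MulEquiv.injective _), c.card_Tc]
  have hTD : T ≤ normalizer (D : Set G) := fun t ht => by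
    obtain ⟨h1, -, h3⟩ := hTN t ht
    refine mem_normalizer_fintype fun d hd => ?_
    show t * d * t⁻¹ ∈ D
    rw [hmemD]
    have hhN := c.C0_le_NH hh
    have hn : c.im (h⁻¹ * t * h) ∈ normalizer (I : Set A) := by
      rwa [c.im_mul (mul_mem (inv_mem hh.1) h1.1) hh.1, c.im_mul (inv_mem hh.1) h1.1, c.im_inv hh.1, hhg]
    rw [show h⁻¹ * (t * d * t⁻¹) * h = h⁻¹ * t * h * (h⁻¹ * d * h) * (h⁻¹ * t * h)⁻¹ by group]
    exact c.Tc_conj_NH (mul_mem (mul_mem (inv_mem hhN) h1) hhN) hn ((hmemD d).1 hd)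
  have hdis : D ⊓ T = ⊥ := by
    rw [eq_bot_iff]
    intro t ht
    rw [mem_bot]
    exact hTker t (mem_inf.1 ht).2 (c.im_E (hDE t (mem_inf.1 ht).1).1)
  refine ⟨D ⊔ T, sup_le (fun d hd => c.E_normalizes_W (hDE d hd).1)
    (fun t ht => c.normW_of_im (hTN t ht).1.1 (hTN t ht).2.1), ?_, ?_⟩
  · rw [eq_bot_iff]
    intro v hv
    obtain ⟨hvS, hvW⟩ := mem_inf.1 hv
    rw [← SetLike.mem_coe, coe_mul_of_right_le_normalizer_left D T hTD] at hvS
    obtain ⟨d, hd, t, ht, rfl⟩ := hvS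
    obtain ⟨hdE, hdU⟩ := hDE d hd
    obtain ⟨h1, h2, h3⟩ := hTN t ht
    have hi : c.im (d * t) = c.im t := by rw [c.im_mul (c.E_le hdE) h1.1, c.im_E hdE, one_mul]
    have ht1 : t = 1 := hTker t ht (hp.free _ (hi ▸ c.im_of_W hvW) h3)
    subst ht1
    simp only [mul_one] at hvW ⊢
    have hdU' := (c.W_inf_E hvW hdE).2
    have h0 : c.pv d = 0 := by
      have := AddSubgroup.mem_inf.2 ⟨hdU', hdU⟩
      rwa [c.Uh_disjoint hp hh hhg, AddSubgroup.mem_bot] at this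
    rcases (c.pv_eq_zero hdE).1 h0 with e | e
    · rw [e]; exact one_mem _
    · exfalso
      refine c.z_notMem_Tc ?_
      have := (hmemD d).1 hd
      rwa [e, mul_assoc, ← c.comm_z hh.1, inv_mul_cancel_left] at this
  · rw [card_sup_product hTD hdis, hDcard, hTcard]
    norm_num

/-- The normalizer of `W` is a split extension. -/
theorem exists_complement_W (hs : c.Split) (he : Extra J I R)
    (hN : Nat.card ↥(normalizer (c.W : Set G)) = 2 ^ 11 * 244823040) :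
    ∃ K : Subgroup G, K ≤ normalizer (c.W : Set G) ∧ K ⊓ c.W = ⊥ ∧ K ⊔ c.W = normalizer (c.W : Set G) := by
  obtain ⟨S, hSN, hSW, hS⟩ := c.exists_two_complement hs he
  set N := normalizer (c.W : Set G) with hNdef
  have hWN : c.W ≤ N := le_normalizer
  set K := c.W.subgroupOf N with hKdef
  haveI : K.Normal := normal_subgroupOf_of_le_normalizer le_rfl
  haveI : IsMulCommutative ↥K := ⟨⟨fun a b => Subtype.ext (Subtype.ext (c.W_comm a.2 b.2))⟩⟩
  set U := (c.W ⊔ S).subgroupOf N with hUdef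
  set A' := S.subgroupOf N with hAdef
  have hinf : A' ⊓ K = ⊥ := by
    rw [eq_bot_iff]
    intro v hv
    rw [mem_bot]
    refine Subtype.ext ?_
    have : (v : G) ∈ S ⊓ c.W := mem_inf.2 ⟨(mem_inf.1 hv).1, (mem_inf.1 hv).2⟩
    rwa [hSW, mem_bot] at this
  have hD : CfsgLib.Coprime.GzData K U A' :=
    ⟨fun v hv => mem_sup_right (mem_subgroupOf.1 hv), hinf, (subgroupOf_sup hWN hSN).symm⟩
  have hUcard : Nat.card ↥U = 2 ^ 21 := by
    rw [hUdef, Nat.card_congr (subgroupOfEquivOfLe (sup_le hWN hSN)).toEquiv,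
      card_sup_product hSN (by rw [inf_comm, hSW]), c.card_W, hS]
    norm_num
  have hidx : U.index = 239085 := by
    have h := U.card_mul_index
    rw [hUcard, hN] at h
    omega
  have hKcard : Nat.card ↥K = 2 ^ 11 := by
    rw [hKdef, Nat.card_congr (subgroupOfEquivOfLe hWN).toEquiv, c.card_W]
  obtain ⟨L, hL⟩ := CfsgLib.Coprime.gaschutz_exists hD (by
    rw [hKcard, hidx]
    exact Nat.Coprime.pow_left _ (by norm_num))
  refine ⟨L.map N.subtype, map_subtype_le _, ?_, ?_⟩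
  · rw [eq_bot_iff]
    rintro v hv
    obtain ⟨⟨l, hl, rfl⟩, hlW⟩ := mem_inf.1 hv
    have : l ∈ K ⊓ L := mem_inf.2 ⟨hlW, hl⟩
    rw [hL.disjoint.eq_bot, mem_bot] at this
    subst this
    exact one_mem _
  · refine le_antisymm (sup_le (map_subtype_le _) hWN) fun v hv => ?_
    have hmem : (⟨v, hv⟩ : ↥N) ∈ L ⊔ K := hL.symm.sup_eq_top ▸ mem_top _
    have hle : L ⊔ K ≤ (L.map N.subtype ⊔ c.W).comap N.subtype :=
      sup_le (fun l hl => mem_sup_left ⟨l, hl, rfl⟩) fun k hk => mem_sup_right hk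
    exact hle hmem

end CfsgLib.Spor.JFourType.Ctx
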