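import Cfsg.Agent.Lib.Spor.JFourType.CodeM24
import Cfsg.Agent.Lib.Spor.JFourType.SplitW
import Cfsg.Agent.Lib.Spor.JFourType.InvolOuter
import Cfsg.Agent.Lib.Spor.JFourType.CentT
import Cfsg.Agent.Lib.Spor.JFourType.Eleven

/-!
# The normalizer of an elementary group of order `2 ^ 11` and the second class of involutions

The complement to `W` in its normalizer is `M24`, acting on the 276 non-conjugates of `z` as on the pairs of
points; so the centralizer of one is `W` extended by the stabilizer of a pair.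
-/

set_option autoImplicit false
set_option linter.style.haveILetI false

namespace CfsgLib.Spor.JFourType.Ctx

open Subgroup Cfsg
open scoped Pointwise

universe u

variable {G : Type u} [Group G] [Finite G] {A : Type} [Group A] {J I R : Subgroup A}
  {z : G} {P : Subgroup G} (c : Ctx J I R z P)
include c

theorem exists_mul_W {K : Subgroup G} (hK : K ≤ normalizer (c.W : Set G)) {x : G} (hx : x ∈ K ⊔ c.W) :
    ∃ k ∈ K, ∃ w ∈ c.W, k * w = x := by
  rw [← SetLike.mem_coe, coe_mul_of_left_le_normalizer_right K c.W hK, Set.mem_mul] at hx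
  exact hx

/-- Elementary groups of order `2 ^ 11` are self-centralizing with split normalizer over `M24`. -/
theorem eleven_normalizer (hs : c.Split) (he : Extra J I R) {V : Subgroup G} (hV : Cfsg.IsElementaryAbelian 2 V)
    (hcard : Nat.card ↥V = 2 ^ 11) :
    centralizer (V : Set G) ≤ V ∧ ∃ K : Subgroup G, K ≤ normalizer (V : Set G) ∧ K ⊓ V = ⊥ ∧
      K ⊔ V = normalizer (V : Set G) ∧ Cfsg.Spor.IsoM24 ↥K := by
  obtain ⟨g, rfl⟩ := c.eleven_eq_map hV hcard
  obtain ⟨φ, e, hker, hsurj, hN, -⟩ := c.exists_hom_M24 hs he.card_NI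
  obtain ⟨K, hKN, hKW, hKsup⟩ := c.exists_complement_W hs he hN
  set f : G →* G := (MulAut.conj g).toMonoidHom with hf
  have hfi : Function.Injective f := (MulAut.conj g).injective
  have hnorm : normalizer ((c.W.map f : Subgroup G) : Set G) = (normalizer (c.W : Set G)).map f :=
    (map_equiv_normalizer_eq c.W (MulAut.conj g)).symm
  refine ⟨fun x hx => ?_, K.map f, ?_, ?_, ?_, ?_⟩
  · have h : g⁻¹ * x * g ∈ centralizer (c.W : Set G) := fun w hw => by
      have := hx (g * w * g⁻¹) ⟨w, hw, rfl⟩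
      calc w * (g⁻¹ * x * g) = g⁻¹ * ((g * w * g⁻¹) * x) * g := by group
        _ = g⁻¹ * (x * (g * w * g⁻¹)) * g := by rw [this]
        _ = g⁻¹ * x * g * w := by group
    rw [c.centralizer_W] at h
    exact ⟨_, h, by simp [hf, mul_assoc]⟩
  · rw [hnorm]; exact map_mono hKN
  · rw [← map_inf _ _ _ hfi, hKW, Subgroup.map_bot]
  · rw [← Subgroup.map_sup, hKsup, hnorm]
  · -- the complement maps onto the quotient
    let ψ : ↥K →* ↥M24 := φ.comp (Subgroup.inclusion hKN)
    have hψi : Function.Injective ψ := (injective_iff_map_eq_one ψ).2 fun k hk => by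
      have h : Subgroup.inclusion hKN k ∈ φ.ker := hk
      rw [hker, mem_subgroupOf] at h
      have hk' : (k : G) ∈ K ⊓ c.W := ⟨k.2, h⟩
      rw [hKW, mem_bot] at hk'
      exact Subtype.ext hk'
    have hψs : Function.Surjective ψ := fun m => by
      obtain ⟨n, rfl⟩ := hsurj m
      have hn : (n : G) ∈ K ⊔ c.W := hKsup.symm ▸ n.2
      obtain ⟨k, hk, w, hw, hkw⟩ :=
        c.exists_mul_W hKN hn
      refine ⟨⟨k, hk⟩, ?_⟩
      have e1 : n = Subgroup.inclusion hKN ⟨k, hk⟩ * ⟨w, le_normalizer hw⟩ := Subtype.ext hkw.symm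
      rw [e1, map_mul, show φ ⟨w, le_normalizer hw⟩ = 1 from MonoidHom.mem_ker.1 (hker ▸ mem_subgroupOf.2 hw),
        mul_one]
      rfl
    exact ⟨(Subgroup.equivMapOfInjective K f hfi).symm.trans (MulEquiv.ofBijective ψ ⟨hψi, hψs⟩)⟩

/-- The centralizer of an involution outside the class of `z`. -/
theorem second_centralizer (hs : c.Split) (he : Extra J I R) {t : G} (ht : orderOf t = 2) (hnc : ¬ IsConj z t) :
    ∃ V K : Subgroup G, V ≤ centralizer ({t} : Set G) ∧ K ≤ centralizer ({t} : Set G) ∧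
    centralizer ({t} : Set G) ≤ normalizer (V : Set G) ∧ Cfsg.IsElementaryAbelian 2 V ∧ Nat.card ↥V = 2 ^ 11 ∧
    K ⊓ V = ⊥ ∧ K ⊔ V = centralizer ({t} : Set G) ∧
    Nonempty (↥K ≃* ↥(M24 ⊓ MulAction.stabilizer (Equiv.Perm GolayPt) ({none, some 0} : Finset GolayPt) :
      Subgroup (Equiv.Perm GolayPt))) := by
  classical
  obtain ⟨g, hg⟩ := c.exists_conj_Tset hs he ht hnc
  set t1 := g * t * g⁻¹ with ht1
  obtain ⟨φ, e, hker, hsurj, hN, hφ⟩ := c.exists_hom_M24 hs he.card_NI
  obtain ⟨K, hKN, hKW, hKsup⟩ := c.exists_complement_W hs he hN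
  obtain ⟨a, b, hab, htau⟩ := c.exists_tau hs hg
  have hCle := c.cent_Tset_le hs hg
  have hWC : c.W ≤ centralizer ({t1} : Set G) := fun w hw => mem_centralizer_singleton_iff.2 (c.W_comm hw hg.1)
  set f : G →* G := (MulAut.conj g⁻¹).toMonoidHom with hf
  have hfi : Function.Injective f := (MulAut.conj g⁻¹).injective
  have hfv : ∀ x, f x = g⁻¹ * x * g := fun x => by simp [hf]
  set Kt := K ⊓ centralizer ({t1} : Set G) with hKt
  have hsup : Kt ⊔ c.W = centralizer ({t1} : Set G) := by
    refine le_antisymm (sup_le inf_le_right hWC) fun x hx => ?_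
    have hx' : x ∈ K ⊔ c.W := hKsup.symm ▸ hCle hx
    obtain ⟨k, hk, w, hw, rfl⟩ := c.exists_mul_W hKN hx'
    have hkC : k ∈ centralizer ({t1} : Set G) := by
      have := mul_mem hx (inv_mem (hWC hw))
      rwa [mul_inv_cancel_right] at this
    exact mul_mem (mem_sup_left ⟨hk, hkC⟩) (mem_sup_right hw)
  have hCt : centralizer ({t} : Set G) = (centralizer ({t1} : Set G)).map f := by
    ext x
    constructor
    · intro hx
      refine ⟨g * x * g⁻¹, mem_centralizer_singleton_iff.2 ?_, by rw [hfv]; group⟩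
      rw [ht1, conj_mul, conj_mul, mem_centralizer_singleton_iff.1 hx]
    · rintro ⟨y, hy, rfl⟩
      refine mem_centralizer_singleton_iff.2 ?_
      have h := mem_centralizer_singleton_iff.1 hy
      rw [hfv, ht1] at *
      calc g⁻¹ * y * g * t = g⁻¹ * (y * (g * t * g⁻¹)) * g := by group
        _ = g⁻¹ * (g * t * g⁻¹ * y) * g := by rw [h]
        _ = t * (g⁻¹ * y * g) := by group
  refine ⟨c.W.map f, Kt.map f, ?_, ?_, ?_, ?_, ?_, ?_, ?_, ?_⟩
  · rw [hCt]; exact map_mono hWC
  · rw [hCt]; exact map_mono inf_le_right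
  · have hnorm : (normalizer (c.W : Set G)).map f = normalizer ((c.W.map f : Subgroup G) : Set G) :=
      map_equiv_normalizer_eq c.W (MulAut.conj g⁻¹)
    rw [hCt, ← hnorm]
    exact map_mono hCle
  · refine ⟨⟨⟨fun p q => Subtype.ext ?_⟩⟩, fun y hy => ?_⟩
    · obtain ⟨w, hw, ea⟩ := p.2
      obtain ⟨v, hv, eb⟩ := q.2
      show (p : G) * q = q * p
      rw [← ea, ← eb, ← map_mul, ← map_mul, c.W_comm hw hv]
    · obtain ⟨w, hw, rfl⟩ := hy
      rw [pow_two, ← map_mul, c.W_sq hw, map_one]
  · rw [← Nat.card_congr (equivMapOfInjective _ _ hfi).toEquiv, c.card_W]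
  · rw [← map_inf _ _ _ hfi, show Kt ⊓ c.W = ⊥ from
      le_bot_iff.1 (hKW ▸ inf_le_inf_right c.W inf_le_left), Subgroup.map_bot]
  · rw [← Subgroup.map_sup, hsup, hCt]
  · -- the stabilizer of the pair
    obtain ⟨m0, hm0, hm0x⟩ := CfsgLib.Spor.exists_mem_M24_bpt 2 (by norm_num)
      (fun i => if i = 0 then e a else e b) (fun i hi j hj h => by
        interval_cases i <;> interval_cases j <;> simp_all [e.injective.eq_iff, Ne.symm hab])
    obtain ⟨n0, hn0, hn0x⟩ := CfsgLib.Spor.exists_mem_M24_bpt 2 (by norm_num)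
      (fun i => if i = 0 then (none : GolayPt) else some 0) (fun i hi j hj h => by
        interval_cases i <;> interval_cases j <;> simp_all)
    set m := n0 * m0⁻¹ with hm
    have hmM : m ∈ M24 := mul_mem hn0 (inv_mem hm0)
    have hpair : m • ({e a, e b} : Finset GolayPt) = {none, some 0} := by
      have ha : m (e a) = none := by
        have h1 := hm0x 0 (by norm_num)
        have h2 := hn0x 0 (by norm_num)
        simp only [if_true] at h1 h2
        show n0 (m0⁻¹ (e a)) = none
        rw [← h1, Equiv.Perm.coe_inv, Equiv.symm_apply_apply, h2]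
      have hb : m (e b) = some 0 := by
        have h1 := hm0x 1 (by norm_num)
        have h2 := hn0x 1 (by norm_num)
        simp only [one_ne_zero, if_false] at h1 h2
        show n0 (m0⁻¹ (e b)) = some 0
        rw [← h1, Equiv.Perm.coe_inv, Equiv.symm_apply_apply, h2]
      rw [Finset.smul_finset_insert, Finset.smul_finset_singleton, Equiv.Perm.smul_def, Equiv.Perm.smul_def, ha, hb]
    let S : Subgroup (Equiv.Perm GolayPt) :=
      M24 ⊓ MulAction.stabilizer (Equiv.Perm GolayPt) ({none, some 0} : Finset GolayPt)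
    let ψ : ↥Kt →* Equiv.Perm GolayPt :=
      (MulAut.conj m).toMonoidHom.comp (M24.subtype.comp (φ.comp (Subgroup.inclusion (inf_le_left.trans hKN))))
    have hψv : ∀ k : ↥Kt, ψ k = m * (φ ⟨k, hKN k.2.1⟩ : Equiv.Perm GolayPt) * m⁻¹ := fun k => rfl
    have hψi : Function.Injective ψ := (injective_iff_map_eq_one ψ).2 fun k hk => by
      rw [hψv, conj_eq_one_iff] at hk
      have h : (⟨(k : G), hKN k.2.1⟩ : ↥(normalizer (c.W : Set G))) ∈ φ.ker := Subtype.ext hk
      rw [hker, mem_subgroupOf] at h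
      have hk' : (k : G) ∈ K ⊓ c.W := ⟨k.2.1, h⟩
      rw [hKW, mem_bot] at hk'
      exact Subtype.ext hk'
    -- preserving the pair is centralizing the element
    have hiff : ∀ n : ↥(normalizer (c.W : Set G)),
        (φ n : Equiv.Perm GolayPt) • ({e a, e b} : Finset GolayPt) = {e a, e b} ↔ (n : G) * t1 * (n : G)⁻¹ = t1 := by
      intro n
      have hsm : (φ n : Equiv.Perm GolayPt) • ({e a, e b} : Finset GolayPt) =
          ({c.starHom hs he.card_NI n a, c.starHom hs he.card_NI n b} : Finset c.Star).image e := by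
        rw [Finset.smul_finset_insert, Finset.smul_finset_singleton, Equiv.Perm.smul_def, Equiv.Perm.smul_def, hφ,
          hφ, Finset.image_insert, Finset.image_singleton]
      have hne : c.starHom hs he.card_NI n a ≠ c.starHom hs he.card_NI n b :=
        fun h => hab ((c.starHom hs he.card_NI n).injective h)
      rw [hsm, show ({e a, e b} : Finset GolayPt) = ({a, b} : Finset c.Star).image e by
        rw [Finset.image_insert, Finset.image_singleton], (Finset.image_injective e.injective).eq_iff, ← htau,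
        ← c.tau_starHom hs he.card_NI n a b]
      constructor
      · intro h
        have ha' : c.starHom hs he.card_NI n a ∈ ({a, b} : Finset c.Star) := h ▸ Finset.mem_insert_self _ _
        have hb' : c.starHom hs he.card_NI n b ∈ ({a, b} : Finset c.Star) :=
          h ▸ Finset.mem_insert_of_mem (Finset.mem_singleton_self _)
        simp only [Finset.mem_insert, Finset.mem_singleton] at ha' hb'
        rcases ha' with h1 | h1 <;> rcases hb' with h2 | h2
        · exact absurd (h1.trans h2.symm) hne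
        · rw [h1, h2]
        · rw [h1, h2, c.tau_comm]
        · exact absurd (h1.trans h2.symm) hne
      · intro h
        rcases c.tau_inj hs hne hab h with ⟨h1, h2⟩ | ⟨h1, h2⟩
        · rw [h1, h2]
        · rw [h1, h2, Finset.pair_comm]
    have hrange : ψ.range = S := by
      refine le_antisymm ?_ fun p hp => ?_
      · rintro _ ⟨k, rfl⟩
        rw [hψv]
        refine mem_inf.2 ⟨mul_mem (mul_mem hmM (φ _).2) (inv_mem hmM), MulAction.mem_stabilizer_iff.2 ?_⟩
        have h1 := (hiff ⟨k, hKN k.2.1⟩).2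
          (mul_inv_eq_iff_eq_mul.2 (mem_centralizer_singleton_iff.1 k.2.2))
        rw [← hpair, mul_smul, mul_smul, inv_smul_smul, h1]
      · obtain ⟨hpM, hps⟩ := mem_inf.1 hp
        have hq : m⁻¹ * p * m ∈ M24 := mul_mem (mul_mem (inv_mem hmM) hpM) hmM
        obtain ⟨n, hn⟩ := hsurj ⟨_, hq⟩
        have hn' : (φ n : Equiv.Perm GolayPt) = m⁻¹ * p * m := congrArg Subtype.val hn
        have hnfix : (n : G) * t1 * (n : G)⁻¹ = t1 := (hiff n).1 (by
          rw [hn', mul_smul, mul_smul, hpair, MulAction.mem_stabilizer_iff.1 hps, ← hpair, inv_smul_smul])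
        have hnC : (n : G) ∈ Kt ⊔ c.W :=
          hsup.symm ▸ mem_centralizer_singleton_iff.2 (mul_inv_eq_iff_eq_mul.1 hnfix)
        obtain ⟨k, hk, w, hw, hkw⟩ :=
          c.exists_mul_W (K := Kt) (inf_le_left.trans hKN) hnC
        refine ⟨⟨k, hk⟩, ?_⟩
        have e1 : n = ⟨k, hKN hk.1⟩ * ⟨w, le_normalizer hw⟩ := Subtype.ext hkw.symm
        rw [e1, map_mul, show φ ⟨w, le_normalizer hw⟩ = 1 from MonoidHom.mem_ker.1 (hker ▸ mem_subgroupOf.2 hw),
          mul_one] at hn'
        rw [hψv, hn']
        group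
    exact ⟨(Subgroup.equivMapOfInjective Kt f hfi).symm.trans
      ((MonoidHom.ofInjective hψi).trans (MulEquiv.subgroupCongr hrange))⟩

end CfsgLib.Spor.JFourType.Ctx
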