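import Cfsg.Agent.Lib.Spor.JFourType.FiveAct

/-!
# The centralizer and normalizer of a subgroup of order five

The centralizer is the product with a normal complement, an extension of the eight-group by `SL₃(2)`; the normalizer
has order 26880 and contains a Frobenius group of order 20.
-/

set_option autoImplicit false
set_option linter.style.haveILetI false

namespace CfsgLib.Spor.JFourType.Ctx

open Subgroup

universe u

variable {G : Type u} [Group G] [Finite G] {A : Type} [Group A] {J I R : Subgroup A}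
  {z : G} {P : Subgroup G} {c : Ctx J I R z P} {x n s : G}

/-- The eight-group centralizes `x`. -/
theorem FiveFull.comm_x (f : c.FiveFull x n s) (hS : c.Split) {a : G} (ha : a ∈ c.lift c.KR) : a * x = x * a := by
  rcases (f.base.mem_iff hS).1 ha with rfl | ⟨-, -, h⟩
  exacts [by rw [one_mul, mul_one], h.symm]

/-- No power of five above the first divides the order of the group. -/
theorem FiveFull.not_dvd (f : c.FiveFull x n s) (hS : c.Split) : ¬ 25 ∣ Nat.card G := by
  intro h
  haveI : Fact (Nat.Prime 5) := ⟨by norm_num⟩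
  have hx5 : IsPGroup 5 ↥(zpowers x) := IsPGroup.of_card (n := 1) (by rw [Nat.card_zpowers, f.base.ord_x, pow_one])
  obtain ⟨S, hSx⟩ := hx5.exists_le_sylow
  have hS5 : 25 ∣ Nat.card ↥(S : Subgroup G) := by
    rw [S.card_eq_multiplicity, show (25 : ℕ) = 5 ^ 2 from rfl]
    exact Nat.pow_dvd_pow 5 (((by norm_num : Nat.Prime 5).pow_dvd_iff_le_factorization Nat.card_pos.ne').1 h)
  obtain ⟨k, hk⟩ := IsPGroup.iff_card.1 S.isPGroup'
  have hk2 : 2 ≤ k := (Nat.pow_dvd_pow_iff_le_right (by norm_num : 1 < 5)).1 (hk ▸ hS5)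
  -- a subgroup of order 25 through `x`
  obtain ⟨T, hT, hTx⟩ := Sylow.exists_subgroup_card_pow_prime_le 5
    (show 5 ^ 2 ∣ Nat.card G from h) (zpowers x) (n := 1)
    (by rw [Nat.card_zpowers, f.base.ord_x, pow_one]) (by norm_num)
  have hcomm : IsMulCommutative ↥T := IsPGroup.isMulCommutative_of_card_eq_prime_sq (p := 5) hT
  have hle : T ≤ centralizer ({x} : Set G) := fun t ht => mem_centralizer_singleton_iff.2 (by
    haveI := hcomm
    exact congrArg Subtype.val (mul_comm' (⟨t, ht⟩ : ↥T) ⟨x, hTx (mem_zpowers x)⟩))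
  have hd := card_dvd_of_le hle
  rw [hT, f.card_centralizer hS] at hd
  norm_num at hd

/-- The normal complement in the centralizer. -/
theorem FiveFull.exists_core (f : c.FiveFull x n s) (hS : c.Split) :
    ∃ K : Subgroup G, c.lift c.KR ≤ K ∧ Cfsg.IsInternalDirectProduct (zpowers x) K (centralizer (zpowers x : Set G)) ∧
      K ≤ centralizer ({x} : Set G) ∧ Nat.card ↥K = 1344 ∧ K ≤ normalizer (c.lift c.KR : Set G) ∧
      (∀ g ∈ centralizer ({x} : Set G), (orderOf g).Coprime 5 → g ∈ K) ∧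
      ∃ (V : Subgroup ↥K) (_ : V.Normal), V = (c.lift c.KR).subgroupOf K ∧
        Nonempty (↥K ⧸ V ≃* Matrix.SpecialLinearGroup (Fin 3) (ZMod 2)) := by
  classical
  set C := centralizer ({x} : Set G) with hC
  set B := c.lift c.KR with hB
  have hxC : x ∈ C := mem_centralizer_singleton_iff.2 rfl
  obtain ⟨K, hKC, hKn, hinf, hsup, hcard, hmem⟩ := exists_central_complement (p := 5) (by norm_num) f.base.ord_x hxC
    (fun g hg => mem_centralizer_singleton_iff.1 hg) (by rw [f.card_centralizer hS]; norm_num)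
  have hK : Nat.card ↥K = 1344 := by rw [f.card_centralizer hS] at hcard; omega
  have hBC : B ≤ C := fun a ha => mem_centralizer_singleton_iff.2 (f.comm_x hS ha)
  have hea := f.base.elementary hS
  have hBK : B ≤ K := fun a ha => hmem a (hBC ha)
    (Nat.Coprime.coprime_dvd_left (orderOf_dvd_of_pow_eq_one (hea.2 a ha)) (by norm_num))
  have hKB : K ≤ normalizer (B : Set G) := fun k hk => f.cent_norm hS (mem_centralizer_singleton_iff.1 (hKC hk))
  obtain ⟨φ, hφ⟩ := exists_sl_hom hea FiveFull.card_lift_KR fun k hk a ha => (mem_normalizer_iff.1 (hKB hk) a).1 ha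
  have hker : φ.ker = B.subgroupOf K := by
    ext k
    rw [MonoidHom.mem_ker, hφ, mem_subgroupOf]
    constructor
    · intro h
      obtain ⟨a, ha, i, hi⟩ := f.centralizing hS (mem_centralizer_singleton_iff.1 (hKC k.2)) h
      have hx : x ^ i ∈ zpowers x ⊓ K := mem_inf.2 ⟨npow_mem_zpowers x i, by
        rw [show x ^ i = a⁻¹ * k by rw [hi, inv_mul_cancel_left]]; exact mul_mem (inv_mem (hBK ha)) k.2⟩
      rw [hinf, mem_bot] at hx
      rwa [hi, hx, mul_one]
    · intro h a ha
      haveI := hea.1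
      exact congrArg Subtype.val (mul_comm' (⟨(k : G), h⟩ : ↥B) ⟨a, ha⟩)
  have hsurj : Function.Surjective φ := by
    rw [← MonoidHom.range_eq_top]
    refine Subgroup.eq_top_of_card_eq _ ?_
    have h := φ.ker.card_mul_index
    rw [Subgroup.index_ker, hker, Nat.card_congr (subgroupOfEquivOfLe hBK).toEquiv, FiveFull.card_lift_KR, hK] at h
    rw [CfsgLib.Spor.MonsterType.Seven.sl_card]
    omega
  haveI hVn : (B.subgroupOf K).Normal := hker ▸ φ.normal_ker
  refine ⟨K, hBK, ⟨?_, ?_, ?_, hinf, ?_⟩, hKC, hK, hKB, hmem, B.subgroupOf K, hVn, rfl, ?_⟩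
  · rw [zpowers_eq_closure, centralizer_closure, ← zpowers_eq_closure]; exact zpowers_le.2 hxC
  · rw [zpowers_eq_closure, centralizer_closure]; exact hKC
  · intro a ha b hb
    obtain ⟨i, rfl⟩ := mem_zpowers_iff.1 ha
    exact ((show Commute x b from (mem_centralizer_singleton_iff.1 (hKC hb)).symm).zpow_left i).eq
  · rw [hsup]; rw [zpowers_eq_closure, centralizer_closure]
  · exact ⟨(QuotientGroup.quotientMulEquivOfEq hker.symm).trans
      (QuotientGroup.quotientKerEquivOfSurjective φ hsurj)⟩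

/-- The normalizer of the subgroup has order 26880 and keeps the eight-group. -/
theorem FiveFull.card_normalizer (f : c.FiveFull x n s) (hS : c.Split) :
    Nat.card ↥(normalizer (zpowers x : Set G)) = 26880 ∧
      normalizer (zpowers x : Set G) ≤ normalizer (c.lift c.KR : Set G) := by
  classical
  haveI : Fact (Nat.Prime 5) := ⟨by norm_num⟩
  set N := normalizer (zpowers x : Set G) with hN
  set B := c.lift c.KR with hB
  have hx1 : x ≠ 1 := fun h => by
    have := f.base.ord_x
    rw [h, orderOf_one] at this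
    norm_num at this
  have hconj : ∀ g ∈ N, ∃ j : ℕ, g * x * g⁻¹ = x ^ 2 ^ j := by
    intro g hg
    obtain ⟨i, hi⟩ := mem_powers_iff_mem_zpowers.2 ((mem_normalizer_iff.1 hg x).1 (mem_zpowers x))
    have hi' : x ^ i = g * x * g⁻¹ := hi
    have h5 : i % 5 ≠ 0 := fun h => by
      obtain ⟨k, rfl⟩ := Nat.dvd_of_mod_eq_zero h
      rw [pow_mul, f.pow_five, one_pow] at hi'
      exact hx1 (conj_eq_one_iff.1 hi'.symm)
    obtain ⟨j, hj⟩ : ∃ j : ℕ, 2 ^ j % 5 = i % 5 := by
      have hlt : i % 5 < 5 := Nat.mod_lt _ (by norm_num)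
      revert h5 hlt
      generalize i % 5 = r
      intro h5 hlt
      interval_cases r
      exacts [absurd rfl h5, ⟨0, rfl⟩, ⟨1, rfl⟩, ⟨3, rfl⟩, ⟨2, rfl⟩]
    exact ⟨j, by rw [← hi', pow_eq_pow_iff_modEq, f.base.ord_x]; exact hj.symm⟩
  have hNB : N ≤ normalizer (B : Set G) := by
    intro g hg
    obtain ⟨j, hj⟩ := hconj g hg
    obtain ⟨h, hh, hhx⟩ := f.base.exists_aut j
    have hc : (h⁻¹ * g) * x = x * (h⁻¹ * g) := mul_inv_eq_iff_eq_mul.1 (by
      calc h⁻¹ * g * x * (h⁻¹ * g)⁻¹ = h⁻¹ * (g * x * g⁻¹) * h := by group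
        _ = h⁻¹ * (h * x * h⁻¹) * h := by rw [hj, hhx]
        _ = x := by group)
    rw [show g = h * (h⁻¹ * g) by group]
    refine mul_mem ?_ (f.cent_norm hS hc)
    have hmap : ∀ a ∈ B, h * a * h⁻¹ ∈ B := by
      intro a ha
      rcases (f.base.mem_iff hS).1 ha with rfl | ⟨haE, hac, hax⟩
      · rw [mul_one, mul_inv_cancel]; exact one_mem _
      · refine (f.base.mem_iff hS).2 (Or.inr ⟨c.conj_E hh haE, hac.trans (isConj_iff.2 ⟨h, rfl⟩), ?_⟩)
        -- the conjugate commutes with a generator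
        have h1 : Commute (h * x * h⁻¹) (h * a * h⁻¹) := by
          show h * x * h⁻¹ * (h * a * h⁻¹) = h * a * h⁻¹ * (h * x * h⁻¹)
          calc h * x * h⁻¹ * (h * a * h⁻¹) = h * (x * a) * h⁻¹ := by group
            _ = h * (a * x) * h⁻¹ := by rw [hax]
            _ = _ := by group
        rw [hhx] at h1
        obtain ⟨m, hm⟩ : x ∈ Submonoid.powers (x ^ 2 ^ j) := mem_powers_iff_mem_zpowers.2 (by
          have he : zpowers (x ^ 2 ^ j) = zpowers x := eq_of_le_of_card_ge (zpowers_le.2 (npow_mem_zpowers x _))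
            (by rw [Nat.card_zpowers, Nat.card_zpowers, Nat.Coprime.orderOf_pow (by
              rw [f.base.ord_x]; exact Nat.Coprime.pow_right j (by norm_num))])
          rw [he]; exact mem_zpowers x)
        have h2 := h1.pow_left m
        rwa [show (x ^ 2 ^ j) ^ m = x from hm] at h2
    have hle : B.map (MulAut.conj h).toMonoidHom ≤ B := by rintro _ ⟨a, ha, rfl⟩; exact hmap a ha
    have heq := eq_of_le_of_card_ge hle
      (le_of_eq (Nat.card_congr (equivMapOfInjective _ _ (MulAut.conj h).injective).toEquiv))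
    refine mem_normalizer_iff.2 fun a => ⟨fun ha => hmap a ha, fun ha => ?_⟩
    obtain ⟨a', ha', he⟩ := heq.symm.le ha
    rwa [← (MulAut.conj h).injective he]
  refine ⟨?_, hNB⟩
  rw [card_eq_orbit_mul (K := N) (a := x) (S := (zpowers x : Set G) \ {1})]
  · rw [Set.ncard_sdiff (Set.singleton_subset_iff.2 (one_mem _)) (Set.toFinite _), Set.ncard_singleton,
      show (zpowers x : Set G).ncard = Nat.card ↥(zpowers x) from rfl, Nat.card_zpowers, f.base.ord_x,
      show N ⊓ centralizer ({x} : Set G) = centralizer ({x} : Set G) from inf_eq_right.2 fun g hg =>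
        mem_normalizer_zpowers (by
          rw [mem_centralizer_singleton_iff.1 hg, mul_inv_cancel_right]; exact mem_zpowers x),
      f.card_centralizer hS]
  · exact fun k hk => ⟨(mem_normalizer_iff.1 hk x).1 (mem_zpowers x), fun h => hx1 (conj_eq_one_iff.1 h)⟩
  · rintro b ⟨hb, hb1⟩
    obtain ⟨i, hi⟩ := mem_powers_iff_mem_zpowers.2 hb
    have hi' : x ^ i = b := hi
    have h5 : ¬ 5 ∣ i := fun hd => by
      obtain ⟨k, rfl⟩ := hd
      exact hb1 (by rw [← hi', pow_mul, f.pow_five, one_pow]; rfl)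
    obtain ⟨h, hh, he⟩ := f.base.exists_back h5
    have heq : h⁻¹ * x * h⁻¹⁻¹ = b := by
      rw [← hi']
      conv_lhs => rw [← he]
      group
    exact ⟨h⁻¹, mem_normalizer_zpowers (by rw [heq]; exact hb), heq⟩

/-- A Frobenius group of order twenty in the normalizer. -/
theorem FiveFull.exists_frobenius (f : c.FiveFull x n s) (hS : c.Split) :
    ∃ F : Subgroup G, zpowers x ≤ F ∧ F ≤ normalizer (zpowers x : Set G) ∧ Nat.card ↥F = 20 ∧
      F ⊓ centralizer (zpowers x : Set G) = zpowers x := by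
  classical
  haveI : Fact (Nat.Prime 2) := ⟨Nat.prime_two⟩
  set N := normalizer (zpowers x : Set G) with hN
  set B := c.lift c.KR with hB
  obtain ⟨hNc, hNB⟩ := f.card_normalizer hS
  have hea := f.base.elementary hS
  obtain ⟨φ, hφ⟩ := exists_sl_hom hea FiveFull.card_lift_KR fun g hg a ha =>
    (mem_normalizer_iff.1 (hNB hg) a).1 ha
  set D : Subgroup G := φ.ker.map N.subtype with hD
  have hDmem : ∀ g, g ∈ D ↔ g ∈ N ∧ ∀ a ∈ B, g * a = a * g := fun g => by
    rw [hD, Subgroup.mem_map]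
    constructor
    · rintro ⟨k, hk, rfl⟩; exact ⟨k.2, (hφ k).1 hk⟩
    · rintro ⟨hg, h⟩; exact ⟨⟨g, hg⟩, (hφ ⟨g, hg⟩).2 h, rfl⟩
  have hCN : centralizer ({x} : Set G) ≤ N := fun g hg => mem_normalizer_zpowers (by
    rw [mem_centralizer_singleton_iff.1 hg, mul_inv_cancel_right]; exact mem_zpowers x)
  have hD160 : 160 ≤ Nat.card ↥D := by
    rw [hD, ← Nat.card_congr (equivMapOfInjective _ _ N.subtype_injective).toEquiv]
    have h := φ.ker.card_mul_index
    rw [Subgroup.index_ker, hNc] at h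
    have h2 : Nat.card ↥φ.range ≤ 168 := by
      rw [← CfsgLib.Spor.MonsterType.Seven.sl_card]
      exact Nat.card_le_card_of_injective _ φ.range.subtype_injective
    by_contra hlt
    push Not at hlt
    have := Nat.mul_le_mul (Nat.le_pred_of_lt hlt) h2
    rw [h] at this
    norm_num at this
  -- the centralizing part of the kernel
  have hDC : Nat.card ↥(D ⊓ centralizer ({x} : Set G)) ≤ 40 := by
    let g : ↥B × ↥(zpowers x) → ↥(D ⊓ centralizer ({x} : Set G)) := fun w => ⟨w.1 * w.2, by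
      obtain ⟨i, hi⟩ := mem_zpowers_iff.1 w.2.2
      have hxC : (w.2 : G) ∈ centralizer ({x} : Set G) := by
        rw [← hi]; exact zpow_mem (mem_centralizer_singleton_iff.2 rfl) i
      have hBC : (w.1 : G) ∈ centralizer ({x} : Set G) := mem_centralizer_singleton_iff.2 (f.comm_x hS w.1.2)
      refine mem_inf.2 ⟨(hDmem _).2 ⟨mul_mem (hCN hBC) (hCN hxC), fun a ha => ?_⟩, mul_mem hBC hxC⟩
      haveI := hea.1
      refine ((show Commute (w.1 : G) a from congrArg Subtype.val (mul_comm' w.1 ⟨a, ha⟩)).mul_left ?_).eq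
      rw [← hi]
      exact (show Commute x a from (f.comm_x hS ha).symm).zpow_left i⟩
    have hg : Function.Surjective g := by
      intro d
      obtain ⟨a, ha, i, hi⟩ := f.centralizing hS (mem_centralizer_singleton_iff.1 (mem_inf.1 d.2).2)
        ((hDmem _).1 (mem_inf.1 d.2).1).2
      exact ⟨(⟨a, ha⟩, ⟨x ^ i, npow_mem_zpowers x i⟩), Subtype.ext hi.symm⟩
    refine (Nat.card_le_card_of_surjective g hg).trans (le_of_eq ?_)
    rw [Nat.card_prod, FiveFull.card_lift_KR, Nat.card_zpowers, f.base.ord_x]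
  -- so some element of the kernel squares `x`
  have himg : Nat.card ↥D ≤
      ((fun g : G => g * x * g⁻¹) '' (D : Set G)).ncard * Nat.card ↥(D ⊓ centralizer ({x} : Set G)) :=
    le_of_eq (card_eq_orbit_mul (fun k hk => ⟨k, hk, rfl⟩) fun b hb => hb)
  have hx1 : x ≠ 1 := fun h => by
    have := f.base.ord_x
    rw [h, orderOf_one] at this
    norm_num at this
  have hsub : (fun g : G => g * x * g⁻¹) '' (D : Set G) ⊆ (zpowers x : Set G) \ {1} := by
    rintro _ ⟨g, hg, rfl⟩
    exact ⟨(mem_normalizer_iff.1 ((hDmem g).1 hg).1 x).1 (mem_zpowers x), fun h => hx1 (conj_eq_one_iff.1 h)⟩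
  have h4 : ((zpowers x : Set G) \ {1}).ncard = 4 := by
    rw [Set.ncard_sdiff (Set.singleton_subset_iff.2 (one_mem _)) (Set.toFinite _), Set.ncard_singleton,
      show (zpowers x : Set G).ncard = Nat.card ↥(zpowers x) from rfl, Nat.card_zpowers, f.base.ord_x]
  have himeq : (fun g : G => g * x * g⁻¹) '' (D : Set G) = (zpowers x : Set G) \ {1} := by
    refine Set.eq_of_subset_of_ncard_le hsub ?_ (Set.toFinite _)
    rw [h4]
    by_contra hlt
    push Not at hlt
    have := hD160.trans (himg.trans (Nat.mul_le_mul (Nat.le_pred_of_lt hlt) hDC))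
    norm_num at this
  have hD160' : Nat.card ↥D ≤ 160 := himg.trans (by rw [himeq, h4]; exact Nat.mul_le_mul_left 4 hDC)
  have hDc : Nat.card ↥D = 160 := le_antisymm hD160' hD160
  -- a Sylow 2-subgroup of the kernel
  obtain ⟨T₀⟩ := (inferInstance : Nonempty (Sylow 2 ↥D))
  have hT32 : Nat.card ↥(T₀ : Subgroup ↥D) = 32 := by
    rw [T₀.card_eq_multiplicity, hDc, show (160 : ℕ) = 2 ^ 5 * 5 by norm_num,
      Nat.factorization_mul (by norm_num) (by norm_num), Finsupp.add_apply, Nat.Prime.factorization_pow Nat.prime_two,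
      Nat.factorization_eq_zero_of_not_dvd (by norm_num : ¬ 2 ∣ 5)]
    simp
  set T := (T₀ : Subgroup ↥D).map D.subtype with hT
  have hTc : Nat.card ↥T = 32 := by
    rw [hT, ← Nat.card_congr (equivMapOfInjective _ _ D.subtype_injective).toEquiv, hT32]
  have hTD : T ≤ D := map_subtype_le _
  have hTp : IsPGroup 2 ↥T := IsPGroup.of_card (n := 5) hTc
  have hBD : B ≤ D := fun a ha => (hDmem a).2 ⟨hCN (mem_centralizer_singleton_iff.2 (f.comm_x hS ha)), fun b hb => by
    haveI := hea.1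
    exact congrArg Subtype.val (mul_comm' (⟨a, ha⟩ : ↥B) ⟨b, hb⟩)⟩
  have hBT : B ≤ T := by
    intro a ha
    have hBn : (B.subgroupOf D).Normal := ⟨fun b hb g => by
      show (g : G) * (b : G) * (g : G)⁻¹ ∈ B
      rw [((hDmem _).1 g.2).2 b hb, mul_inv_cancel_right]; exact hb⟩
    have hBp : IsPGroup 2 ↥(B.subgroupOf D) := IsPGroup.of_card (n := 3)
      (by rw [Nat.card_congr (subgroupOfEquivOfLe hBD).toEquiv, FiveFull.card_lift_KR]; norm_num)
    haveI := hBn
    have hle : B.subgroupOf D ≤ (T₀ : Subgroup ↥D) := by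
      have h := T₀.is_maximal' (IsPGroup.to_sup_of_normal_left hBp T₀.isPGroup') le_sup_right
      rw [← h]; exact le_sup_left
    exact ⟨⟨a, hBD ha⟩, hle ha, rfl⟩
  -- its part centralizing `x`
  have hTC : ∀ t ∈ T, t * x = x * t → t ∈ B := by
    intro t ht htx
    obtain ⟨a, ha, i, hi⟩ := f.centralizing hS htx ((hDmem t).1 (hTD ht)).2
    obtain ⟨k, hk⟩ := hTp ⟨t, ht⟩
    have hk' : t ^ 2 ^ k = 1 := congrArg Subtype.val hk
    have hax : Commute a (x ^ i) := (show Commute a x from f.comm_x hS ha).pow_right i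
    have hxi : x ^ (i * 2 ^ (k + 1)) = 1 := by
      have e : t ^ 2 ^ (k + 1) = 1 := by rw [pow_succ, pow_mul, hk', one_pow]
      rwa [hi, hax.mul_pow, pow_succ', pow_mul a 2, hea.2 a ha, one_pow, one_mul, ← pow_mul, ← pow_succ'] at e
    have h5 : 5 ∣ i := (Nat.Coprime.dvd_mul_right (Nat.Coprime.pow_right (k + 1) (by norm_num : Nat.Coprime 5 2))).1
      (f.base.ord_x ▸ orderOf_dvd_of_pow_eq_one hxi)
    obtain ⟨l, rfl⟩ := h5
    rwa [hi, pow_mul, f.pow_five, one_pow, mul_one]
  -- a generator modulo the eight-group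
  obtain ⟨t, ht, htx⟩ : ∃ t ∈ T, t * x * t⁻¹ = x ^ 2 := by
    have hT4 : ((fun g : G => g * x * g⁻¹) '' (T : Set G)) = (zpowers x : Set G) \ {1} := by
      refine Set.eq_of_subset_of_ncard_le ((Set.image_mono hTD).trans hsub) ?_ (Set.toFinite _)
      have h := card_eq_orbit_mul (K := T) (a := x) (S := (fun g : G => g * x * g⁻¹) '' (T : Set G))
        (fun k hk => ⟨k, hk, rfl⟩) fun b hb => hb
      rw [hTc] at h
      rw [h4]
      have hle : Nat.card ↥(T ⊓ centralizer ({x} : Set G)) ≤ 8 := by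
        rw [← FiveFull.card_lift_KR (c := c)]
        exact card_le_of_le fun w hw => hTC w hw.1 (mem_centralizer_singleton_iff.1 hw.2)
      by_contra hlt
      push Not at hlt
      have := h.le.trans (Nat.mul_le_mul (Nat.le_pred_of_lt hlt) hle)
      norm_num at this
    have hm : x ^ 2 ∈ ((zpowers x : Set G) \ {1}) := ⟨npow_mem_zpowers x 2, fun h => by
      have := orderOf_dvd_of_pow_eq_one (show x ^ 2 = 1 from h)
      rw [f.base.ord_x] at this
      norm_num at this⟩
    rw [← hT4] at hm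
    obtain ⟨t, ht, he⟩ := hm
    exact ⟨t, ht, he⟩
  have hpow : ∀ m : ℕ, t ^ m * x * (t ^ m)⁻¹ = x ^ 2 ^ m := by
    intro m
    induction m with
    | zero => simp
    | succ k ih =>
      calc t ^ (k + 1) * x * (t ^ (k + 1))⁻¹ = t * (t ^ k * x * (t ^ k)⁻¹) * t⁻¹ := by rw [pow_succ']; group
        _ = (t * x * t⁻¹) ^ 2 ^ k := by rw [ih, conj_pow]
        _ = _ := by rw [htx, ← pow_mul, pow_succ' 2 k]
  have ha4 : t ^ 4 ∈ B := hTC _ (pow_mem ht 4) (mul_inv_eq_iff_eq_mul.1 (by
    rw [hpow 4, show x = x ^ 1 from (pow_one x).symm, ← pow_mul, pow_eq_pow_iff_modEq, f.base.ord_x]; rfl))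
  -- the fourth power is fixed by the normalizer of `T`
  have ht4 : t ^ 4 = 1 := by
    by_contra hne
    have hfixN : ∀ g ∈ N, g * (t ^ 4) * g⁻¹ = t ^ 4 := by
      have hT' : ∀ g ∈ N, (∀ w ∈ T, g * w * g⁻¹ ∈ T) → g * t ^ 4 * g⁻¹ = t ^ 4 := by
        intro g hg hgT
        have hw := hgT t ht
        have hcom : (g * t * g⁻¹) * x * (g * t * g⁻¹)⁻¹ = x ^ 2 := by
          obtain ⟨i, hi⟩ := mem_powers_iff_mem_zpowers.2 ((mem_normalizer_iff''.1 hg x).1 (mem_zpowers x))
          have hi' : x ^ i = g⁻¹ * x * g := hi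
          calc g * t * g⁻¹ * x * (g * t * g⁻¹)⁻¹ = g * (t * (g⁻¹ * x * g) * t⁻¹) * g⁻¹ := by group
            _ = g * ((t * x * t⁻¹) ^ i) * g⁻¹ := by rw [← hi', conj_pow]
            _ = g * (x ^ i) ^ 2 * g⁻¹ := by rw [htx, ← pow_mul, mul_comm 2, pow_mul]
            _ = x ^ 2 := by rw [hi', pow_two, pow_two]; group
        set b := g * t * g⁻¹ * t⁻¹ with hb
        have hbB : b ∈ B := hTC b (mul_mem hw (inv_mem ht)) (mul_inv_eq_iff_eq_mul.1 (by
          calc b * x * b⁻¹ = (g * t * g⁻¹) * (t⁻¹ * x * t) * (g * t * g⁻¹)⁻¹ := by rw [hb]; group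
            _ = (g * t * g⁻¹) * (x ^ 3) * (g * t * g⁻¹)⁻¹ := by
              have e : t⁻¹ * x * t = x ^ 3 := by
                have h6 : t * x ^ 3 * t⁻¹ = x := by
                  rw [← conj_pow, htx, ← pow_mul]
                  nth_rewrite 2 [← pow_one x]
                  rw [pow_eq_pow_iff_modEq, f.base.ord_x]; rfl
                nth_rewrite 1 [← h6]
                group
              rw [e]
            _ = x := by
              rw [← conj_pow, hcom, ← pow_mul]
              nth_rewrite 2 [← pow_one x]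
              rw [pow_eq_pow_iff_modEq, f.base.ord_x]; rfl))
        have hbt : Commute b t := (((hDmem t).1 (hTD ht)).2 b hbB).symm
        have hb4 : b ^ 4 = 1 := by rw [show (4 : ℕ) = 2 * 2 from rfl, pow_mul, hea.2 b hbB, one_pow]
        rw [← conj_pow, show g * t * g⁻¹ = b * t by rw [hb]; group, hbt.mul_pow, hb4, one_mul]
      intro g hg
      -- Frattini
      have hgD : ∀ w ∈ D, g * w * g⁻¹ ∈ D := fun w hw => (hDmem _).2
        ⟨mul_mem (mul_mem hg ((hDmem w).1 hw).1) (inv_mem hg), fun a ha => by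
          have ha' := (mem_normalizer_iff''.1 (hNB hg) a).1 ha
          calc g * w * g⁻¹ * a = g * (w * (g⁻¹ * a * g)) * g⁻¹ := by group
            _ = g * ((g⁻¹ * a * g) * w) * g⁻¹ := by rw [((hDmem w).1 hw).2 _ ha']
            _ = _ := by group⟩
      have hgD' : ∀ w ∈ D, g⁻¹ * w * g ∈ D := fun w hw => (hDmem _).2
        ⟨mul_mem (mul_mem (inv_mem hg) ((hDmem w).1 hw).1) hg, fun a ha => by
          have ha' := (mem_normalizer_iff.1 (hNB hg) a).1 ha
          calc g⁻¹ * w * g * a = g⁻¹ * (w * (g * a * g⁻¹)) * g := by group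
            _ = g⁻¹ * ((g * a * g⁻¹) * w) * g := by rw [((hDmem w).1 hw).2 _ ha']
            _ = _ := by group⟩
      let e : ↥D ≃* ↥D :=
        { toFun := fun w => ⟨g * w * g⁻¹, hgD w w.2⟩
          invFun := fun w => ⟨g⁻¹ * w * g, hgD' w w.2⟩
          left_inv := fun w => Subtype.ext (show g⁻¹ * (g * (w : G) * g⁻¹) * g = w by group)
          right_inv := fun w => Subtype.ext (show g * (g⁻¹ * (w : G) * g) * g⁻¹ = w by group)
          map_mul' := fun w w' => Subtype.ext (show g * ((w : G) * w') * g⁻¹ = g * w * g⁻¹ * (g * w' * g⁻¹) by group) }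
      let T₁ : Sylow 2 ↥D := Sylow.ofCard ((T₀ : Subgroup ↥D).map e.toMonoidHom) (by
        rw [← Nat.card_congr (equivMapOfInjective _ _ e.injective).toEquiv, T₀.card_eq_multiplicity])
      obtain ⟨d, hd⟩ := MulAction.exists_smul_eq ↥D T₁ T₀
      have hdg : (d : G) * g ∈ N := mul_mem ((hDmem _).1 d.2).1 hg
      have hkeep : ∀ w ∈ T, (d : G) * g * w * ((d : G) * g)⁻¹ ∈ T := by
        rintro _ ⟨w, hw, rfl⟩
        refine ⟨d * e w * d⁻¹, ?_, by show (d : G) * (g * (w : G) * g⁻¹) * (d : G)⁻¹ = _; simp [mul_assoc]⟩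
        rw [← hd, Sylow.coe_subgroup_smul]
        refine Subgroup.mem_map.2 ⟨e w, ?_, rfl⟩
        show e w ∈ ((Sylow.ofCard _ _ : Sylow 2 ↥D) : Subgroup ↥D)
        rw [Sylow.coe_ofCard]
        exact Subgroup.mem_map.2 ⟨w, hw, rfl⟩
      have h := hT' _ hdg hkeep
      have hdd := ((hDmem _).1 (inv_mem d.2)).2 (t ^ 4) ha4
      calc g * t ^ 4 * g⁻¹ = (d : G)⁻¹ * ((d : G) * g * t ^ 4 * ((d : G) * g)⁻¹) * d := by group
        _ = (d : G)⁻¹ * t ^ 4 * d := by rw [h]
        _ = t ^ 4 * (d : G)⁻¹ * d := by rw [hdd]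
        _ = _ := by group
    obtain ⟨g, hgx, hga, -⟩ := f.exists_fusion hS ha4 hne
    have htz : t ^ 4 = z := (hfixN g (hCN (mem_centralizer_singleton_iff.2 hgx))).symm.trans hga
    obtain ⟨u, hu, huz, hu1, -, huK⟩ := f.base.exists_point hS
    obtain ⟨h, hhx, hhu, -⟩ := f.exists_fusion hS ⟨hu, huK⟩ hu1
    have h1 := hfixN h⁻¹ (inv_mem (hCN (mem_centralizer_singleton_iff.2 hhx)))
    rw [htz] at h1
    refine huz ?_
    calc u = h⁻¹ * (h * u * h⁻¹) * h := by group
      _ = h⁻¹ * z * h⁻¹⁻¹ := by rw [hhu, inv_inv]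
      _ = z := h1
  set F := zpowers x ⊔ zpowers t with hF
  have htN : t ∈ N := ((hDmem t).1 (hTD ht)).1
  have hFN : F ≤ N := sup_le le_normalizer (zpowers_le.2 htN)
  have hmemF : ∀ w ∈ F, ∃ i j : ℕ, j < 4 ∧ w = x ^ i * t ^ j := by
    intro w hw
    rw [hF, ← SetLike.mem_coe, coe_mul_of_right_le_normalizer_left _ _ (zpowers_le.2 htN)] at hw
    obtain ⟨a, ha, b, hb, rfl⟩ := hw
    obtain ⟨i, rfl⟩ := mem_powers_iff_mem_zpowers.2 ha
    obtain ⟨j, rfl⟩ := mem_powers_iff_mem_zpowers.2 hb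
    refine ⟨i, j % 4, Nat.mod_lt _ (by norm_num), ?_⟩
    show x ^ i * t ^ j = _
    conv_lhs => rw [← Nat.mod_add_div j 4, pow_add, pow_mul, ht4, one_pow, mul_one]
  have hFC : F ⊓ centralizer ({x} : Set G) = zpowers x := by
    refine le_antisymm ?_ (le_inf le_sup_left (zpowers_le.2 (mem_centralizer_singleton_iff.2 rfl)))
    rintro w ⟨hwF, hwC⟩
    obtain ⟨i, j, hj, rfl⟩ := hmemF w hwF
    have htj : t ^ j * x = x * t ^ j := by
      have h1 := mem_centralizer_singleton_iff.1 hwC
      refine mul_left_cancel (a := x ^ i) ?_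
      rw [← mul_assoc, h1, ← mul_assoc, ← mul_assoc, (Commute.refl x).pow_left i |>.eq]
    have h2 := hpow j
    rw [htj, mul_inv_cancel_right] at h2
    have hj0 : j = 0 := by
      have h3 := pow_eq_pow_iff_modEq.1 ((pow_one x).trans h2)
      rw [f.base.ord_x] at h3
      interval_cases j
      · rfl
      all_goals exact absurd h3 (by decide)
    rw [hj0, pow_zero, mul_one]
    exact npow_mem_zpowers x i
  refine ⟨F, le_sup_left, hFN, ?_, ?_⟩
  · rw [card_eq_orbit_mul (K := F) (a := x) (S := (zpowers x : Set G) \ {1}), h4, hFC, Nat.card_zpowers, f.base.ord_x]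
    · exact fun k hk => ⟨(mem_normalizer_iff.1 (hFN hk) x).1 (mem_zpowers x), fun h => hx1 (conj_eq_one_iff.1 h)⟩
    · rintro b ⟨hb, hb1⟩
      obtain ⟨i, hi⟩ := mem_powers_iff_mem_zpowers.2 hb
      have hi' : x ^ i = b := hi
      obtain ⟨j, hj⟩ : ∃ j : ℕ, 2 ^ j % 5 = i % 5 := by
        have h5 : i % 5 ≠ 0 := fun h => hb1 (by
          rw [← hi', ← Nat.mod_add_div i 5, h, zero_add, pow_mul, f.pow_five, one_pow]; rfl)
        have hlt : i % 5 < 5 := Nat.mod_lt _ (by norm_num)
        revert h5 hlt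
        generalize i % 5 = r
        intro h5 hlt
        interval_cases r
        exacts [absurd rfl h5, ⟨0, rfl⟩, ⟨1, rfl⟩, ⟨3, rfl⟩, ⟨2, rfl⟩]
      refine ⟨t ^ j, mem_sup_right (npow_mem_zpowers t j), ?_⟩
      rw [hpow j, ← hi', pow_eq_pow_iff_modEq, f.base.ord_x]
      exact hj
  · rw [zpowers_eq_closure x, centralizer_closure, ← zpowers_eq_closure, hFC]

end CfsgLib.Spor.JFourType.Ctx
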