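import Cfsg.Agent.Lib.Spor.JFourType.LocalNormalizer
import Cfsg.Agent.Lib.PGroup.GenExtraspecialSplit
import Cfsg.Agent.Lib.Spor.AffineExtraspecial

/-!
# The sixfold cover, the Sylow 3-subgroup and its normalizer, and the elements of order three
-/

set_option autoImplicit false
set_option linter.style.haveILetI false

namespace CfsgLib.Spor.JFourType.Ctx

open Subgroup
open scoped commutatorElement

universe u

variable {G : Type u} [Group G] [Finite G] {A : Type} [Group A] {J I R : Subgroup A}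
  {z : G} {P : Subgroup G} (c : Ctx J I R z P)
include c

theorem sg_ker_central : c.sg.ker ≤ center ↥c.C0 := by
  rintro ⟨x, hx⟩ hk
  refine mem_center_iff.2 fun y => Subtype.ext ?_
  show (y : G) * x = x * y
  obtain ⟨q, hq, e | e⟩ := c.ker_C0 hx (congrArg Subtype.val (MonoidHom.mem_ker.1 hk))
  · rw [e, c.comm_P y.2 hq]
  · rw [e, ← mul_assoc, c.comm_z y.2.1, mul_assoc, ← c.comm_P y.2 hq, mul_assoc]

theorem center_C0 : center ↥c.C0 = c.sg.ker := by
  refine le_antisymm (fun x hx => ?_) c.sg_ker_central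
  rw [MonoidHom.mem_ker]
  refine Subtype.ext ?_
  show c.pr ⟨x, x.2.1⟩ = 1
  rw [← c.im_eq x.2.1]
  exact c.im_center_C0 x.2 fun y hy => congrArg Subtype.val (mem_center_iff.1 hx ⟨y, hy⟩)

theorem isCyclic_center_C0 : IsCyclic ↥(center ↥c.C0) := by
  haveI : Finite ↥(center ↥c.C0) := inferInstance
  have hzp : (⟨z * c.pg, mul_mem c.z_mem_C0 c.pg_C0⟩ : ↥c.C0) ∈ center ↥c.C0 := by
    rw [c.center_C0, MonoidHom.mem_ker]
    refine Subtype.ext ?_
    show c.pr ⟨z * c.pg, (mul_mem c.z_mem_C0 c.pg_C0 : _ ∈ c.C0).1⟩ = 1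
    rw [← c.im_eq, c.im_mul c.z_mem_H c.pg_H, c.im_E c.z_mem_E, c.im_eq c.pg_H, c.pr_P c.pg_mem, one_mul]
  refine isCyclic_of_orderOf_eq_card (⟨_, hzp⟩ : ↥(center ↥c.C0)) ?_
  rw [Subgroup.orderOf_mk, Subgroup.orderOf_mk, c.center_C0, c.card_sg_ker,
    (show Commute z c.pg from (c.comm_z c.pg_H).symm).orderOf_mul_eq_mul_orderOf_of_coprime
      (by rw [c.ord, c.ord_pg]; norm_num), c.ord, c.ord_pg]

theorem card_center_C0 : Nat.card ↥(center ↥c.C0) = 6 := by rw [c.center_C0, c.card_sg_ker]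

theorem isoM22_quotient : Cfsg.Spor.IsoM22 (↥c.C0 ⧸ center ↥c.C0) := by
  obtain ⟨e⟩ := c.facts.iso_J
  exact ⟨((QuotientGroup.quotientMulEquivOfEq c.center_C0).trans
    (QuotientGroup.quotientKerEquivOfSurjective _ c.sg_surj)).trans e⟩

/-- Conjugating one subgroup of order 27 of `H` onto another. -/
theorem exists_conj_eq {Q : Subgroup G} (hQ : c.Three Q) {S : Subgroup G} (hS : S ≤ c.H)
    (h27 : Nat.card ↥S = 27) : ∃ h ∈ c.H, S.map (MulAut.conj h).toMonoidHom = Q := by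
  obtain ⟨h, hh, hm⟩ := c.exists_conj_three hQ hS (IsPGroup.of_card (n := 3) (by rw [h27]; norm_num))
  refine ⟨h, hh, eq_of_le_of_card_ge ?_ ?_⟩
  · rintro _ ⟨y, hy, rfl⟩
    exact hm y hy
  · rw [← Nat.card_congr (equivMapOfInjective S (MulAut.conj h).toMonoidHom (MulAut.conj h).injective).toEquiv,
      h27, hQ.card]

theorem three_exp {Q : Subgroup G} (hQ : c.Three Q) {x : G} (hx : x ∈ Q) : x ^ 3 = 1 := by
  obtain ⟨Q', -, hQ', -, -, -, hexp, -⟩ := c.exists_three_lift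
  obtain ⟨h, -, he⟩ := c.exists_conj_eq hQ' (fun y hy => (hQ.le hy).1) hQ.card
  have hm : h * x * h⁻¹ ∈ Q' := he ▸ ⟨x, hx, rfl⟩
  have h1 := hexp _ hm
  rw [conj_pow] at h1
  exact conj_eq_one_iff.1 h1

theorem three_extraspecial {Q : Subgroup G} (hQ : c.Three Q) : Cfsg.IsExtraspecial 3 ↥Q := by
  haveI : Fact (Nat.Prime 3) := ⟨Nat.prime_three⟩
  obtain ⟨a, ha, b, hb, hab⟩ := hQ.comm
  refine CfsgLib.GenExtraspecial.isExtraspecial_of_cube (a := (⟨a, ha⟩ : ↥Q)) (b := ⟨b, hb⟩)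
    (by rw [hQ.card]; norm_num) (fun h => ?_) fun g => Subtype.ext (c.three_exp hQ g.2)
  have h1 : ⁅a, b⁆ = 1 := commutatorElement_eq_one_iff_mul_comm.2 (congrArg Subtype.val h)
  rw [hab] at h1
  simpa [h1] using c.ord_pg

theorem three_normalizer_le (hsp : c.Split) {Q : Subgroup G} (hQ : c.Three Q) :
    normalizer (Q : Set G) ≤ c.H := fun g hg => c.normalizer_P_le hsp (mem_normalizer_fintype fun p hp => by
  refine c.three_center hQ ((mem_normalizer_iff.1 hg p).1 (hQ.P_le hp)) fun y hy => ?_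
  show y * (g * p * g⁻¹) = g * p * g⁻¹ * y
  have hy' : g⁻¹ * y * g ∈ Q := (mem_normalizer_iff.1 hg _).2 (by
    rwa [show g * (g⁻¹ * y * g) * g⁻¹ = y by group])
  calc y * (g * p * g⁻¹) = g * (g⁻¹ * y * g * p) * g⁻¹ := by group
    _ = g * (p * (g⁻¹ * y * g)) * g⁻¹ := by rw [c.comm_P (hQ.le hy') hp]
    _ = _ := by group)

/-- A subgroup of order 27 of `C0` over a group of order nine is a Sylow subgroup of `G`. -/
theorem three_sylow (hsp : c.Split) {Q : Subgroup G} (hQ : c.Three Q) :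
    ∃ T : Sylow 3 G, (T : Subgroup G) = Q := by
  haveI : Fact (Nat.Prime 3) := ⟨Nat.prime_three⟩
  obtain ⟨T, hT⟩ := (IsPGroup.of_card (n := 3) (by rw [hQ.card]; norm_num) : IsPGroup 3 ↥Q).exists_le_sylow
  refine ⟨T, le_antisymm ?_ hT⟩
  by_contra hne
  have hlt : Q.subgroupOf T < normalizer ((Q.subgroupOf (T : Subgroup G)) : Set ↥(T : Subgroup G)) := by
    haveI : Group.IsNilpotent ↥(T : Subgroup G) := T.2.isNilpotent
    refine normalizerCondition_of_isNilpotent _ (lt_top_iff_ne_top.2 fun h => ?_)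
    exact hne (subgroupOf_eq_top.1 h)
  obtain ⟨x, hxN, hxQ⟩ := SetLike.exists_of_lt hlt
  have hx : (x : G) ∈ normalizer (Q : Set G) := mem_normalizer_fintype fun y hy =>
    (mem_normalizer_iff.1 hxN ⟨y, hT hy⟩).1 hy
  have hxH := c.three_normalizer_le hsp hQ hx
  let S : Subgroup G := Q ⊔ zpowers (x : G)
  have hST : S ≤ (T : Subgroup G) := sup_le hT (zpowers_le.2 x.2)
  have hSH : S ≤ c.H := sup_le (fun y hy => (hQ.le hy).1) (zpowers_le.2 hxH)
  obtain ⟨h, hh, hm⟩ := c.exists_conj_three hQ hSH (T.2.to_le hST)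
  have hle : Nat.card ↥S ≤ Nat.card ↥Q :=
    Nat.card_le_card_of_injective (fun y : ↥S => (⟨h * y * h⁻¹, hm y y.2⟩ : ↥Q)) fun a b e =>
      Subtype.ext (mul_left_cancel (mul_right_cancel (congrArg Subtype.val e)))
  exact hxQ (mem_subgroupOf.2 ((eq_of_le_of_card_ge (le_sup_left : Q ≤ S) hle).symm ▸
    mem_sup_right (mem_zpowers _)))

/-- The normalizer of a Sylow 3-subgroup of the facts has order 144. -/
theorem card_normalizer_nine {a b : A} (ha : a ∈ J) (hb : b ∈ J) (hao : orderOf a = 3) (hbo : orderOf b = 3)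
    (hab : a * b = b * a) (hnb : b ∉ zpowers a)
    (h72 : Nat.card ↥(normalizer ((closure {a, b} : Subgroup A) : Set A) ⊓ J) = 72) :
    Nat.card ↥(normalizer ((closure {a, b} : Subgroup A) : Set A)) = 144 := by
  haveI := c.finite_A_local
  haveI : Fact (Nat.Prime 3) := ⟨Nat.prime_three⟩
  haveI hJn : J.Normal := normal_of_index_eq_two c.facts.index_J
  set Y := closure ({a, b} : Set A) with hY
  have hYJ : Y ≤ J := (Subgroup.closure_le _).2 (Set.insert_subset ha (Set.singleton_subset_iff.2 hb))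
  have hY9 : Nat.card ↥Y = 9 := card_closure_pair hao hbo hab hnb
  let T : Sylow 3 ↥J := Sylow.ofCard (Y.subgroupOf J) (by
    rw [Nat.card_congr (subgroupOfEquivOfLe hYJ).toEquiv, hY9, c.facts.card_J,
      show (443520 : ℕ) = 3 ^ 2 * 49280 by norm_num,
      Nat.factorization_mul (by norm_num) (by norm_num), Finsupp.add_apply,
      Nat.factorization_eq_zero_of_not_dvd (show ¬ 3 ∣ 49280 by norm_num), Nat.factorization_pow,
      Finsupp.smul_apply, Nat.prime_three.factorization_self]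
    norm_num)
  obtain ⟨o, ho⟩ : ∃ o, o ∉ J := by
    by_contra hcon
    push Not at hcon
    have := c.facts.index_J
    rw [show J = ⊤ from eq_top_iff.2 fun x _ => hcon x, index_top] at this
    norm_num at this
  have h3 : IsPGroup 3 ↥(Y.map (MulAut.conj o).toMonoidHom) :=
    (IsPGroup.of_card (n := 2) (by rw [hY9]; norm_num) : IsPGroup 3 ↥Y).map _
  obtain ⟨j, hj⟩ := CfsgLib.Invol.exists_conj_le_sylow (Q := (Y.map (MulAut.conj o).toMonoidHom).subgroupOf J)
    h3.comap_subtype T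
  have hn : (j : A) * o ∈ normalizer (Y : Set A) := mem_normalizer_fintype fun y hy => by
    show (j : A) * o * y * ((j : A) * o)⁻¹ ∈ Y
    have h : (j : A) * (o * y * o⁻¹) * (j : A)⁻¹ ∈ Y :=
      hj ⟨o * y * o⁻¹, hJn.conj_mem y (hYJ hy) o⟩ ⟨y, hy, rfl⟩
    rwa [show (j : A) * o * y * ((j : A) * o)⁻¹ = (j : A) * (o * y * o⁻¹) * (j : A)⁻¹ by group]
  set N := normalizer (Y : Set A)
  have hidx : (J.subgroupOf N).index = 2 := by
    have hd : (J.subgroupOf N).index ∣ J.index := J.relIndex_dvd_index_of_normal N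
    rw [c.facts.index_J] at hd
    refine ((Nat.dvd_prime Nat.prime_two).1 hd).resolve_left fun h1 => ?_
    have h : (⟨_, hn⟩ : ↥N) ∈ J.subgroupOf N := by rw [index_eq_one.1 h1]; exact mem_top _
    exact ho ((mul_mem_cancel_left j.2).1 h)
  have hcN := (J.subgroupOf N).card_mul_index
  rw [← inf_subgroupOf_left, Nat.card_congr (subgroupOfEquivOfLe (inf_le_left : N ⊓ J ≤ N)).toEquiv, h72,
    inf_subgroupOf_left, hidx] at hcN
  omega

/-- A subgroup over the group of order nine of the facts. -/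
theorem exists_three_facts : ∃ (Q : Subgroup G) (a b : A), c.Three Q ∧ a ∈ J ∧ b ∈ J ∧ orderOf a = 3 ∧
    orderOf b = 3 ∧ a * b = b * a ∧ b ∉ zpowers a ∧
    Nat.card ↥(normalizer ((closure {a, b} : Subgroup A) : Set A) ⊓ J) = 72 ∧
    (∀ x ∈ Q, c.im x ∈ closure ({a, b} : Set A)) ∧ (∀ y ∈ closure ({a, b} : Set A), ∃ x ∈ Q, c.im x = y) ∧
    ∀ v ∈ closure ({a, b} : Set A), v ≠ 1 →
      ∃ g ∈ J, IsConjugateBy g (closure {a, b}) (closure {a, b}) ∧ g * a * g⁻¹ = v := by
  haveI := c.finite_A_local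
  obtain ⟨a, b, n, ha, hb, -, -, -, hao, hbo, hab, hnb, -, -, -, htr, -, h72⟩ := c.facts.three
  obtain ⟨Q, h1, h2, h3, h4, h5, h6⟩ := c.exists_three (closure {a, b})
    ((Subgroup.closure_le _).2 (Set.insert_subset ha (Set.singleton_subset_iff.2 hb)))
    (card_closure_pair hao hbo hab hnb)
  refine ⟨Q, a, b, ⟨h1, h2, h3, h6⟩, ha, hb, hao, hbo, hab, hnb, h72, fun x hx => ?_, fun y hy => ?_, htr⟩
  · rw [c.im_eq (h1 hx).1]
    exact h4 x (h1 hx) hx
  · obtain ⟨x, hx, hxQ, e⟩ := h5 y hy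
    exact ⟨x, hxQ, by rw [c.im_eq hx.1, e]⟩

theorem card_normalizer_three (hsp : c.Split) :
    ∃ Q, c.Three Q ∧ Nat.card ↥(normalizer (Q : Set G)) = 864 := by
  haveI := c.finite_A_local
  haveI : Fact (Nat.Prime 3) := ⟨Nat.prime_three⟩
  obtain ⟨Q, a, b, hQ, ha, hb, hao, hbo, hab, hnb, h72, hin, hsur, -⟩ := c.exists_three_facts
  refine ⟨Q, hQ, ?_⟩
  set Y := closure ({a, b} : Set A)
  set N := normalizer (Q : Set G) with hN
  have hNH : N ≤ c.H := c.three_normalizer_le hsp hQ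
  let f : ↥N →* A := c.pr.comp (inclusion hNH)
  have hf : ∀ x : ↥N, f x = c.im x := fun x => (c.im_eq (hNH x.2)).symm
  have hQN : Q ≤ N := le_normalizer
  have hrange : f.range = normalizer (Y : Set A) := by
    refine le_antisymm ?_ fun α hα => ?_
    · rintro _ ⟨x, rfl⟩
      refine mem_normalizer_fintype fun y hy => ?_
      show f x * y * (f x)⁻¹ ∈ Y
      obtain ⟨q, hq, rfl⟩ := hsur y hy
      rw [hf, ← c.im_conj (hNH x.2) (hQ.le hq).1]
      exact hin _ ((mem_normalizer_iff.1 x.2 q).1 hq)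
    obtain ⟨⟨x, hxH⟩, hxα⟩ := c.pr_surj α
    rw [← c.im_eq] at hxα
    let K : Subgroup G := (Y.comap c.pr).map c.H.subtype
    have hK : ∀ w, w ∈ K ↔ ∃ hw : w ∈ c.H, c.im w ∈ Y := fun w => by
      constructor
      · rintro ⟨v, hv, rfl⟩
        exact ⟨v.2, by show c.im (v : G) ∈ Y; rw [c.im_eq v.2]; exact hv⟩
      · rintro ⟨hw, h⟩
        rw [c.im_eq hw] at h
        exact ⟨⟨w, hw⟩, h, rfl⟩
    obtain ⟨T, hT⟩ := c.three_sylow hsp hQ
    have hQK : Q ≤ K := fun q hq => (hK q).2 ⟨(hQ.le hq).1, hin q hq⟩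
    let TK : Sylow 3 ↥K := T.subtype (hT.symm ▸ hQK)
    have h3 : IsPGroup 3 ↥(Q.map (MulAut.conj x).toMonoidHom) :=
      (IsPGroup.of_card (n := 3) (by rw [hQ.card]; norm_num) : IsPGroup 3 ↥Q).map _
    obtain ⟨k, hk⟩ := CfsgLib.Invol.exists_conj_le_sylow (Q := (Q.map (MulAut.conj x).toMonoidHom).subgroupOf K)
      h3.comap_subtype TK
    obtain ⟨hkH, hkY⟩ := (hK k).1 k.2
    have hn : (k : G) * x ∈ N := mem_normalizer_fintype fun q hq => by
      show (k : G) * x * q * ((k : G) * x)⁻¹ ∈ Q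
      have hm : x * q * x⁻¹ ∈ K := (hK _).2 ⟨mul_mem (mul_mem hxH (hQ.le hq).1) (inv_mem hxH), by
        rw [c.im_conj hxH (hQ.le hq).1, hxα]
        exact (mem_normalizer_iff.1 hα _).1 (hin q hq)⟩
      have h : (k : G) * (x * q * x⁻¹) * (k : G)⁻¹ ∈ (T : Subgroup G) := hk ⟨_, hm⟩ ⟨q, hq, rfl⟩
      rw [hT] at h
      rwa [show (k : G) * x * q * ((k : G) * x)⁻¹ = (k : G) * (x * q * x⁻¹) * (k : G)⁻¹ by group]
    obtain ⟨q, hq, hqk⟩ := hsur _ hkY
    refine ⟨⟨q⁻¹ * ((k : G) * x), mul_mem (inv_mem (hQN hq)) hn⟩, ?_⟩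
    rw [hf]
    show c.im (q⁻¹ * ((k : G) * x)) = α
    rw [c.im_mul (inv_mem (hQ.le hq).1) (mul_mem hkH hxH), c.im_mul hkH hxH, c.im_inv (hQ.le hq).1, hqk, hxα,
      inv_mul_cancel_left]
  have hker : f.ker.map N.subtype = c.sg.ker.map c.C0.subtype := by
    ext x
    constructor
    · rintro ⟨⟨x, hx⟩, hk, rfl⟩
      show x ∈ _
      have h1 : c.pr ⟨x, hNH hx⟩ = 1 := MonoidHom.mem_ker.1 hk
      obtain ⟨e, he, q, hq, hd⟩ := c.ker_decomp (hNH hx) h1
      have heN : e ∈ c.NH := by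
        refine ⟨c.E_le he, mem_normalizer_fintype fun p hp => ?_⟩
        refine c.three_center hQ ?_ ?_
        all_goals
          have heQ : e ∈ N := by
            rw [show e = x * q⁻¹ by rw [hd, mul_inv_cancel_right]]
            exact mul_mem hx (inv_mem (hQN (hQ.P_le hq)))
        · exact (mem_normalizer_iff.1 heQ p).1 (hQ.P_le hp)
        · intro y hy
          show y * (e * p * e⁻¹) = e * p * e⁻¹ * y
          have hy' : e⁻¹ * y * e ∈ Q := (mem_normalizer_iff.1 heQ _).2 (by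
            rwa [show e * (e⁻¹ * y * e) * e⁻¹ = y by group])
          calc y * (e * p * e⁻¹) = e * (e⁻¹ * y * e * p) * e⁻¹ := by group
            _ = e * (p * (e⁻¹ * y * e)) * e⁻¹ := by rw [c.comm_P (hQ.le hy') hp]
            _ = _ := by group
      have hxC : x ∈ c.C0 := by
        rw [hd]
        exact mul_mem (c.mem_C0_iff.2 ⟨c.E_le he, c.E_normalizer he heN⟩) (c.P_le_C0 hq)
      exact ⟨⟨x, hxC⟩, MonoidHom.mem_ker.2 (Subtype.ext h1), rfl⟩
    · rintro ⟨⟨x, hx⟩, hk, rfl⟩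
      show x ∈ _
      have h1 : c.pr ⟨x, hx.1⟩ = 1 := congrArg Subtype.val (MonoidHom.mem_ker.1 hk)
      have hxN : x ∈ N := by
        obtain ⟨q, hq, e | e⟩ := c.ker_C0 hx h1
        · exact e ▸ hQN (hQ.P_le hq)
        · rw [e]
          refine mul_mem (mem_normalizer_fintype fun y hy => ?_) (hQN (hQ.P_le hq))
          show z * y * z⁻¹ ∈ Q
          rwa [← c.comm_z (hQ.le hy).1, mul_inv_cancel_right]
      exact ⟨⟨x, hxN⟩, MonoidHom.mem_ker.2 h1, rfl⟩
  have hk6 : Nat.card ↥f.ker = 6 := by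
    rw [Nat.card_congr (equivMapOfInjective f.ker N.subtype N.subtype_injective).toEquiv, hker,
      ← Nat.card_congr (equivMapOfInjective c.sg.ker c.C0.subtype c.C0.subtype_injective).toEquiv, c.card_sg_ker]
  rw [card_eq_card_quotient_mul_card_subgroup f.ker, Nat.card_congr (QuotientGroup.quotientKerEquivRange f).toEquiv,
    hrange, hk6, c.card_normalizer_nine ha hb hao hbo hab hnb h72]

/-- The Sylow 3-subgroups inside `H`. -/
theorem sylow_three (hsp : c.Split) (S : Sylow 3 G) (hS : (S : Subgroup G) ≤ c.H) :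
    Cfsg.IsExtraspecial 3 ↥(S : Subgroup G) ∧ Nat.card ↥(S : Subgroup G) = 27 ∧
      Monoid.exponent ↥(S : Subgroup G) = 3 ∧ normalizer ((S : Subgroup G) : Set G) ≤ c.H ∧
      Nat.card ↥(normalizer ((S : Subgroup G) : Set G)) = 864 := by
  haveI : Fact (Nat.Prime 3) := ⟨Nat.prime_three⟩
  obtain ⟨Q, hQ, h864⟩ := c.card_normalizer_three hsp
  obtain ⟨T, hT⟩ := c.three_sylow hsp hQ
  have h27 : Nat.card ↥(S : Subgroup G) = 27 := by
    rw [S.card_eq_multiplicity, ← T.card_eq_multiplicity, hT, hQ.card]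
  obtain ⟨h, hh, he⟩ := c.exists_conj_eq hQ hS h27
  let e : ↥(S : Subgroup G) ≃* ↥Q :=
    ((S : Subgroup G).equivMapOfInjective _ (MulAut.conj h).injective).trans (MulEquiv.subgroupCongr he)
  have hNn : (normalizer ((S : Subgroup G) : Set G)).map (MulAut.conj h).toMonoidHom = normalizer (Q : Set G) := by
    rw [← he]
    exact map_equiv_normalizer_eq _ (MulAut.conj h)
  refine ⟨CfsgLib.Spor.Affine.isExtraspecial_congr e.symm (c.three_extraspecial hQ), h27, ?_, ?_, ?_⟩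
  · refine Nat.dvd_antisymm (Monoid.exponent_dvd_of_forall_pow_eq_one fun g => e.injective ?_) ?_
    · rw [map_pow, map_one]
      exact Subtype.ext (c.three_exp hQ (e g).2)
    · obtain ⟨g, hg⟩ := exists_prime_orderOf_dvd_card' (G := ↥(S : Subgroup G)) 3 (by rw [h27]; norm_num)
      have := Monoid.order_dvd_exponent g
      rwa [hg] at this
  · intro g hg
    have hm : h * g * h⁻¹ ∈ c.H := c.three_normalizer_le hsp hQ (hNn ▸ ⟨g, hg, rfl⟩)
    rw [show g = h⁻¹ * (h * g * h⁻¹) * h by group]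
    exact mul_mem (mul_mem (inv_mem hh) hm) hh
  · rw [Nat.card_congr (equivMapOfInjective _ (MulAut.conj h).toMonoidHom (MulAut.conj h).injective).toEquiv, hNn,
      h864]

/-- There is one class of elements of order three. -/
theorem isConj_three (hsp : c.Split) {x y : G} (hx : orderOf x = 3) (hy : orderOf y = 3) : IsConj x y := by
  haveI := c.finite_A_local
  haveI : Fact (Nat.Prime 3) := ⟨Nat.prime_three⟩
  obtain ⟨Q, a, b, hQ, ha, hb, hao, hbo, hab, hnb, -, hin, hsur, htr⟩ := c.exists_three_facts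
  obtain ⟨ya, hya, hyai⟩ := hsur a (subset_closure (Set.mem_insert _ _))
  have hyaP : ya ∉ P := fun h => by
    rw [c.im_eq (c.P_le_C0 h).1, c.pr_P h] at hyai
    simp [← hyai] at hao
  have hyaC := hQ.le hya
  -- the elements `ya * q`
  have hshift : ∀ q ∈ P, IsConj ya (ya * q) := by
    obtain ⟨w, hw, hwne⟩ : ∃ w ∈ Q, w * ya ≠ ya * w := by
      by_contra hcon
      push Not at hcon
      exact hyaP (c.three_center hQ hya hcon)
    have hd : ya⁻¹ * (w * ya * w⁻¹) ∈ Q := mul_mem (inv_mem hya) (mul_mem (mul_mem hw hya) (inv_mem hw))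
    have hcom : c.im w * c.im ya = c.im ya * c.im w := by
      haveI := IsPGroup.isMulCommutative_of_card_eq_prime_sq (p := 3) (G := ↥(closure ({a, b} : Set A)))
        (by rw [card_closure_pair hao hbo hab hnb]; norm_num)
      exact congrArg Subtype.val (mul_comm' (⟨c.im w, hin w hw⟩ : ↥(closure ({a, b} : Set A))) ⟨c.im ya, hin ya hya⟩)
    have hwH := (hQ.le hw).1
    have hp : ya⁻¹ * (w * ya * w⁻¹) ∈ P := c.three_ker hQ hd (by
      rw [c.im_mul (inv_mem hyaC.1) (mul_mem (mul_mem hwH hyaC.1) (inv_mem hwH)), c.im_inv hyaC.1,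
        c.im_conj hwH hyaC.1, hcom, mul_inv_cancel_right, inv_mul_cancel])
    set p := ya⁻¹ * (w * ya * w⁻¹) with hpdef
    have hp1 : p ≠ 1 := fun h => hwne (mul_inv_eq_iff_eq_mul.1 (inv_mul_eq_one.1 h).symm)
    have e1 : w * ya * w⁻¹ = ya * p := by rw [hpdef]; group
    have e2 : w * (ya * p) * w⁻¹ = ya * (p * p) := by
      calc w * (ya * p) * w⁻¹ = w * ya * w⁻¹ * (w * p * w⁻¹) := by group
        _ = ya * p * (w * p * w⁻¹) := by rw [e1]
        _ = ya * p * p := by rw [← c.comm_P (hQ.le hw) hp, mul_inv_cancel_right]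
        _ = _ := by group
    have c1 : IsConj ya (ya * p) := isConj_iff.2 ⟨w, e1⟩
    have c2 : IsConj ya (ya * (p * p)) := c1.trans (isConj_iff.2 ⟨w, e2⟩)
    have hpp : c.pg⁻¹ = c.pg * c.pg := (eq_inv_of_mul_eq_one_left c.pg_cube).symm
    intro q hq
    rcases c.mem_P hq with rfl | rfl | rfl
    · rw [mul_one]
    · rcases c.mem_P hp with h | h | h
      · exact absurd h hp1
      · exact h ▸ c1
      · rw [h, ← mul_inv_rev, ← hpp, inv_inv] at c2
        exact c2
    · rcases c.mem_P hp with h | h | h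
      · exact absurd h hp1
      · rw [h, ← hpp] at c2
        exact c2
      · exact h ▸ c1
  -- outside `P`
  have houter : ∀ w ∈ Q, c.im w ≠ 1 → IsConj ya w := by
    intro w hw hw1
    obtain ⟨g, hg, -, hga⟩ := htr _ (hin w hw) hw1
    obtain ⟨g', hg', hg'g⟩ := c.exists_C0_im hg
    have hCw : g' * ya * g'⁻¹ ∈ c.C0 := mul_mem (mul_mem hg' hyaC) (inv_mem hg')
    have him : c.im ((g' * ya * g'⁻¹)⁻¹ * w) = 1 := by
      rw [c.im_mul (inv_mem hCw.1) (hQ.le hw).1, c.im_inv hCw.1, c.im_conj hg'.1 hyaC.1, hg'g, hyai, hga,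
        inv_mul_cancel]
    rw [c.im_eq (mul_mem (inv_mem hCw) (hQ.le hw) : _ ∈ c.C0).1] at him
    obtain ⟨q, hq, e | e⟩ := c.ker_C0 (mul_mem (inv_mem hCw) (hQ.le hw)) him
    · refine (hshift q hq).trans (isConj_iff.2 ⟨g', ?_⟩)
      rw [inv_mul_eq_iff_eq_mul.1 e]
      calc g' * (ya * q) * g'⁻¹ = g' * ya * (q * g'⁻¹) := by group
        _ = _ := by rw [c.comm_P (inv_mem hg') hq, ← mul_assoc]
    · exfalso
      have e' : w = g' * ya * g'⁻¹ * (z * q) := inv_mul_eq_iff_eq_mul.1 e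
      have hcz : Commute (g' * ya * g'⁻¹) (z * q) :=
        (show Commute (g' * ya * g'⁻¹) z from c.comm_z hCw.1).mul_right
          (show Commute (g' * ya * g'⁻¹) q from (c.comm_P hCw hq).symm)
      have h3 := c.three_exp hQ hw
      rw [e', hcz.mul_pow, conj_pow, c.three_exp hQ hya, mul_one, mul_inv_cancel, one_mul,
        (show Commute z q from (c.comm_z (c.P_le_C0 hq).1).symm).mul_pow, c.three_exp hQ (hQ.P_le hq), mul_one,
        pow_succ, pow_two, c.zz, one_mul] at h3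
      exact c.z_ne h3
  -- the generator of `P`
  have hpg : IsConj ya c.pg := by
    obtain ⟨l, hl, -, -, hl1, -, -, hlc, -, -⟩ := c.exists_four hsp
    obtain ⟨g, hg⟩ := isConj_iff.1 hlc
    obtain ⟨hH, h1⟩ := c.im_conj_pg hg (c.L0_le hl) fun e => hl1 (e ▸ c.im_E c.z_mem_E)
    obtain ⟨h, hh, hm⟩ := c.exists_conj_three hQ (S := zpowers (g⁻¹ * c.pg * g)) (zpowers_le.2 hH)
      (IsPGroup.of_card (n := 1) (by
        rw [Nat.card_zpowers, show g⁻¹ * c.pg * g = MulAut.conj g⁻¹ c.pg by simp, MulEquiv.orderOf_eq, c.ord_pg,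
          pow_one]))
    have hmem := hm _ (mem_zpowers _)
    refine (houter _ hmem ?_).trans (isConj_iff.2 ⟨g * h⁻¹, by group⟩)
    rw [c.im_conj hh hH]
    exact fun e => h1 (conj_eq_one_iff.1 e)
  have hpg' : IsConj ya c.pg⁻¹ := by
    obtain ⟨n, -, hn⟩ := c.exists_inverting
    exact hpg.trans (isConj_iff.2 ⟨n, hn⟩)
  have hall : ∀ w : G, orderOf w = 3 → IsConj ya w := by
    intro w hw
    obtain ⟨T, hT⟩ := c.three_sylow hsp hQ
    obtain ⟨g, hg⟩ := CfsgLib.Invol.exists_conj_le_sylow (Q := zpowers w)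
      (IsPGroup.of_card (n := 1) (by rw [Nat.card_zpowers, hw, pow_one])) T
    have hm : g * w * g⁻¹ ∈ (T : Subgroup G) := hg _ (mem_zpowers _)
    rw [hT] at hm
    suffices h : IsConj ya (g * w * g⁻¹) from h.trans (isConj_iff.2 ⟨g⁻¹, by group⟩)
    by_cases h1 : c.im (g * w * g⁻¹) = 1
    · rcases c.mem_P (c.three_ker hQ hm h1) with h | h | h
      · rw [conj_eq_one_iff] at h
        simp [h] at hw
      · exact h ▸ hpg
      · exact h ▸ hpg'
    · exact houter _ hm h1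
  exact (hall x hx).symm.trans (hall y hy)

end CfsgLib.Spor.JFourType.Ctx
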