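import Cfsg.Agent.Lib.Spor.JFourType.FiveFusion
import Cfsg.Agent.Lib.Spor.JFourType.FiveSevenInterface

/-!
# Elements of order five attached to the pair stabilizer facts
-/

set_option autoImplicit false
set_option linter.style.haveILetI false

namespace CfsgLib.Spor.JFourType.Ctx

open Subgroup

universe u

variable {G : Type u} [Group G] [Finite G] {A : Type} [Group A] {J I R : Subgroup A}
  {z : G} {P : Subgroup G} (c : Ctx J I R z P)
include c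

/-- The normalizer of `R` in the simple subgroup has order 1920. -/
theorem card_normalizer_R (F : FiveSeven J I R) : Nat.card ↥(normalizer (R : Set A) ⊓ J) = 1920 := by
  obtain ⟨f, hf, hk⟩ := F.R_quot
  have hR : R ≤ normalizer (R : Set A) ⊓ J := le_inf le_normalizer c.facts.R_le
  have h := f.ker.card_mul_index
  rw [index_ker, f.range_eq_top_of_surjective hf, Subgroup.card_top, Nat.card_perm, Nat.card_fin, hk,
    Nat.card_congr (subgroupOfEquivOfLe hR).toEquiv, c.facts.card_R] at h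
  rw [← h]; rfl

/-- The data at an element of order five. -/
theorem exists_fiveFull (F : FiveSeven J I R) :
    ∃ x n s h₀ : G, c.FiveFull x n s ∧ h₀ ∈ c.C0 ∧ c.im (h₀⁻¹ * x * h₀) ∈ normalizer (I : Set A) ∧
      (∃ w ∈ closure ((fun i => c.im h₀ * i * (c.im h₀)⁻¹) '' (I : Set A) ∪
        (fun i => c.im s * (c.im h₀ * i * (c.im h₀)⁻¹) * (c.im s)⁻¹) '' (I : Set A)), orderOf w = 7) ∧
      ∃ i ∈ I, c.im h₀ * i * (c.im h₀)⁻¹ ∉ normalizer (R : Set A) := by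
  classical
  have hNR := c.card_normalizer_R F
  obtain ⟨r, hrJ, n, hnJ, o, j, hjJ, hro, hnr, hrR, hnR, hrI, hoJ, -, hor, hcr, hNr, hIR, hw⟩ := F.five
  obtain ⟨n₀, hn₀, hn₀i⟩ := c.exists_C0_im hnJ
  obtain ⟨h₀, hh₀, hh₀i⟩ := c.exists_C0_im hjJ
  obtain ⟨x₁, hx₁, hx₁i⟩ := c.exists_C0_im hrJ
  have hr5 : r ^ 5 = 1 := by rw [← hro]; exact pow_orderOf_eq_one r
  -- an element of order five over the given one
  obtain ⟨x, hx, hxi, hx5⟩ : ∃ x ∈ c.C0, c.im x = r ∧ x ^ 5 = 1 := by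
    refine ⟨x₁ ^ 6, pow_mem hx₁ 6, ?_, ?_⟩
    · rw [c.im_pow hx₁.1, hx₁i, pow_succ, hr5, one_mul]
    · have hk : (⟨x₁ ^ 5, pow_mem hx₁ 5⟩ : ↥c.C0) ∈ c.sg.ker := by
        rw [MonoidHom.mem_ker]
        refine Subtype.ext ?_
        show c.pr ⟨x₁ ^ 5, _⟩ = 1
        rw [← c.im_eq, c.im_pow hx₁.1, hx₁i, hr5]
      have h6 : (⟨⟨x₁ ^ 5, pow_mem hx₁ 5⟩, hk⟩ : ↥c.sg.ker) ^ 6 = 1 := by
        rw [← c.card_sg_ker]; exact pow_card_eq_one'
      have h6' : (x₁ ^ 5) ^ 6 = 1 := congrArg (fun t : ↥c.sg.ker => ((t : ↥c.C0) : G)) h6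
      rwa [← pow_mul, mul_comm, pow_mul] at h6'
  have hxH : x ∈ c.H := hx.1
  have hxo : orderOf x = 5 := by
    haveI : Fact (Nat.Prime 5) := ⟨by norm_num⟩
    refine orderOf_eq_prime hx5 fun h => ?_
    rw [h, c.im_one] at hxi
    rw [← hxi, orderOf_one] at hro
    norm_num at hro
  -- the outer element
  obtain ⟨⟨h, hh⟩, hho⟩ := c.pr_surj o
  rw [← c.im_eq hh] at hho
  obtain ⟨k, hk, hki, hkx⟩ := c.exists_adjust (p := 5) (by norm_num) (by norm_num) hxH hh hxo (i := 1)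
    (by rw [hho, hxi, hor, mul_inv_cancel_right, pow_one])
  rw [hxi, mem_zpowers_iff] at hki
  obtain ⟨a, ha⟩ := hki
  have hsi : c.im (k * h) = r ^ a * o := by rw [c.im_mul hk hh, hho, ha]
  refine ⟨x, n₀, k * h, h₀, ⟨⟨⟨hx, hn₀, ?_, hx5, ?_, ?_, ?_⟩, ?_⟩, ?_, hNR, mul_mem hk hh, ?_, ?_⟩, hh₀, ?_, ?_, ?_⟩
  · rw [hxi, hro]
  · rw [hn₀i, hxi, hnr]
  · rw [hxi]; exact hrR
  · rw [hn₀i]; exact hnR
  · rw [hxi]; exact hNr
  · rw [hxi]; exact hcr
  · exact mul_inv_eq_iff_eq_mul.1 (by rw [hkx, pow_one])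
  · intro hM
    obtain ⟨hH', hJ⟩ := c.mem_M.1 hM
    rw [← c.im_eq hH', hsi] at hJ
    exact hoJ (by simpa using mul_mem (inv_mem (zpow_mem hrJ a)) hJ)
  · rw [c.im_mul (mul_mem (inv_mem hh₀.1) hxH) hh₀.1, c.im_mul (inv_mem hh₀.1) hxH, c.im_inv hh₀.1, hh₀i, hxi]
    exact hrI
  · obtain ⟨w, hw, hwo⟩ := hw
    refine ⟨w, ?_, hwo⟩
    rw [hh₀i, hsi]
    refine closure_mono (Set.union_subset Set.subset_union_left ?_) hw
    rintro _ ⟨i, hi, rfl⟩
    -- the power of the element of order five keeps the conjugate of `I`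
    have hq : (j⁻¹ * r * j) ^ a ∈ normalizer (I : Set A) := zpow_mem hrI a
    have hqe : (j⁻¹ * r * j) ^ a = j⁻¹ * r ^ a * j := by
      simpa using (conj_zpow (i := a) (a := j⁻¹) (b := r))
    refine Or.inr ⟨((j⁻¹ * r * j) ^ a)⁻¹ * i * (j⁻¹ * r * j) ^ a, (mem_normalizer_iff''.1 hq i).1 hi, ?_⟩
    have hcomm : r ^ a * o = o * r ^ a := ((show Commute o r from hor).zpow_right a).eq.symm
    rw [hcomm, hqe]
    group
  · obtain ⟨i, hi, hiR⟩ := hIR
    exact ⟨i, hi, by rwa [hh₀i]⟩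

end CfsgLib.Spor.JFourType.Ctx
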