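import Cfsg.Agent.Lib.Spor.JFourType.SevenCent
import Cfsg.Agent.Lib.Spor.JFourType.FiveSetup

/-!
# The subgroups of order seven
-/

set_option autoImplicit false
set_option linter.style.haveILetI false

namespace CfsgLib.Spor.JFourType.Ctx

open Subgroup

universe u

variable {G : Type u} [Group G] [Finite G]

/-- The centralizer of an element of order seven is the product with a symmetric group. -/
structure SevenLocal (w : G) : Prop where
  prod : ∃ T : Subgroup G, Cfsg.IsInternalDirectProduct (zpowers w) T (centralizer (zpowers w : Set G)) ∧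
    Nonempty (↥T ≃* Equiv.Perm (Fin 5))
  card_centralizer : Nat.card ↥(centralizer ({w} : Set G)) = 840
  card_normalizer : Nat.card ↥(normalizer (zpowers w : Set G)) = 2520

variable {A : Type} [Group A] {J I R : Subgroup A} {z : G} {P : Subgroup G} (c : Ctx J I R z P)
include c

/-- The local structure at order seven. -/
theorem seven_local (hS : c.Split) (F : FiveSeven J I R) (he : Extra J I R) :
    ¬ 49 ∣ Nat.card G ∧ ∀ w : G, orderOf w = 7 → SevenLocal w := by
  classical
  haveI : Fact (Nat.Prime 7) := ⟨by norm_num⟩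
  obtain ⟨x, n, s, h₀, f, -⟩ := c.exists_fiveFull F
  have q : c.PentadCtx x n s := ⟨f, hS, F.R_quot⟩
  obtain ⟨y, φ, fr⟩ := q.exists_frame F
  have h49 := fr.not_dvd hS F he
  refine ⟨h49, fun w hw => ?_⟩
  have hfac : (Nat.card G).factorization 7 = 1 := by
    have h1 : 7 ∣ Nat.card G := hw ▸ orderOf_dvd_natCard _
    have h2 := ((by norm_num : Nat.Prime 7).dvd_iff_one_le_factorization Nat.card_pos.ne').1 h1
    by_contra hne
    exact h49 (((by norm_num : Nat.Prime 7).pow_dvd_iff_le_factorization (k := 2) (n := Nat.card G)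
      Nat.card_pos.ne').2 (by omega))
  have hcz : ∀ {v : G}, orderOf v = 7 → Nat.card ↥(zpowers v) = 7 ^ (Nat.card G).factorization 7 := fun h => by
    rw [hfac, pow_one, Nat.card_zpowers, h]
  obtain ⟨t, ht⟩ := MulAction.exists_smul_eq G (Sylow.ofCard (zpowers y) (hcz fr.ord))
    (Sylow.ofCard (zpowers w) (hcz hw))
  set e := MulAut.conj t with hedef
  have hmap : (zpowers y).map e.toMonoidHom = zpowers w := by
    have h1 := congrArg (fun S : Sylow 7 G => (S : Subgroup G)) ht
    simp only [Sylow.coe_subgroup_smul, Sylow.coe_ofCard] at h1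
    rw [← h1]
    rfl
  have hcard : ∀ S : Subgroup G, Nat.card ↥(S.map e.toMonoidHom) = Nat.card ↥S := fun S =>
    (Nat.card_congr (S.equivMapOfInjective _ e.injective).toEquiv).symm
  have hcs : ∀ v : G, centralizer (zpowers v : Set G) = centralizer ({v} : Set G) := fun v => by
    rw [zpowers_eq_closure, centralizer_closure]
  have hC : (centralizer (zpowers y : Set G)).map e.toMonoidHom = centralizer (zpowers w : Set G) := by
    rw [← hmap]
    ext v
    constructor
    · rintro ⟨u, hu, rfl⟩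
      refine mem_centralizer_iff.2 ?_
      rintro _ ⟨b, hb, rfl⟩
      rw [← map_mul, ← map_mul, mem_centralizer_iff.1 hu b hb]
    · intro hv
      refine ⟨e.symm v, mem_centralizer_iff.2 fun b hb => e.injective ?_, e.apply_symm_apply v⟩
      rw [map_mul, map_mul, e.apply_symm_apply]
      exact mem_centralizer_iff.1 hv _ (mem_map_of_mem _ hb)
  refine ⟨?_, by rw [← hcs, ← hC, hcard, hcs, fr.card_centralizer hS F he],
    by rw [← hmap, ← map_equiv_normalizer_eq, hcard, fr.card_normalizer hS F he]⟩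
  refine ⟨(φ.range).map e.toMonoidHom, ?_, ⟨((equivMapOfInjective _ _ e.injective).symm).trans
    (MonoidHom.ofInjective fr.inj).symm⟩⟩
  rw [← hmap]
  rw [show centralizer (((zpowers y).map e.toMonoidHom : Subgroup G) : Set G) =
    (centralizer (zpowers y : Set G)).map e.toMonoidHom by rw [hmap, hC], hcs, fr.centralizer_eq hS F he]
  refine ⟨map_mono (zpowers_le.2 fr.y_mem), map_mono ?_, ?_, ?_, ?_⟩
  · rintro _ ⟨σ, rfl⟩; exact fr.phi_mem σ
  · rintro _ ⟨a, ha, rfl⟩ _ ⟨b, ⟨σ, rfl⟩, rfl⟩
    obtain ⟨i, rfl⟩ := mem_zpowers_iff.1 ha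
    rw [← map_mul, ← map_mul, ((fr.comm σ).zpow_left i).eq]
  · rw [← Subgroup.map_inf _ _ _ e.injective, show zpowers y ⊓ φ.range = ⊥ from (eq_bot_iff_forall _).2 ?_,
      Subgroup.map_bot]
    rintro a ⟨ha, σ, hσ⟩
    have h : fr.hom (⟨a, ha⟩, σ⁻¹) = fr.hom 1 := by
      rw [fr.hom_apply, map_one, map_inv]
      exact mul_inv_eq_one.2 hσ.symm
    exact congrArg (fun p : ↥(zpowers y) × Equiv.Perm (Fin 5) => (p.1 : G)) (fr.hom_injective h)
  · rw [← Subgroup.map_sup]
    congr 1
    refine le_antisymm (sup_le (zpowers_le.2 fr.y_mem) (by rintro _ ⟨σ, rfl⟩; exact fr.phi_mem σ)) fun v hv => ?_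
    obtain ⟨a, ha, σ, rfl⟩ := fr.mem_range.1 hv
    exact mul_mem (mem_sup_left ha) (mem_sup_right ⟨σ, rfl⟩)

end CfsgLib.Spor.JFourType.Ctx
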