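import Cfsg.Agent.Lib.Spor.JFourType.EleGen
import Cfsg.Agent.Lib.Spor.JFourType.Order.ElevenCube
import Cfsg.Agent.Lib.Spor.JFourType.Order.Residues
import Cfsg.Agent.Lib.Spor.JFourType.CodeM24
import Cfsg.Agent.Lib.Spor.JFourType.FiveCent

/-!
# Elements of order eleven and their commuting elements of order two, three and five
-/

set_option autoImplicit false
set_option linter.style.haveILetI false
set_option linter.unusedSectionVars false

namespace CfsgLib.Spor.JFourType.Ctx

open Subgroup

universe u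

variable {G : Type u} [Group G] [Finite G] {A : Type} [Group A] {J I R : Subgroup A}
  {z : G} {P : Subgroup G} (c : Ctx J I R z P)
include c

omit [Finite G] in
/-- An element commuting with a conjugate of `z`, conjugated, commutes with `z`. -/
theorem exists_conj_into_H {u v : G} (hu : IsConj z u) (h : u * v = v * u) :
    ∃ g : G, g * u * g⁻¹ = z ∧ g * v * g⁻¹ ∈ c.H := by
  obtain ⟨g, hg⟩ := isConj_iff.1 hu.symm
  refine ⟨g, hg, mem_centralizer_singleton_iff.2 ?_⟩
  rw [← hg, conj_mul, conj_mul, h]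

/-- An element of order eleven commuting with a conjugate of `z` is conjugate to a power of a given one. -/
theorem exists_conj_pow_eleven {x : G} (hx : x ∈ c.C0) (ho : orderOf x = 11) {u v : G} (hv : orderOf v = 11)
    (hu : IsConj z u) (h : u * v = v * u) : ∃ (g : G) (i : ℕ), g * v * g⁻¹ = x ^ i := by
  obtain ⟨g, -, hvH⟩ := c.exists_conj_into_H hu h
  obtain ⟨k, -, i, hk, -⟩ := c.conj_prime (p := 11) (by norm_num) (by norm_num) (by norm_num) hx.1 hvH ho
    (by rw [← hv]; exact (MulEquiv.orderOf_eq (MulAut.conj g) v))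
  exact ⟨k * g, i, by rw [← hk]; group⟩

/-- An element of order eleven commutes with no two commuting involutions one of which is conjugate to `z`. -/
theorem eq_of_comm_eleven {u u' v : G} (hv : orderOf v = 11) (hu : IsConj z u) (hu' : orderOf u' = 2)
    (huu : u * u' = u' * u) (h : u * v = v * u) (h' : u' * v = v * u') : u' = u := by
  obtain ⟨x, hx, ho⟩ := c.exists_ord_eleven
  obtain ⟨g, hg, hvH⟩ := c.exists_conj_into_H hu h
  obtain ⟨k, hk, i, hki, hi⟩ := c.conj_prime (p := 11) (by norm_num) (by norm_num) (by norm_num) hx.1 hvH ho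
    (by rw [← hv]; exact (MulEquiv.orderOf_eq (MulAut.conj g) v))
  set a := k * g with ha
  have hau : a * u * a⁻¹ = z := by
    rw [ha, show k * g * u * (k * g)⁻¹ = k * (g * u * g⁻¹) * k⁻¹ by group, hg, c.comm_z hk, mul_inv_cancel_right]
  have hav : a * v * a⁻¹ = x ^ i := by rw [← hki, ha]; group
  have hou : orderOf (x ^ i) = 11 := by rw [← hav, ← hv]; exact (MulEquiv.orderOf_eq (MulAut.conj a) v)
  have h1 : (a * u' * a⁻¹) * x ^ i = x ^ i * (a * u' * a⁻¹) := by rw [← hav, conj_mul, conj_mul, h']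
  have hH : a * u' * a⁻¹ ∈ c.H := mem_centralizer_singleton_iff.2 (by rw [← hau, conj_mul, conj_mul, huu])
  have h2 := c.eq_z_of_comm_eleven (pow_mem hx i) hou (CfsgLib.Invol.invol_conj hu' a) hH h1
  rw [← hau] at h2
  exact mul_left_cancel (mul_right_cancel h2)

/-- An element of order five has centralizer of order prime to eleven. -/
theorem not_eleven_dvd_five (hs : c.Split) (F : FiveSeven J I R) {g : G} (h5 : orderOf g = 5) :
    ¬ 11 ∣ Nat.card ↥(centralizer ({g} : Set G)) := by
  obtain ⟨x, n, s, h₀, f, -, -, -, -⟩ := c.exists_fiveFull F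
  haveI : Fact (Nat.Prime 5) := ⟨by norm_num⟩
  have hfac : (Nat.card G).factorization 5 = 1 := by
    have h1 : 5 ∣ Nat.card G := h5 ▸ orderOf_dvd_natCard _
    have h2 := ((show Nat.Prime 5 by norm_num).dvd_iff_one_le_factorization Nat.card_pos.ne').1 h1
    by_contra hne
    exact f.not_dvd hs (((show Nat.Prime 5 by norm_num).pow_dvd_iff_le_factorization
      Nat.card_pos.ne').2 (show 2 ≤ _ by omega))
  have hcz : ∀ {v : G}, orderOf v = 5 → Nat.card ↥(zpowers v) = 5 ^ (Nat.card G).factorization 5 := fun h => by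
    rw [hfac, pow_one, Nat.card_zpowers, h]
  obtain ⟨a, ha⟩ := MulAction.exists_smul_eq G (Sylow.ofCard (zpowers g) (hcz h5))
    (Sylow.ofCard (zpowers x) (hcz f.base.ord_x))
  have he : (zpowers g).map (MulAut.conj a).toMonoidHom = zpowers x := by
    have h1 := congrArg (fun S : Sylow 5 G => (S : Subgroup G)) ha
    simp only [Sylow.coe_subgroup_smul, Sylow.coe_ofCard] at h1
    exact h1
  have hle : (centralizer ({g} : Set G)).map (MulAut.conj a).toMonoidHom ≤ centralizer ({x} : Set G) := by
    rintro _ ⟨w, hw, rfl⟩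
    refine mem_centralizer_singleton_iff.2 ?_
    have hxm : x ∈ (zpowers g).map (MulAut.conj a).toMonoidHom := he.ge (mem_zpowers x)
    obtain ⟨v, hv, hve⟩ := hxm
    obtain ⟨i, rfl⟩ := mem_zpowers_iff.1 hv
    rw [← hve, ← map_mul, ← map_mul,
      ((show Commute w g from mem_centralizer_singleton_iff.1 hw).zpow_right i).eq]
  intro hd
  have h := hd.trans ((dvd_of_eq (Nat.card_congr ((centralizer ({g} : Set G)).equivMapOfInjective _
    (MulAut.conj a).injective).toEquiv)).trans (card_dvd_of_le hle))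
  rw [f.card_centralizer hs] at h
  norm_num at h

/-- No element of order two, three or five has centralizer of order divisible by `11 ^ 2`. -/
theorem not_sq_eleven_dvd_cent (hs : c.Split) (he : Extra J I R) (F : FiveSeven J I R) {g : G}
    (hg : orderOf g = 2 ∨ orderOf g = 3 ∨ orderOf g = 5) :
    ¬ 11 ^ 2 ∣ Nat.card ↥(centralizer ({g} : Set G)) := by
  have hconj : ∀ (a : G) (S : Set G), Nat.card ↥(centralizer ((fun w => a * w * a⁻¹) '' S)) =
      Nat.card ↥(centralizer S) := by
    intro a S
    refine Nat.card_congr ((Equiv.ofBijective _ ((MulAut.conj a⁻¹).bijective)).subtypeEquiv fun w => ?_)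
    show w ∈ centralizer _ ↔ a⁻¹ * w * a⁻¹⁻¹ ∈ centralizer S
    rw [inv_inv, mem_centralizer_iff, mem_centralizer_iff, Set.forall_mem_image]
    refine forall_congr' fun s => forall_congr' fun _ => ?_
    constructor
    · intro h
      calc s * (a⁻¹ * w * a) = a⁻¹ * (a * s * a⁻¹ * w) * a := by group
        _ = _ := by rw [h]; group
    · intro h
      calc a * s * a⁻¹ * w = a * (s * (a⁻¹ * w * a)) * a⁻¹ := by group
        _ = _ := by rw [h]; group
  have key : ∀ {a g₀ : G} {n : ℕ}, a * g * a⁻¹ = g₀ → Nat.card ↥(centralizer ({g₀} : Set G)) ∣ n →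
      ¬ 11 ^ 2 ∣ n → ¬ 11 ^ 2 ∣ Nat.card ↥(centralizer ({g} : Set G)) := by
    intro a g₀ n ha hn h11 hd
    refine h11 (hd.trans ?_)
    rwa [← hconj a, Set.image_singleton, ha]
  rcases hg with h2 | h3 | h5
  · by_cases hz : IsConj z g
    · obtain ⟨a, ha⟩ := isConj_iff.1 hz.symm
      exact key ha (dvd_of_eq c.card_H_local) (by norm_num)
    · obtain ⟨a, ha⟩ := c.exists_conj_Tset hs he h2 hz
      exact key rfl ((card_dvd_of_le (c.cent_Tset_le hs ha)).trans
        (dvd_of_eq (c.card_normalizer_W hs he.card_NI))) (by norm_num)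
  · obtain ⟨a, ha⟩ := isConj_iff.1 (c.isConj_three hs h3 c.ord_pg)
    refine key ha (dvd_of_eq ?_) (show ¬ 11 ^ 2 ∣ 6 * 443520 by norm_num)
    rw [← c.centralizer_P, c.centralizer_P_eq hs, c.card_C0]
  · exact fun hd => c.not_eleven_dvd_five hs F h5 ((dvd_pow_self 11 two_ne_zero).trans hd)

end CfsgLib.Spor.JFourType.Ctx
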