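import Cfsg.Agent.Lib.Spor.JFourType.EleM

/-!
# The centralizer of `y` has no subgroup of order `11 ^ 3`

Otherwise some conjugate of `N(W)` meets `N(W)` in a group with `⟨y⟩` as a self-centralizing Sylow subgroup whose
normalizer centralizes it.  Such a group has order at most `253`, while an orbit of `N(W)` on its conjugates has at
most `173067389` members, which makes that order at least `2898`.
-/

set_option autoImplicit false
set_option linter.style.haveILetI false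
set_option linter.unusedSectionVars false

namespace CfsgLib.Spor.JFourType.Ctx

open Subgroup

universe u

variable {G : Type u} [Group G] [Finite G] {A : Type} [Group A] {J I R : Subgroup A}
  {z : G} {P : Subgroup G} {c : Ctx J I R z P}

namespace EleFrame

variable {t y : G} (f : c.EleFrame t y)
include f

theorem zpow_eleven {a b : ℤ} (h : (11 : ℤ) ∣ a - b) : y ^ a = y ^ b := by
  obtain ⟨k, hk⟩ := h
  have h11 : y ^ (11 : ℤ) = 1 := by
    rw [show (11 : ℤ) = ((11 : ℕ) : ℤ) from rfl, zpow_natCast, ← f.ord_y, pow_orderOf_eq_one]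
  rw [show a = b + 11 * k by omega, zpow_add, zpow_mul, h11, one_zpow, mul_one]

/-- An element of `N(W)` carrying `y` to a power of it fixes `t`. -/
theorem conj_t {g : G} (hg : g ∈ normalizer (c.W : Set G)) {e : ℤ} (h : g * y * g⁻¹ = y ^ e)
    (he : ∃ e' : ℤ, (11 : ℤ) ∣ e * e' - 1) : g * t = t * g := by
  obtain ⟨e', he'⟩ := he
  have h1 : g * t * g⁻¹ * y ^ e = y ^ e * (g * t * g⁻¹) := by rw [← h, conj_mul, conj_mul, f.comm]
  have h2 : g * t * g⁻¹ * y = y * (g * t * g⁻¹) := by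
    have := ((show Commute (g * t * g⁻¹) (y ^ e) from h1).zpow_right e').eq
    rwa [← zpow_mul, f.zpow_eleven he', zpow_one] at this
  have h3 := (f.eq_one_or_t ((mem_normalizer_iff.1 hg t).1 f.tmem.1) h2).resolve_left
    fun e => f.tmem.2.1 (conj_eq_one_iff.1 e)
  exact mul_inv_eq_iff_eq_mul.1 h3

omit f in
/-- A coset count for the solutions of a conjugation equation. -/
theorem ncard_conj_eq_le {U : Subgroup G} (h h' : G) :
    {u : G | u ∈ U ∧ u⁻¹ * h * u = h'}.ncard ≤ Nat.card ↥(U ⊓ centralizer ({h} : Set G)) := by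
  rcases Set.eq_empty_or_nonempty {u : G | u ∈ U ∧ u⁻¹ * h * u = h'} with he | ⟨u₀, hu₀, e₀⟩
  · simp [he]
  rw [← SetLike.coe_sort_coe, Nat.card_coe_set_eq]
  refine Set.ncard_le_ncard_of_injOn (fun u => u * u₀⁻¹) (fun u hu => ?_) (fun a _ b _ e => mul_right_cancel e)
  refine mem_inf.2 ⟨mul_mem hu.1 (inv_mem hu₀), mem_centralizer_singleton_iff.2 ?_⟩
  calc u * u₀⁻¹ * h = u * (u₀⁻¹ * h * u₀) * u₀⁻¹ := by group
    _ = u * (u⁻¹ * h * u) * u₀⁻¹ := by rw [e₀, hu.2]
    _ = h * (u * u₀⁻¹) := by group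

theorem cent_le {U : Subgroup G} (hU : IsPGroup 11 ↥U) {g : G}
    (hg : orderOf g = 2 ∨ orderOf g = 3 ∨ orderOf g = 5) :
    Nat.card ↥(U ⊓ centralizer ({g} : Set G)) ≤ 11 := by
  haveI : Fact (Nat.Prime 11) := ⟨by norm_num⟩
  obtain ⟨k, hk⟩ := IsPGroup.iff_card.1 (hU.to_le (inf_le_left : U ⊓ centralizer ({g} : Set G) ≤ U))
  rw [hk]
  refine (Nat.pow_le_pow_right (by norm_num) (show k ≤ 1 from ?_)).trans (by norm_num)
  by_contra hk2
  exact c.not_sq_eleven_dvd_cent f.split f.extra f.five hg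
    ((pow_dvd_pow 11 (show 2 ≤ k by omega)).trans (hk ▸ card_dvd_of_le inf_le_right))

theorem mem_zpowers_of_comm_t {U : Subgroup G} (hU : IsPGroup 11 ↥U) (hy : y ∈ U) {u : G} (hu : u ∈ U)
    (h : u * t = t * u) : u ∈ zpowers y := by
  have he : zpowers y = U ⊓ centralizer ({t} : Set G) := eq_of_le_of_card_ge
    (zpowers_le.2 (mem_inf.2 ⟨hy, mem_centralizer_singleton_iff.2 f.comm⟩))
    ((f.cent_le hU (Or.inl f.t_ord)).trans (le_of_eq (by rw [Nat.card_zpowers, f.ord_y])))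
  rw [he]
  exact ⟨hu, mem_centralizer_singleton_iff.2 h⟩

/-- The members of `U` moving an element of order `n`, inducing a given automorphism on `⟨y⟩`, into `N(W)`. -/
theorem bad_le {U : Subgroup G} (hU : IsPGroup 11 ↥U) (hUy : U ≤ centralizer ({y} : Set G)) {n : ℕ}
    (hn : n = 2 ∨ n = 3 ∨ n = 5) {e e' s : ℤ} (he : (11 : ℤ) ∣ e * e' - 1) (hs : (11 : ℤ) ∣ (e' - 1) * s - 1) :
    {u : G | u ∈ U ∧ ∃ h ∈ normalizer (c.W : Set G), h * y * h⁻¹ = y ^ e ∧ orderOf h = n ∧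
      u⁻¹ * h * u ∈ normalizer (c.W : Set G)}.ncard ≤ 484 := by
  classical
  set M := normalizer (c.W : Set G)
  set B := {u : G | u ∈ U ∧ ∃ h ∈ M, h * y * h⁻¹ = y ^ e ∧ orderOf h = n ∧ u⁻¹ * h * u ∈ M}
  rcases Set.eq_empty_or_nonempty B with hB | ⟨u₀, -, h₀, hh₀, e₀, -, -⟩
  · simp [hB]
  set Z := zpowers (t * y)
  have hoZ : Nat.card ↥Z = 22 := by
    rw [Nat.card_zpowers, (show Commute t y from f.comm.symm).orderOf_mul_eq_mul_orderOf_of_coprime (by
      rw [f.t_ord, f.ord_y]; norm_num), f.t_ord, f.ord_y]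
  set T := (fun w => h₀ * w) '' (Z : Set G)
  have hT : T.ncard ≤ 22 := (Set.ncard_image_le (Set.toFinite _)).trans (le_of_eq (by
    rw [← Nat.card_coe_set_eq]; exact hoZ))
  have hmem : ∀ h ∈ M, h * y * h⁻¹ = y ^ e → ∃ i : ℤ, h = h₀ * y ^ i ∨ h = h₀ * t * y ^ i := by
    intro h hh hhe
    obtain ⟨i, hi⟩ := f.mem_cent (g := h₀⁻¹ * h) (mul_mem (inv_mem hh₀) hh) (by
      have : h₀⁻¹ * h * y * (h₀⁻¹ * h)⁻¹ = y := by
        calc h₀⁻¹ * h * y * (h₀⁻¹ * h)⁻¹ = h₀⁻¹ * (h * y * h⁻¹) * h₀ := by group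
          _ = h₀⁻¹ * (h₀ * y * h₀⁻¹) * h₀ := by rw [hhe, e₀]
          _ = y := by group
      exact mul_inv_eq_iff_eq_mul.1 this)
    refine ⟨i, hi.imp ?_ ?_⟩ <;> intro hi
    · rw [← hi, mul_inv_cancel_left]
    · rw [mul_assoc, ← hi, mul_inv_cancel_left]
  have htZ : ∀ i : ℤ, y ^ i ∈ Z ∧ t * y ^ i ∈ Z := fun i => by
    have hc : Commute t y := f.comm.symm
    have htt : t ^ (2 : ℤ) = 1 := by rw [zpow_two, c.W_sq f.tmem.1]
    constructor
    · refine mem_zpowers_iff.2 ⟨12 * i, ?_⟩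
      rw [hc.mul_zpow, show (12 : ℤ) * i = 2 * (6 * i) by omega, zpow_mul, htt, one_zpow, one_mul]
      exact f.zpow_eleven ⟨i, by omega⟩
    · refine mem_zpowers_iff.2 ⟨12 * i + 11, ?_⟩
      rw [hc.mul_zpow]
      congr 1
      · rw [show (12 : ℤ) * i + 11 = 2 * (6 * i + 5) + 1 by omega, zpow_add, zpow_mul, htt, one_zpow, one_mul,
          zpow_one]
      · exact f.zpow_eleven ⟨i + 1, by omega⟩
  have hy0 : h₀⁻¹ * y * h₀ = y ^ e' := by
    have h1 : h₀⁻¹ * y ^ e * h₀ = y := by rw [← e₀]; group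
    calc h₀⁻¹ * y * h₀ = h₀⁻¹ * y ^ (e * e') * h₀⁻¹⁻¹ := by rw [f.zpow_eleven he, zpow_one, inv_inv]
      _ = (h₀⁻¹ * y ^ e * h₀⁻¹⁻¹) ^ e' := by rw [zpow_mul, conj_zpow]
      _ = _ := by rw [inv_inv, h1]
  have htc : h₀ * t = t * h₀ := f.conj_t hh₀ e₀ ⟨e', he⟩
  have hrep : ∀ h ∈ M, h * y * h⁻¹ = y ^ e → ∃ h₁, (h₁ = h₀ ∨ h₁ = h₀ * t) ∧
      ∃ k : ℤ, h = y ^ k * h₁ * (y ^ k)⁻¹ := by
    intro h hh hhe
    obtain ⟨i, hi⟩ := hmem h hh hhe
    have key : y ^ (i * s) * h₀ * (y ^ (i * s))⁻¹ = h₀ * y ^ i := by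
      calc y ^ (i * s) * h₀ * (y ^ (i * s))⁻¹ = h₀ * (h₀⁻¹ * y ^ (i * s) * h₀⁻¹⁻¹) * (y ^ (i * s))⁻¹ := by group
        _ = h₀ * ((h₀⁻¹ * y * h₀⁻¹⁻¹) ^ (i * s)) * (y ^ (i * s))⁻¹ := by rw [conj_zpow]
        _ = h₀ * y ^ (e' * (i * s) + -(i * s)) := by rw [inv_inv, hy0, ← zpow_mul, zpow_add, zpow_neg, mul_assoc]
        _ = _ := by
          obtain ⟨q, hq⟩ := hs
          rw [f.zpow_eleven (b := i) ⟨i * q, by linear_combination i * hq⟩]
    rcases hi with rfl | rfl
    · exact ⟨h₀, Or.inl rfl, i * s, key.symm⟩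
    · refine ⟨h₀ * t, Or.inr rfl, i * s, ?_⟩
      have hc : Commute (y ^ (i * s)) t := (show Commute y t from f.comm).zpow_left _
      calc h₀ * t * y ^ i = h₀ * (t * y ^ i) := by group
        _ = h₀ * (y ^ i * t) := by rw [((show Commute y t from f.comm).zpow_left i).eq]
        _ = h₀ * y ^ i * t := by group
        _ = y ^ (i * s) * h₀ * ((y ^ (i * s))⁻¹ * t) := by rw [← key]; group
        _ = _ := by rw [hc.inv_left.eq]; group
  let piece : G → Set G := fun h₁ => if orderOf h₁ = n then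
      ⋃ h' ∈ (Set.toFinite T).toFinset, {u : G | u ∈ U ∧ u⁻¹ * h₁ * u = h'} else ∅
  have hpiece : ∀ h₁, (piece h₁).ncard ≤ 242 := fun h₁ => by
    by_cases ho : orderOf h₁ = n
    · simp only [piece, if_pos ho]
      refine (Finset.set_ncard_biUnion_le _ _).trans ((Finset.sum_le_card_nsmul _ _ 11 fun h' _ =>
        (ncard_conj_eq_le h₁ h').trans (f.cent_le hU (ho ▸ hn))).trans ?_)
      rw [← Set.ncard_eq_toFinset_card _ (Set.toFinite T), smul_eq_mul]
      omega
    · simp [piece, if_neg ho]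
  have hsub : B ⊆ piece h₀ ∪ piece (h₀ * t) := by
    rintro u ⟨hu, h, hh, hhe, hho, hhu⟩
    obtain ⟨h₁, hh₁, k, hk⟩ := hrep h hh hhe
    have ho : orderOf h₁ = n := by
      rw [← hho, hk]
      exact (MulEquiv.orderOf_eq (MulAut.conj (y ^ k)) h₁).symm
    have hcu : Commute u (y ^ k) :=
      (show Commute u y from mem_centralizer_singleton_iff.1 (hUy hu)).zpow_right k
    have hmov : u⁻¹ * h₁ * u = (y ^ k)⁻¹ * (u⁻¹ * h * u) * y ^ k := by
      rw [hk]
      calc u⁻¹ * h₁ * u = (u⁻¹ * ((y ^ k)⁻¹ * y ^ k)) * h₁ * ((y ^ k)⁻¹ * y ^ k * u) := by group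
        _ = ((u⁻¹ * (y ^ k)⁻¹) * y ^ k) * h₁ * ((y ^ k)⁻¹ * (y ^ k * u)) := by group
        _ = (((y ^ k)⁻¹ * u⁻¹) * y ^ k) * h₁ * ((y ^ k)⁻¹ * (u * y ^ k)) := by
          rw [hcu.inv_inv.eq, hcu.eq]
        _ = _ := by group
    have hhe₁ : h₁ * y * h₁⁻¹ = y ^ e := by
      rcases hh₁ with rfl | rfl
      · exact e₀
      · rw [show h₀ * t * y * (h₀ * t)⁻¹ = h₀ * (t * y * t⁻¹) * h₀⁻¹ by group, ← f.comm, mul_inv_cancel_right,
          e₀]
    have hT1 : u⁻¹ * h₁ * u ∈ (Set.toFinite T).toFinset := by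
      rw [Set.Finite.mem_toFinset]
      have hM : u⁻¹ * h₁ * u ∈ M := hmov ▸
        mul_mem (mul_mem (inv_mem (zpow_mem f.y_mem k)) hhu) (zpow_mem f.y_mem k)
      obtain ⟨i, hi⟩ := hmem _ hM (by
        have hcy : Commute u y := mem_centralizer_singleton_iff.1 (hUy hu)
        calc u⁻¹ * h₁ * u * y * (u⁻¹ * h₁ * u)⁻¹ = u⁻¹ * h₁ * (u * y) * u⁻¹ * h₁⁻¹ * u := by group
          _ = u⁻¹ * (h₁ * y * h₁⁻¹) * u := by rw [hcy.eq]; group
          _ = u⁻¹ * y ^ e * u := by rw [hhe₁]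
          _ = _ := by rw [mul_assoc, ← (hcy.zpow_right e).eq, inv_mul_cancel_left])
      rcases hi with hi | hi
      · exact ⟨_, (htZ i).1, hi.symm⟩
      · exact ⟨_, (htZ i).2, by rw [hi, mul_assoc]⟩
    rcases hh₁ with rfl | rfl
    · left
      simp only [piece, if_pos ho]
      exact Set.mem_biUnion hT1 ⟨hu, rfl⟩
    · right
      simp only [piece, if_pos ho]
      exact Set.mem_biUnion hT1 ⟨hu, rfl⟩
  refine (Set.ncard_le_ncard hsub (Set.toFinite _)).trans ((Set.ncard_union_le _ _).trans ?_)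
  have h1 := hpiece h₀
  have h2 := hpiece (h₀ * t)
  omega

/-- A fixed-point-free two-group of `N(W)` meeting `W` trivially is trivial. -/
theorem two_trivial {S : Subgroup G} (hS : S ≤ normalizer (c.W : Set G)) (h2 : IsPGroup 2 ↥S)
    (hW : S ⊓ c.W = ⊥) (hn : ∀ w ∈ S, y * w * y⁻¹ ∈ S) (hfix : ∀ w ∈ S, y * w = w * y → w = 1) :
    Nat.card ↥S = 1 := by
  classical
  haveI : Fact (Nat.Prime 2) := ⟨Nat.prime_two⟩
  obtain ⟨φ, e, hker, -, -, -⟩ := c.exists_hom_M24 f.split f.extra.card_NI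
  let ψ : ↥S →* ↥Cfsg.M24 := φ.comp (Subgroup.inclusion hS)
  have hψ : Function.Injective ψ := (injective_iff_map_eq_one ψ).2 fun s hs => by
    have h : Subgroup.inclusion hS s ∈ φ.ker := hs
    rw [hker, mem_subgroupOf] at h
    have h' : (s : G) ∈ S ⊓ c.W := ⟨s.2, h⟩
    rw [hW, mem_bot] at h'
    exact Subtype.ext h'
  have hm := EleGen.card_mod_one (p := 11) (by norm_num) f.ord_y hn hfix
  obtain ⟨k, hk⟩ := IsPGroup.iff_card.1 h2
  have hcard : Nat.card ↥ψ.range = 2 ^ k := by rw [← hk]; exact (Nat.card_congr (MonoidHom.ofInjective hψ).toEquiv).symm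
  have hd : 2 ^ k ∣ 244823040 := by
    rw [← hcard, ← CfsgLib.Spor.card_M24]
    exact card_subgroup_dvd_card _
  have hk10 : k ≤ 10 := by
    by_contra hk
    have := (pow_dvd_pow 2 (show 11 ≤ k by omega)).trans hd
    norm_num at this
  rw [hk] at hm ⊢
  obtain rfl | rfl : k = 0 ∨ k = 10 := by interval_cases k <;> omega
  · rfl
  exfalso
  have hfac : (Nat.card ↥Cfsg.M24).factorization 2 = 10 := by
    rw [CfsgLib.Spor.card_M24]
    refine le_antisymm ?_ ((Nat.prime_two.pow_dvd_iff_le_factorization (by norm_num)).1 (by norm_num))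
    by_contra hlt
    have := (Nat.prime_two.pow_dvd_iff_le_factorization (show 244823040 ≠ 0 by norm_num)).2
      (show 11 ≤ _ from Nat.lt_of_not_le hlt)
    norm_num at this
  let T : Sylow 2 ↥Cfsg.M24 := Sylow.ofCard ψ.range (by rw [hcard, hfac])
  set y' : ↥(normalizer (c.W : Set G)) := ⟨y, f.y_mem⟩
  have hinv : φ y' ∈ normalizer ((T : Subgroup ↥Cfsg.M24) : Set ↥Cfsg.M24) := by
    refine EleGen.zpowers_le_normalizer_of_conj (fun w hw => ?_) (mem_zpowers _)
    obtain ⟨s, rfl⟩ := hw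
    refine ⟨⟨y * s * y⁻¹, hn s s.2⟩, ?_⟩
    show φ (Subgroup.inclusion hS ⟨y * s * y⁻¹, hn s s.2⟩) = φ y' * φ (Subgroup.inclusion hS s) * (φ y')⁻¹
    rw [← map_inv, ← map_mul, ← map_mul]
    congr 1
  rw [CfsgLib.Spor.SylTwoM24.normalizer_eq T] at hinv
  obtain ⟨a, ha⟩ := T.isPGroup' ⟨φ y', hinv⟩
  have h1 : y' ^ 2 ^ a ∈ φ.ker := by
    rw [MonoidHom.mem_ker, map_pow]
    exact congrArg Subtype.val ha
  rw [hker, mem_subgroupOf] at h1
  have h1' : y ^ 2 ^ a ∈ c.W := h1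
  have h2' : y ^ (2 * 2 ^ a) = 1 := by rw [mul_comm, pow_mul, pow_two, c.W_sq h1']
  have h3 := orderOf_dvd_of_pow_eq_one h2'
  rw [f.ord_y, ← pow_succ'] at h3
  exact absurd ((show Nat.Prime 11 by norm_num).dvd_of_dvd_pow h3) (by norm_num)

/-- A fixed-point-free invariant subgroup of `W` of order `2 ^ 10` is the commutator of `y` with `W`. -/
theorem ten_unique {T T' : Subgroup G} (hT : T ≤ c.W) (hT' : T' ≤ c.W) (h : Nat.card ↥T = 2 ^ 10)
    (h' : Nat.card ↥T' = 2 ^ 10) (hn : ∀ w ∈ T, y * w * y⁻¹ ∈ T) (hn' : ∀ w ∈ T', y * w * y⁻¹ ∈ T')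
    (hf : ∀ w ∈ T, y * w = w * y → w = 1) (hf' : ∀ w ∈ T', y * w = w * y → w = 1) : T = T' := by
  classical
  have hyW : ∀ w ∈ c.W, y * w * y⁻¹ ∈ c.W := fun w hw => (mem_normalizer_iff.1 f.y_mem w).1 hw
  let ψ : ↥c.W →* G :=
    { toFun := fun w => y * w * y⁻¹ * (w : G)⁻¹
      map_one' := by simp
      map_mul' := fun a b => by
        have hc : y * (b : G) * y⁻¹ * (b : G)⁻¹ * (a : G)⁻¹ = (a : G)⁻¹ * (y * b * y⁻¹ * (b : G)⁻¹) :=
          c.W_comm (mul_mem (hyW b b.2) (inv_mem b.2)) (inv_mem a.2)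
        show y * ((a : G) * b) * y⁻¹ * ((a : G) * b)⁻¹ = y * a * y⁻¹ * (a : G)⁻¹ * (y * b * y⁻¹ * (b : G)⁻¹)
        calc y * ((a : G) * b) * y⁻¹ * ((a : G) * b)⁻¹
            = y * a * y⁻¹ * (y * b * y⁻¹ * (b : G)⁻¹ * (a : G)⁻¹) := by group
          _ = y * a * y⁻¹ * ((a : G)⁻¹ * (y * b * y⁻¹ * (b : G)⁻¹)) := by rw [hc]
          _ = _ := by group }
  have hker : (⟨t, f.tmem.1⟩ : ↥c.W) ∈ ψ.ker := by
    show y * t * y⁻¹ * t⁻¹ = 1
    rw [f.comm]; group
  have hran : Nat.card ↥ψ.range ≤ 2 ^ 10 := by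
    have h4 := card_eq_card_quotient_mul_card_subgroup ψ.ker
    rw [Nat.card_congr (QuotientGroup.quotientKerEquivRange ψ).toEquiv, c.card_W] at h4
    have h2 : 2 ≤ Nat.card ↥ψ.ker := by
      have := Nat.le_of_dvd Nat.card_pos (orderOf_dvd_natCard (⟨_, hker⟩ : ↥ψ.ker))
      rwa [Subgroup.orderOf_mk, Subgroup.orderOf_mk, f.t_ord] at this
    have h5 := Nat.mul_le_mul_left (Nat.card ↥ψ.range) h2
    omega
  have key : ∀ S : Subgroup G, S ≤ c.W → Nat.card ↥S = 2 ^ 10 → (∀ w ∈ S, y * w * y⁻¹ ∈ S) →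
      (∀ w ∈ S, y * w = w * y → w = 1) → S = ψ.range := by
    intro S hS hc hnS hfS
    have hle : ((ψ.comp (Subgroup.inclusion hS)).range : Subgroup G) ≤ S := by
      rintro _ ⟨w, rfl⟩
      exact mul_mem (hnS w w.2) (inv_mem w.2)
    have hinj : Function.Injective (ψ.comp (Subgroup.inclusion hS)) := (injective_iff_map_eq_one _).2
      fun w hw => Subtype.ext (hfS w w.2 (by
        have e : y * (w : G) * y⁻¹ * (w : G)⁻¹ = 1 := hw
        exact mul_inv_eq_iff_eq_mul.1 (mul_inv_eq_one.1 e)))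
    have he : (ψ.comp (Subgroup.inclusion hS)).range = S := eq_of_le_of_card_ge hle
      (le_of_eq (Nat.card_congr (MonoidHom.ofInjective hinj).toEquiv))
    refine eq_of_le_of_card_ge (fun w hw => ?_) (hran.trans hc.ge)
    rw [← he] at hw
    obtain ⟨v, hv⟩ := hw
    exact ⟨_, hv⟩
  rw [key T hT h hn hf, key T' hT' h' hn' hf']

/-- A member of `U` normalizing such a subgroup lies in `⟨y⟩`. -/
theorem mem_zpowers_of_norm {U : Subgroup G} (hU : IsPGroup 11 ↥U) (hUy : U ≤ centralizer ({y} : Set G))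
    (hy : y ∈ U) {T : Subgroup G} (hT : T ≤ c.W) (h : Nat.card ↥T = 2 ^ 10)
    (hn : ∀ w ∈ T, y * w * y⁻¹ ∈ T) (hfx : ∀ w ∈ T, y * w = w * y → w = 1) {u : G} (hu : u ∈ U)
    (hnu : ∀ w ∈ T, u * w * u⁻¹ ∈ T) : u ∈ zpowers y := by
  classical
  haveI : Fact (Nat.Prime 11) := ⟨by norm_num⟩
  haveI : Fact (Nat.Prime 2) := ⟨Nat.prime_two⟩
  by_contra hcon
  set S := zpowers y ⊔ zpowers u
  have hSU : S ≤ U := sup_le (zpowers_le.2 hy) (zpowers_le.2 hu)
  have hcS : ∀ a ∈ S, Commute a y := fun a ha => mem_centralizer_singleton_iff.1 (hUy (hSU ha))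
  have hS121 : 121 ≤ Nat.card ↥S := by
    obtain ⟨k, hk⟩ := IsPGroup.iff_card.1 (hU.to_le hSU)
    rw [hk]
    refine le_trans (by norm_num) (Nat.pow_le_pow_right (show 11 > 0 by norm_num) (show 2 ≤ k from ?_))
    by_contra hk2
    refine hcon ((eq_of_le_of_card_ge (le_sup_left : zpowers y ≤ S) ?_).ge (mem_sup_right (mem_zpowers u)))
    rw [hk, Nat.card_zpowers, f.ord_y]
    exact (Nat.pow_le_pow_right (by norm_num) (show k ≤ 1 by omega)).trans (by norm_num)
  have hSN : S ≤ normalizer (T : Set G) := sup_le (EleGen.zpowers_le_normalizer_of_conj hn)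
    (EleGen.zpowers_le_normalizer_of_conj hnu)
  -- some element of order eleven fixes a member
  obtain ⟨v, hv, hv1, w, hw, hw1, hvw⟩ : ∃ v ∈ S, v ≠ 1 ∧ ∃ w ∈ T, w ≠ 1 ∧ v * w = w * v := by
    by_contra hno
    push Not at hno
    have hfp : Coprime.IsFpfOn S T := fun a ha ha1 => (eq_bot_iff_forall _).2 fun w hw => by
      by_contra hw1
      exact hno a ha ha1 w hw.1 hw1 (mem_centralizer_singleton_iff.1 hw.2).symm
    have hm := hfp.card_mod hSN
    rw [h, Nat.one_mod_eq_one.2 (by omega)] at hm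
    obtain ⟨k, hk⟩ := IsPGroup.iff_card.1 (hU.to_le hSU)
    rw [hk] at hm hS121
    rcases lt_or_ge k 3 with hk3 | hk3
    · interval_cases k <;> omega
    · rw [Nat.mod_eq_of_lt (lt_of_lt_of_le (by norm_num)
        (Nat.pow_le_pow_right (show 11 > 0 by norm_num) hk3))] at hm
      omega
  obtain ⟨j, hj⟩ := IsPGroup.iff_orderOf.1 (hU.to_le hSU) ⟨v, hv⟩
  rw [Subgroup.orderOf_mk] at hj
  have hj1 : j ≠ 0 := fun e => hv1 (orderOf_eq_one_iff.1 (by rw [hj, e, pow_zero]))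
  set v₁ := v ^ 11 ^ (j - 1)
  have hv₁o : orderOf v₁ = 11 := by
    rw [orderOf_pow' _ (by positivity), hj, Nat.gcd_eq_right (pow_dvd_pow 11 (Nat.sub_le j 1)),
      Nat.pow_div (Nat.sub_le j 1) (by norm_num), show j - (j - 1) = 1 by omega, pow_one]
  -- the fixed subgroup is invariant, so it is all of `T`
  set D := T ⊓ centralizer ({v₁} : Set G)
  have hvy : Commute v₁ y := (hcS v hv).pow_left _
  have hD : D = T := by
    have hm := EleGen.card_mod_one (p := 11) (by norm_num) f.ord_y (T := D) (fun a ha => by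
      refine mem_inf.2 ⟨hn a ha.1, mem_centralizer_singleton_iff.2 ?_⟩
      exact ((hvy.mul_right (show Commute v₁ a from (mem_centralizer_singleton_iff.1 ha.2).symm)).mul_right
        hvy.inv_right).eq.symm) fun a ha => hfx a ha.1
    have h2 : 2 ≤ Nat.card ↥D := by
      have hwD : w ∈ D := ⟨hw, mem_centralizer_singleton_iff.2 ((show Commute v w from hvw).pow_left _).eq.symm⟩
      by_contra hlt
      have h1 : D = ⊥ := eq_bot_of_card_le D (by omega)
      exact hw1 (mem_bot.1 (h1 ▸ hwD))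
    obtain ⟨k, hk⟩ := IsPGroup.iff_card.1 ((IsPGroup.of_card (p := 2) (n := 10) h).to_le (inf_le_left : D ≤ T))
    have hle := card_le_of_le (inf_le_left : D ≤ T)
    rw [hk, h] at hle
    have hk10 := (Nat.pow_le_pow_iff_right (by norm_num : 1 < 2)).1 hle
    rw [hk] at hm h2
    refine eq_of_le_of_card_ge inf_le_left ?_
    rw [hk, h]
    interval_cases k <;> omega
  have hcomm : ∀ a ∈ T, a * v₁ = v₁ * a := fun a ha =>
    mem_centralizer_singleton_iff.1 (hD.ge ha).2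
  -- but `T` has a conjugate of `z` and a third member
  obtain ⟨w₁, hw₁, hz⟩ : ∃ w₁ ∈ T, IsConj z w₁ := by
    by_contra hno
    push Not at hno
    have h' := Set.ncard_le_ncard (s := (T : Set G)) (t := insert 1 c.Tset) (fun a ha => by
      by_cases h1 : a = 1
      · exact Or.inl h1
      · exact Or.inr ⟨hT ha, h1, hno a ha⟩) (Set.toFinite _)
    have h'' := h'.trans (Set.ncard_insert_le _ _)
    rw [c.card_Tset f.split, ← Nat.card_coe_set_eq, show Nat.card ↥(T : Set G) = Nat.card ↥T from rfl, h] at h''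
    omega
  obtain ⟨w₂, hw₂, hne⟩ : ∃ w₂ ∈ T, w₂ ≠ 1 ∧ w₂ ≠ w₁ := by
    by_contra hno
    have h' := Set.ncard_le_ncard (s := (T : Set G)) (t := {1, w₁}) (fun a ha => by
      by_cases h1 : a = 1
      · exact Or.inl h1
      · by_contra h2
        exact hno ⟨a, ha, h1, fun e => h2 (Or.inr e)⟩) (Set.toFinite _)
    have h'' := h'.trans (Set.ncard_insert_le _ _)
    rw [Set.ncard_singleton, ← Nat.card_coe_set_eq, show Nat.card ↥(T : Set G) = Nat.card ↥T from rfl, h] at h''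
    omega
  exact hne.2 (c.eq_of_comm_eleven hv₁o hz (orderOf_eq_prime (by rw [pow_two, c.W_sq (hT hw₂)]) hne.1)
    (c.W_comm (hT hw₁) (hT hw₂)) (hcomm w₁ hw₁) (hcomm w₂ hw₂))

/-- The centralizer of `y` has order not divisible by `11 ^ 3`. -/
theorem not_cube_dvd (hcard : Nat.card G = 86775571046077562880) :
    ¬ 11 ^ 3 ∣ Nat.card ↥(centralizer ({y} : Set G)) := by
  classical
  intro hd
  haveI : Fact (Nat.Prime 11) := ⟨by norm_num⟩
  haveI : Fact (Nat.Prime 2) := ⟨Nat.prime_two⟩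
  set C := centralizer ({y} : Set G)
  have hyC : y ∈ C := mem_centralizer_singleton_iff.2 rfl
  obtain ⟨S, hS⟩ := (IsPGroup.of_card (p := 11) (n := 1) (show Nat.card ↥(zpowers (⟨y, hyC⟩ : ↥C)) = 11 ^ 1 by
    rw [Nat.card_zpowers, Subgroup.orderOf_mk, f.ord_y, pow_one])).exists_le_sylow
  set U := (S : Subgroup ↥C).map C.subtype with hUdef
  have hUy : U ≤ C := map_subtype_le _
  have hU : IsPGroup 11 ↥U := S.isPGroup'.map _
  have hyU : y ∈ U := ⟨_, hS (mem_zpowers _), rfl⟩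
  have hUc : 11 ^ 3 ≤ Nat.card ↥U := by
    rw [hUdef, ← Nat.card_congr ((S : Subgroup ↥C).equivMapOfInjective C.subtype C.subtype_injective).toEquiv]
    exact Nat.le_of_dvd Nat.card_pos (S.pow_dvd_card_of_pow_dvd_card hd)
  set M := normalizer (c.W : Set G) with hM
  have hMc : Nat.card ↥M = 2 ^ 11 * 244823040 := c.card_normalizer_W f.split f.extra.card_NI
  -- a good member of `U`
  obtain ⟨u, hu, huy, hu2, hu5⟩ : ∃ u ∈ U, u ∉ zpowers y ∧
      (∀ h ∈ M, h * y * h⁻¹ = y ^ (10 : ℤ) → orderOf h = 2 → u⁻¹ * h * u ∉ M) ∧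
      (∀ h ∈ M, h * y * h⁻¹ = y ^ (3 : ℤ) → orderOf h = 5 → u⁻¹ * h * u ∉ M) := by
    by_contra hno
    set B2 := {u : G | u ∈ U ∧ ∃ h ∈ M, h * y * h⁻¹ = y ^ (10 : ℤ) ∧ orderOf h = 2 ∧ u⁻¹ * h * u ∈ M}
    set B5 := {u : G | u ∈ U ∧ ∃ h ∈ M, h * y * h⁻¹ = y ^ (3 : ℤ) ∧ orderOf h = 5 ∧ u⁻¹ * h * u ∈ M}
    have hsub : (U : Set G) ⊆ (zpowers y : Set G) ∪ B2 ∪ B5 := by
      intro u hu
      by_contra hout
      simp only [Set.mem_union, not_or] at hout
      exact hno ⟨u, hu, hout.1.1, fun h hh he ho hm => hout.1.2 ⟨hu, h, hh, he, ho, hm⟩,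
        fun h hh he ho hm => hout.2 ⟨hu, h, hh, he, ho, hm⟩⟩
    have h2 : B2.ncard ≤ 484 := f.bad_le hU hUy (Or.inl rfl) (e := 10) (e' := 10) (s := 5) ⟨9, by norm_num⟩
      ⟨4, by norm_num⟩
    have h5 : B5.ncard ≤ 484 := f.bad_le hU hUy (Or.inr (Or.inr rfl)) (e := 3) (e' := 4) (s := 4)
      ⟨1, by norm_num⟩ ⟨1, by norm_num⟩
    have h1 : (zpowers y : Set G).ncard = 11 := by
      rw [← Nat.card_coe_set_eq]
      exact (Nat.card_zpowers y).trans f.ord_y
    have h := (Set.ncard_le_ncard hsub (Set.toFinite _)).trans (Set.ncard_union_le _ _)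
    have h' := h.trans (Nat.add_le_add_right (Set.ncard_union_le _ _) _)
    rw [← Nat.card_coe_set_eq, show Nat.card ↥(U : Set G) = Nat.card ↥U from rfl] at h'
    omega
  have hcy : Commute u y := mem_centralizer_singleton_iff.1 (hUy hu)
  -- the stabilizer of two points
  set Rs := M ⊓ M.comap (MulAut.conj u⁻¹).toMonoidHom with hRs
  have hmemR : ∀ g, g ∈ Rs ↔ g ∈ M ∧ u⁻¹ * g * u ∈ M := fun g => by
    rw [hRs, mem_inf, mem_comap]
    simp
  have hyR : y ∈ Rs := (hmemR y).2 ⟨f.y_mem, by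
    rw [mul_assoc, ← hcy.eq, inv_mul_cancel_left]; exact f.y_mem⟩
  have hRM : Rs ≤ M := inf_le_left
  have horbit : Nat.card ↥M ≤ Nat.card ↥Rs * 173067389 := by
    have hidx : Nat.card (G ⧸ M) = 173067389 := by
      have h := M.card_mul_index
      rw [hMc, hcard, show (86775571046077562880 : ℕ) = 2 ^ 11 * 244823040 * 173067389 by norm_num] at h
      exact Nat.eq_of_mul_eq_mul_left (by norm_num) h
    let φ : ↥M ⧸ Rs.subgroupOf M → G ⧸ M := Quotient.lift (fun g : ↥M => (((g : G) * u : G) : G ⧸ M))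
      fun a b hab => by
        have hab' := ((hmemR _).1 (mem_subgroupOf.1 (QuotientGroup.leftRel_apply.1 hab))).2
        refine QuotientGroup.eq.2 ?_
        simpa [mul_assoc] using hab'
    have hφ : Function.Injective φ := by
      rintro ⟨a⟩ ⟨b⟩ e
      refine Quotient.sound (QuotientGroup.leftRel_apply.2 (mem_subgroupOf.2 ((hmemR _).2 ?_)))
      have e' := QuotientGroup.eq.1 e
      exact ⟨mul_mem (inv_mem a.2) b.2, by simpa [mul_assoc] using e'⟩
    have h := Nat.card_le_card_of_injective φ hφ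
    rw [← index_eq_card, hidx] at h
    rw [← (Rs.subgroupOf M).card_mul_index, Nat.card_congr (subgroupOfEquivOfLe hRM).toEquiv]
    exact Nat.mul_le_mul_left _ h
  have htR : t ∉ Rs := fun ht => by
    obtain ⟨-, ht'⟩ := (hmemR t).1 ht
    have hcu : u⁻¹ * t * u * y = y * (u⁻¹ * t * u) :=
      ((hcy.symm.inv_right.mul_right (show Commute y t from f.comm)).mul_right hcy.symm).eq.symm
    have ho : orderOf (u⁻¹ * t * u) = 2 := by
      have := CfsgLib.Invol.invol_conj f.t_ord u⁻¹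
      rwa [inv_inv] at this
    obtain ⟨i, hi | hi⟩ := f.mem_cent ht' hcu
    · have h := orderOf_dvd_of_mem_zpowers (mem_zpowers_iff.2 ⟨i, hi.symm⟩ : u⁻¹ * t * u ∈ zpowers y)
      rw [ho, f.ord_y] at h
      norm_num at h
    · have hyi : y ^ i = 1 := by
        have h2 : (t * y ^ i) ^ 2 = 1 := by rw [← hi, ← ho, pow_orderOf_eq_one]
        have hc : Commute t (y ^ i) := (show Commute t y from f.comm.symm).zpow_right i
        rw [hc.mul_pow, pow_two t, c.W_sq f.tmem.1, one_mul] at h2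
        have h11 : (y ^ i) ^ 11 = 1 := by
          rw [← zpow_natCast (y ^ i), ← zpow_mul, mul_comm, zpow_mul, zpow_natCast, ← f.ord_y, pow_orderOf_eq_one,
            one_zpow]
        have := Nat.dvd_gcd (orderOf_dvd_of_pow_eq_one h2) (orderOf_dvd_of_pow_eq_one h11)
        rw [show Nat.gcd 2 11 = 1 from rfl, Nat.dvd_one] at this
        exact orderOf_eq_one_iff.1 this
      rw [hyi, mul_one] at hi
      exact huy (f.mem_zpowers_of_comm_t hU hyU hu (by
        calc u * t = u * (u⁻¹ * t * u) := by rw [hi]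
          _ = t * u := by group))
  have hC : ∀ g ∈ Rs, g * y = y * g → g ∈ zpowers y := fun g hg hgy => by
    obtain ⟨i, rfl | rfl⟩ := f.mem_cent (hRM hg) hgy
    · exact zpow_mem (mem_zpowers y) i
    · exact absurd (by simpa using mul_mem hg (inv_mem (zpow_mem hyR i))) htR
  have hN : ∀ g ∈ Rs, g * y * g⁻¹ ∈ zpowers y → g * y = y * g := by
    intro g hg hgy
    obtain ⟨i, hi⟩ := mem_zpowers_iff.1 hgy
    obtain ⟨m, hm⟩ : ∃ m : ℕ, (m : ℤ) = i % 11 := ⟨(i % 11).toNat, by omega⟩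
    have hgi : g * y * g⁻¹ = y ^ (m : ℤ) := by rw [← hi]; exact f.zpow_eleven ⟨i / 11, by omega⟩
    have hm11 : m < 11 := by omega
    by_contra hne
    have hm1 : m ≠ 1 := fun e => hne (mul_inv_eq_iff_eq_mul.1 (by rw [hgi, e, Nat.cast_one, zpow_one]))
    have hm0 : m ≠ 0 := fun e => by
      have hy1 : y = 1 := conj_eq_one_iff.1 (by rw [hgi, e, Nat.cast_zero, zpow_zero] : g * y * g⁻¹ = 1)
      have h := f.ord_y
      rw [hy1, orderOf_one] at h
      omega
    have hpow : ∀ k : ℕ, g ^ k * y * (g ^ k)⁻¹ = y ^ ((m ^ k : ℕ) : ℤ) := by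
      intro k
      induction k with
      | zero => simp
      | succ k ih =>
        calc g ^ (k + 1) * y * (g ^ (k + 1))⁻¹ = g ^ k * (g * y * g⁻¹) * (g ^ k)⁻¹ := by rw [pow_succ]; group
          _ = (g ^ k * y * (g ^ k)⁻¹) ^ (m : ℤ) := by rw [hgi, conj_zpow]
          _ = _ := by rw [ih, ← zpow_mul, pow_succ]; push_cast; rfl
    have fin : ∀ (k n : ℕ) (e : ℤ), (11 : ℤ) ∣ ((m ^ k : ℕ) : ℤ) - e → Nat.Prime n →
        (∀ h : G, h ∈ Rs → h * y * h⁻¹ = y ^ e → ∀ j : ℤ, h ^ n = y ^ j → y ^ j = 1) →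
        (∀ h ∈ M, h * y * h⁻¹ = y ^ e → orderOf h = n → u⁻¹ * h * u ∉ M) →
        (11 : ℤ) ∣ e ^ n - 1 → ¬ (11 : ℤ) ∣ e - 1 → False := by
      intro k n e hk hn hfix hbad hen hne1
      set h := g ^ k
      have hh : h ∈ Rs := pow_mem hg k
      have hhy : h * y * h⁻¹ = y ^ e := (hpow k).trans (f.zpow_eleven hk)
      have hhn : ∀ l : ℕ, h ^ l * y * (h ^ l)⁻¹ = y ^ (e ^ l) := by
        intro l
        induction l with
        | zero => simp
        | succ l ih =>
          calc h ^ (l + 1) * y * (h ^ (l + 1))⁻¹ = h ^ l * (h * y * h⁻¹) * (h ^ l)⁻¹ := by rw [pow_succ]; group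
            _ = (h ^ l * y * (h ^ l)⁻¹) ^ e := by rw [hhy, conj_zpow]
            _ = _ := by rw [ih, ← zpow_mul, pow_succ]
      have h1 : h ^ n * y = y * h ^ n := mul_inv_eq_iff_eq_mul.1 (by
        rw [hhn, f.zpow_eleven hen, zpow_one])
      obtain ⟨j, hj⟩ := mem_zpowers_iff.1 (hC _ (pow_mem hh n) h1)
      have hone : h ^ n = 1 := by rw [← hj]; exact hfix h hh hhy j hj.symm
      haveI : Fact n.Prime := ⟨hn⟩
      refine hbad h (hRM hh) hhy (orderOf_eq_prime hone fun e1 => ?_) ((hmemR h).1 hh).2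
      refine hne1 ?_
      rw [e1] at hhy
      simp only [one_mul, inv_one, mul_one] at hhy
      have h2 := orderOf_dvd_iff_zpow_eq_one.2 (show y ^ (e - 1) = 1 by rw [zpow_sub_one, ← hhy, mul_inv_cancel])
      rwa [f.ord_y] at h2
    have hfix : ∀ (n : ℕ) (e s : ℤ), (11 : ℤ) ∣ (e - 1) * s - 1 → ∀ h : G, h ∈ Rs → h * y * h⁻¹ = y ^ e →
        ∀ j : ℤ, h ^ n = y ^ j → y ^ j = 1 := by
      intro n e s hes h _ hhy j hj
      have h1 : y ^ (e * j) = y ^ j := by
        calc y ^ (e * j) = (h * y * h⁻¹) ^ j := by rw [hhy, zpow_mul]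
          _ = h * y ^ j * h⁻¹ := conj_zpow
          _ = y ^ j := by rw [← hj]; group
      have h2 : y ^ ((e - 1) * j) = 1 := by rw [sub_mul, one_mul, zpow_sub, h1, mul_inv_cancel]
      calc y ^ j = y ^ ((e - 1) * j * s) := f.zpow_eleven (by
            obtain ⟨q, hq⟩ := hes
            exact ⟨-(j * q), by linear_combination (-j) * hq⟩)
        _ = 1 := by rw [zpow_mul, h2, one_zpow]
    have key : ∃ k : ℕ, m ^ k % 11 = 10 ∨ m ^ k % 11 = 3 := by
      interval_cases m <;> first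
        | omega
        | exact ⟨5, Or.inl rfl⟩
        | exact ⟨1, Or.inr rfl⟩
        | exact ⟨2, Or.inr rfl⟩
        | exact ⟨3, Or.inr rfl⟩
        | exact ⟨4, Or.inr rfl⟩
    obtain ⟨k, hk | hk⟩ := key
    · exact fin k 2 10 (by omega) Nat.prime_two (hfix 2 10 5 ⟨4, by norm_num⟩) hu2 ⟨9, by norm_num⟩ (by norm_num)
    · exact fin k 5 3 (by omega) (by norm_num) (hfix 5 3 6 ⟨1, by norm_num⟩) hu5 ⟨22, by norm_num⟩ (by norm_num)
  have hR2 : ¬ 11 ^ 2 ∣ Nat.card ↥Rs := fun h => f.not_eleven_sq_normalizer (h.trans (card_dvd_of_le hRM))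
  obtain ⟨Q, hQR, hQn, hQc, hQf⟩ := EleGen.exists_complement (p := 11) (by norm_num) f.ord_y hyR hR2 hC hN
  have hnQ : ∀ w ∈ Q, y * w * y⁻¹ ∈ Q := fun w hw => (mem_normalizer_iff.1 (hQn hyR) w).1 hw
  have hfQ : ∀ w ∈ Q, y * w = w * y → w = 1 := fun w hw h => hQf w hw h.symm
  have hQd : Nat.card ↥Q ∣ 2 ^ 11 * 244823040 := hMc ▸ card_dvd_of_le (hQR.trans hRM)
  have hq : ∀ q : ℕ, q.Prime → q ≠ 23 → (Nat.card ↥Q).factorization q = 0 := by
    intro q hq h23
    by_contra hne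
    haveI : Fact q.Prime := ⟨hq⟩
    obtain ⟨S, hSQ, hSp, hSc, hSn, hSm⟩ := EleGen.exists_fpf_sylow (p := 11) (by norm_num) f.ord_y hnQ hfQ hq
    set k := (Nat.card ↥Q).factorization q
    have hkd : q ^ k ∣ 2 ^ 11 * 244823040 :=
      ((hq.pow_dvd_iff_le_factorization Nat.card_pos.ne').2 le_rfl).trans hQd
    rw [hSc] at hSm
    have hqd : q ∣ 2 ^ 11 * 244823040 := (dvd_pow_self q hne).trans hkd
    rw [show (2 : ℕ) ^ 11 * 244823040 = 2 ^ 21 * (3 ^ 3 * (5 * (7 * (11 * 23)))) by norm_num] at hkd hqd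
    rcases hq.dvd_mul.1 hqd with h | h
    · have hq2 : q = 2 := (Nat.prime_dvd_prime_iff_eq hq Nat.prime_two).1 (hq.dvd_of_dvd_pow h)
      subst hq2
      -- the two-part
      have hfS : ∀ w ∈ S, y * w = w * y → w = 1 := fun w hw => hfQ w (hSQ hw)
      have hSM : S ≤ M := hSQ.trans (hQR.trans hRM)
      by_cases hbot : S ⊓ c.W = ⊥
      · have h1 := f.two_trivial hSM hSp hbot hSn hfS
        rw [hSc] at h1
        exact hne ((Nat.pow_eq_one.1 h1).resolve_left (by norm_num))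
      · set T := S ⊓ c.W
        have hTW : T ≤ c.W := inf_le_right
        have hTn : ∀ w ∈ T, y * w * y⁻¹ ∈ T := fun w hw =>
          ⟨hSn w hw.1, (mem_normalizer_iff.1 f.y_mem w).1 hw.2⟩
        have hTf : ∀ w ∈ T, y * w = w * y → w = 1 := fun w hw => hfS w hw.1
        have hten : ∀ T : Subgroup G, T ≤ c.W → (∀ w ∈ T, y * w * y⁻¹ ∈ T) →
            (∀ w ∈ T, y * w = w * y → w = 1) → T ≠ ⊥ → Nat.card ↥T = 2 ^ 10 := by
          intro T hTW hn hfT hne
          have hm := EleGen.card_mod_one (p := 11) (by norm_num) f.ord_y hn hfT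
          obtain ⟨j, hj⟩ := IsPGroup.iff_card.1 (c.W_isPGroup.to_le hTW)
          have hle := card_le_of_le hTW
          rw [hj, c.card_W] at hle
          have hj11 := (Nat.pow_le_pow_iff_right (by norm_num : 1 < 2)).1 hle
          rw [hj] at hm ⊢
          obtain rfl | rfl : j = 0 ∨ j = 10 := by interval_cases j <;> omega
          · exact absurd (eq_bot_of_card_le T hj.le) hne
          · rfl
        have hT10 := hten T hTW hTn hTf hbot
        set T' := T.map (MulAut.conj u⁻¹).toMonoidHom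
        have hT'M : T' ≤ M := by
          rintro _ ⟨w, hw, rfl⟩
          simpa using ((hmemR w).1 (hQR (hSQ hw.1))).2
        have hcomm' : ∀ w, y * (u⁻¹ * w * u) * y⁻¹ = u⁻¹ * (y * w * y⁻¹) * u := fun w => by
          calc y * (u⁻¹ * w * u) * y⁻¹ = (y * u⁻¹) * w * (u * y⁻¹) := by group
            _ = (u⁻¹ * y) * w * (y⁻¹ * u) := by rw [hcy.inv_left.eq, hcy.inv_right.eq]
            _ = _ := by group
        have hT'n : ∀ w ∈ T', y * w * y⁻¹ ∈ T' := by
          rintro _ ⟨w, hw, rfl⟩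
          exact ⟨_, hTn w hw, by simp [hcomm']⟩
        have hT'f : ∀ w ∈ T', y * w = w * y → w = 1 := by
          rintro _ ⟨w, hw, rfl⟩ e
          have e' : u⁻¹ * (y * w * y⁻¹) * u = u⁻¹ * w * u := by
            rw [← hcomm']
            have := mul_inv_eq_iff_eq_mul.2 e
            simpa using this
          rw [hTf w hw (mul_inv_eq_iff_eq_mul.1 (mul_left_cancel (mul_right_cancel e'))), map_one]
        have hT'c : Nat.card ↥T' = 2 ^ 10 := by
          rw [← hT10]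
          exact (Nat.card_congr (T.equivMapOfInjective _ (MulAut.conj u⁻¹).injective).toEquiv).symm
        have hT'W : T' ≤ c.W := by
          by_cases hb : T' ⊓ c.W = ⊥
          · have h1 := f.two_trivial hT'M (IsPGroup.of_card hT'c) hb hT'n hT'f
            rw [hT'c] at h1
            norm_num at h1
          · have h10 := hten (T' ⊓ c.W) inf_le_right (fun w hw =>
              ⟨hT'n w hw.1, (mem_normalizer_iff.1 f.y_mem w).1 hw.2⟩) (fun w hw => hT'f w hw.1) hb
            exact (eq_of_le_of_card_ge inf_le_left (by rw [h10, hT'c])).ge.trans inf_le_right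
        have heq := f.ten_unique hT'W hTW hT'c hT10 hT'n hTn hT'f hTf
        have hn' : ∀ w ∈ T, u⁻¹ * w * u ∈ T := fun w hw => by
          have h : (MulAut.conj u⁻¹).toMonoidHom w ∈ T' := mem_map_of_mem _ hw
          rw [heq] at h
          simpa using h
        exact huy (inv_mem_iff.1 (f.mem_zpowers_of_norm hU hUy hyU hTW hT10 hTn hTf (inv_mem hu)
          (by simpa using hn')))
    · rcases hq.dvd_mul.1 h with h | h
      · have hq3 : q = 3 := (Nat.prime_dvd_prime_iff_eq hq Nat.prime_three).1 (hq.dvd_of_dvd_pow h)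
        subst hq3
        have hk : k ≤ 3 := by
          by_contra hk
          have := (pow_dvd_pow 3 (show 4 ≤ k by omega)).trans hkd
          norm_num at this
        interval_cases k <;> omega
      · have hk : k ≤ 1 := by
          by_contra hk
          have h2 := (pow_dvd_pow q (show 2 ≤ k by omega)).trans hkd
          have hq23 := Nat.le_of_dvd (by norm_num) h
          rcases hq.dvd_mul.1 h with h | h
          · have := (Nat.prime_dvd_prime_iff_eq hq (by norm_num)).1 h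
            subst this
            norm_num at h2
          rcases hq.dvd_mul.1 h with h | h
          · have := (Nat.prime_dvd_prime_iff_eq hq (by norm_num)).1 h
            subst this
            norm_num at h2
          rcases hq.dvd_mul.1 h with h | h
          · have := (Nat.prime_dvd_prime_iff_eq hq (by norm_num)).1 h
            subst this
            norm_num at h2
          · exact h23 ((Nat.prime_dvd_prime_iff_eq hq (by norm_num)).1 h)
        rw [show k = 1 by omega, pow_one] at hSm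
        rcases hq.dvd_mul.1 h with h | h
        · rw [(Nat.prime_dvd_prime_iff_eq hq (by norm_num)).1 h] at hSm; omega
        rcases hq.dvd_mul.1 h with h | h
        · rw [(Nat.prime_dvd_prime_iff_eq hq (by norm_num)).1 h] at hSm; omega
        rcases hq.dvd_mul.1 h with h | h
        · rw [(Nat.prime_dvd_prime_iff_eq hq (by norm_num)).1 h] at hSm; omega
        · exact h23 ((Nat.prime_dvd_prime_iff_eq hq (by norm_num)).1 h)
  have hQ23 : Nat.card ↥Q ∣ 23 := by
    rw [← Nat.factorization_le_iff_dvd Nat.card_pos.ne' (by norm_num)]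
    intro q
    by_cases hqp : q.Prime
    · by_cases h23 : q = 23
      · subst h23
        rw [Nat.Prime.factorization_self (by norm_num)]
        by_contra hlt
        have := ((hqp.pow_dvd_iff_le_factorization Nat.card_pos.ne').2 (show 2 ≤ _ by omega)).trans hQd
        norm_num at this
      · rw [hq q hqp h23]; exact Nat.zero_le _
    · rw [Nat.factorization_eq_zero_of_not_prime _ hqp]; exact Nat.zero_le _
  have := Nat.le_of_dvd (by norm_num) hQ23
  rw [hQc, hMc] at horbit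
  omega

end EleFrame

end CfsgLib.Spor.JFourType.Ctx
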