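import Mathlib.GroupTheory.SemidirectProduct
import Mathlib.GroupTheory.SpecificGroups.Dihedral
import Mathlib.GroupTheory.SpecificGroups.Quaternion
import Mathlib.LinearAlgebra.Matrix.GeneralLinearGroup.Defs
import Mathlib.LinearAlgebra.Matrix.GeneralLinearGroup.Card
import Mathlib.Data.ZMod.Basic
import Mathlib.Algebra.Field.ZMod

/-!
# The group `GL (2, 3)` as a quaternion group extended by a dihedral group of order six

Four elements with the evident relations give a homomorphism from the extension, injective once the central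
involution has nontrivial image.
-/

set_option autoImplicit false

namespace CfsgLib.Spor.JFourType.EleGL

open QuaternionGroup DihedralGroup

abbrev Q8 := QuaternionGroup 2
abbrev D6 := DihedralGroup 3

/-- The quaternion group: `a k ↦ i ^ k`, `xa k ↦ j * i ^ k`. -/
def qmap {H : Type*} [Group H] (i j : H) : Q8 → H
  | .a k => i ^ (show ZMod 4 from k).val
  | .xa k => j * i ^ (show ZMod 4 from k).val

/-- The dihedral group: `r k ↦ t ^ k`, `sr k ↦ s * t ^ k`. -/
def dmap {H : Type*} [Group H] (t s : H) : D6 → H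
  | .r k => t ^ k.val
  | .sr k => s * t ^ k.val

/-- Four elements satisfying the relations. -/
structure Rel {H : Type*} [Group H] (i j t s : H) : Prop where
  ii : i * i = j * j
  i4 : i ^ 4 = 1
  ji : j * i = i⁻¹ * j
  t3 : t ^ 3 = 1
  ss : s * s = 1
  st : s * t = t⁻¹ * s
  ti : t * i * t⁻¹ = j
  tj : t * j * t⁻¹ = i * j
  si : s * i * s⁻¹ = i⁻¹

section

variable {H : Type*} [Group H] {i j t s : H} (h : Rel i j t s)
include h

theorem Rel.ipow (a b : ZMod 4) : i ^ a.val * i ^ b.val = i ^ (a + b).val := by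
  rw [← pow_add, ZMod.val_add]
  exact pow_eq_pow_mod _ h.i4

theorem Rel.tpow (a b : ZMod 3) : t ^ a.val * t ^ b.val = t ^ (a + b).val := by
  rw [← pow_add, ZMod.val_add]
  exact pow_eq_pow_mod _ h.t3

theorem Rel.ipow_neg (b : ZMod 4) : i⁻¹ ^ b.val = i ^ (-b).val := by
  rw [inv_pow, inv_eq_iff_mul_eq_one, h.ipow, add_neg_cancel, ZMod.val_zero, pow_zero]

theorem Rel.tpow_neg (b : ZMod 3) : t⁻¹ ^ b.val = t ^ (-b).val := by
  rw [inv_pow, inv_eq_iff_mul_eq_one, h.tpow, add_neg_cancel, ZMod.val_zero, pow_zero]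

theorem Rel.pow_i_j (a : ZMod 4) : i ^ a.val * j = j * i ^ (-a).val := by
  have hc : SemiconjBy j i i⁻¹ := h.ji
  have h1 := (hc.pow_right (-a).val).eq
  rw [h.ipow_neg, neg_neg] at h1
  exact h1.symm

theorem Rel.pow_t_s (a : ZMod 3) : t ^ a.val * s = s * t ^ (-a).val := by
  have hc : SemiconjBy s t t⁻¹ := h.st
  have h1 := (hc.pow_right (-a).val).eq
  rw [h.tpow_neg, neg_neg] at h1
  exact h1.symm

theorem Rel.qmap_mul (p q : Q8) : qmap i j (p * q) = qmap i j p * qmap i j q := by
  rcases p with a | a <;> rcases q with b | b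
  · exact (h.ipow a b).symm
  · show j * i ^ (b - a : ZMod 4).val = i ^ (show ZMod 4 from a).val * (j * i ^ (show ZMod 4 from b).val)
    rw [← mul_assoc, h.pow_i_j, mul_assoc, h.ipow, neg_add_eq_sub]
  · show j * i ^ (a + b : ZMod 4).val = j * i ^ (show ZMod 4 from a).val * i ^ (show ZMod 4 from b).val
    rw [mul_assoc, h.ipow]
  · show i ^ ((2 : ZMod 4) + b - a).val = j * i ^ (show ZMod 4 from a).val * (j * i ^ (show ZMod 4 from b).val)
    rw [mul_assoc, ← mul_assoc (i ^ _) j, h.pow_i_j, mul_assoc, h.ipow, ← mul_assoc, ← h.ii,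
      show i * i = i ^ (2 : ZMod 4).val from (pow_two i).symm, h.ipow]
    change ZMod 4 at a b
    exact congrArg (fun v : ZMod 4 => i ^ v.val) (show (2 : ZMod 4) + b - a = 2 + (-a + b) by ring)

theorem Rel.dmap_mul (p q : D6) : dmap t s (p * q) = dmap t s p * dmap t s q := by
  rcases p with a | a <;> rcases q with b | b
  · exact (h.tpow a b).symm
  · show s * t ^ (b - a).val = t ^ a.val * (s * t ^ b.val)
    rw [← mul_assoc, h.pow_t_s, mul_assoc, h.tpow, neg_add_eq_sub]
  · show s * t ^ (a + b).val = s * t ^ a.val * t ^ b.val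
    rw [mul_assoc, h.tpow]
  · show t ^ (b - a).val = s * t ^ a.val * (s * t ^ b.val)
    rw [mul_assoc, ← mul_assoc (t ^ _) s, h.pow_t_s, mul_assoc, h.tpow, ← mul_assoc, h.ss, one_mul, neg_add_eq_sub]

/-- The homomorphism on the quaternion group. -/
def Rel.qhom : Q8 →* H where
  toFun := qmap i j
  map_one' := pow_zero i
  map_mul' := h.qmap_mul

/-- The homomorphism on the dihedral group. -/
def Rel.dhom : D6 →* H where
  toFun := dmap t s
  map_one' := pow_zero t
  map_mul' := h.dmap_mul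

end

/-- The automorphism attached to the generator of order three. -/
def rotFun : Q8 → Q8 := qmap (.xa 0) (.xa 3)

/-- The automorphism attached to the involution. -/
def flipFun : Q8 → Q8 := qmap (.a 3) (.xa 1)

/-- The action of the dihedral group as functions. -/
def actFun : D6 → Q8 → Q8
  | .r k => rotFun^[k.val]
  | .sr k => fun q => flipFun (rotFun^[k.val] q)

theorem act_mul : ∀ d : D6, ∀ p q : Q8, actFun d (p * q) = actFun d p * actFun d q := by decide +kernel

theorem act_comp : ∀ d e : D6, ∀ q : Q8, actFun (d * e) q = actFun d (actFun e q) := by decide +kernel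

theorem act_one : ∀ q : Q8, actFun 1 q = q := by decide +kernel

/-- The action. -/
def act : D6 →* MulAut Q8 where
  toFun d :=
    { toFun := actFun d
      invFun := actFun d⁻¹
      left_inv := fun q => by rw [← act_comp, inv_mul_cancel, act_one]
      right_inv := fun q => by rw [← act_comp, mul_inv_cancel, act_one]
      map_mul' := act_mul d }
  map_one' := MulEquiv.ext act_one
  map_mul' d e := MulEquiv.ext (act_comp d e)

/-- The model. -/
abbrev Model := Q8 ⋊[act] D6

/-- The central involution of the model. -/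
def zm : Model := ⟨.a 2, 1⟩

section

variable {H : Type*} [Group H] {i j t s : H} (h : Rel i j t s)
include h

theorem Rel.compat_gen : ∀ q : Q8, qmap i j (rotFun q) = t * qmap i j q * t⁻¹ ∧
    qmap i j (flipFun q) = s * qmap i j q * s⁻¹ := by
  have hs' : s⁻¹ = s := inv_eq_of_mul_eq_one_right h.ss
  have hsj : s * j * s⁻¹ = j * i := by
    rw [← h.ti]
    have e : s * (t * i * t⁻¹) * s⁻¹ = t⁻¹ * (s * i * s⁻¹) * t := by
      calc s * (t * i * t⁻¹) * s⁻¹ = (s * t) * i * (s * t)⁻¹ := by group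
        _ = (t⁻¹ * s) * i * (t⁻¹ * s)⁻¹ := by rw [h.st]
        _ = _ := by group
    rw [e, h.si, h.ti]
    -- two rotations
    have h2 : t⁻¹ * i⁻¹ * t = (i * j)⁻¹ := by
      rw [← h.tj, ← h.ti]
      have ht : t⁻¹ = t * t := inv_eq_of_mul_eq_one_left (by rw [← h.t3, pow_succ, pow_two])
      calc t⁻¹ * i⁻¹ * t = (t⁻¹ * i * t⁻¹⁻¹)⁻¹ := by group
        _ = ((t * t) * i * (t * t)⁻¹)⁻¹ := by rw [ht]
        _ = _ := by group
    rw [h2, mul_inv_rev]
    -- `j⁻¹ * i⁻¹ = j * i`
    have hj : j⁻¹ = j * (i * i) := inv_eq_of_mul_eq_one_right (by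
      calc j * (j * (i * i)) = j * j * (i * i) := by group
        _ = i * i * (i * i) := by rw [← h.ii]
        _ = 1 := by rw [← h.i4]; simp [pow_succ, mul_assoc])
    rw [hj]
    group
  have key : ∀ (f : Q8 → Q8) (g : H), (∀ p q, f (p * q) = f p * f q) → f 1 = 1 →
      qmap i j (f (.a 1)) = g * i * g⁻¹ → qmap i j (f (.xa 0)) = g * j * g⁻¹ →
      ∀ q, qmap i j (f q) = g * qmap i j q * g⁻¹ := by
    intro f g hf hf1 hi hj q
    have h1 : ∀ n : ℕ, qmap i j (f (.a 1 ^ n)) = g * i ^ n * g⁻¹ := by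
      intro n
      induction n with
      | zero => rw [pow_zero, hf1, pow_zero, mul_one, mul_inv_cancel]; exact pow_zero i
      | succ n ih => rw [pow_succ, hf, h.qmap_mul, ih, hi, pow_succ]; group
    have ha : ∀ k : ZMod 4, (QuaternionGroup.a k : Q8) = .a 1 ^ k.val := by decide +kernel
    have hx : ∀ k : ZMod 4, (QuaternionGroup.xa k : Q8) = .xa 0 * .a 1 ^ k.val := by decide +kernel
    rcases q with k | k
    · rw [ha, h1, ← ha]; rfl
    · rw [hx, hf, h.qmap_mul, hj, h1, ← hx]
      show g * j * g⁻¹ * (g * i ^ (show ZMod 4 from k).val * g⁻¹) = g * (j * i ^ (show ZMod 4 from k).val) * g⁻¹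
      group
  intro q
  refine ⟨key rotFun t (act_mul (.r 1)) (by decide) ?_ ?_ q, key flipFun s (act_mul (.sr 0)) (by decide) ?_ ?_ q⟩
  · show qmap i j (.xa 0) = _
    rw [h.ti]
    show j * i ^ 0 = j
    rw [pow_zero, mul_one]
  · show qmap i j (.xa 3) = _
    rw [h.tj]
    show j * i ^ 3 = i * j
    have := h.pow_i_j 1
    rw [show (-1 : ZMod 4).val = 3 from rfl, show (1 : ZMod 4).val = 1 from rfl, pow_one] at this
    exact this.symm
  · show qmap i j (.a 3) = _
    rw [h.si]
    show i ^ 3 = i⁻¹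
    exact eq_inv_of_mul_eq_one_left (by rw [← pow_succ, h.i4])
  · show qmap i j (.xa 1) = _
    rw [hsj]
    show j * i ^ 1 = j * i
    rw [pow_one]

theorem Rel.compat (d : D6) (q : Q8) : h.qhom (act d q) = h.dhom d * h.qhom q * (h.dhom d)⁻¹ := by
  have hk : ∀ (n : ℕ) (q : Q8), qmap i j (rotFun^[n] q) = t ^ n * qmap i j q * (t ^ n)⁻¹ := by
    intro n
    induction n with
    | zero => intro q; simp
    | succ n ih =>
      intro q
      rw [Function.iterate_succ_apply', (h.compat_gen _).1, ih, pow_succ']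
      group
  rcases d with k | k
  · exact hk _ q
  · show qmap i j (flipFun (rotFun^[k.val] q)) = s * t ^ k.val * qmap i j q * (s * t ^ k.val)⁻¹
    rw [(h.compat_gen _).2, hk]
    group

/-- The homomorphism on the model. -/
def Rel.hom : Model →* H := SemidirectProduct.lift h.qhom h.dhom fun d => MonoidHom.ext fun q => by
  show h.qhom (act d q) = _
  rw [h.compat]
  rfl

theorem Rel.hom_zm : h.hom zm = i * i := by
  show qmap i j (.a 2) * dmap t s 1 = i * i
  show i ^ 2 * t ^ 0 = i * i
  rw [pow_zero, mul_one, pow_two]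

end

theorem detect : ∀ q : Q8, ∀ d : D6, (q, d) ≠ (1, 1) → ∃ a : Q8,
    let n : Model := ⟨q, d⟩
    let m : Model := SemidirectProduct.inl a * n * (SemidirectProduct.inl a)⁻¹ * n⁻¹
    n = zm ∨ n * n = zm ∨ m = zm ∨ m * m = zm := by decide +kernel

theorem Rel.hom_injective {H : Type*} [Group H] {i j t s : H} (h : Rel i j t s) (hz : i * i ≠ 1) :
    Function.Injective h.hom := by
  refine (injective_iff_map_eq_one _).2 fun n hn => ?_
  by_contra hne
  obtain ⟨a, ha⟩ := detect n.left n.right fun e => hne (SemidirectProduct.ext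
    (congrArg Prod.fst e) (congrArg Prod.snd e))
  refine hz (h.hom_zm ▸ ?_)
  rcases ha with e | e | e | e <;> rw [← e] <;> simp [map_mul, map_inv, hn]

section

open Matrix

def gI : GL (Fin 2) (ZMod 3) := ⟨!![0, 1; 2, 0], !![0, 2; 1, 0], by decide, by decide⟩

def gJ : GL (Fin 2) (ZMod 3) := ⟨!![1, 1; 1, 2], !![2, 2; 2, 1], by decide, by decide⟩

def gT : GL (Fin 2) (ZMod 3) := ⟨!![0, 1; 2, 2], !![2, 2; 1, 0], by decide, by decide⟩

def gS : GL (Fin 2) (ZMod 3) := ⟨!![0, 1; 1, 0], !![0, 1; 1, 0], by decide, by decide⟩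

theorem gRel : Rel gI gJ gT gS := by constructor <;> decide +kernel

/-- The model is `GL (2, 3)`. -/
theorem nonempty_equiv : Nonempty (Model ≃* GL (Fin 2) (ZMod 3)) := by
  haveI : Fact (Nat.Prime 3) := ⟨Nat.prime_three⟩
  have hinj := gRel.hom_injective (by decide +kernel)
  have hc : Nat.card Model = Nat.card (GL (Fin 2) (ZMod 3)) := by
    rw [SemidirectProduct.card, Matrix.card_GL_field (𝔽 := ZMod 3) (n := 2), Fin.prod_univ_two, ZMod.card]
    rw [Nat.card_eq_fintype_card, Nat.card_eq_fintype_card]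
    decide +kernel
  exact ⟨MulEquiv.ofBijective gRel.hom ((Nat.bijective_iff_injective_and_card _).2 ⟨hinj, hc⟩)⟩

end

/-- Four such elements with nontrivial square generate a copy of `GL (2, 3)`. -/
theorem exists_subgroup {H : Type*} [Group H] {i j t s : H} (h : Rel i j t s) (hz : i * i ≠ 1) {N : Subgroup H}
    (hi : i ∈ N) (hj : j ∈ N) (ht : t ∈ N) (hs : s ∈ N) :
    ∃ K : Subgroup H, K ≤ N ∧ Nonempty (↥K ≃* GL (Fin 2) (ZMod 3)) := by
  obtain ⟨e⟩ := nonempty_equiv
  refine ⟨h.hom.range, ?_, ⟨(MonoidHom.ofInjective (h.hom_injective hz)).symm.trans e⟩⟩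
  rintro _ ⟨⟨q, d⟩, rfl⟩
  show qmap i j q * dmap t s d ∈ N
  rcases q with a | a <;> rcases d with b | b <;> simp only [qmap, dmap]
  · exact mul_mem (pow_mem hi _) (pow_mem ht _)
  · exact mul_mem (pow_mem hi _) (mul_mem hs (pow_mem ht _))
  · exact mul_mem (mul_mem hj (pow_mem hi _)) (pow_mem ht _)
  · exact mul_mem (mul_mem hj (pow_mem hi _)) (mul_mem hs (pow_mem ht _))

end CfsgLib.Spor.JFourType.EleGL
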