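import Cfsg.Agent.Lib.Coprime.Action
import Cfsg.Agent.Lib.Coprime.FpfAction
import Mathlib.GroupTheory.Transfer

/-!
# An element of prime order and the groups it normalizes

Fixed-point-free action, the lifting of a fixed coset, and the bound on a group in which an element of prime
order is a self-centralizing Sylow subgroup whose normalizer centralizes it.
-/

set_option autoImplicit false
set_option linter.style.haveILetI false

namespace CfsgLib.Spor.JFourType.EleGen

open Subgroup

universe u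

variable {G : Type u} [Group G]

theorem le_normalizer_of_conj [Finite G] {S T : Subgroup G} (h : ∀ a ∈ S, ∀ w ∈ T, a * w * a⁻¹ ∈ T) :
    S ≤ normalizer (T : Set G) := by
  intro a ha
  refine mem_normalizer_iff.2 fun w => ⟨h a ha w, fun hw => ?_⟩
  have h2 := h a⁻¹ (inv_mem ha) _ hw
  rwa [inv_inv, show a⁻¹ * (a * w * a⁻¹) * a = w by group] at h2

theorem zpowers_le_normalizer_of_conj [Finite G] {y : G} {T : Subgroup G}
    (h : ∀ w ∈ T, y * w * y⁻¹ ∈ T) : zpowers y ≤ normalizer (T : Set G) := by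
  refine le_normalizer_of_conj fun a ha => ?_
  obtain ⟨i, hi⟩ := Submonoid.mem_powers_iff _ _ |>.1 ((isOfFinOrder_of_finite y).mem_powers_iff_mem_zpowers.2 ha)
  rw [← hi]
  clear hi
  induction i with
  | zero => intro w hw; simpa using hw
  | succ n ih =>
    intro w hw
    have h' := h _ (ih w hw)
    rwa [show y * (y ^ n * w * (y ^ n)⁻¹) * y⁻¹ = y ^ (n + 1) * w * (y ^ (n + 1))⁻¹ by
      rw [pow_succ']; group] at h'

/-- An element of prime order acting fixed-point-freely. -/
theorem card_mod_one [Finite G] {p : ℕ} (hp : p.Prime) {y : G} (hy : orderOf y = p) {T : Subgroup G}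
    (hn : ∀ w ∈ T, y * w * y⁻¹ ∈ T) (hf : ∀ w ∈ T, y * w = w * y → w = 1) : Nat.card ↥T % p = 1 := by
  have hfp : Coprime.IsFpfOn (zpowers y) T := by
    intro a ha ha1
    refine (eq_bot_iff_forall _).2 fun w hw => hf w hw.1 ?_
    have hc : Commute a w := (mem_centralizer_singleton_iff.1 hw.2).symm
    have hgen : y ∈ zpowers a := by
      have e : zpowers a = zpowers y := eq_of_le_of_card_ge (zpowers_le.2 ha) (by
        rcases (Nat.dvd_prime hp).1 (hy ▸ orderOf_dvd_of_mem_zpowers ha) with h | h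
        · exact absurd (orderOf_eq_one_iff.1 h) ha1
        · rw [Nat.card_zpowers, Nat.card_zpowers, hy, h])
      rw [e]; exact mem_zpowers y
    obtain ⟨i, hi⟩ := mem_zpowers_iff.1 hgen
    rw [← hi]
    exact (hc.zpow_left i).eq
  have h := hfp.card_mod (zpowers_le_normalizer_of_conj hn)
  rwa [Nat.card_zpowers, hy, Nat.one_mod_eq_one.2 hp.ne_one] at h

/-- An element of prime order and a group it normalizes. -/
theorem card_mod_fixed [Finite G] {p : ℕ} (hp : p.Prime) {y : G} (hy : orderOf y = p) {T : Subgroup G}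
    (hn : ∀ w ∈ T, y * w * y⁻¹ ∈ T) :
    Nat.card ↥T % p = Nat.card ↥(T ⊓ centralizer ({y} : Set G)) % p := by
  haveI : Fact p.Prime := ⟨hp⟩
  have hA := zpowers_le_normalizer_of_conj hn
  letI act : MulAction ↥(zpowers y) ↥T :=
    { smul := fun a w => ⟨(a : G) * w * (a : G)⁻¹, (mem_normalizer_iff.1 (hA a.2) _).1 w.2⟩
      one_smul := fun w => Subtype.ext (show ((1 : ↥(zpowers y)) : G) * w * ((1 : ↥(zpowers y)) : G)⁻¹ = w by simp)
      mul_smul := fun a b w => Subtype.ext (by
        show ((a : G) * b) * w * ((a : G) * b)⁻¹ = (a : G) * ((b : G) * w * (b : G)⁻¹) * (a : G)⁻¹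
        group) }
  have hp' : IsPGroup p ↥(zpowers y) := IsPGroup.of_card (n := 1) (by rw [Nat.card_zpowers, hy, pow_one])
  have h := hp'.card_modEq_card_fixedPoints ↥T
  refine h.trans (congrArg (· % p) ?_)
  refine Nat.card_congr
    { toFun := fun w => ⟨(w.1 : G), w.1.2, mem_centralizer_singleton_iff.2 ?_⟩
      invFun := fun v => ⟨⟨(v : G), v.2.1⟩, fun a => Subtype.ext ?_⟩
      left_inv := fun w => rfl
      right_inv := fun v => rfl }
  · have hw : y * (w.1 : G) * y⁻¹ = w.1 := congrArg Subtype.val (w.2 ⟨y, mem_zpowers y⟩)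
    exact (mul_inv_eq_iff_eq_mul.1 hw).symm
  · show (a : G) * (v : G) * (a : G)⁻¹ = v
    obtain ⟨i, hi⟩ := mem_zpowers_iff.1 a.2
    have hc : Commute y (v : G) := (mem_centralizer_singleton_iff.1 v.2.2).symm
    rw [← hi, (hc.zpow_left i).eq, mul_inv_cancel_right]

/-- An element fixing a coset of a normal subgroup of order prime to its order centralizes one of its members. -/
theorem exists_fixed [Finite G] {g : G} {U : Subgroup G} (hn : ∀ w ∈ U, g * w * g⁻¹ ∈ U)
    (hcop : (orderOf g).Coprime (Nat.card ↥U)) {k : G} (hk : k ∈ normalizer (U : Set G))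
    (hfix : g * k * g⁻¹ * k⁻¹ ∈ U) : ∃ n ∈ U, g * (k * n) = k * n * g := by
  have hA := zpowers_le_normalizer_of_conj hn
  obtain ⟨n, hn', hc⟩ := Coprime.exists_fixed_in_coset hA (by rwa [Nat.card_zpowers])
    (Or.inl (Coprime.isSolvable_of_isMulCommutative inferInstance)) hk (fun a ha => by
      let S : Subgroup G :=
        { carrier := {a | a ∈ normalizer (U : Set G) ∧ a * k * a⁻¹ * k⁻¹ ∈ U}
          one_mem' := ⟨one_mem _, by simp⟩
          mul_mem' := fun {a b} ha hb => ⟨mul_mem ha.1 hb.1, by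
            rw [show a * b * k * (a * b)⁻¹ * k⁻¹ = a * (b * k * b⁻¹ * k⁻¹) * a⁻¹ * (a * k * a⁻¹ * k⁻¹) by
              group]
            exact mul_mem ((mem_normalizer_iff.1 ha.1 _).1 hb.2) ha.2⟩
          inv_mem' := fun {a} ha => ⟨inv_mem ha.1, by
            rw [show a⁻¹ * k * a⁻¹⁻¹ * k⁻¹ = a⁻¹ * (a * k * a⁻¹ * k⁻¹)⁻¹ * a by group]
            exact (mem_normalizer_iff''.1 ha.1 _).1 (inv_mem ha.2)⟩ }
      exact ((zpowers_le (H := S)).2 ⟨hA (mem_zpowers g), hfix⟩ ha).2)
  exact ⟨n, hn', (mem_centralizer_iff.1 hc g (mem_zpowers g))⟩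

/-- If the normalizer of a self-centralizing subgroup of prime order `p`, a Sylow subgroup, centralizes it, the
group has a normal complement on which the element acts fixed-point-freely. -/
theorem exists_complement [Finite G] {p : ℕ} (hp : p.Prime) {y : G} (hy : orderOf y = p) {R : Subgroup G}
    (hyR : y ∈ R) (h2 : ¬ p ^ 2 ∣ Nat.card ↥R) (hC : ∀ g ∈ R, g * y = y * g → g ∈ zpowers y)
    (hN : ∀ g ∈ R, g * y * g⁻¹ ∈ zpowers y → g * y = y * g) :
    ∃ Q : Subgroup G, Q ≤ R ∧ R ≤ normalizer (Q : Set G) ∧ Nat.card ↥R = p * Nat.card ↥Q ∧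
      ∀ g ∈ Q, g * y = y * g → g = 1 := by
  haveI : Fact p.Prime := ⟨hp⟩
  set y' : ↥R := ⟨y, hyR⟩
  have hyo : orderOf y' = p := by rw [← hy, ← Subgroup.orderOf_coe]
  have hfac : (Nat.card ↥R).factorization p = 1 := by
    have h1 : p ∣ Nat.card ↥R := hyo ▸ orderOf_dvd_natCard _
    have h1' := (hp.dvd_iff_one_le_factorization Nat.card_pos.ne').1 h1
    by_contra hne
    exact h2 ((hp.pow_dvd_iff_le_factorization Nat.card_pos.ne').2 (by omega))
  let S : Sylow p ↥R := Sylow.ofCard (zpowers y') (by rw [Nat.card_zpowers, hyo, hfac, pow_one])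
  have hS : (S : Subgroup ↥R) = zpowers y' := rfl
  have hle : normalizer ((S : Subgroup ↥R) : Set ↥R) ≤ centralizer ((S : Subgroup ↥R) : Set ↥R) := by
    intro g hg
    rw [hS] at hg ⊢
    have hgy : (g : G) * y = y * g := hN g g.2 (by
      obtain ⟨i, hi⟩ := mem_zpowers_iff.1 ((mem_normalizer_iff.1 hg y').1 (mem_zpowers y'))
      exact mem_zpowers_iff.2 ⟨i, by
        have := congrArg Subtype.val hi
        simpa using this⟩)
    refine mem_centralizer_iff.2 fun w hw => ?_
    obtain ⟨i, rfl⟩ := mem_zpowers_iff.1 hw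
    exact (((show Commute g y' from Subtype.ext hgy).zpow_right i).eq).symm
  set K := (MonoidHom.transferSylow S hle).ker
  have hcomp := MonoidHom.ker_transferSylow_isComplement' S hle
  refine ⟨K.map R.subtype, map_subtype_le _, ?_, ?_, ?_⟩
  · refine le_normalizer_of_conj fun a ha w hw => ?_
    obtain ⟨w', hw', rfl⟩ := hw
    exact ⟨_, (inferInstance : K.Normal).conj_mem _ hw' ⟨a, ha⟩, rfl⟩
  · rw [← Nat.card_congr (K.equivMapOfInjective R.subtype R.subtype_injective).toEquiv,
      ← hcomp.card_mul_card, show Nat.card ↥(S : Subgroup ↥R) = p by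
        show Nat.card ↥(zpowers y') = p
        rw [Nat.card_zpowers, hyo], mul_comm]
  · rintro _ ⟨g, hg, rfl⟩ hgy
    obtain ⟨i, hi⟩ := mem_zpowers_iff.1 (hC g g.2 hgy)
    have hgS : g ∈ (S : Subgroup ↥R) := by
      rw [hS]
      exact mem_zpowers_iff.2 ⟨i, Subtype.ext (by simpa using hi)⟩
    have h1 : g = 1 := by
      have := hcomp.disjoint.le_bot (mem_inf.2 ⟨hg, hgS⟩)
      exact mem_bot.1 this
    rw [h1]; rfl

/-- A group normalized by an element of prime order without fixed points has, for each prime, an invariant Sylow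
subgroup; its order is one modulo that prime order. -/
theorem exists_fpf_sylow [Finite G] {p : ℕ} (hp : p.Prime) {y : G} (hy : orderOf y = p) {Q : Subgroup G}
    (hn : ∀ w ∈ Q, y * w * y⁻¹ ∈ Q) (hf : ∀ w ∈ Q, y * w = w * y → w = 1) {q : ℕ} (hq : q.Prime) :
    ∃ S : Subgroup G, S ≤ Q ∧ IsPGroup q ↥S ∧ Nat.card ↥S = q ^ (Nat.card ↥Q).factorization q ∧
      (∀ w ∈ S, y * w * y⁻¹ ∈ S) ∧ Nat.card ↥S % p = 1 := by
  haveI : Fact q.Prime := ⟨hq⟩
  have hA := zpowers_le_normalizer_of_conj hn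
  have hmod := card_mod_one hp hy hn hf
  have hcop : (Nat.card ↥(zpowers y)).Coprime (Nat.card ↥Q) := by
    rw [Nat.card_zpowers, hy, hp.coprime_iff_not_dvd]
    intro hd
    rw [Nat.mod_eq_zero_of_dvd hd] at hmod
    omega
  obtain ⟨S, hS, hSA⟩ := Coprime.exists_invariant_sylow hA hcop
    (Or.inl (Coprime.isSolvable_of_isMulCommutative inferInstance)) q
  refine ⟨S, hS.1, hS.isPGroup, hS.2, fun w hw => (mem_normalizer_iff.1 (hSA (mem_zpowers y)) w).1 hw, ?_⟩
  exact card_mod_one hp hy (fun w hw => (mem_normalizer_iff.1 (hSA (mem_zpowers y)) w).1 hw)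
    fun w hw h => hf w (hS.1 hw) h

end CfsgLib.Spor.JFourType.EleGen
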