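import Cfsg.Agent.Lib.Spor.JFourType.EleRot
import Cfsg.Agent.Lib.Spor.JFourType.CentT

/-!
# An involution of `H` inverting `x`

The stabilizer of a noncentral member of `U` in the normalizer has an involution; it inverts `x`, and permutes the
121 conjugates of `z` centralizing `x`, so fixes one.
-/

set_option autoImplicit false
set_option linter.style.haveILetI false
set_option linter.unusedSectionVars false

namespace CfsgLib.Spor.JFourType.Ctx

open Subgroup

universe u

variable {G : Type u} [Group G] [Finite G] {A : Type} [Group A] {J I R : Subgroup A}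
  {z : G} {P : Subgroup G} {c : Ctx J I R z P}

namespace EleSyl

variable {x : G} {U : Subgroup G} (s : c.EleSyl x U)
include s

theorem card_H_cent : Nat.card ↥(centralizer ({x} : Set G) ⊓ c.H) ∣ 264 := by
  have h := Nat.dvd_gcd (card_dvd_of_le (inf_le_left : centralizer ({x} : Set G) ⊓ c.H ≤ _))
    (card_dvd_of_le (inf_le_right : centralizer ({x} : Set G) ⊓ c.H ≤ _))
  rw [s.card_normalizer.2, c.card_H_local] at h
  rwa [show Nat.gcd 31944 (3 * 2 ^ 13 * (2 * 443520)) = 264 by decide +kernel] at h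

/-- Every involution of the centralizer of `x` is conjugate to `z` there. -/
theorem invol_cent {v : G} (hv : orderOf v = 2) (hvx : v * x = x * v) :
    ∃ h ∈ centralizer ({x} : Set G), h * z * h⁻¹ = v := by
  classical
  haveI : Fact (Nat.Prime 2) := ⟨Nat.prime_two⟩
  set C := centralizer ({x} : Set G)
  have hT : Nat.card ↥((c.Qx x).subgroupOf C) = 2 ^ (Nat.card ↥C).factorization 2 := by
    rw [c.two_part_eleven s.x_mem s.ord, Nat.card_congr (subgroupOfEquivOfLe (show c.Qx x ≤ C from inf_le_right)).toEquiv]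
    exact s.card_Qx
  have hvC : v ∈ C := mem_centralizer_singleton_iff.2 hvx
  obtain ⟨S, hS⟩ := (IsPGroup.of_card (p := 2) (n := 1) (show Nat.card ↥(zpowers (⟨v, hvC⟩ : ↥C)) = 2 ^ 1 by
    rw [Nat.card_zpowers, Subgroup.orderOf_mk, hv, pow_one])).exists_le_sylow
  obtain ⟨a, ha⟩ := MulAction.exists_smul_eq ↥C S (Sylow.ofCard _ hT)
  have hm : a * ⟨v, hvC⟩ * a⁻¹ ∈ (c.Qx x).subgroupOf C := by
    have h1 := congrArg (fun T : Sylow 2 ↥C => (T : Subgroup ↥C)) ha
    simp only [Sylow.coe_subgroup_smul, Sylow.coe_ofCard] at h1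
    rw [← h1]
    exact ⟨_, hS (mem_zpowers _), rfl⟩
  have hv1 : v ≠ 1 := fun e => by simp [e] at hv
  rcases s.Qx_invol (q := (a : G) * v * (a : G)⁻¹) (mem_subgroupOf.1 hm)
    (by rw [conj_mul, ← pow_two, ← hv, pow_orderOf_eq_one, mul_one, mul_inv_cancel]) with h | h
  · exact absurd (conj_eq_one_iff.1 h) hv1
  · refine ⟨(a : G)⁻¹, inv_mem a.2, ?_⟩
    rw [← h]; group

/-- An element inducing an involution on `⟨x⟩` inverts `x`. -/
theorem inverts {g : G} (hg : g * x * g⁻¹ ∈ zpowers x) (h2 : g * (g * x * g⁻¹) * g⁻¹ = x)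
    (hne : g * x ≠ x * g) : g * x * g⁻¹ = x⁻¹ := by
  obtain ⟨i, hi⟩ := mem_zpowers_iff.1 hg
  set w := x * (g * x * g⁻¹) with hw
  have hcomm : g * w * g⁻¹ = w := by
    rw [hw, ← conj_mul, h2, ← hi]
    exact ((Commute.refl x).zpow_right i).eq.symm
  refine eq_inv_of_mul_eq_one_right ?_
  by_contra h1
  have hwx : w ∈ zpowers x := mul_mem (mem_zpowers x) hg
  have hgen : zpowers w = zpowers x := eq_of_le_of_card_ge (zpowers_le.2 hwx) (by
    rcases (Nat.dvd_prime (show Nat.Prime 11 by norm_num)).1 (s.ord ▸ orderOf_dvd_of_mem_zpowers hwx) with e | e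
    · exact absurd (orderOf_eq_one_iff.1 e) h1
    · rw [Nat.card_zpowers, Nat.card_zpowers, s.ord, e])
  obtain ⟨l, hl⟩ := mem_zpowers_iff.1 (hgen.ge (mem_zpowers x))
  refine hne ?_
  rw [← hl]
  exact ((show Commute g w from mul_inv_eq_iff_eq_mul.1 hcomm).zpow_right l).eq

theorem exists_invol_inverting : ∃ g ∈ c.H, g * g = 1 ∧ g * x * g⁻¹ = x⁻¹ := by
  classical
  haveI : Fact (Nat.Prime 2) := ⟨Nat.prime_two⟩
  haveI : Fact (Nat.Prime 11) := ⟨by norm_num⟩
  obtain ⟨t₀, y₀, g₀, -, hwU, hwx⟩ := s.exists_noncentral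
  set w := g₀ * y₀ * g₀⁻¹
  obtain ⟨gg, hgg⟩ := exists_prime_orderOf_dvd_card'
    (G := ↥(normalizer (U : Set G) ⊓ centralizer ({w} : Set G))) 2 (by rw [(s.orbit_eq hwU hwx).2]; norm_num)
  rw [← Subgroup.orderOf_coe] at hgg
  set g := (gg : G)
  have hgw : g * w = w * g := mem_centralizer_singleton_iff.1 gg.2.2
  have hgg1 : g * g = 1 := by rw [← pow_two, ← hgg, pow_orderOf_eq_one]
  have hne : g * x ≠ x * g := by
    intro hgx
    obtain ⟨h, hh, e⟩ := s.invol_cent hgg hgx
    have hhx : Commute h x := mem_centralizer_singleton_iff.1 hh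
    set w' := h⁻¹ * w * h with hw'
    have hwx' : Commute w x := s.comm hwU
    have hw'x : w' * x = x * w' := ((hhx.inv_left.mul_left hwx').mul_left hhx).eq
    have hw'z : w' * z = z * w' := by
      calc w' * z = h⁻¹ * (w * (h * z * h⁻¹)) * h := by rw [hw']; group
        _ = h⁻¹ * ((h * z * h⁻¹) * w) * h := by rw [e, hgw]
        _ = _ := by rw [hw']; group
    set CH := centralizer ({x} : Set G) ⊓ c.H
    have hle : zpowers x ⊔ zpowers w' ≤ CH := sup_le
      (zpowers_le.2 (mem_inf.2 ⟨mem_centralizer_singleton_iff.2 rfl, s.x_mem.1⟩))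
      (zpowers_le.2 (mem_inf.2 ⟨mem_centralizer_singleton_iff.2 hw'x, mem_centralizer_singleton_iff.2 hw'z⟩))
    have hw'U : w' ∈ U := (mem_normalizer_iff''.1 (s.le_norm hh) w).1 hwU
    obtain ⟨k, hk⟩ := IsPGroup.iff_card.1 (s.isPGroup.to_le (sup_le (zpowers_le.2 s.mem) (zpowers_le.2 hw'U)))
    have hk1 : k ≤ 1 := by
      by_contra hlt
      have h2 := ((pow_dvd_pow 11 (show 2 ≤ k by omega)).trans (hk ▸ card_dvd_of_le hle)).trans s.card_H_cent
      norm_num at h2
    have hin : w' ∈ zpowers x := (eq_of_le_of_card_ge (le_sup_left : zpowers x ≤ zpowers x ⊔ zpowers w') (by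
      rw [hk, Nat.card_zpowers, s.ord]
      exact (Nat.pow_le_pow_right (by norm_num) hk1).trans (by norm_num))).ge (mem_sup_right (mem_zpowers w'))
    refine hwx ?_
    obtain ⟨i, hi⟩ := mem_zpowers_iff.1 hin
    have : w = h * x ^ i * h⁻¹ := by rw [hi, hw']; group
    rw [this, (hhx.zpow_right i).eq, mul_inv_cancel_right]
    exact zpow_mem (mem_zpowers x) i
  have hgx : g * x * g⁻¹ = x⁻¹ := by
    refine s.inverts ?_ ?_ hne
    · exact (mem_normalizer_iff.1 (s.normalizer_eq.le gg.2.1) x).1 (mem_zpowers x)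
    · rw [show g * (g * x * g⁻¹) * g⁻¹ = g * g * x * (g * g)⁻¹ by group, hgg1]; group
  -- move it into `H`
  set C := centralizer ({x} : Set G)
  have hgC : ∀ h ∈ C, g * h * g⁻¹ ∈ C := fun h hh => by
    refine mem_centralizer_singleton_iff.2 ?_
    have hc : Commute h x⁻¹ := (show Commute h x from mem_centralizer_singleton_iff.1 hh).inv_right
    have hx' : g * x⁻¹ * g⁻¹ = x := by rw [← conj_inv, hgx, inv_inv]
    calc g * h * g⁻¹ * x = g * h * g⁻¹ * (g * x⁻¹ * g⁻¹) := by rw [hx']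
      _ = g * (h * x⁻¹) * g⁻¹ := by group
      _ = g * (x⁻¹ * h) * g⁻¹ := by rw [hc.eq]
      _ = g * x⁻¹ * g⁻¹ * (g * h * g⁻¹) := by group
      _ = _ := by rw [hx']
  set O := (Set.toFinite {v | ∃ k ∈ C, k * z * k⁻¹ = v}).toFinset
  obtain ⟨u, hu, hfix⟩ : ∃ u ∈ O, g * u * g⁻¹ = u := by
    by_contra hno
    push Not at hno
    have heven : Even O.card := even_card_of_involution O (fun u => g * u * g⁻¹)
      (fun u hu => by
        simp only [O, Set.Finite.mem_toFinset] at hu ⊢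
        obtain ⟨k, hk, rfl⟩ := hu
        have hkx : Commute k x := mem_centralizer_singleton_iff.1 hk
        obtain ⟨h, hh, e⟩ := s.invol_cent (v := g * (k * z * k⁻¹) * g⁻¹)
          (CfsgLib.Invol.invol_conj (CfsgLib.Invol.invol_conj c.ord k) g)
          (mem_centralizer_singleton_iff.1 (hgC _ (mem_centralizer_singleton_iff.2
            ((hkx.mul_left (show Commute z x from s.z_comm_x)).mul_left hkx.inv_left).eq)))
        exact ⟨h, hh, e⟩)
      (fun u hu => hno u hu)
      (fun u _ => by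
        show g * (g * u * g⁻¹) * g⁻¹ = u
        rw [show g * (g * u * g⁻¹) * g⁻¹ = g * g * u * (g * g)⁻¹ by group, hgg1]; group)
    have hcard := ncard_orbit_mul C z
    rw [show C ⊓ centralizer ({z} : Set G) = C ⊓ c.H from rfl, s.card_normalizer.2,
      Set.ncard_eq_toFinset_card _ (Set.toFinite _)] at hcard
    have h8 : 8 ∣ Nat.card ↥(C ⊓ c.H) :=
      s.card_Qx ▸ card_dvd_of_le (le_inf inf_le_right (inf_le_left.trans c.E_le) : c.Qx x ≤ C ⊓ c.H)
    obtain ⟨m, hm⟩ := heven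
    obtain ⟨l, hl⟩ := h8
    have h16 : 16 ∣ (31944 : ℕ) := ⟨m * l, by
      rw [← hcard]
      show O.card * _ = _
      rw [hm, hl]; ring⟩
    norm_num at h16
  simp only [O, Set.Finite.mem_toFinset] at hu
  obtain ⟨k, hk, rfl⟩ := hu
  have hkx : Commute k x := mem_centralizer_singleton_iff.1 hk
  refine ⟨k⁻¹ * g * k, mem_centralizer_singleton_iff.2 ?_, ?_, ?_⟩
  · calc k⁻¹ * g * k * z = k⁻¹ * (g * (k * z * k⁻¹) * g⁻¹) * g * k := by group
      _ = k⁻¹ * (k * z * k⁻¹) * g * k := by rw [hfix]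
      _ = _ := by group
  · rw [show k⁻¹ * g * k * (k⁻¹ * g * k) = k⁻¹ * (g * g) * k by group, hgg1]; group
  · calc k⁻¹ * g * k * x * (k⁻¹ * g * k)⁻¹ = k⁻¹ * g * (k * x * k⁻¹) * g⁻¹ * k := by group
      _ = k⁻¹ * (g * x * g⁻¹) * k := by rw [hkx.eq, mul_inv_cancel_right]; group
      _ = x⁻¹ := by rw [hgx, mul_assoc, ← hkx.inv_right.eq, inv_mul_cancel_left]

end EleSyl

end CfsgLib.Spor.JFourType.Ctx
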