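import Cfsg.Agent.Lib.Spor.JFourType.EleCent
import Cfsg.Agent.Lib.Spor.SylowTwoSelfNorm

/-!
# An element of order eleven inside the normalizer of `W`

Let `y` of order eleven commute with `t` in `Tset`.  It commutes with no conjugate of `z`, so it fixes only `1`
and `t` in `W`, and its centralizer in `N(W)` is `⟨t⟩ × ⟨y⟩`.
-/

set_option autoImplicit false
set_option linter.style.haveILetI false
set_option linter.unusedSectionVars false

namespace CfsgLib.Spor.JFourType.Ctx

open Subgroup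

universe u

variable {G : Type u} [Group G] [Finite G] {A : Type} [Group A] {J I R : Subgroup A}
  {z : G} {P : Subgroup G} (c : Ctx J I R z P)
include c

/-- An element of order eleven and an involution of `Tset` commuting with it. -/
structure EleFrame (t y : G) : Prop where
  split : c.Split
  extra : Extra J I R
  five : FiveSeven J I R
  tmem : t ∈ c.Tset
  ord_y : orderOf y = 11
  comm : y * t = t * y

theorem exists_eleFrame (hs : c.Split) (he : Extra J I R) (F : FiveSeven J I R) :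
    ∃ t y : G, c.EleFrame t y := by
  obtain ⟨t, y, ht, hnc, hy, hyt⟩ := c.exists_second_eleven hs he
  obtain ⟨g, hg⟩ := c.exists_conj_Tset hs he ht hnc
  refine ⟨g * t * g⁻¹, g * y * g⁻¹, hs, he, F, hg, ?_, by rw [conj_mul, conj_mul, hyt]⟩
  rw [← hy]
  exact MulEquiv.orderOf_eq (MulAut.conj g) y

namespace EleFrame

variable {c} {t y : G} (f : c.EleFrame t y)
include f

theorem t_ord : orderOf t = 2 := by
  haveI : Fact (Nat.Prime 2) := ⟨Nat.prime_two⟩
  exact orderOf_eq_prime (by rw [pow_two, c.W_sq f.tmem.1]) f.tmem.2.1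

theorem y_mem : y ∈ normalizer (c.W : Set G) :=
  c.cent_Tset_le f.split f.tmem (mem_centralizer_singleton_iff.2 f.comm)

/-- It commutes with no conjugate of `z`. -/
theorem not_comm_z {u : G} (hu : IsConj z u) (h : u * y = y * u) : False := by
  obtain ⟨x, hx, ho⟩ := c.exists_ord_eleven
  obtain ⟨g, i, hg⟩ := c.exists_conj_pow_eleven hx ho f.ord_y hu h
  have hoi : orderOf (x ^ i) = 11 := by rw [← hg, ← f.ord_y]; exact MulEquiv.orderOf_eq (MulAut.conj g) y
  have h1 := c.isConj_z_of_comm_eleven (pow_mem hx i) hoi (CfsgLib.Invol.invol_conj f.t_ord g)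
    (by rw [← hg, conj_mul, conj_mul, f.comm])
  exact f.tmem.2.2 ((c.isConj_z_conj g t).1 h1)

/-- It fixes only `1` and `t` in `W`. -/
theorem W_inter : Nat.card ↥(c.W ⊓ centralizer ({y} : Set G)) = 2 := by
  haveI : Fact (Nat.Prime 2) := ⟨Nat.prime_two⟩
  set D := c.W ⊓ centralizer ({y} : Set G)
  have hD : ∀ w ∈ D, w = 1 ∨ w ∈ c.Tset := fun w hw => by
    by_cases h1 : w = 1
    · exact Or.inl h1
    · refine Or.inr ⟨hw.1, h1, fun hc => f.not_comm_z hc (mem_centralizer_singleton_iff.1 hw.2)⟩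
  have hle : Nat.card ↥D ≤ 277 := by
    have h := Set.ncard_le_ncard (s := (D : Set G)) (t := insert 1 c.Tset) (fun w hw => by
      rcases hD w hw with h | h <;> simp [h]) (Set.toFinite _)
    rw [← Nat.card_coe_set_eq] at h
    exact h.trans ((Set.ncard_insert_le _ _).trans (by rw [c.card_Tset f.split]))
  have hm := EleGen.card_mod_fixed (p := 11) (by norm_num) f.ord_y (T := c.W) fun w hw =>
    (mem_normalizer_iff.1 f.y_mem w).1 hw
  obtain ⟨k, hk⟩ := IsPGroup.iff_card.1 (c.W_isPGroup.to_le (inf_le_left : D ≤ c.W))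
  rw [c.card_W, show c.W ⊓ centralizer ({y} : Set G) = D from rfl, hk] at hm
  rw [hk] at hle ⊢
  have hk8 : k ≤ 8 := by
    by_contra hk8
    have := Nat.pow_le_pow_right (show 2 > 0 by norm_num) (show 9 ≤ k by omega)
    omega
  interval_cases k <;> omega

theorem eq_one_or_t {w : G} (hw : w ∈ c.W) (h : w * y = y * w) : w = 1 ∨ w = t := by
  have he : c.W ⊓ centralizer ({y} : Set G) = zpowers t := (eq_of_le_of_card_ge
    (zpowers_le.2 (mem_inf.2 ⟨f.tmem.1, mem_centralizer_singleton_iff.2 f.comm.symm⟩))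
    (by rw [f.W_inter, Nat.card_zpowers, f.t_ord])).symm
  obtain ⟨i, rfl⟩ := mem_zpowers_iff.1 (he ▸ (⟨hw, mem_centralizer_singleton_iff.2 h⟩ :
    w ∈ c.W ⊓ centralizer ({y} : Set G)) : w ∈ zpowers t)
  rcases Int.even_or_odd i with ⟨j, rfl⟩ | ⟨j, rfl⟩
  · left; rw [← two_mul, zpow_mul, zpow_two, c.W_sq f.tmem.1, one_zpow]
  · right; rw [zpow_add, zpow_mul, zpow_two, c.W_sq f.tmem.1, one_zpow, one_mul, zpow_one]

theorem not_eleven_sq_normalizer : ¬ 11 ^ 2 ∣ Nat.card ↥(normalizer (c.W : Set G)) := by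
  rw [c.card_normalizer_W f.split f.extra.card_NI]
  norm_num

/-- An element of `N(W)` commuting with `y` fixes two or all elements of `W`. -/
theorem fix_card {g : G} (hg : g ∈ normalizer (c.W : Set G)) (h : g * y = y * g) :
    Nat.card ↥(c.W ⊓ centralizer ({g} : Set G)) = 2 ∨ g ∈ c.W := by
  haveI : Fact (Nat.Prime 2) := ⟨Nat.prime_two⟩
  set D := c.W ⊓ centralizer ({g} : Set G) with hD
  have hgt : g * t * g⁻¹ = t := by
    refine (f.eq_one_or_t ((mem_normalizer_iff.1 hg t).1 f.tmem.1) ?_).resolve_left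
      fun e => f.tmem.2.1 (conj_eq_one_iff.1 e)
    calc g * t * g⁻¹ * y = g * t * (g⁻¹ * (y * g)) * g⁻¹ := by group
      _ = g * (t * y) * g⁻¹ := by rw [← h]; group
      _ = g * y * (t * g⁻¹) := by rw [← f.comm]; group
      _ = _ := by rw [h]; group
  have hm := EleGen.card_mod_fixed (p := 11) (by norm_num) f.ord_y (T := D) fun w hw => by
    refine ⟨(mem_normalizer_iff.1 f.y_mem w).1 hw.1, mem_centralizer_singleton_iff.2 ?_⟩
    calc y * w * y⁻¹ * g = y * w * (y⁻¹ * (g * y)) * y⁻¹ := by group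
      _ = y * (w * g) * y⁻¹ := by rw [h]; group
      _ = y * g * (w * y⁻¹) := by rw [mem_centralizer_singleton_iff.1 hw.2]; group
      _ = _ := by rw [← h]; group
  have h2 : Nat.card ↥(D ⊓ centralizer ({y} : Set G)) = 2 := by
    refine le_antisymm ((card_le_of_le (inf_le_inf_right _ inf_le_left)).trans f.W_inter.le) ?_
    have ht : t ∈ D ⊓ centralizer ({y} : Set G) :=
      ⟨⟨f.tmem.1, mem_centralizer_singleton_iff.2 (mul_inv_eq_iff_eq_mul.1 hgt).symm⟩,
        mem_centralizer_singleton_iff.2 f.comm.symm⟩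
    have h := Nat.le_of_dvd Nat.card_pos (orderOf_dvd_natCard (⟨t, ht⟩ : ↥(D ⊓ centralizer ({y} : Set G))))
    rwa [Subgroup.orderOf_mk, f.t_ord] at h
  obtain ⟨k, hk⟩ := IsPGroup.iff_card.1 (c.W_isPGroup.to_le (inf_le_left : D ≤ c.W))
  rw [h2, hk] at hm
  have hle := card_le_of_le (inf_le_left : D ≤ c.W)
  rw [c.card_W, hk] at hle
  have hk11 : k ≤ 11 := (Nat.pow_le_pow_iff_right (by norm_num : 1 < 2)).1 hle
  obtain rfl | rfl : k = 1 ∨ k = 11 := by interval_cases k <;> omega
  · exact Or.inl hk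
  · right
    rw [← c.centralizer_W]
    have e : D = c.W := eq_of_le_of_card_ge inf_le_left (by rw [c.card_W, hk])
    intro w hw
    exact mem_centralizer_singleton_iff.1 (e.ge hw).2

/-- An element of `N(W)` commuting with `y` whose square lies in `W` lies in `W`. -/
theorem mem_W_of_sq {g : G} (hg : g ∈ normalizer (c.W : Set G)) (h : g * y = y * g) (h2 : g * g ∈ c.W) :
    g ∈ c.W := by
  refine (f.fix_card hg h).resolve_left fun hc => ?_
  have hn : ∀ w ∈ c.W, g * w * g⁻¹ ∈ c.W := fun w hw => (mem_normalizer_iff.1 hg w).1 hw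
  let ψ : ↥c.W →* ↥c.W :=
    { toFun := fun w => ⟨(w : G) * (g * w * g⁻¹), mul_mem w.2 (hn w w.2)⟩
      map_one' := Subtype.ext (by simp)
      map_mul' := fun a b => Subtype.ext (by
        show (a : G) * b * (g * (a * b) * g⁻¹) = (a : G) * (g * a * g⁻¹) * ((b : G) * (g * b * g⁻¹))
        rw [← conj_mul, mul_assoc (a : G) b, ← mul_assoc (b : G) (g * a * g⁻¹), c.W_comm b.2 (hn a a.2)]
        simp only [mul_assoc]) }
  have hker : ∀ w : ↥c.W, w ∈ ψ.ker → (w : G) ∈ c.W ⊓ centralizer ({g} : Set G) := fun w hw => by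
    refine ⟨w.2, mem_centralizer_singleton_iff.2 ?_⟩
    have e : (w : G) * (g * w * g⁻¹) = 1 := congrArg Subtype.val (MonoidHom.mem_ker.1 hw)
    have : g * (w : G) * g⁻¹ = w := by
      rw [← mul_one (g * (w : G) * g⁻¹), ← c.W_sq w.2, ← mul_assoc, c.W_comm (hn w w.2) w.2, e, one_mul]
    exact (mul_inv_eq_iff_eq_mul.1 this).symm
  have hran : ∀ w : ↥c.W, ((ψ w : ↥c.W) : G) ∈ c.W ⊓ centralizer ({g} : Set G) := fun w => by
    refine ⟨(ψ w).2, mem_centralizer_singleton_iff.2 ?_⟩
    have hgg : g * (g * (w : G) * g⁻¹) * g⁻¹ = w := by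
      rw [show g * (g * (w : G) * g⁻¹) * g⁻¹ = g * g * w * (g * g)⁻¹ by group, c.W_comm h2 w.2,
        mul_inv_cancel_right]
    show (w : G) * (g * w * g⁻¹) * g = g * ((w : G) * (g * w * g⁻¹))
    have e : g * ((w : G) * (g * w * g⁻¹)) * g⁻¹ = (w : G) * (g * w * g⁻¹) := by
      rw [← conj_mul, hgg, c.W_comm w.2 (hn w w.2)]
    exact (mul_inv_eq_iff_eq_mul.1 e).symm
  have h1 : Nat.card ↥ψ.ker ≤ 2 := by
    rw [← hc, Nat.card_congr (ψ.ker.equivMapOfInjective c.W.subtype c.W.subtype_injective).toEquiv]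
    exact card_le_of_le fun _ ⟨w, hw, e⟩ => e ▸ hker w hw
  have h3 : Nat.card ↥ψ.range ≤ 2 := by
    rw [← hc, Nat.card_congr (ψ.range.equivMapOfInjective c.W.subtype c.W.subtype_injective).toEquiv]
    exact card_le_of_le fun _ ⟨v, ⟨w, hw⟩, e⟩ => e ▸ hw ▸ hran w
  have h4 := card_eq_card_quotient_mul_card_subgroup ψ.ker
  rw [Nat.card_congr (QuotientGroup.quotientKerEquivRange ψ).toEquiv, c.card_W] at h4
  have := Nat.mul_le_mul h3 h1
  omega

/-- The centralizer of `y` in `N(W)`. -/
theorem mem_cent {g : G} (hg : g ∈ normalizer (c.W : Set G)) (h : g * y = y * g) :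
    ∃ i : ℤ, g = y ^ i ∨ g = t * y ^ i := by
  classical
  set N := normalizer (c.W : Set G)
  set C := N ⊓ centralizer ({y} : Set G) with hC
  have hprime : ∀ q : ℕ, q.Prime → q ∣ Nat.card ↥C → q = 2 ∨ q = 11 := by
    intro q hq hd
    by_contra hcon
    push Not at hcon
    haveI : Fact q.Prime := ⟨hq⟩
    obtain ⟨a, ha⟩ := exists_prime_orderOf_dvd_card' (G := ↥C) q hd
    rw [← Subgroup.orderOf_coe] at ha
    have hay := mem_centralizer_singleton_iff.1 a.2.2
    rcases eq_or_ne q 3 with rfl | h3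
    · obtain ⟨k, hk⟩ := isConj_iff.1 (c.isConj_three f.split ha c.ord_pg)
      have hmem : k * y * k⁻¹ ∈ centralizer (P : Set G) := by
        rw [c.centralizer_P, mem_centralizer_singleton_iff, ← hk, conj_mul, conj_mul, hay]
      rw [c.centralizer_P_eq f.split] at hmem
      refine f.not_comm_z (u := k⁻¹ * z * k) ?_ ?_
      · have := (c.isConj_z_conj k⁻¹ z).2 (IsConj.refl z)
        rwa [inv_inv] at this
      · calc k⁻¹ * z * k * y = k⁻¹ * (z * (k * y * k⁻¹)) * k := by group
          _ = k⁻¹ * (k * y * k⁻¹ * z) * k := by rw [c.comm_z hmem.1]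
          _ = _ := by group
    · rcases f.fix_card a.2.1 hay with hc | hW
      · have hm := EleGen.card_mod_fixed (p := q) hq ha (T := c.W) fun w hw =>
          (mem_normalizer_iff.1 a.2.1 w).1 hw
        rw [hc, c.card_W] at hm
        have h2046 : q ∣ 2046 := by
          have := Nat.sub_mod_eq_zero_of_mod_eq hm
          exact Nat.dvd_of_mod_eq_zero this
        have hN : q ∣ Nat.card ↥N := hd.trans (card_dvd_of_le inf_le_left)
        rw [c.card_normalizer_W f.split f.extra.card_NI] at hN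
        have hg := Nat.dvd_gcd h2046 hN
        rw [show Nat.gcd 2046 (2 ^ 11 * 244823040) = 66 by decide +kernel] at hg
        have h66 : q ≤ 66 := Nat.le_of_dvd (by norm_num) hg
        have := hq.two_le
        interval_cases q <;> first | omega | norm_num at hq
      · have := orderOf_dvd_of_pow_eq_one (show (a : G) ^ 2 = 1 by rw [pow_two, c.W_sq hW])
        rw [ha] at this
        exact hcon.1 ((Nat.prime_dvd_prime_iff_eq hq Nat.prime_two).1 this)
  haveI : Fact (Nat.Prime 2) := ⟨Nat.prime_two⟩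
  have h4 : ¬ 4 ∣ Nat.card ↥C := by
    intro h4
    obtain ⟨S, hS⟩ := Sylow.exists_subgroup_card_pow_prime (G := ↥C) 2 (n := 2) h4
    set S' := S.map C.subtype
    have hS' : S' ≤ c.W ⊓ centralizer ({y} : Set G) := by
      rintro _ ⟨a, ha, rfl⟩
      refine ⟨?_, a.2.2⟩
      have h4' : (a : G) ^ 4 = 1 := by
        have := pow_card_eq_one' (G := ↥S) (x := ⟨a, ha⟩)
        rw [hS] at this
        exact congrArg (fun w : ↥S => ((w : ↥C) : G)) this
      have hay := mem_centralizer_singleton_iff.1 a.2.2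
      refine f.mem_W_of_sq a.2.1 hay (f.mem_W_of_sq (mul_mem a.2.1 a.2.1) ?_ ?_)
      · exact ((show Commute (a : G) y from hay).mul_left hay).eq
      · show (a : G) * a * (a * a) ∈ c.W
        rw [show (a : G) * a * (a * a) = (a : G) ^ 4 by simp [pow_succ, mul_assoc], h4']
        exact one_mem _
    have := card_le_of_le hS'
    rw [f.W_inter, ← Nat.card_congr (S.equivMapOfInjective C.subtype C.subtype_injective).toEquiv, hS] at this
    omega
  have hty : t * y ∈ C := ⟨mul_mem (c.W_le_normalizer f.tmem.1) f.y_mem, mem_centralizer_singleton_iff.2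
    (by rw [mul_assoc, ← mul_assoc y t, f.comm, mul_assoc])⟩
  have ho : orderOf (t * y) = 22 := by
    rw [(show Commute t y from f.comm.symm).orderOf_mul_eq_mul_orderOf_of_coprime (by
      rw [f.t_ord, f.ord_y]; norm_num), f.t_ord, f.ord_y]
  have hdvd : Nat.card ↥C ∣ 22 := by
    rw [← Nat.factorization_le_iff_dvd Nat.card_pos.ne' (by norm_num)]
    intro q
    by_cases hq : q.Prime
    · by_cases hd : q ∣ Nat.card ↥C
      · rcases hprime q hq hd with rfl | rfl
        · have h1 : (22 : ℕ).factorization 2 ≥ 1 := (hq.dvd_iff_one_le_factorization (by norm_num)).1 (by norm_num)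
          by_contra hcon
          exact h4 ((hq.pow_dvd_iff_le_factorization Nat.card_pos.ne').2 (show 2 ≤ _ by omega))
        · have h1 : (22 : ℕ).factorization 11 ≥ 1 := (hq.dvd_iff_one_le_factorization (by norm_num)).1 (by norm_num)
          by_contra hcon
          have h11 : 11 ^ 2 ∣ Nat.card ↥C := (hq.pow_dvd_iff_le_factorization Nat.card_pos.ne').2 (by omega)
          exact f.not_eleven_sq_normalizer (h11.trans (card_dvd_of_le inf_le_left))
      · rw [Nat.factorization_eq_zero_of_not_dvd hd]; exact Nat.zero_le _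
    · rw [Nat.factorization_eq_zero_of_not_prime _ hq]; exact Nat.zero_le _
  have hCeq : zpowers (t * y) = C := eq_of_le_of_card_ge (zpowers_le.2 hty) (by
    rw [Nat.card_zpowers, ho]
    exact Nat.le_of_dvd (by norm_num) hdvd)
  obtain ⟨i, hi⟩ := mem_zpowers_iff.1 (hCeq.ge (⟨hg, mem_centralizer_singleton_iff.2 h⟩ : g ∈ C))
  rw [(show Commute t y from f.comm.symm).mul_zpow] at hi
  refine ⟨i, ?_⟩
  rcases Int.even_or_odd i with ⟨j, hj⟩ | ⟨j, hj⟩
  · left
    rw [← hi]
    rw [show t ^ i = 1 by rw [hj, ← two_mul, zpow_mul, zpow_two, c.W_sq f.tmem.1, one_zpow], one_mul]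
  · right
    rw [← hi]
    rw [show t ^ i = t by rw [hj, zpow_add, zpow_mul, zpow_two, c.W_sq f.tmem.1, one_zpow, one_mul, zpow_one]]

end EleFrame

end CfsgLib.Spor.JFourType.Ctx
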