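import Cfsg.Agent.Lib.Spor.JFourType.EleSylow

/-!
# The quaternion group `E ⊓ C(x)` and its rotations

Its members are `1`, `z` and the three pairs obtained from one pair by a rotation; an element inverting a rotation
fixes none of the six noncentral members.
-/

set_option autoImplicit false
set_option linter.style.haveILetI false
set_option linter.unusedSectionVars false

namespace CfsgLib.Spor.JFourType.Ctx

open Subgroup

universe u

variable {G : Type u} [Group G] [Finite G] {A : Type} [Group A] {J I R : Subgroup A}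
  {z : G} {P : Subgroup G} (c : Ctx J I R z P)
include c

/-- The part of `E` centralizing `x`. -/
def Qx (x : G) : Subgroup G := c.E ⊓ centralizer ({x} : Set G)

/-- A rotation of that part. -/
structure Rot (x t : G) : Prop where
  t3 : t ^ 3 = 1
  maps : ∀ q ∈ c.Qx x, t * q * t⁻¹ ∈ c.Qx x
  maps' : ∀ q ∈ c.Qx x, t⁻¹ * q * t ∈ c.Qx x
  fix : ∀ q ∈ c.Qx x, t * q * t⁻¹ = q → q = 1 ∨ q = z

namespace EleSyl

variable {c} {x : G} {U : Subgroup G} (s : c.EleSyl x U)
include s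

theorem z_comm_x : z * x = x * z := (c.comm_z s.x_mem.1).symm

theorem z_mem_Qx : z ∈ c.Qx x := mem_inf.2 ⟨c.z_mem_E, mem_centralizer_singleton_iff.2 s.z_comm_x⟩

theorem Qx_H {q : G} (hq : q ∈ c.Qx x) : q ∈ c.H := c.E_le hq.1

theorem Qx_comm {q : G} (hq : q ∈ c.Qx x) : q * x = x * q := mem_centralizer_singleton_iff.1 hq.2

theorem z_comm_Qx {q : G} (hq : q ∈ c.Qx x) : q * z = z * q := c.comm_z (s.Qx_H hq)

theorem card_Qx : Nat.card ↥(c.Qx x) = 8 := c.card_Q_eleven s.x_mem s.ord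

theorem Qx_invol {q : G} (hq : q ∈ c.Qx x) (h : q * q = 1) : q = 1 ∨ q = z := by
  by_cases h1 : q = 1
  · exact Or.inl h1
  haveI : Fact (Nat.Prime 2) := ⟨Nat.prime_two⟩
  exact Or.inr (c.eq_z_of_comm_eleven s.x_mem s.ord (orderOf_eq_prime (by rw [pow_two, h]) h1) (s.Qx_H hq)
    (s.Qx_comm hq))

theorem Qx_sq {q : G} (hq : q ∈ c.Qx x) (h1 : q ≠ 1) (hz : q ≠ z) : q * q = z :=
  (c.sq_E hq.1).resolve_left fun h => (s.Qx_invol hq h).elim h1 hz

theorem Qx_inv {q : G} (hq : q ∈ c.Qx x) (h1 : q ≠ 1) (hz : q ≠ z) : q⁻¹ = z * q :=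
  inv_eq_of_mul_eq_one_left (by rw [mul_assoc, s.Qx_sq hq h1 hz, c.zz])

theorem rot_z {t : G} (r : c.Rot x t) : t * z * t⁻¹ = z := by
  rcases s.Qx_invol (r.maps z s.z_mem_Qx) (by rw [conj_mul, c.zz, mul_one, mul_inv_cancel]) with h | h
  · exact absurd (conj_eq_one_iff.1 h) c.z_ne
  · exact h

theorem rot_z' {t : G} (r : c.Rot x t) : t⁻¹ * z * t = z := by
  calc t⁻¹ * z * t = t⁻¹ * (t * z * t⁻¹) * t := by rw [s.rot_z r]
    _ = z := by group

theorem rot_inv {t : G} (r : c.Rot x t) : c.Rot x t⁻¹ :=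
  ⟨by rw [inv_pow, r.t3, inv_one], fun q hq => by rw [inv_inv]; exact r.maps' q hq,
    fun q hq => by rw [inv_inv]; exact r.maps q hq, fun q hq e => r.fix q hq (by
      rw [inv_inv] at e
      calc t * q * t⁻¹ = t * (t⁻¹ * q * t) * t⁻¹ := by rw [e]
        _ = q := by group)⟩

omit s in
theorem rot_twice {t : G} (r : c.Rot x t) (q : G) : t * (t * q * t⁻¹) * t⁻¹ = t⁻¹ * q * t := by
  have ht : t⁻¹ = t * t := inv_eq_of_mul_eq_one_left (by rw [← r.t3, pow_succ, pow_two])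
  calc t * (t * q * t⁻¹) * t⁻¹ = (t * t) * q * (t * t)⁻¹ := by group
    _ = _ := by rw [← ht, inv_inv]

theorem rot_ne {t : G} (r : c.Rot x t) {q : G} (hq : q ∈ c.Qx x) (h1 : q ≠ 1) (hz : q ≠ z) :
    t * q * t⁻¹ ∈ c.Qx x ∧ t * q * t⁻¹ ≠ 1 ∧ t * q * t⁻¹ ≠ z ∧ t * q * t⁻¹ ≠ q ∧ t * q * t⁻¹ ≠ z * q := by
  refine ⟨r.maps q hq, fun e => h1 (conj_eq_one_iff.1 e), fun e => hz ?_,
    fun e => (r.fix q hq e).elim h1 hz, fun e => ?_⟩
  · exact mul_left_cancel (mul_right_cancel (e.trans (s.rot_z r).symm))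
  · have e2 : t * (t * q * t⁻¹) * t⁻¹ = q := by
      rw [e, ← conj_mul, s.rot_z r, e, ← mul_assoc, c.zz, one_mul]
    rw [rot_twice r] at e2
    refine (r.fix q hq ?_).elim h1 hz
    calc t * q * t⁻¹ = t * (t⁻¹ * q * t) * t⁻¹ := by rw [e2]
      _ = q := by group

/-- The eight members, from one of them and a rotation. -/
theorem Qx_cases {t q : G} (r : c.Rot x t) (hq : q ∈ c.Qx x) (h1 : q ≠ 1) (hz : q ≠ z) {v : G}
    (hv : v ∈ c.Qx x) (hv1 : v ≠ 1) (hvz : v ≠ z) :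
    v = q ∨ v = z * q ∨ v = t * q * t⁻¹ ∨ v = z * (t * q * t⁻¹) ∨ v = t⁻¹ * q * t ∨ v = z * (t⁻¹ * q * t) := by
  classical
  obtain ⟨hjQ, hj0, hjz, hjq, hjzq⟩ := s.rot_ne r hq h1 hz
  obtain ⟨hkQ, hk0, hkz, hkq, hkzq⟩ := s.rot_ne (s.rot_inv r) hq h1 hz
  simp only [inv_inv] at hkQ hk0 hkz hkq hkzq
  obtain ⟨-, -, -, hkj, hkzj⟩ := s.rot_ne r hjQ hj0 hjz
  rw [rot_twice r] at hkj hkzj
  set j := t * q * t⁻¹
  set k := t⁻¹ * q * t
  have hzm : ∀ {a b : G}, z * a = b → a = z * b := fun e => by rw [← e, ← mul_assoc, c.zz, one_mul]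
  have hzz : ∀ a : G, z * a ≠ a := fun a e => c.z_ne (mul_eq_right.1 e)
  have hz0 : ∀ {a : G}, a ≠ z → z * a ≠ 1 := fun h e => h (by simpa using hzm e)
  have hz0' : ∀ {a : G}, a ≠ 1 → z * a ≠ z := fun h e => h (mul_eq_left.1 e)
  set T : Finset G := {1, z, q, z * q, j, z * j, k, z * k}
  have hT : T.card = 8 := by
    have n01 : (1 : G) ≠ z := fun e => c.z_ne e.symm
    have := Finset.card_insert_of_notMem (a := (1 : G)) (s := {z, q, z * q, j, z * j, k, z * k}) (by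
      simp [n01, Ne.symm h1, Ne.symm (hz0 hz), Ne.symm hj0, Ne.symm (hz0 hjz), Ne.symm hk0, Ne.symm (hz0 hkz)])
    have e2 := Finset.card_insert_of_notMem (a := z) (s := {q, z * q, j, z * j, k, z * k}) (by
      simp [Ne.symm hz, Ne.symm (hz0' h1), Ne.symm hjz, Ne.symm (hz0' hj0), Ne.symm hkz, Ne.symm (hz0' hk0)])
    have e3 := Finset.card_insert_of_notMem (a := q) (s := {z * q, j, z * j, k, z * k}) (by
      simp only [Finset.mem_insert, Finset.mem_singleton, not_or]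
      exact ⟨(hzz q).symm, Ne.symm hjq, fun e => hjzq (hzm e.symm), Ne.symm hkq, fun e => hkzq (hzm e.symm)⟩)
    have e4 := Finset.card_insert_of_notMem (a := z * q) (s := {j, z * j, k, z * k}) (by
      simp only [Finset.mem_insert, Finset.mem_singleton, not_or]
      exact ⟨Ne.symm hjzq, fun e => hjq (mul_left_cancel e).symm, Ne.symm hkzq, fun e => hkq (mul_left_cancel e).symm⟩)
    have e5 := Finset.card_insert_of_notMem (a := j) (s := {z * j, k, z * k}) (by
      simp only [Finset.mem_insert, Finset.mem_singleton, not_or]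
      exact ⟨(hzz j).symm, Ne.symm hkj, fun e => hkzj (hzm e.symm)⟩)
    have e6 := Finset.card_insert_of_notMem (a := z * j) (s := {k, z * k}) (by
      simp only [Finset.mem_insert, Finset.mem_singleton, not_or]
      exact ⟨Ne.symm hkzj, fun e => hkj (mul_left_cancel e).symm⟩)
    have e7 := Finset.card_insert_of_notMem (a := k) (s := {z * k}) (by
      rw [Finset.mem_singleton]
      exact (hzz k).symm)
    have e8 := Finset.card_singleton (z * k)
    simp only [T]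
    omega
  have hsub : (T : Set G) ⊆ (c.Qx x : Set G) := by
    intro w hw
    simp only [T, Finset.coe_insert, Finset.coe_singleton, Set.mem_insert_iff, Set.mem_singleton_iff] at hw
    rcases hw with rfl | rfl | rfl | rfl | rfl | rfl | rfl | rfl
    exacts [one_mem _, s.z_mem_Qx, hq, mul_mem s.z_mem_Qx hq, hjQ, mul_mem s.z_mem_Qx hjQ, hkQ,
      mul_mem s.z_mem_Qx hkQ]
  have heq := Set.eq_of_subset_of_ncard_le hsub (by
    rw [Set.ncard_coe_finset, hT, ← Nat.card_coe_set_eq]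
    exact le_of_eq s.card_Qx) (Set.toFinite _)
  have hv' := heq.ge hv
  simp only [T, Finset.coe_insert, Finset.coe_singleton, Set.mem_insert_iff, Set.mem_singleton_iff] at hv'
  rcases hv' with h | h | h | h | h | h | h | h
  · exact absurd h hv1
  · exact absurd h hvz
  all_goals simp [h]

/-- The product of a member and its rotation is the third one, up to `z`. -/
theorem prod_rot {t q : G} (r : c.Rot x t) (hq : q ∈ c.Qx x) (h1 : q ≠ 1) (hz : q ≠ z) :
    q * (t * q * t⁻¹) = t⁻¹ * q * t ∨ q * (t * q * t⁻¹) = z * (t⁻¹ * q * t) := by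
  obtain ⟨hjQ, hj0, hjz, hjq, hjzq⟩ := s.rot_ne r hq h1 hz
  set j := t * q * t⁻¹
  have hne1 : q * j ≠ 1 := fun e => hjzq (by rw [← s.Qx_inv hq h1 hz]; exact (inv_eq_of_mul_eq_one_right e).symm)
  have hnez : q * j ≠ z := fun e => hjq (mul_left_cancel (e.trans (s.Qx_sq hq h1 hz).symm))
  rcases s.Qx_cases r hq h1 hz (mul_mem hq hjQ) hne1 hnez with h | h | h | h | h | h
  · exact absurd (mul_eq_left.1 h) hj0
  · exact absurd (mul_left_cancel (h.trans (s.z_comm_Qx hq).symm)) hjz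
  · exact absurd (mul_eq_right.1 h) h1
  · exact absurd (mul_right_cancel h) hz
  · exact Or.inl h
  · exact Or.inr h

/-- An element inverting a rotation fixes no noncentral member. -/
theorem no_fixed {t σ q : G} (r : c.Rot x t) (hσt : σ * t * σ⁻¹ = t⁻¹) (hσz : σ * z * σ⁻¹ = z)
    (hq : q ∈ c.Qx x) (h1 : q ≠ 1) (hz : q ≠ z) (hfix : σ * q * σ⁻¹ = q) : False := by
  obtain ⟨-, hj0, -, -, -⟩ := s.rot_ne r hq h1 hz
  set j := t * q * t⁻¹ with hj
  set k := t⁻¹ * q * t with hk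
  have hσj : σ * j * σ⁻¹ = k := by
    calc σ * j * σ⁻¹ = (σ * t * σ⁻¹) * (σ * q * σ⁻¹) * (σ * t * σ⁻¹)⁻¹ := by rw [hj]; group
      _ = k := by rw [hσt, hfix, inv_inv]
  have hσk : σ * k * σ⁻¹ = j := by
    calc σ * k * σ⁻¹ = (σ * t * σ⁻¹)⁻¹ * (σ * q * σ⁻¹) * (σ * t * σ⁻¹) := by rw [hk]; group
      _ = j := by rw [hσt, hfix, inv_inv]
  have fin : ∀ e : G, σ * e * σ⁻¹ = e → e * q = q * e → e * e = 1 → q * j = e * k → False := by
    intro e he heq' hee h
    have h2 : q * k = e * j := by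
      calc q * k = (σ * q * σ⁻¹) * (σ * j * σ⁻¹) := by rw [hfix, hσj]
        _ = σ * (q * j) * σ⁻¹ := conj_mul
        _ = (σ * e * σ⁻¹) * (σ * k * σ⁻¹) := by rw [h, conj_mul]
        _ = e * j := by rw [he, hσk]
    refine c.z_ne (mul_eq_right.1 (?_ : z * j = j))
    calc z * j = q * (q * j) := by rw [← mul_assoc q q j, s.Qx_sq hq h1 hz]
      _ = q * (e * k) := by rw [h]
      _ = e * (q * k) := by rw [← mul_assoc, ← heq', mul_assoc]
      _ = j := by rw [h2, ← mul_assoc, hee, one_mul]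
  rcases s.prod_rot r hq h1 hz with h | h
  · exact fin 1 (by group) (by group) (by group) (by rw [one_mul]; exact h)
  · exact fin z hσz (s.z_comm_Qx hq).symm c.zz h

end EleSyl

end CfsgLib.Spor.JFourType.Ctx
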