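import Cfsg.Agent.Lib.Spor.JFourType.EleInvert
import Cfsg.Agent.Lib.Spor.JFourType.EleGLTwo

/-!
# A subgroup `GL (2, 3)` in the normalizer of a Sylow eleven-subgroup

A two-element of `N_H(P)` inverting the generator of `P` and `x` is an involution: otherwise the involution of `H`
inverting `x`, a product of it and an element of `C(x) ∩ H`, would give an element fixing a pair of `E ⊓ C(x)`.
-/

set_option autoImplicit false
set_option linter.style.haveILetI false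
set_option linter.unusedSectionVars false

namespace CfsgLib.Spor.JFourType.Ctx

open Subgroup

universe u

variable {G : Type u} [Group G] [Finite G] {A : Type} [Group A] {J I R : Subgroup A}
  {z : G} {P : Subgroup G} {c : Ctx J I R z P}

namespace EleSyl

variable {x : G} {U : Subgroup G} (s : c.EleSyl x U)
include s

theorem pg_comm : c.pg * x = x * c.pg := c.comm_P s.x_mem c.pg_mem

theorem rot_pg : c.Rot x c.pg := by
  have hpx : Commute c.pg x := s.pg_comm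
  refine ⟨by rw [← c.ord_pg, pow_orderOf_eq_one], fun q hq => ?_, fun q hq => ?_, fun q hq h => ?_⟩
  · exact mem_inf.2 ⟨c.conj_E c.pg_H hq.1, mem_centralizer_singleton_iff.2
      ((hpx.mul_left (show Commute q x from s.Qx_comm hq)).mul_left hpx.inv_left).eq⟩
  · exact mem_inf.2 ⟨c.conj_E' c.pg_H hq.1, mem_centralizer_singleton_iff.2
      ((hpx.inv_left.mul_left (show Commute q x from s.Qx_comm hq)).mul_left hpx).eq⟩
  · have hc : q ∈ c.E ⊓ centralizer (P : Set G) := mem_inf.2 ⟨hq.1, by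
      rw [c.centralizer_P, mem_centralizer_singleton_iff]
      exact (mul_inv_eq_iff_eq_mul.1 h).symm⟩
    rw [c.E_inf_centralizer] at hc
    obtain ⟨i, rfl⟩ := mem_zpowers_iff.1 hc
    rcases Int.even_or_odd i with ⟨j, rfl⟩ | ⟨j, rfl⟩
    · left; rw [← two_mul, zpow_mul, zpow_two, c.zz, one_zpow]
    · right; rw [zpow_add, zpow_mul, zpow_two, c.zz, one_zpow, one_mul, zpow_one]

/-- A two-element of `H` normalizing `⟨x⟩` and inverting the generator of `P`. -/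
theorem exists_pre_sigma : ∃ σ ∈ c.H, σ * x * σ⁻¹ = x⁻¹ ∧ σ * c.pg * σ⁻¹ = c.pg⁻¹ ∧
    (σ * σ = 1 ∨ σ * σ = z) := by
  classical
  haveI : Fact (Nat.Prime 2) := ⟨Nat.prime_two⟩
  haveI : Fact (Nat.Prime 11) := ⟨by norm_num⟩
  set τ := c.pg
  obtain ⟨s₀, hs₀, hinv⟩ := c.exists_inverting
  have hfac : (Nat.card ↥c.C0).factorization 11 = 1 := by
    rw [c.card_C0]
    refine le_antisymm ?_ (((show Nat.Prime 11 by norm_num).pow_dvd_iff_le_factorization (by norm_num)).1 (by norm_num))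
    by_contra hlt
    have h := ((show Nat.Prime 11 by norm_num).pow_dvd_iff_le_factorization (show 6 * 443520 ≠ 0 by norm_num)).2
      (show 2 ≤ _ from Nat.lt_of_not_le hlt)
    norm_num at h
  have hx' : s₀ * x * s₀⁻¹ ∈ c.C0 := mem_inf.2 ⟨mul_mem (mul_mem hs₀.1 s.x_mem.1) (inv_mem hs₀.1), by
    refine mem_centralizer_iff.2 fun p hp => ?_
    have hp' : s₀⁻¹ * p * s₀ ∈ P := (mem_normalizer_iff''.1 hs₀.2 p).1 hp
    calc p * (s₀ * x * s₀⁻¹) = s₀ * (s₀⁻¹ * p * s₀ * x) * s₀⁻¹ := by group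
      _ = s₀ * (x * (s₀⁻¹ * p * s₀)) * s₀⁻¹ := by rw [c.comm_P s.x_mem hp']
      _ = _ := by group⟩
  have hz11 : ∀ {v : G} (hv : v ∈ c.C0), orderOf v = 11 →
      Nat.card ↥(zpowers (⟨v, hv⟩ : ↥c.C0)) = 11 ^ (Nat.card ↥c.C0).factorization 11 := fun hv h => by
    rw [hfac, pow_one, Nat.card_zpowers, Subgroup.orderOf_mk, h]
  obtain ⟨c₀, hc₀⟩ := MulAction.exists_smul_eq ↥c.C0 (Sylow.ofCard _ (hz11 hx' (by
      rw [← s.ord]; exact MulEquiv.orderOf_eq (MulAut.conj s₀) x)))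
    (Sylow.ofCard _ (hz11 s.x_mem s.ord))
  set s₁ := (c₀ : G) * s₀ with hs₁
  have hs₁H : s₁ ∈ c.H := mul_mem c₀.2.1 hs₀.1
  have hs₁x : s₁ * x * s₁⁻¹ ∈ zpowers x := by
    have h1 := congrArg (fun T : Sylow 11 ↥c.C0 => (T : Subgroup ↥c.C0)) hc₀
    simp only [Sylow.coe_subgroup_smul, Sylow.coe_ofCard] at h1
    have h2 : c₀ * ⟨_, hx'⟩ * c₀⁻¹ ∈ zpowers (⟨x, s.x_mem⟩ : ↥c.C0) := by
      rw [← h1]; exact ⟨_, mem_zpowers _, rfl⟩
    obtain ⟨i, hi⟩ := mem_zpowers_iff.1 h2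
    refine mem_zpowers_iff.2 ⟨i, ?_⟩
    have := congrArg Subtype.val hi
    simp only [SubgroupClass.coe_zpow, Subgroup.coe_mul, InvMemClass.coe_inv] at this
    rw [this, hs₁]; group
  have hs₁τ : s₁ * τ * s₁⁻¹ = τ⁻¹ := by
    have hc : Commute (c₀ : G) τ := (c.comm_P c₀.2 c.pg_mem).symm
    calc s₁ * τ * s₁⁻¹ = (c₀ : G) * (s₀ * τ * s₀⁻¹) * (c₀ : G)⁻¹ := by rw [hs₁]; group
      _ = τ⁻¹ := by rw [hinv, hc.inv_right.eq, mul_inv_cancel_right]
  -- its two-part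
  obtain ⟨a, m, hm, hord⟩ := Nat.exists_eq_two_pow_mul_odd (orderOf_pos s₁).ne'
  set σ := s₁ ^ m with hσ
  have hσ2 : σ ^ 2 ^ a = 1 := by rw [hσ, ← pow_mul, mul_comm, ← hord, pow_orderOf_eq_one]
  have hσH : σ ∈ c.H := pow_mem hs₁H m
  have hστ : σ * τ * σ⁻¹ = τ⁻¹ := by
    obtain ⟨l, rfl⟩ := hm
    have hsq : Commute (s₁ * s₁) τ := by
      refine mul_inv_eq_iff_eq_mul.1 ?_
      calc s₁ * s₁ * τ * (s₁ * s₁)⁻¹ = s₁ * (s₁ * τ * s₁⁻¹) * s₁⁻¹ := by group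
        _ = τ := by rw [hs₁τ, ← conj_inv, hs₁τ, inv_inv]
    have hpow : Commute ((s₁ * s₁) ^ l) τ := hsq.pow_left l
    rw [hσ, pow_succ', pow_mul, pow_two,
      show s₁ * (s₁ * s₁) ^ l * τ * (s₁ * (s₁ * s₁) ^ l)⁻¹
        = s₁ * ((s₁ * s₁) ^ l * τ * ((s₁ * s₁) ^ l)⁻¹) * s₁⁻¹ by group,
      hpow.eq, mul_inv_cancel_right, hs₁τ]
  have hs₁N : s₁ ∈ normalizer (zpowers x : Set G) := by
    refine EleGen.zpowers_le_normalizer_of_conj (fun v hv => ?_) (mem_zpowers s₁)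
    obtain ⟨i, rfl⟩ := mem_zpowers_iff.1 hv
    rw [← conj_zpow]
    exact zpow_mem hs₁x i
  have hσN : σ ∈ normalizer (zpowers x : Set G) := pow_mem hs₁N m
  have hxQ : ∀ v ∈ c.H, v * x = x * v → (∃ k : ℕ, v ^ 2 ^ k = 1) → v ∈ c.Qx x := fun v hv hvx ⟨k, hk⟩ =>
    mem_inf.2 ⟨c.mem_E_of_two_eleven s.x_mem s.ord hv hvx hk, mem_centralizer_singleton_iff.2 hvx⟩
  set ρ := normalizerMonoidHom (zpowers x)
  have hρ : ∀ v : ↥(normalizer (zpowers x : Set G)), ρ v = 1 → (v : G) * x = x * v :=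
    fun v hv => by
      have h : v ∈ ρ.ker := hv
      rw [normalizerMonoidHom_ker, mem_subgroupOf] at h
      exact (mem_centralizer_iff.1 h x (mem_zpowers x)).symm
  have hσσx : σ * σ * x = x * (σ * σ) := by
    refine hρ (⟨σ, hσN⟩ * ⟨σ, hσN⟩) ?_
    rw [← pow_two, map_pow]
    refine orderOf_dvd_iff_pow_eq_one.1 ?_
    have h1 : orderOf (ρ ⟨σ, hσN⟩) ∣ 2 ^ a := orderOf_dvd_of_pow_eq_one (by
      rw [← map_pow, show (⟨σ, hσN⟩ : ↥(normalizer (zpowers x : Set G))) ^ 2 ^ a = 1 from Subtype.ext hσ2, map_one])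
    have h2 : orderOf (ρ ⟨σ, hσN⟩) ∣ 10 := by
      haveI : IsCyclic ↥(zpowers x) := inferInstance
      have h := orderOf_dvd_natCard (ρ ⟨σ, hσN⟩)
      rwa [IsCyclic.card_mulAut, Nat.card_zpowers, s.ord, Nat.totient_prime (by norm_num)] at h
    exact ((Nat.Coprime.pow_left a (show Nat.Coprime 2 5 by norm_num)).coprime_dvd_left h1).dvd_of_dvd_mul_right
      (h2.trans (dvd_of_eq (by norm_num)))
  have hr := s.rot_pg
  have hσne : σ * x ≠ x * σ := by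
    intro e
    have hσQ := hxQ σ hσH e ⟨a, hσ2⟩
    refine c.pg_notMem_E ?_
    have h1 : (τ * σ * τ⁻¹) * σ⁻¹ ∈ c.E := mul_mem (c.conj_E c.pg_H hσQ.1) (inv_mem hσQ.1)
    have h2 : (τ * σ * τ⁻¹) * σ⁻¹ = τ * τ := by
      calc (τ * σ * τ⁻¹) * σ⁻¹ = τ * (σ * τ * σ⁻¹)⁻¹ := by group
        _ = τ * τ := by rw [hστ, inv_inv]
    rw [h2] at h1
    have h3 := mul_mem h1 h1
    rwa [show τ * τ * (τ * τ) = τ ^ 3 * τ by simp [pow_succ, mul_assoc], hr.t3, one_mul] at h3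
  have hσx : σ * x * σ⁻¹ = x⁻¹ := s.inverts ((mem_normalizer_iff.1 hσN x).1 (mem_zpowers x))
    (by rw [show σ * (σ * x * σ⁻¹) * σ⁻¹ = σ * σ * x * (σ * σ)⁻¹ by group, hσσx, mul_inv_cancel_right]) hσne
  have hσσQ : σ * σ ∈ c.Qx x := hxQ _ (mul_mem hσH hσH) hσσx ⟨a, by
    rw [← pow_two, ← pow_mul, mul_comm, pow_mul, hσ2, one_pow]⟩
  refine ⟨σ, hσH, hσx, hστ, hr.fix _ hσσQ ?_⟩
  have : Commute (σ * σ) τ := by
    refine mul_inv_eq_iff_eq_mul.1 ?_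
    calc σ * σ * τ * (σ * σ)⁻¹ = σ * (σ * τ * σ⁻¹) * σ⁻¹ := by group
      _ = τ := by rw [hστ, ← conj_inv, hστ, inv_inv]
  rw [← this.eq, mul_inv_cancel_right]

/-- An involution of `H` inverting `x` and the generator of `P`. -/
theorem exists_sigma : ∃ σ ∈ c.H, σ * σ = 1 ∧ σ * x * σ⁻¹ = x⁻¹ ∧ σ * c.pg * σ⁻¹ = c.pg⁻¹ := by
  classical
  obtain ⟨σ, hσH, hσx, hστ, h | h⟩ := s.exists_pre_sigma
  · exact ⟨σ, hσH, h, hσx, hστ⟩
  exfalso
  have hr := s.rot_pg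
  set τ := c.pg
  obtain ⟨g, hgH, hg2, hgx⟩ := s.exists_invol_inverting
  set b₀ := σ⁻¹ * g with hb₀def
  have hb₀ : b₀ ∈ centralizer ({x} : Set G) ⊓ c.H := mem_inf.2 ⟨mem_centralizer_singleton_iff.2 (by
    refine mul_inv_eq_iff_eq_mul.1 ?_
    calc σ⁻¹ * g * x * (σ⁻¹ * g)⁻¹ = σ⁻¹ * (g * x * g⁻¹) * σ := by group
      _ = σ⁻¹ * (σ * x * σ⁻¹) * σ := by rw [hgx, hσx]
      _ = x := by group), mul_mem (inv_mem hσH) hgH⟩
  have hτx : Commute τ x := s.pg_comm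
  have hτN : zpowers τ ≤ normalizer (c.Qx x : Set G) := EleGen.zpowers_le_normalizer_of_conj hr.maps
  have hxN : zpowers x ≤ normalizer ((c.Qx x ⊔ zpowers τ : Subgroup G) : Set G) := by
    refine EleGen.zpowers_le_normalizer_of_conj fun v hv => ?_
    have : c.Qx x ⊔ zpowers τ ≤ centralizer ({x} : Set G) :=
      sup_le inf_le_right (zpowers_le.2 (mem_centralizer_singleton_iff.2 hτx.eq))
    rw [← mem_centralizer_singleton_iff.1 (this hv), mul_inv_cancel_right]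
    exact hv
  set B := c.Qx x ⊔ zpowers τ ⊔ zpowers x
  have hBle : B ≤ centralizer ({x} : Set G) ⊓ c.H := sup_le (sup_le (le_inf inf_le_right (inf_le_left.trans c.E_le))
    (zpowers_le.2 (mem_inf.2 ⟨mem_centralizer_singleton_iff.2 hτx.eq, c.pg_H⟩)))
    (zpowers_le.2 (mem_inf.2 ⟨mem_centralizer_singleton_iff.2 rfl, s.x_mem.1⟩))
  have hB : B = centralizer ({x} : Set G) ⊓ c.H := by
    refine eq_of_le_of_card_ge hBle ((Nat.le_of_dvd (by norm_num) s.card_H_cent).trans (Nat.le_of_dvd Nat.card_pos ?_))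
    have d1 : 8 ∣ Nat.card ↥B := s.card_Qx ▸ card_dvd_of_le (le_sup_left.trans le_sup_left : c.Qx x ≤ B)
    have d2 : 3 ∣ Nat.card ↥B := by
      have := card_dvd_of_le (le_sup_right.trans le_sup_left : zpowers τ ≤ B)
      rwa [Nat.card_zpowers, c.ord_pg] at this
    have d3 : 11 ∣ Nat.card ↥B := by
      have := card_dvd_of_le (le_sup_right : zpowers x ≤ B)
      rwa [Nat.card_zpowers, s.ord] at this
    exact (show (264 : ℕ) = 8 * 3 * 11 by norm_num) ▸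
      Nat.Coprime.mul_dvd_of_dvd_of_dvd (by norm_num) (Nat.Coprime.mul_dvd_of_dvd_of_dvd (by norm_num) d1 d2) d3
  rw [← hB, ← SetLike.mem_coe, coe_mul_of_right_le_normalizer_left (c.Qx x ⊔ zpowers τ) (zpowers x) hxN,
    coe_mul_of_right_le_normalizer_left (c.Qx x) (zpowers τ) hτN] at hb₀
  obtain ⟨_, ⟨q, hq, _, ⟨k, rfl⟩, rfl⟩, _, ⟨i, rfl⟩, hb⟩ := hb₀
  have hb' : g = σ * (q * τ ^ k * x ^ i) := by
    rw [show q * τ ^ k * x ^ i = b₀ from hb, hb₀def]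
    group
  have hcbx : Commute (q * τ ^ k) x :=
    (show Commute q x from s.Qx_comm hq).mul_left (hτx.zpow_left k)
  have hσz : σ * z * σ⁻¹ = z := by rw [c.comm_z hσH, mul_inv_cancel_right]
  have hσ' : σ⁻¹ = σ * z := inv_eq_of_mul_eq_one_right (by rw [← mul_assoc, h, c.zz])
  have hsq' : σ⁻¹ * q * σ = σ * q * σ⁻¹ := by
    calc σ⁻¹ * q * σ = σ * (z * q) * σ := by rw [hσ']; group
      _ = σ * (q * z) * σ := by rw [s.z_comm_Qx hq]
      _ = σ * q * (z * σ) := by group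
      _ = σ * q * (σ * z) := by rw [c.comm_z hσH]
      _ = σ * q * σ⁻¹ := by rw [hσ']
  have key : z * (σ * q * σ⁻¹) * (τ⁻¹ ^ k * q * τ ^ k) = 1 := by
    have hconj : ∀ a : G, σ * a * σ⁻¹ = a⁻¹ → ∀ n : ℤ, σ⁻¹ * a ^ n * σ = a⁻¹ ^ n := fun a ha n => by
      have e : σ * a⁻¹ * σ⁻¹ = a := by rw [← conj_inv, ha, inv_inv]
      have : σ⁻¹ * a * σ⁻¹⁻¹ = a⁻¹ := by
        calc σ⁻¹ * a * σ⁻¹⁻¹ = σ⁻¹ * (σ * a⁻¹ * σ⁻¹) * σ := by rw [e, inv_inv]
          _ = a⁻¹ := by group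
      calc σ⁻¹ * a ^ n * σ = (σ⁻¹ * a * σ⁻¹⁻¹) ^ n := by rw [conj_zpow, inv_inv]
        _ = _ := by rw [this]
    have hx' : σ⁻¹ * x ^ i * σ = x ^ (-i) := by rw [hconj x hσx, inv_zpow, zpow_neg]
    calc z * (σ * q * σ⁻¹) * (τ⁻¹ ^ k * q * τ ^ k)
        = σ * σ * ((σ⁻¹ * q * σ) * (σ⁻¹ * τ ^ k * σ) * (q * τ ^ k)) := by rw [h, hsq', hconj τ hστ]; group
      _ = σ * σ * ((σ⁻¹ * q * σ) * (σ⁻¹ * τ ^ k * σ) * (x ^ (-i) * (q * τ ^ k) * x ^ i)) := by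
          rw [← (hcbx.zpow_right (-i)).eq, mul_assoc (q * τ ^ k) (x ^ (-i)), ← zpow_add, neg_add_cancel, zpow_zero,
            mul_one]
      _ = g * g := by rw [← hx', hb']; group
      _ = 1 := hg2
  by_cases hq1 : q = 1 ∨ q = z
  · have hc : ∀ v ∈ c.H, v * q * v⁻¹ = q := fun v hv => by
      rcases hq1 with rfl | rfl
      · group
      · rw [c.comm_z hv, mul_inv_cancel_right]
    have e2 : τ⁻¹ ^ k * q * τ ^ k = q := by
      have := hc _ (inv_mem (zpow_mem c.pg_H k))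
      rwa [inv_inv, ← inv_zpow] at this
    have hqq : q * q = 1 := by
      rcases hq1 with rfl | rfl
      · exact one_mul _
      · exact c.zz
    rw [hc σ hσH, e2, mul_assoc, hqq, mul_one] at key
    exact c.z_ne key
  push Not at hq1
  set qk := τ⁻¹ ^ k * q * τ ^ k with hqk
  set v := σ * q * σ⁻¹ with hv
  have hvv : v * v = z := by rw [hv, conj_mul, s.Qx_sq hq hq1.1 hq1.2, hσz]
  have hqv : qk = v := by
    have h1 : v * qk = z := by
      have := congrArg (z * ·) key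
      simp only [← mul_assoc, c.zz, one_mul, mul_one] at this
      exact this
    exact mul_left_cancel (h1.trans hvv.symm)
  refine s.no_fixed (σ := τ ^ k * σ) hr ?_ ?_ hq hq1.1 hq1.2 ?_
  · calc τ ^ k * σ * τ * (τ ^ k * σ)⁻¹ = τ ^ k * (σ * τ * σ⁻¹) * (τ ^ k)⁻¹ := by group
      _ = τ⁻¹ := by rw [hστ]; group
  · rw [c.comm_z (mul_mem (zpow_mem c.pg_H k) hσH), mul_inv_cancel_right]
  · calc τ ^ k * σ * q * (τ ^ k * σ)⁻¹ = τ ^ k * v * (τ ^ k)⁻¹ := by rw [hv]; group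
      _ = q := by rw [← hqv, hqk, inv_zpow]; group

/-- The normalizer of `U` contains `GL (2, 3)`. -/
theorem exists_GL : ∃ K : Subgroup G, K ≤ normalizer (U : Set G) ∧ Nonempty (↥K ≃* GL (Fin 2) (ZMod 3)) := by
  classical
  obtain ⟨σ, hσH, hσ2, hσx, hσt⟩ := s.exists_sigma
  have hr := s.rot_pg
  set τ := c.pg
  have hσQ : ∀ q ∈ c.Qx x, σ * q * σ⁻¹ ∈ c.Qx x := fun q hq => mem_inf.2 ⟨c.conj_E hσH hq.1, by
    refine mem_centralizer_singleton_iff.2 ?_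
    have hx' : σ * x⁻¹ * σ⁻¹ = x := by rw [← conj_inv, hσx, inv_inv]
    have hc : Commute q x⁻¹ := (show Commute q x from s.Qx_comm hq).inv_right
    calc σ * q * σ⁻¹ * x = σ * q * σ⁻¹ * (σ * x⁻¹ * σ⁻¹) := by rw [hx']
      _ = σ * (q * x⁻¹) * σ⁻¹ := by group
      _ = σ * (x⁻¹ * q) * σ⁻¹ := by rw [hc.eq]
      _ = σ * x⁻¹ * σ⁻¹ * (σ * q * σ⁻¹) := by group
      _ = _ := by rw [hx']⟩
  have hσz : σ * z * σ⁻¹ = z := by rw [c.comm_z hσH, mul_inv_cancel_right]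
  -- a member inverted by `σ`
  obtain ⟨i, hi, hi1, hiz, hσi'⟩ : ∃ i ∈ c.Qx x, i ≠ 1 ∧ i ≠ z ∧ σ * i * σ⁻¹ = i⁻¹ := by
    obtain ⟨q, hq, hq1, hqz⟩ : ∃ q ∈ c.Qx x, q ≠ 1 ∧ q ≠ z := by
      by_contra hno
      have h := Set.ncard_le_ncard (s := (c.Qx x : Set G)) (t := {1, z}) (fun a ha => by
        by_cases h1 : a = 1
        · exact Or.inl h1
        · by_contra h2
          exact hno ⟨a, ha, h1, fun e => h2 (Or.inr e)⟩) (Set.toFinite _)
      have h' := h.trans (Set.ncard_insert_le _ _)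
      rw [Set.ncard_singleton, ← Nat.card_coe_set_eq,
        show Nat.card ↥(c.Qx x : Set G) = 8 from s.card_Qx] at h'
      omega
    obtain ⟨hjQ, hj0, hjz, -, -⟩ := s.rot_ne hr hq hq1 hqz
    obtain ⟨hkQ, hk0, hkz, -, -⟩ := s.rot_ne (s.rot_inv hr) hq hq1 hqz
    simp only [inv_inv] at hkQ hk0 hkz
    have hjk := rot_twice hr q
    set j := τ * q * τ⁻¹ with hj
    set k := τ⁻¹ * q * τ with hk
    have hkj : τ⁻¹ * k * τ = j := by
      have := rot_twice (s.rot_inv hr) q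
      simp only [inv_inv] at this
      exact this
    have hσj : σ * j * σ⁻¹ = τ⁻¹ * (σ * q * σ⁻¹) * τ := by
      calc σ * j * σ⁻¹ = (σ * τ * σ⁻¹) * (σ * q * σ⁻¹) * (σ * τ * σ⁻¹)⁻¹ := by rw [hj]; group
        _ = _ := by rw [hσt, inv_inv]
    have hσk : σ * k * σ⁻¹ = τ * (σ * q * σ⁻¹) * τ⁻¹ := by
      calc σ * k * σ⁻¹ = (σ * τ * σ⁻¹)⁻¹ * (σ * q * σ⁻¹) * (σ * τ * σ⁻¹) := by rw [hk]; group
        _ = _ := by rw [hσt, inv_inv]
    rcases s.Qx_cases hr hq hq1 hqz (hσQ q hq) (fun e => hq1 (conj_eq_one_iff.1 e))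
      (fun e => hqz (mul_left_cancel (mul_right_cancel (e.trans hσz.symm)))) with h | h | h | h | h | h
    · exact (s.no_fixed hr hσt hσz hq hq1 hqz h).elim
    · exact ⟨q, hq, hq1, hqz, h.trans (s.Qx_inv hq hq1 hqz).symm⟩
    · refine (s.no_fixed hr hσt hσz hkQ hk0 hkz ?_).elim
      rw [hσk, h]
      exact hjk
    · refine ⟨k, hkQ, hk0, hkz, ?_⟩
      rw [hσk, h, ← conj_mul, s.rot_z hr, hjk, s.Qx_inv hkQ hk0 hkz]
    · refine (s.no_fixed hr hσt hσz hjQ hj0 hjz ?_).elim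
      rw [hσj, h]
      exact hkj
    · refine ⟨j, hjQ, hj0, hjz, ?_⟩
      rw [hσj, h, show τ⁻¹ * (z * k) * τ = (τ⁻¹ * z * τ) * (τ⁻¹ * k * τ) by group, s.rot_z' hr, hkj,
        s.Qx_inv hjQ hj0 hjz]
  have hii := s.Qx_sq hi hi1 hiz
  -- either orientation
  have hrels : ∀ t : G, t * x = x * t → c.Rot x t → σ * t * σ⁻¹ = t⁻¹ → i * (t * i * t⁻¹) = t⁻¹ * i * t →
      ∃ K : Subgroup G, K ≤ normalizer (U : Set G) ∧ Nonempty (↥K ≃* GL (Fin 2) (ZMod 3)) := by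
    intro t htx r hσt' hor
    obtain ⟨hjQ, hj0, hjz, hji', -⟩ := s.rot_ne r hi hi1 hiz
    obtain ⟨hkQ, hk0, hkz, -, -⟩ := s.rot_ne (s.rot_inv r) hi hi1 hiz
    simp only [inv_inv] at hkQ hk0 hkz
    set j := t * i * t⁻¹ with hj
    have hjj := s.Qx_sq hjQ hj0 hjz
    have hij1 : i * j ≠ 1 := hor ▸ hk0
    have hijz : i * j ≠ z := hor ▸ hkz
    have hji : j * i = i⁻¹ * j := by
      have h1 := s.Qx_sq (mul_mem hi hjQ) hij1 hijz
      have h2 : i * (j * i * j) = z := by rw [← h1]; group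
      calc j * i = i⁻¹ * (i * (j * i * j)) * j⁻¹ := by group
        _ = i⁻¹ * (j * j) * j⁻¹ := by rw [h2, hjj]
        _ = i⁻¹ * j := by group
    have hrel : EleGL.Rel i j t σ :=
      { ii := hii.trans hjj.symm
        i4 := by rw [show i ^ 4 = (i * i) * (i * i) by simp [pow_succ, mul_assoc], hii, c.zz]
        ji := hji
        t3 := r.t3
        ss := hσ2
        st := mul_inv_eq_iff_eq_mul.1 hσt'
        ti := hj.symm
        tj := (rot_twice r i).trans hor.symm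
        si := hσi' }
    refine EleGL.exists_subgroup hrel (by rw [hii]; exact c.z_ne) (s.le_norm hi.2) (s.le_norm hjQ.2)
      (s.le_norm (mem_centralizer_singleton_iff.2 htx)) ?_
    rw [s.normalizer_eq]
    refine EleGen.zpowers_le_normalizer_of_conj (fun v hv => ?_) (mem_zpowers σ)
    obtain ⟨l, rfl⟩ := mem_zpowers_iff.1 hv
    rw [← conj_zpow, hσx, inv_zpow]
    exact inv_mem (zpow_mem (mem_zpowers x) l)
  rcases s.prod_rot hr hi hi1 hiz with h | h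
  · exact hrels τ s.pg_comm hr hσt h
  · refine hrels τ⁻¹ (show Commute τ x from s.pg_comm).inv_left.eq (s.rot_inv hr) (by rw [← conj_inv, hσt]) ?_
    rw [inv_inv]
    set j := τ * i * τ⁻¹
    set k := τ⁻¹ * i * τ
    calc i * k = i * (z * (i * j)) := by rw [h, ← mul_assoc z, c.zz, one_mul]
      _ = z * (i * i) * j := by rw [← mul_assoc i z, s.z_comm_Qx hi]; group
      _ = j := by rw [hii, c.zz, one_mul]

end EleSyl

end CfsgLib.Spor.JFourType.Ctx
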