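import Cfsg.Agent.Lib.Spor.JFourType.EleCent
import Cfsg.Agent.Lib.Invol.ZStar

/-!
# The centralizer of an element `x` of order eleven of `C0`

Its part in `E` has order eight and is its Sylow two-subgroup; it has an odd core `K` that `z` makes central, of
index prime to eleven; so its order is `8 * 3 ^ b * 11 ^ 3` and its Sylow eleven-subgroup is normal.
-/

set_option autoImplicit false
set_option linter.style.haveILetI false
set_option linter.unusedSectionVars false

namespace CfsgLib.Spor.JFourType.Ctx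

open Subgroup

universe u

variable {G : Type u} [Group G] [Finite G] {A : Type} [Group A] {J I R : Subgroup A}
  {z : G} {P : Subgroup G} (c : Ctx J I R z P)
include c

variable {x : G} (hx : x ∈ c.C0) (ho : orderOf x = 11)
include hx ho

theorem card_Q_eleven : Nat.card ↥(c.E ⊓ centralizer ({x} : Set G)) = 8 := by
  have he : c.E ⊓ centralizer ({x} : Set G) = c.lift (c.fix {x}) := by
    ext e
    rw [mem_inf, mem_centralizer_singleton_iff, c.mem_lift]
    exact ⟨fun h => ⟨h.1, c.pv_fix_of_comm hx ho h.1 h.2⟩, fun h => ⟨h.1, c.comm_of_pv_fix hx ho h.1 h.2⟩⟩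
  rw [he, c.card_lift, c.card_fix_eleven hx ho]

theorem two_part_eleven : (Nat.card ↥(centralizer ({x} : Set G))).factorization 2 = 3 := by
  classical
  haveI : Fact (Nat.Prime 2) := ⟨Nat.prime_two⟩
  set C := centralizer ({x} : Set G) with hC
  set Q := c.E ⊓ C with hQ
  have hQ2 : IsPGroup 2 ↥(Q.subgroupOf C) := (c.E_isPGroup.to_le inf_le_left).comap_subtype
  obtain ⟨T, hT⟩ := hQ2.exists_le_sylow
  have hzC : z ∈ C := mem_centralizer_singleton_iff.2 (c.comm_z hx.1).symm
  have hzT : (⟨z, hzC⟩ : ↥C) ∈ (T : Subgroup ↥C) :=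
    hT (mem_subgroupOf.2 (mem_inf.2 ⟨c.z_mem_E, hzC⟩))
  haveI : Nontrivial ↥(T : Subgroup ↥C) := ⟨⟨⟨⟨z, hzC⟩, hzT⟩, 1, fun h => c.z_ne
    (congrArg (fun w : ↥(T : Subgroup ↥C) => ((w : ↥C) : G)) h)⟩⟩
  haveI := T.isPGroup'.center_nontrivial
  obtain ⟨v, hv⟩ := exists_prime_orderOf_dvd_card' (G := ↥(center ↥(T : Subgroup ↥C))) 2 (by
    obtain ⟨n, hn⟩ := IsPGroup.iff_card.1 (T.isPGroup'.to_subgroup (center ↥(T : Subgroup ↥C)))
    rw [hn]
    refine dvd_pow_self 2 fun h0 => ?_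
    rw [h0, pow_zero] at hn
    exact absurd hn (Nat.ne_of_gt Finite.one_lt_card))
  rw [← Subgroup.orderOf_coe, ← Subgroup.orderOf_coe, ← Subgroup.orderOf_coe] at hv
  set v' : G := (((v : ↥(T : Subgroup ↥C)) : ↥C) : G)
  have hvz : ∀ a ∈ (T : Subgroup ↥C), (a : G) * v' = v' * a := fun a ha =>
    congrArg (fun w : ↥(T : Subgroup ↥C) => ((w : ↥C) : G)) (mem_center_iff.1 v.2 ⟨a, ha⟩)
  have hve : v' = z := c.eq_z_of_comm_eleven hx ho hv (mem_centralizer_singleton_iff.2 (hvz _ hzT).symm)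
    (mem_centralizer_singleton_iff.1 ((v : ↥(T : Subgroup ↥C)) : ↥C).2)
  have hTQ : (T : Subgroup ↥C) ≤ Q.subgroupOf C := fun a ha => by
    refine mem_subgroupOf.2 (mem_inf.2 ⟨?_, a.2⟩)
    obtain ⟨k, hk⟩ := T.isPGroup' ⟨a, ha⟩
    exact c.mem_E_of_two_eleven hx ho (mem_centralizer_singleton_iff.2 (hve ▸ hvz _ ha))
      (mem_centralizer_singleton_iff.1 a.2) (a := k)
      (congrArg (fun w : ↥(T : Subgroup ↥C) => ((w : ↥C) : G)) hk)
  have h : Nat.card ↥(T : Subgroup ↥C) = 8 := by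
    rw [le_antisymm hTQ hT, Nat.card_congr (subgroupOfEquivOfLe inf_le_right).toEquiv]
    exact c.card_Q_eleven hx ho
  rw [T.card_eq_multiplicity] at h
  exact Nat.pow_right_injective le_rfl (h.trans (by norm_num))

/-- A prime dividing the order of `C(x) ∩ H` is 2, 3 or 11. -/
theorem prime_cent_H {q : ℕ} (hq : q.Prime) (hd : q ∣ Nat.card ↥(centralizer ({x} : Set G) ⊓ c.H)) :
    q = 2 ∨ q = 3 ∨ q = 11 := by
  classical
  haveI : Fact q.Prime := ⟨hq⟩
  haveI : Fact (Nat.Prime 2) := ⟨Nat.prime_two⟩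
  haveI : Fact (Nat.Prime 11) := ⟨by norm_num⟩
  by_contra hcon
  push Not at hcon
  obtain ⟨a, ha⟩ := exists_prime_orderOf_dvd_card' (G := ↥(centralizer ({x} : Set G) ⊓ c.H)) q hd
  rw [← Subgroup.orderOf_coe] at ha
  have hax : (a : G) * x = x * a := mem_centralizer_singleton_iff.1 a.2.1
  have haH : (a : G) ∈ c.H := a.2.2
  have hqH : q ∣ 3 * 2 ^ 13 * (2 * 443520) := by
    rw [← c.card_H_local, ← ha, ← Subgroup.orderOf_mk (H := c.H) (a : G) haH]
    exact orderOf_dvd_natCard _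
  have hcoeff : ∀ (n : ℕ), q ∣ n → n ∣ 8184 → False := fun n h1 h2 => by
    have hg := Nat.dvd_gcd (h1.trans h2) hqH
    rw [show Nat.gcd 8184 (3 * 2 ^ 13 * (2 * 443520)) = 264 by decide +kernel] at hg
    rw [show (264 : ℕ) = 2 ^ 3 * (3 * 11) by norm_num] at hg
    rcases hq.dvd_mul.1 hg with h | h
    · exact hcon.1 ((Nat.prime_dvd_prime_iff_eq hq Nat.prime_two).1 (hq.dvd_of_dvd_pow h))
    rcases hq.dvd_mul.1 h with h | h
    · exact hcon.2.1 ((Nat.prime_dvd_prime_iff_eq hq Nat.prime_three).1 h)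
    · exact hcon.2.2 ((Nat.prime_dvd_prime_iff_eq hq (by norm_num)).1 h)
  set Q := c.E ⊓ centralizer ({x} : Set G)
  -- it centralizes the part of `E` centralizing `x`
  have hQa : Nat.card ↥(Q ⊓ centralizer ({(a : G)} : Set G)) = 8 := by
    have hm := EleGen.card_mod_fixed hq ha (T := Q) fun w hw => mem_inf.2 ⟨c.conj_E haH hw.1, by
      refine mem_centralizer_singleton_iff.2 ?_
      have hwx : Commute w x := mem_centralizer_singleton_iff.1 hw.2
      exact (((show Commute (a : G) x from hax).mul_left hwx).mul_left (show Commute (a : G) x from hax).inv_left).eq⟩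
    rw [c.card_Q_eleven hx ho] at hm
    obtain ⟨k, hk⟩ := IsPGroup.iff_card.1 ((c.E_isPGroup.to_le
      (inf_le_left.trans inf_le_left : Q ⊓ centralizer ({(a : G)} : Set G) ≤ c.E)))
    have hle := card_le_of_le (inf_le_left : Q ⊓ centralizer ({(a : G)} : Set G) ≤ Q)
    rw [c.card_Q_eleven hx ho, hk, show (8 : ℕ) = 2 ^ 3 from rfl] at hle
    have hk3 := (Nat.pow_le_pow_iff_right (by norm_num : 1 < 2)).1 hle
    rw [hk] at hm ⊢
    by_contra hne
    have hk3' : k ≠ 3 := fun e => hne (by rw [e]; norm_num)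
    have hd' := Nat.sub_mod_eq_zero_of_mod_eq hm
    have hk0 : k ≠ 0 := fun e => by
      have hzm : z ∈ Q ⊓ centralizer ({(a : G)} : Set G) := mem_inf.2 ⟨mem_inf.2 ⟨c.z_mem_E,
        mem_centralizer_singleton_iff.2 (c.comm_z hx.1).symm⟩, mem_centralizer_singleton_iff.2 (c.comm_z haH).symm⟩
      have h := orderOf_dvd_natCard (⟨z, hzm⟩ : ↥(Q ⊓ centralizer ({(a : G)} : Set G)))
      rw [Subgroup.orderOf_mk, c.ord, hk, e] at h
      norm_num at h
    exact hcoeff (8 - 2 ^ k) (Nat.dvd_of_mod_eq_zero hd') (by interval_cases k <;> norm_num at *)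
  set D := c.E ⊓ centralizer ({(a : G)} : Set G) with hD
  have hm := EleGen.card_mod_fixed (p := 11) (by norm_num) ho (T := D) fun w hw => mem_inf.2
    ⟨c.conj_E hx.1 hw.1, by
      refine mem_centralizer_singleton_iff.2 ?_
      have hwa : Commute w (a : G) := mem_centralizer_singleton_iff.1 hw.2
      exact (((show Commute x (a : G) from hax.symm).mul_left hwa).mul_left
        (show Commute x (a : G) from hax.symm).inv_left).eq⟩
  have h8 : Nat.card ↥(D ⊓ centralizer ({x} : Set G)) = 8 := by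
    rw [← hQa, show D ⊓ centralizer ({x} : Set G) = Q ⊓ centralizer ({(a : G)} : Set G) by
      rw [hD, inf_assoc, inf_comm (centralizer ({(a : G)} : Set G)), ← inf_assoc]]
  obtain ⟨k, hk⟩ := IsPGroup.iff_card.1 (c.E_isPGroup.to_le (inf_le_left : D ≤ c.E))
  have hle := card_le_of_le (inf_le_left : D ≤ c.E)
  rw [c.card_E, hk] at hle
  have hk13 := (Nat.pow_le_pow_iff_right (by norm_num : 1 < 2)).1 hle
  rw [h8, hk] at hm
  obtain rfl | rfl : k = 3 ∨ k = 13 := by interval_cases k <;> omega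
  · have hmE := EleGen.card_mod_fixed hq ha (T := c.E) fun w hw => c.conj_E haH hw
    rw [show c.E ⊓ centralizer ({(a : G)} : Set G) = D from rfl, hk, c.card_E] at hmE
    exact hcoeff _ (Nat.dvd_of_mod_eq_zero (Nat.sub_mod_eq_zero_of_mod_eq hmE)) (by norm_num)
  · have hED : D = c.E := eq_of_le_of_card_ge inf_le_left (by rw [hk, c.card_E])
    have haE := c.E_selfcent haH fun e he => mem_centralizer_singleton_iff.1 (hED.ge he).2
    obtain ⟨j, hj⟩ := c.E_isPGroup ⟨a, haE⟩
    have h := orderOf_dvd_of_pow_eq_one (congrArg Subtype.val hj)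
    rw [show ((⟨(a : G), haE⟩ : ↥c.E) : G) = a from rfl, ha] at h
    exact hcon.1 ((Nat.prime_dvd_prime_iff_eq hq Nat.prime_two).1 (hq.dvd_of_dvd_pow h))

/-- The odd core of the centralizer: what is needed about it. -/
theorem exists_core_eleven (hs : c.Split) (he : Extra J I R) :
    ∃ K : Subgroup G, K ≤ centralizer ({x} : Set G) ∧ centralizer ({x} : Set G) ≤ normalizer (K : Set G) ∧
      ¬ 2 ∣ Nat.card ↥K ∧ Nat.card ↥(centralizer ({x} : Set G)) ∣
        Nat.card ↥K * Nat.card ↥(centralizer ({x} : Set G) ⊓ c.H) ∧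
      11 ^ 3 ∣ Nat.card ↥K := by
  classical
  haveI : Fact (Nat.Prime 11) := ⟨by norm_num⟩
  haveI : Fact (Nat.Prime 2) := ⟨Nat.prime_two⟩
  set S := centralizer ({x} : Set G) with hSdef
  have hzS : z ∈ S := mem_centralizer_singleton_iff.2 (c.comm_z hx.1).symm
  obtain ⟨e, heE, f, hfE, hex, hfx, hef⟩ := c.exists_comm_pair hx ho
  have hiso : Cfsg.IsIsolatedInvolution (⟨z, hzS⟩ : ↥S) := by
    refine ⟨by rw [Subgroup.orderOf_mk, c.ord], fun g hg => Subtype.ext ?_⟩
    refine c.eq_z_of_comm_eleven hx ho (CfsgLib.Invol.invol_conj c.ord _)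
      (mem_centralizer_singleton_iff.2 (congrArg Subtype.val hg.eq).symm)
      (mem_centralizer_singleton_iff.1 (g * ⟨z, hzS⟩ * g⁻¹ : ↥S).2)
  have hcen := CfsgLib.Invol.zstar hiso
  have hH11 : ¬ 11 ^ 2 ∣ Nat.card ↥(S ⊓ c.H) := fun h => by
    have := h.trans (card_dvd_of_le inf_le_right)
    rw [c.card_H_local] at this
    norm_num at this
  have hCsub : Nat.card ↥(centralizer ({(⟨z, hzS⟩ : ↥S)} : Set ↥S)) = Nat.card ↥(S ⊓ c.H) := by
    rw [Nat.card_congr (equivMapOfInjective _ S.subtype S.subtype_injective).toEquiv]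
    suffices h : (centralizer ({(⟨z, hzS⟩ : ↥S)} : Set ↥S)).map S.subtype = S ⊓ c.H by rw [h]
    ext g
    constructor
    · rintro ⟨g, hg, rfl⟩
      exact mem_inf.2 ⟨g.2, mem_centralizer_singleton_iff.2
        (congrArg Subtype.val (mem_centralizer_singleton_iff.1 hg))⟩
    · intro hg
      exact ⟨⟨g, hg.1⟩, mem_centralizer_singleton_iff.2 (Subtype.ext (mem_centralizer_singleton_iff.1 hg.2)), rfl⟩
  have h3 : 11 ^ 3 ∣ Nat.card ↥S :=
    cube_dvd_card (p := 11) (L := ↥S) (x := ⟨x, mem_centralizer_singleton_iff.2 rfl⟩) (z := ⟨z, hzS⟩)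
      (T := c.E.subgroupOf S) (e := ⟨e, mem_centralizer_singleton_iff.2 hex⟩)
      (f := ⟨f, mem_centralizer_singleton_iff.2 hfx⟩)
      (mem_center_iff.2 fun g => Subtype.ext (mem_centralizer_singleton_iff.1 g.2))
      (by rw [Subgroup.orderOf_mk, ho]) (by norm_num) hiso.1 hcen
      c.E_isPGroup.comap_subtype (mem_subgroupOf.2 heE) (mem_subgroupOf.2 hfE) (mem_subgroupOf.2 c.z_mem_E)
      (Subtype.ext (c.comm_z (c.E_le heE))) (Subtype.ext (c.comm_z (c.E_le hfE))) (Subtype.ext hef)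
      (by rw [hCsub]; exact hH11) (c.sq_eleven_dvd_centralizer hx ho hs he)
  set K := Cfsg.pPrimeCore 2 ↥S
  haveI : K.Characteristic := CfsgLib.Coprime.pPrimeCore_characteristic (G := ↥S) 2
  haveI hKn : K.Normal := inferInstance
  have hKodd : ¬ 2 ∣ Nat.card ↥K := CfsgLib.Coprime.pPrimeCore_not_dvd Nat.prime_two
  set zS : ↥S := ⟨z, hzS⟩ with hzSdef
  have hz2 : zS * zS = 1 := Subtype.ext c.zz
  have hzi : zS⁻¹ = zS := inv_eq_of_mul_eq_one_right hz2
  set C := centralizer ({zS} : Set ↥S)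
  let ψ : ↥C →* ↥S ⧸ K := (QuotientGroup.mk' K).comp C.subtype
  have hψ : Function.Surjective ψ := by
    intro q
    obtain ⟨g, rfl⟩ := QuotientGroup.mk'_surjective K q
    set k := zS * g * zS⁻¹ * g⁻¹ with hk
    have hkK : k ∈ K := hcen g
    have hkinv : zS * k * zS⁻¹ = k⁻¹ := by
      rw [hk, hzi]
      simp only [mul_inv_rev, inv_inv, hzi, mul_assoc]
      rw [← mul_assoc zS zS, hz2, one_mul]
    have hodd : Odd (orderOf k) := (Nat.not_even_iff_odd.1 fun h => hKodd
      (((even_iff_two_dvd.1 h).trans (orderOf_dvd_of_mem_zpowers (mem_zpowers k))).trans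
        (by rw [← Subgroup.orderOf_mk (H := K) k hkK]; exact orderOf_dvd_natCard _)))
    obtain ⟨r, hr, hr2⟩ := CfsgLib.Invol.exists_sqrt_of_odd hodd
    have hrinv : zS * r * zS⁻¹ = r⁻¹ := by
      obtain ⟨i, rfl⟩ := mem_zpowers_iff.1 hr
      rw [← conj_zpow, hkinv, inv_zpow]
    have hmem : r * g ∈ C := mem_centralizer_singleton_iff.2 (by
      have hzg : zS * g = k * g * zS := by rw [hk]; group
      calc r * g * zS = r⁻¹ * (r * r * g * zS) := by group
        _ = zS * r * zS⁻¹ * (zS * g) := by rw [hr2, hzg, hrinv]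
        _ = zS * (r * g) := by group)
    refine ⟨⟨r * g, hmem⟩, ?_⟩
    show ((r * g : ↥S) : ↥S ⧸ K) = (g : ↥S ⧸ K)
    rw [QuotientGroup.mk_mul, (QuotientGroup.eq_one_iff r).2 ((zpowers_le.2 hkK) hr), one_mul]
  have hidx : K.index * Nat.card ↥ψ.ker = Nat.card ↥(S ⊓ c.H) := by
    rw [← hCsub, card_eq_card_quotient_mul_card_subgroup ψ.ker, Nat.card_congr
      (QuotientGroup.quotientKerEquivOfSurjective ψ hψ).toEquiv, ← index_eq_card]
  set xS : ↥S := ⟨x, mem_centralizer_singleton_iff.2 rfl⟩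
  have hxo : orderOf xS = 11 := by rw [Subgroup.orderOf_mk, ho]
  have hxc : xS ∈ center ↥S := mem_center_iff.2 fun g => Subtype.ext (mem_centralizer_singleton_iff.1 g.2)
  have hxK : xS ∈ K := by
    haveI : (zpowers xS).Normal := ⟨fun y hy g => by
      rw [mem_center_iff.1 ((zpowers_le.2 hxc) hy) g, mul_inv_cancel_right]; exact hy⟩
    refine CfsgLib.Coprime.le_pPrimeCore_of_not_dvd Nat.prime_two ?_ (mem_zpowers xS)
    rw [Nat.card_zpowers, hxo]
    norm_num
  have hxker : 11 ∣ Nat.card ↥ψ.ker := by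
    have hxC : xS ∈ C := mem_centralizer_singleton_iff.2 (mem_center_iff.1 hxc zS).symm
    have hm : (⟨xS, hxC⟩ : ↥C) ∈ ψ.ker := MonoidHom.mem_ker.2 ((QuotientGroup.eq_one_iff xS).2 hxK)
    have h := orderOf_dvd_natCard (⟨⟨xS, hxC⟩, hm⟩ : ↥ψ.ker)
    rwa [Subgroup.orderOf_mk, Subgroup.orderOf_mk, hxo] at h
  have hKc : Nat.card ↥(K.map S.subtype) = Nat.card ↥K :=
    (Nat.card_congr (K.equivMapOfInjective S.subtype S.subtype_injective).toEquiv).symm
  refine ⟨K.map S.subtype, map_subtype_le _, ?_, by rwa [hKc], ?_, ?_⟩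
  · exact EleGen.le_normalizer_of_conj fun a ha w hw => by
      obtain ⟨w', hw', rfl⟩ := hw
      exact ⟨_, hKn.conj_mem _ hw' ⟨a, ha⟩, rfl⟩
  · rw [hKc, ← hidx, ← K.card_mul_index]
    exact mul_dvd_mul_left _ (dvd_mul_right _ _)
  · rw [hKc]
    refine (Nat.Coprime.pow_left 3 (((show Nat.Prime 11 by norm_num).coprime_iff_not_dvd).2 fun hd => hH11 ?_)).dvd_of_dvd_mul_right
      (K.card_mul_index.symm ▸ h3)
    rw [← hidx, pow_two]
    exact Nat.mul_dvd_mul hd hxker

/-- A prime dividing the order of the centralizer is 2, 3 or 11. -/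
theorem prime_cent (hs : c.Split) (he : Extra J I R) (hcard : Nat.card G = 86775571046077562880) {q : ℕ}
    (hq : q.Prime) (hd : q ∣ Nat.card ↥(centralizer ({x} : Set G))) : q = 2 ∨ q = 3 ∨ q = 11 := by
  classical
  haveI : Fact q.Prime := ⟨hq⟩
  haveI : Fact (Nat.Prime 2) := ⟨Nat.prime_two⟩
  obtain ⟨K, hKS, hSK, hKodd, hdiv, -⟩ := c.exists_core_eleven hx ho hs he
  rcases hq.dvd_mul.1 (hd.trans hdiv) with hK | hH
  swap
  · exact c.prime_cent_H hx ho hq hH
  by_contra hcon
  have hqH : ¬ q ∣ Nat.card ↥(centralizer ({x} : Set G) ⊓ c.H) := fun h => hcon (c.prime_cent_H hx ho hq h)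
  have hqG : q ∣ 86775571046077562880 := hcard ▸ hK.trans (card_subgroup_dvd_card K)
  have hq1 : (Nat.card ↥K).factorization q = 1 := by
    have h1 := (hq.dvd_iff_one_le_factorization Nat.card_pos.ne').1 hK
    by_contra hne
    have h2 : q ^ 2 ∣ 86775571046077562880 := hcard ▸
      ((hq.pow_dvd_iff_le_factorization Nat.card_pos.ne').2 (show 2 ≤ _ by omega)).trans (card_subgroup_dvd_card K)
    rw [show (86775571046077562880 : ℕ) = 2 ^ 21 * (3 ^ 3 * (11 ^ 3 * (5 * 7 * (23 * 29 * 31 * 37 * 43)))) by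
      norm_num] at h2
    have h2' : q ^ 2 ∣ 5 * 7 * (23 * 29 * 31 * 37 * 43) := by
      have cop : ∀ (p k : ℕ), p.Prime → q ≠ p → Nat.Coprime (q ^ 2) (p ^ k) := fun p k hp hne =>
        Nat.Coprime.pow 2 k ((Nat.coprime_primes hq hp).2 hne)
      push Not at hcon
      exact (cop 11 3 (by norm_num) hcon.2.2).dvd_of_dvd_mul_left ((cop 3 3 Nat.prime_three hcon.2.1).dvd_of_dvd_mul_left
        ((cop 2 21 Nat.prime_two hcon.1).dvd_of_dvd_mul_left h2))
    have hsq : Squarefree (5 * 7 * (23 * 29 * 31 * 37 * 43)) := by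
      have cp : ∀ {a b : ℕ}, Nat.Coprime a b → Squarefree a → Squarefree b → Squarefree (a * b) :=
        fun h ha hb => (Nat.squarefree_mul h).2 ⟨ha, hb⟩
      have pr : ∀ {p : ℕ}, p.Prime → Squarefree p := fun h => h.squarefree
      exact cp (by norm_num) (cp (by norm_num) (pr (by norm_num)) (pr (by norm_num)))
        (cp (by norm_num) (cp (by norm_num) (cp (by norm_num) (cp (by norm_num) (pr (by norm_num)) (pr (by norm_num)))
          (pr (by norm_num))) (pr (by norm_num))) (pr (by norm_num)))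
    exact hq.not_isUnit (hsq q (by rwa [← pow_two]))
  obtain ⟨e, heE, f, hfE, hex, hfx, hef⟩ := c.exists_comm_pair hx ho
  have hQS : c.E ⊓ centralizer ({x} : Set G) ≤ centralizer ({x} : Set G) := inf_le_right
  have hQK : c.E ⊓ centralizer ({x} : Set G) ≤ normalizer (K : Set G) := hQS.trans hSK
  have hQp : IsPGroup 2 ↥(c.E ⊓ centralizer ({x} : Set G)) := c.E_isPGroup.to_le inf_le_left
  haveI : Group.IsNilpotent ↥(c.E ⊓ centralizer ({x} : Set G)) := hQp.isNilpotent
  have hcop : (Nat.card ↥(c.E ⊓ centralizer ({x} : Set G))).Coprime (Nat.card ↥K) := by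
    rw [c.card_Q_eleven hx ho, show (8 : ℕ) = 2 ^ 3 from rfl]
    exact Nat.Coprime.pow_left 3 ((Nat.Prime.coprime_iff_not_dvd Nat.prime_two).2 hKodd)
  obtain ⟨Sy, hSy, hSyn⟩ := Coprime.exists_invariant_sylow hQK hcop (Or.inl inferInstance) q
  have hSyc : Nat.card ↥Sy = q := by rw [hSy.2, hq1, pow_one]
  obtain ⟨r, hr⟩ := exists_prime_orderOf_dvd_card' (G := ↥Sy) q (by rw [hSyc])
  rw [← Subgroup.orderOf_coe] at hr
  have hSyr : zpowers (r : G) = Sy := eq_of_le_of_card_ge (zpowers_le.2 r.2) (by rw [Nat.card_zpowers, hr, hSyc])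
  have hnorm : ∀ g, g ∈ c.E ⊓ centralizer ({x} : Set G) → g * (r : G) * g⁻¹ ∈ zpowers (r : G) := fun g hg => by
    rw [hSyr]; exact (mem_normalizer_iff.1 (hSyn hg) _).1 r.2
  have hzQ : z ∈ c.E ⊓ centralizer ({x} : Set G) :=
    mem_inf.2 ⟨c.z_mem_E, mem_centralizer_singleton_iff.2 (c.comm_z hx.1).symm⟩
  have hzi : z⁻¹ = z := inv_eq_of_mul_eq_one_right c.zz
  obtain ⟨i, hi⟩ := mem_zpowers_iff.1 (hnorm z hzQ)
  have hs' : (r : G) * (z * r * z⁻¹) = 1 := by
    by_contra hne
    set w := (r : G) * (z * r * z⁻¹)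
    have hwz : w * z = z * w := by
      have hcomm : (r : G) * (z * r * z⁻¹) = z * r * z⁻¹ * r := by
        rw [← hi]; exact ((Commute.refl (r : G)).zpow_right i).eq
      calc w * z = (r : G) * (z * r * z⁻¹) * z := rfl
        _ = (r : G) * z * r := by group
        _ = z * (z⁻¹ * r * z * r) := by group
        _ = z * (z * r * z⁻¹ * r) := by rw [hzi]
        _ = z * w := by rw [← hcomm]
    have hwS : w ∈ centralizer ({x} : Set G) := hKS (hSy.1 (hSyr ▸
      mul_mem (mem_zpowers _) (hnorm z hzQ)))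
    have hwo : orderOf w = q := by
      refine ((Nat.dvd_prime hq).1 (hr ▸ orderOf_dvd_of_mem_zpowers
        (mul_mem (mem_zpowers (r : G)) (hnorm z hzQ)))).resolve_left fun h1 => hne (orderOf_eq_one_iff.1 h1)
    refine hqH ?_
    rw [← hwo, ← Subgroup.orderOf_mk (H := centralizer ({x} : Set G) ⊓ c.H) w
      (mem_inf.2 ⟨hwS, mem_centralizer_singleton_iff.2 hwz⟩)]
    exact orderOf_dvd_natCard _
  have hodd : Odd (orderOf (r : G)) := by
    rw [hr]
    exact hq.odd_of_ne_two fun h => hcon (Or.inl h)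
  exact conj_comm_cyclic (fun h => by rw [h, orderOf_one] at hr; exact hq.ne_one hr.symm) hodd
    (eq_inv_of_mul_eq_one_right hs') (hnorm e (mem_inf.2 ⟨heE, mem_centralizer_singleton_iff.2 hex⟩))
    (hnorm f (mem_inf.2 ⟨hfE, mem_centralizer_singleton_iff.2 hfx⟩)) hef

/-- The order of the centralizer, up to its three-part. -/
theorem card_cent_eleven (hs : c.Split) (he : Extra J I R) (hcard : Nat.card G = 86775571046077562880) :
    ∃ b ≤ 3, Nat.card ↥(centralizer ({x} : Set G)) = 8 * 3 ^ b * 11 ^ 3 := by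
  set n := Nat.card ↥(centralizer ({x} : Set G))
  have hn : n ≠ 0 := Nat.card_pos.ne'
  have hdG : n ∣ 86775571046077562880 := hcard ▸ card_subgroup_dvd_card _
  have h11 : 11 ^ 3 ∣ n := by
    obtain ⟨K, hKS, -, -, -, h⟩ := c.exists_core_eleven hx ho hs he
    exact h.trans (card_dvd_of_le hKS)
  have h11' : n.factorization 11 = 3 := by
    refine le_antisymm ?_ (((show Nat.Prime 11 by norm_num).pow_dvd_iff_le_factorization hn).1 h11)
    by_contra hlt
    have := (((show Nat.Prime 11 by norm_num).pow_dvd_iff_le_factorization hn).2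
      (show 4 ≤ _ from Nat.lt_of_not_le hlt)).trans hdG
    norm_num at this
  have hb : n.factorization 3 ≤ 3 := by
    by_contra hlt
    have := ((Nat.prime_three.pow_dvd_iff_le_factorization hn).2 (show 4 ≤ _ from Nat.lt_of_not_le hlt)).trans hdG
    norm_num at this
  refine ⟨n.factorization 3, hb, ?_⟩
  generalize hbeq : n.factorization 3 = b at hb ⊢
  have hm : 8 * 3 ^ b * 11 ^ 3 ≠ 0 := by positivity
  refine Nat.eq_of_factorization_eq hn hm fun q => ?_
  by_cases hq : q.Prime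
  · rw [Nat.factorization_mul (by positivity) (by positivity), Nat.factorization_mul (by norm_num) (by positivity),
      show (8 : ℕ) = 2 ^ 3 from rfl, Nat.Prime.factorization_pow Nat.prime_two,
      Nat.Prime.factorization_pow Nat.prime_three, Nat.Prime.factorization_pow (show Nat.Prime 11 by norm_num)]
    simp only [Finsupp.coe_add, Pi.add_apply, Finsupp.single_apply]
    by_cases hd : q ∣ n
    · rcases c.prime_cent hx ho hs he hcard hq hd with rfl | rfl | rfl
      · simp [n, c.two_part_eleven hx ho]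
      · simp [hbeq]
      · simp [h11']
    · rw [Nat.factorization_eq_zero_of_not_dvd hd]
      have h2 : 2 ∣ n := Nat.dvd_of_factorization_pos (by rw [show n.factorization 2 = 3 from c.two_part_eleven hx ho]; norm_num)
      have hq2 : q ≠ 2 := fun e => hd (e ▸ h2)
      have hq11 : q ≠ 11 := fun e => hd (e ▸ (dvd_pow_self 11 three_ne_zero).trans h11)
      by_cases hq3 : q = 3
      · subst hq3
        rw [Nat.factorization_eq_zero_of_not_dvd hd] at hbeq
        simp [← hbeq]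
      · simp [Ne.symm hq2, Ne.symm hq3, Ne.symm hq11]
  · rw [Nat.factorization_eq_zero_of_not_prime _ hq, Nat.factorization_eq_zero_of_not_prime _ hq]

end CfsgLib.Spor.JFourType.Ctx
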