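import Cfsg.Agent.Lib.Spor.JFourType.EleCount
import Cfsg.Agent.Lib.Spor.JFourType.EleX
import Cfsg.Agent.Lib.PGroup.GenExtraspecialSplit

/-!
# The Sylow eleven-subgroup

It is not commutative, as the centralizer of `y` has no such subgroup; its centre is generated by `x`; the
congruence for the number of its conjugates gives the order of its normalizer; and the stabilizer of a non-central
member in the normalizer has order at most 242, so the non-central members form one class.
-/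

set_option autoImplicit false
set_option linter.style.haveILetI false
set_option linter.unusedSectionVars false

namespace CfsgLib.Spor.JFourType.Ctx

open Subgroup

universe u

variable {G : Type u} [Group G] [Finite G] {A : Type} [Group A] {J I R : Subgroup A}
  {z : G} {P : Subgroup G} (c : Ctx J I R z P)
include c

/-- The Sylow subgroup `U` at the element `x`. -/
structure EleSyl (x : G) (U : Subgroup G) : Prop where
  split : c.Split
  extra : Extra J I R
  five : FiveSeven J I R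
  card_G : Nat.card G = 86775571046077562880
  x_mem : x ∈ c.C0
  ord : orderOf x = 11
  le : U ≤ centralizer ({x} : Set G)
  card : Nat.card ↥U = 11 ^ 3
  le_norm : centralizer ({x} : Set G) ≤ normalizer (U : Set G)
  max : ∀ Y : Subgroup G, Y ≤ centralizer ({x} : Set G) → IsPGroup 11 ↥Y → Y ≤ U

theorem exists_eleSyl (hs : c.Split) (he : Extra J I R) (F : FiveSeven J I R)
    (hcard : Nat.card G = 86775571046077562880) : ∃ (x : G) (U : Subgroup G), c.EleSyl x U := by
  classical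
  haveI : Fact (Nat.Prime 11) := ⟨by norm_num⟩
  obtain ⟨x, hx, ho⟩ := c.exists_ord_eleven
  obtain ⟨b, hb, hC⟩ := c.card_cent_eleven hx ho hs he hcard
  obtain ⟨K, hKC, hCK, hKodd, -, hK3⟩ := c.exists_core_eleven hx ho hs he
  set C := centralizer ({x} : Set G)
  have hKd : Nat.card ↥K ∣ 8 * 3 ^ b * 11 ^ 3 := hC ▸ card_dvd_of_le hKC
  have hfac : (Nat.card ↥K).factorization 11 = 3 := by
    have h11 : Nat.Prime 11 := by norm_num
    refine le_antisymm ?_ ((h11.pow_dvd_iff_le_factorization Nat.card_pos.ne').1 hK3)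
    by_contra hlt
    have h := ((h11.pow_dvd_iff_le_factorization Nat.card_pos.ne').2
      (show 4 ≤ _ from Nat.lt_of_not_le hlt)).trans hKd
    interval_cases b <;> norm_num at h
  let T : Sylow 11 ↥K := Classical.arbitrary _
  have hT : Nat.card ↥(T : Subgroup ↥K) = 11 ^ 3 := by rw [T.card_eq_multiplicity, hfac]
  have hsub : Subsingleton (Sylow 11 ↥K) := by
    refine Finite.card_le_one_iff_subsingleton.1 ?_
    have hd : Nat.card (Sylow 11 ↥K) ∣ 8 * 3 ^ b := by
      have h1 := T.card_dvd_index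
      have h2 : (T : Subgroup ↥K).index * 11 ^ 3 ∣ 8 * 3 ^ b * 11 ^ 3 := by
        rw [← hT, index_mul_card, hT]
        exact hKd
      exact h1.trans (Nat.dvd_of_mul_dvd_mul_right (by norm_num) h2)
    have hodd : ¬ 2 ∣ Nat.card (Sylow 11 ↥K) := fun h => hKodd (by
      have h2 : (T : Subgroup ↥K).index ∣ Nat.card ↥K := index_dvd_card _
      exact (h.trans T.card_dvd_index).trans h2)
    have hd' : Nat.card (Sylow 11 ↥K) ∣ 3 ^ b := by
      refine (Nat.Coprime.dvd_of_dvd_mul_left ?_ hd)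
      rw [show (8 : ℕ) = 2 ^ 3 from rfl]
      exact Nat.Coprime.pow_right 3 ((Nat.Prime.coprime_iff_not_dvd Nat.prime_two).2 hodd).symm
    obtain ⟨j, hj, e⟩ := (Nat.dvd_prime_pow Nat.prime_three).1 hd'
    have hm : Nat.card (Sylow 11 ↥K) % 11 = 1 := card_sylow_modEq_one 11 ↥K
    rw [e] at hm ⊢
    have hj3 : j ≤ 3 := hj.trans hb
    interval_cases j <;> omega
  set U := (T : Subgroup ↥K).map K.subtype
  have hU : Nat.card ↥U = 11 ^ 3 := by
    rw [← hT]
    exact (Nat.card_congr ((T : Subgroup ↥K).equivMapOfInjective K.subtype K.subtype_injective).toEquiv).symm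
  have hUK : U ≤ K := map_subtype_le _
  have hconj : ∀ a ∈ C, ∀ w ∈ U, a * w * a⁻¹ ∈ U := by
    intro a ha w hw
    have hle : U.map (MulAut.conj a).toMonoidHom ≤ K := by
      rintro _ ⟨v, hv, rfl⟩
      exact (mem_normalizer_iff.1 (hCK ha) v).1 (hUK hv)
    have hc : Nat.card ↥((U.map (MulAut.conj a).toMonoidHom).subgroupOf K) = 11 ^ 3 := by
      rw [Nat.card_congr (subgroupOfEquivOfLe hle).toEquiv, ← hU]
      exact (Nat.card_congr (U.equivMapOfInjective _ (MulAut.conj a).injective).toEquiv).symm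
    have he := congrArg (fun S : Sylow 11 ↥K => (S : Subgroup ↥K))
      (Subsingleton.elim (Sylow.ofCard _ (hc.trans (by rw [hfac]))) T)
    simp only [Sylow.coe_ofCard] at he
    have h : a * w * a⁻¹ ∈ U.map (MulAut.conj a).toMonoidHom := ⟨w, hw, rfl⟩
    rw [← map_subgroupOf_eq_of_le hle, he] at h
    exact h
  have hnorm := EleGen.le_normalizer_of_conj hconj
  refine ⟨x, U, hs, he, F, hcard, hx, ho, hUK.trans hKC, hU, hnorm, fun Y hY hp => ?_⟩
  have hS : IsPGroup 11 ↥(Y ⊔ U) := hp.to_sup_of_normal_right' (IsPGroup.of_card hU) (hY.trans hnorm)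
  obtain ⟨k, hk⟩ := IsPGroup.iff_card.1 hS
  have hk3 : k ≤ 3 := by
    by_contra hlt
    have h := (pow_dvd_pow 11 (show 4 ≤ k by omega)).trans (hk ▸ hcard ▸ card_subgroup_dvd_card (Y ⊔ U))
    norm_num at h
  have he : U = Y ⊔ U := eq_of_le_of_card_ge le_sup_right (by
    rw [hk, hU]
    exact Nat.pow_le_pow_right (by norm_num) hk3)
  exact le_sup_left.trans he.ge

namespace EleSyl

variable {c} {x : G} {U : Subgroup G} (s : c.EleSyl x U)
include s

theorem isPGroup : IsPGroup 11 ↥U := IsPGroup.of_card s.card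

theorem mem : x ∈ U := by
  haveI : Fact (Nat.Prime 11) := ⟨by norm_num⟩
  exact s.max (zpowers x) (zpowers_le.2 (mem_centralizer_singleton_iff.2 rfl))
    (IsPGroup.of_card (n := 1) (by rw [Nat.card_zpowers, s.ord, pow_one])) (mem_zpowers x)

theorem comm {w : G} (hw : w ∈ U) : w * x = x * w := mem_centralizer_singleton_iff.1 (s.le hw)

theorem factorization : (Nat.card G).factorization 11 = 3 := by
  rw [s.card_G]
  refine le_antisymm ?_ (((show Nat.Prime 11 by norm_num).pow_dvd_iff_le_factorization (by norm_num)).1 (by norm_num))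
  by_contra hlt
  have h := ((show Nat.Prime 11 by norm_num).pow_dvd_iff_le_factorization
    (show 86775571046077562880 ≠ 0 by norm_num)).2 (show 4 ≤ _ from Nat.lt_of_not_le hlt)
  norm_num at h

/-- As a Sylow subgroup of `G`. -/
noncomputable def toSylow : Sylow 11 G :=
  haveI : Fact (Nat.Prime 11) := ⟨by norm_num⟩
  Sylow.ofCard U (by rw [s.card, s.factorization])

theorem coe_toSylow : (s.toSylow : Subgroup G) = U := rfl

/-- Some conjugate of an element `y` as in the frame lies in `U`. -/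
theorem exists_frame : ∃ t y : G, c.EleFrame t y ∧ ∃ g : G, g * y * g⁻¹ ∈ U := by
  haveI : Fact (Nat.Prime 11) := ⟨by norm_num⟩
  obtain ⟨t, y, f⟩ := c.exists_eleFrame s.split s.extra s.five
  obtain ⟨S, hS⟩ := (IsPGroup.of_card (p := 11) (n := 1) (show Nat.card ↥(zpowers y) = 11 ^ 1 by
    rw [Nat.card_zpowers, f.ord_y, pow_one])).exists_le_sylow
  obtain ⟨g, hg⟩ := MulAction.exists_smul_eq G S s.toSylow
  refine ⟨t, y, f, g, ?_⟩
  rw [← s.coe_toSylow, ← hg, Sylow.coe_subgroup_smul]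
  exact ⟨y, hS (mem_zpowers y), rfl⟩

theorem not_comm : ∃ a ∈ U, ∃ b ∈ U, a * b ≠ b * a := by
  by_contra hno
  push Not at hno
  obtain ⟨t, y, f, g, hg⟩ := s.exists_frame
  refine f.not_cube_dvd s.card_G ?_
  have hle : U.map (MulAut.conj g⁻¹).toMonoidHom ≤ centralizer ({y} : Set G) := by
    rintro _ ⟨w, hw, rfl⟩
    refine mem_centralizer_singleton_iff.2 ?_
    show g⁻¹ * w * g⁻¹⁻¹ * y = y * (g⁻¹ * w * g⁻¹⁻¹)
    calc g⁻¹ * w * g⁻¹⁻¹ * y = g⁻¹ * (w * (g * y * g⁻¹)) * g := by group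
      _ = g⁻¹ * (g * y * g⁻¹ * w) * g := by rw [hno w hw _ hg]
      _ = _ := by group
  rw [← s.card, Nat.card_congr
    (U.equivMapOfInjective (MulAut.conj g⁻¹).toMonoidHom (MulAut.conj g⁻¹).injective).toEquiv]
  exact card_dvd_of_le hle

theorem center_eq {w : G} (hw : w ∈ U) (h : ∀ a ∈ U, a * w = w * a) : w ∈ zpowers x := by
  classical
  haveI : Fact (Nat.Prime 11) := ⟨by norm_num⟩
  set Zc := center ↥U
  have hxZ : (⟨x, s.mem⟩ : ↥U) ∈ Zc := mem_center_iff.2 fun a => Subtype.ext (s.comm a.2)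
  obtain ⟨k, hk⟩ := IsPGroup.iff_card.1 (s.isPGroup.to_subgroup Zc)
  have hk1 : k ≤ 1 := by
    by_contra hk1
    obtain ⟨a, ha, b, hb, hab⟩ := s.not_comm
    have hidx : Nat.card (↥U ⧸ Zc) ∣ 11 := by
      have h := card_eq_card_quotient_mul_card_subgroup Zc
      rw [s.card, hk] at h
      have h2 : 11 ^ 3 ∣ 11 * 11 ^ k := by
        rw [← pow_succ']
        exact pow_dvd_pow 11 (by omega)
      exact Nat.dvd_of_mul_dvd_mul_right (by positivity) (h ▸ h2)
    have hcyc : IsCyclic (↥U ⧸ Zc) := by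
      rcases (Nat.dvd_prime (by norm_num)).1 hidx with h | h
      · haveI := (Nat.card_eq_one_iff_unique.1 h).1
        exact isCyclic_of_subsingleton
      · exact isCyclic_of_prime_card h
    exact hab (congrArg Subtype.val
      (commutative_of_cyclic_center_quotient (QuotientGroup.mk' Zc) (by rw [QuotientGroup.ker_mk']) ⟨a, ha⟩ ⟨b, hb⟩))
  have hle : zpowers (⟨x, s.mem⟩ : ↥U) = Zc := eq_of_le_of_card_ge (zpowers_le.2 hxZ) (by
    rw [hk, Nat.card_zpowers, Subgroup.orderOf_mk, s.ord]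
    exact (Nat.pow_le_pow_right (by norm_num) hk1).trans (by norm_num))
  obtain ⟨i, hi⟩ := mem_zpowers_iff.1 (hle.ge (mem_center_iff.2 fun a => Subtype.ext (h a a.2) :
    (⟨w, hw⟩ : ↥U) ∈ Zc))
  exact mem_zpowers_iff.2 ⟨i, congrArg Subtype.val hi⟩

theorem normalizer_eq : normalizer (U : Set G) = normalizer (zpowers x : Set G) := by
  haveI : Fact (Nat.Prime 11) := ⟨by norm_num⟩
  apply le_antisymm
  · exact EleGen.le_normalizer_of_conj fun g hg v hv => by
      obtain ⟨i, rfl⟩ := mem_zpowers_iff.1 hv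
      rw [← conj_zpow]
      refine zpow_mem ?_ i
      refine s.center_eq ((mem_normalizer_iff.1 hg x).1 s.mem) fun a ha => ?_
      have h' : g⁻¹ * a * g ∈ U := (mem_normalizer_iff''.1 hg a).1 ha
      calc a * (g * x * g⁻¹) = g * (g⁻¹ * a * g * x) * g⁻¹ := by group
        _ = g * (x * (g⁻¹ * a * g)) * g⁻¹ := by rw [s.comm h']
        _ = _ := by group
  · refine EleGen.le_normalizer_of_conj fun g hg w hw => ?_
    have hle : U.map (MulAut.conj g).toMonoidHom ≤ centralizer ({x} : Set G) := by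
      rintro _ ⟨v, hv, rfl⟩
      refine mem_centralizer_singleton_iff.2 ?_
      obtain ⟨i, hi⟩ := mem_zpowers_iff.1 ((mem_normalizer_iff''.1 hg x).1 (mem_zpowers x))
      show g * v * g⁻¹ * x = x * (g * v * g⁻¹)
      have hc : v * (g⁻¹ * x * g) = g⁻¹ * x * g * v := by
        rw [← hi]; exact ((show Commute v x from s.comm hv).zpow_right i).eq
      calc g * v * g⁻¹ * x = g * (v * (g⁻¹ * x * g)) * g⁻¹ := by group
        _ = g * (g⁻¹ * x * g * v) * g⁻¹ := by rw [hc]
        _ = _ := by group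
    exact s.max _ hle (s.isPGroup.map _) ⟨w, hw, rfl⟩

theorem card_normalizer :
    Nat.card ↥(normalizer (U : Set G)) = 319440 ∧ Nat.card ↥(centralizer ({x} : Set G)) = 31944 := by
  classical
  haveI : Fact (Nat.Prime 11) := ⟨by norm_num⟩
  obtain ⟨b, hb, hC⟩ := c.card_cent_eleven s.x_mem s.ord s.split s.extra s.card_G
  set N := normalizer (zpowers x : Set G) with hN
  have hker : Nat.card ↥(normalizerMonoidHom (zpowers x)).ker = Nat.card ↥(centralizer ({x} : Set G)) := by
    rw [normalizerMonoidHom_ker, Nat.card_congr (subgroupOfEquivOfLe (centralizer_le_normalizer _)).toEquiv,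
      zpowers_eq_closure, centralizer_closure]
  have hd : Nat.card ↥(normalizerMonoidHom (zpowers x)).range ∣ 10 := by
    haveI : IsCyclic ↥(zpowers x) := inferInstance
    have h := card_subgroup_dvd_card (normalizerMonoidHom (zpowers x)).range
    rwa [IsCyclic.card_mulAut, Nat.card_zpowers, s.ord, Nat.totient_prime (by norm_num)] at h
  have h1 := card_eq_card_quotient_mul_card_subgroup (normalizerMonoidHom (zpowers x)).ker
  rw [Nat.card_congr (QuotientGroup.quotientKerEquivRange _).toEquiv, hker, hC] at h1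
  set d := Nat.card ↥(normalizerMonoidHom (zpowers x)).range
  have hsyl : Nat.card (Sylow 11 G) = N.index := by
    rw [Sylow.card_eq_index_normalizer s.toSylow, hN, ← s.normalizer_eq]
    rfl
  have hmod : Nat.card (Sylow 11 G) % 11 = 1 := card_sylow_modEq_one 11 G
  have hi := N.index_mul_card
  rw [h1, s.card_G, ← hsyl] at hi
  rw [s.normalizer_eq, h1, hC]
  have hd10 : d ∈ ({1, 2, 5, 10} : Finset ℕ) := by
    have := Nat.le_of_dvd (by norm_num) hd
    interval_cases d <;> simp_all (config := {decide := true})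
  generalize Nat.card (Sylow 11 G) = n at hmod hi
  simp only [Finset.mem_insert, Finset.mem_singleton] at hd10
  rcases hd10 with h | h | h | h <;> rw [h] at hi ⊢ <;> interval_cases b <;> norm_num at hi ⊢ <;> omega

/-- Each power of `x` other than one is a conjugate under the normalizer. -/
theorem conj_x {v : G} (hv : v ∈ zpowers x) (hv1 : v ≠ 1) :
    ∃ g ∈ normalizer (U : Set G), g * x * g⁻¹ = v := by
  classical
  obtain ⟨hN, hC⟩ := s.card_normalizer
  have h := ncard_orbit_mul (normalizer (U : Set G)) x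
  have he : normalizer (U : Set G) ⊓ centralizer ({x} : Set G) = centralizer ({x} : Set G) :=
    inf_eq_right.2 (by rw [s.normalizer_eq, ← centralizer_closure, ← zpowers_eq_closure]; exact centralizer_le_normalizer _)
  rw [he, hN, hC] at h
  set O := {y | ∃ k ∈ normalizer (U : Set G), k * x * k⁻¹ = y}
  have hO : O ⊆ (zpowers x : Set G) \ {1} := by
    rintro _ ⟨k, hk, rfl⟩
    refine ⟨?_, fun e => ?_⟩
    · rw [s.normalizer_eq] at hk
      exact (mem_normalizer_iff.1 hk x).1 (mem_zpowers x)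
    · have := s.ord
      rw [conj_eq_one_iff.1 e, orderOf_one] at this
      norm_num at this
  have hcard : ((zpowers x : Set G) \ {1}).ncard = 10 := by
    rw [Set.ncard_sdiff_singleton_of_mem (one_mem _), ← Nat.card_coe_set_eq,
      show Nat.card ↥(zpowers x : Set G) = 11 from (Nat.card_zpowers x).trans s.ord]
  have heq := Set.eq_of_subset_of_ncard_le hO (by rw [hcard]; omega) (Set.toFinite _)
  obtain ⟨k, hk, e⟩ := heq.ge ⟨hv, hv1⟩
  exact ⟨k, hk, e⟩

/-- The stabilizer of a non-central member. -/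
theorem card_stab {w : G} (hw : w ∈ U) (hwx : w ∉ zpowers x) :
    Nat.card ↥(normalizer (U : Set G) ⊓ centralizer ({w} : Set G)) ∣ 242 := by
  classical
  haveI : Fact (Nat.Prime 11) := ⟨by norm_num⟩
  haveI : Fact (Nat.Prime 2) := ⟨Nat.prime_two⟩
  set Sw := normalizer (U : Set G) ⊓ centralizer ({w} : Set G) with hSw
  obtain ⟨hN, -⟩ := s.card_normalizer
  set D := zpowers x ⊔ zpowers w
  have hDU : D ≤ U := sup_le (zpowers_le.2 s.mem) (zpowers_le.2 hw)
  have hD : 11 ^ 2 ∣ Nat.card ↥D := by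
    obtain ⟨k, hk⟩ := IsPGroup.iff_card.1 (s.isPGroup.to_le hDU)
    rw [hk]
    refine pow_dvd_pow 11 ?_
    by_contra hk2
    refine hwx ((eq_of_le_of_card_ge (le_sup_left : zpowers x ≤ D) ?_).ge (mem_sup_right (mem_zpowers w)))
    rw [hk, Nat.card_zpowers, s.ord]
    exact (Nat.pow_le_pow_right (by norm_num) (show k ≤ 1 by omega)).trans (by norm_num)
  -- an element of order two, three or five commuting with both
  have hno : ∀ g : G, (orderOf g = 2 ∨ orderOf g = 3 ∨ orderOf g = 5) → g * x = x * g → g * w = w * g → False :=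
    fun g hg h1 h2 => c.not_sq_eleven_dvd_cent s.split s.extra s.five hg (hD.trans (card_dvd_of_le (sup_le
      (zpowers_le.2 (mem_centralizer_singleton_iff.2 h1.symm))
      (zpowers_le.2 (mem_centralizer_singleton_iff.2 h2.symm)))))
  have hxN : zpowers x ≤ normalizer (U : Set G) := (zpowers_le.2 s.mem).trans le_normalizer
  let ρ : ↥Sw →* MulAut ↥(zpowers x) :=
    (normalizerMonoidHom (zpowers x)).comp (Subgroup.inclusion (inf_le_left.trans s.normalizer_eq.le))
  have hρ : ∀ a : ↥Sw, ρ a = 1 → (a : G) * x = x * a := fun a ha => by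
    have h : Subgroup.inclusion (inf_le_left.trans s.normalizer_eq.le) a ∈ (normalizerMonoidHom (zpowers x)).ker := ha
    rw [normalizerMonoidHom_ker, mem_subgroupOf] at h
    exact (mem_centralizer_iff.1 h x (mem_zpowers x)).symm
  have hAut : Nat.card (MulAut ↥(zpowers x)) = 10 := by
    haveI : IsCyclic ↥(zpowers x) := inferInstance
    rw [IsCyclic.card_mulAut, Nat.card_zpowers, s.ord, Nat.totient_prime (by norm_num)]
  have h3 : ¬ 3 ∣ Nat.card ↥Sw := by
    intro hd
    haveI : Fact (Nat.Prime 3) := ⟨Nat.prime_three⟩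
    obtain ⟨a, ha⟩ := exists_prime_orderOf_dvd_card' (G := ↥Sw) 3 hd
    refine hno a (Or.inr (Or.inl (by rw [Subgroup.orderOf_coe, ha]))) (hρ a ?_) (mem_centralizer_singleton_iff.1 a.2.2)
    rw [← orderOf_eq_one_iff]
    have h1 := orderOf_map_dvd ρ a
    have h2 : orderOf (ρ a) ∣ 10 := hAut ▸ orderOf_dvd_natCard _
    rw [ha] at h1
    exact Nat.dvd_one.1 (by simpa using Nat.dvd_gcd h1 h2)
  have h5 : ¬ 5 ∣ Nat.card ↥Sw := by
    intro hd
    haveI : Fact (Nat.Prime 5) := ⟨by norm_num⟩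
    obtain ⟨a, ha⟩ := exists_prime_orderOf_dvd_card' (G := ↥Sw) 5 hd
    rw [← Subgroup.orderOf_coe] at ha
    exact c.not_eleven_dvd_five s.split s.five ha (by
      obtain ⟨j, hj⟩ := IsPGroup.iff_orderOf.1 s.isPGroup ⟨w, hw⟩
      rw [Subgroup.orderOf_mk] at hj
      have hj0 : j ≠ 0 := fun e => hwx (by
        rw [orderOf_eq_one_iff.1 (show orderOf w = 1 by rw [hj, e, pow_zero])]; exact one_mem _)
      have hwc : w ∈ centralizer ({(a : G)} : Set G) :=
        mem_centralizer_singleton_iff.2 (mem_centralizer_singleton_iff.1 a.2.2).symm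
      exact ((dvd_pow_self 11 hj0).trans (hj ▸ dvd_rfl)).trans
        (Subgroup.orderOf_mk w hwc ▸ orderOf_dvd_natCard (⟨w, hwc⟩ : ↥(centralizer ({(a : G)} : Set G)))))
  have h4 : ¬ 4 ∣ Nat.card ↥Sw := by
    intro hd
    obtain ⟨S, hS⟩ := Sylow.exists_subgroup_card_pow_prime (G := ↥Sw) 2 (n := 2) hd
    have hinj : Function.Injective (ρ.comp S.subtype) := (injective_iff_map_eq_one _).2 fun a ha => by
      by_contra ha1
      obtain ⟨k, hk⟩ := IsPGroup.iff_orderOf.1 (IsPGroup.of_card hS) a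
      rcases k with _ | k
      · exact ha1 (orderOf_eq_one_iff.1 (by rw [hk, pow_zero]))
      have h2 : orderOf (a ^ 2 ^ k) = 2 := by
        rw [orderOf_pow' _ (by positivity), hk, Nat.gcd_eq_right (pow_dvd_pow 2 (Nat.le_succ k)),
          Nat.pow_div (Nat.le_succ k) (by norm_num), show k + 1 - k = 1 by omega, pow_one]
      have h2' : orderOf (((a ^ 2 ^ k : ↥S) : ↥Sw) : G) = 2 := by rw [Subgroup.orderOf_coe, Subgroup.orderOf_coe, h2]
      refine hno _ (Or.inl h2') (hρ _ ?_) (mem_centralizer_singleton_iff.1 ((a ^ 2 ^ k : ↥S) : ↥Sw).2.2)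
      show ρ.comp S.subtype (a ^ 2 ^ k) = 1
      rw [map_pow, ha, one_pow]
    have h := card_subgroup_dvd_card (ρ.comp S.subtype).range
    rw [← Nat.card_congr (MonoidHom.ofInjective hinj).toEquiv, hS, hAut] at h
    norm_num at h
  have h11 : ¬ 11 ^ 3 ∣ Nat.card ↥Sw := by
    intro hd
    obtain ⟨S, hS⟩ := Sylow.exists_subgroup_card_pow_prime (G := ↥Sw) 11 (n := 3) hd
    set Y := S.map Sw.subtype
    have hYc : Nat.card ↥Y = 11 ^ 3 := by
      rw [← hS]
      exact (Nat.card_congr (S.equivMapOfInjective Sw.subtype Sw.subtype_injective).toEquiv).symm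
    have hYp : IsPGroup 11 ↥Y := IsPGroup.of_card hYc
    have hYN : Y ≤ normalizer (U : Set G) := (map_subtype_le _).trans inf_le_left
    have hS' : IsPGroup 11 ↥(Y ⊔ U) := hYp.to_sup_of_normal_right' s.isPGroup hYN
    obtain ⟨k, hk⟩ := IsPGroup.iff_card.1 hS'
    have hk3 : k ≤ 3 := by
      by_contra hlt
      have h := (pow_dvd_pow 11 (show 4 ≤ k by omega)).trans (hk ▸ s.card_G ▸ card_subgroup_dvd_card (Y ⊔ U))
      norm_num at h
    have e1 : Y = Y ⊔ U := eq_of_le_of_card_ge le_sup_left (by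
      rw [hk, hYc]; exact Nat.pow_le_pow_right (by norm_num) hk3)
    refine hwx (s.center_eq hw fun a ha => ?_)
    exact mem_centralizer_singleton_iff.1 ((map_subtype_le S) (e1.ge (mem_sup_right ha))).2
  have hdN : Nat.card ↥Sw ∣ 319440 := hN ▸ card_dvd_of_le inf_le_left
  rw [show (319440 : ℕ) = 2 ^ 4 * (3 * (5 * 11 ^ 3)) by norm_num] at hdN
  obtain ⟨a₁, r₁, ha₁, hr₁, e⟩ := exists_dvd_and_dvd_of_dvd_mul hdN
  obtain ⟨a₂, r₂, ha₂, hr₂, e₂⟩ := exists_dvd_and_dvd_of_dvd_mul hr₁
  obtain ⟨a₃, a₄, ha₃, ha₄, e₃⟩ := exists_dvd_and_dvd_of_dvd_mul hr₂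
  obtain ⟨i, hi, rfl⟩ := (Nat.dvd_prime_pow Nat.prime_two).1 ha₁
  obtain ⟨j, hj, rfl⟩ := (Nat.dvd_prime_pow (show Nat.Prime 11 by norm_num)).1 ha₄
  rw [e, e₂, e₃]
  have ha2 : a₂ = 1 := ((Nat.dvd_prime Nat.prime_three).1 ha₂).resolve_right fun h => h3 (by
    rw [e, e₂, h]; exact dvd_mul_of_dvd_right (dvd_mul_right _ _) _)
  have ha3 : a₃ = 1 := ((Nat.dvd_prime (by norm_num)).1 ha₃).resolve_right fun h => h5 (by
    rw [e, e₂, e₃, h]; exact dvd_mul_of_dvd_right (dvd_mul_of_dvd_right (dvd_mul_right _ _) _) _)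
  have hi1 : i ≤ 1 := by
    by_contra hlt
    exact h4 (e ▸ dvd_mul_of_dvd_left (pow_dvd_pow 2 (show 2 ≤ i by omega)) _)
  have hj2 : j ≤ 2 := by
    by_contra hlt
    exact h11 (by
      rw [e, e₂, e₃]
      exact dvd_mul_of_dvd_right (dvd_mul_of_dvd_right (dvd_mul_of_dvd_right (pow_dvd_pow 11 (by omega)) _) _) _)
  rw [ha2, ha3, one_mul, one_mul]
  exact (Nat.mul_dvd_mul (pow_dvd_pow 2 hi1) (pow_dvd_pow 11 hj2)).trans (by norm_num)

/-- The non-central members form one class under the normalizer. -/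
theorem orbit_eq {w : G} (hw : w ∈ U) (hwx : w ∉ zpowers x) :
    {v | ∃ k ∈ normalizer (U : Set G), k * w * k⁻¹ = v} = (U : Set G) \ (zpowers x : Set G) ∧
      Nat.card ↥(normalizer (U : Set G) ⊓ centralizer ({w} : Set G)) = 242 := by
  have h := ncard_orbit_mul (normalizer (U : Set G)) w
  rw [s.card_normalizer.1] at h
  set O := {v | ∃ k ∈ normalizer (U : Set G), k * w * k⁻¹ = v} with hO'
  set n := Nat.card ↥(normalizer (U : Set G) ⊓ centralizer ({w} : Set G))
  have hn : n ≤ 242 := Nat.le_of_dvd (by norm_num) (s.card_stab hw hwx)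
  have hO : O ⊆ (U : Set G) \ (zpowers x : Set G) := by
    rintro _ ⟨k, hk, rfl⟩
    refine ⟨(mem_normalizer_iff.1 hk w).1 hw, fun e => hwx ?_⟩
    rw [s.normalizer_eq] at hk
    exact (mem_normalizer_iff.1 hk w).2 e
  have hle := Set.ncard_le_ncard hO (Set.toFinite _)
  have hc : ((U : Set G) \ (zpowers x : Set G)).ncard = 1320 := by
    rw [Set.ncard_sdiff (zpowers_le.2 s.mem), ← Nat.card_coe_set_eq, ← Nat.card_coe_set_eq]
    show Nat.card ↥U - Nat.card ↥(zpowers x) = 1320
    rw [s.card, Nat.card_zpowers, s.ord]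
    norm_num
  rw [hc] at hle
  have hn242 : n = 242 := by
    by_contra hne
    have h1 := Nat.mul_le_mul hle (show n ≤ 241 by omega)
    omega
  rw [hn242] at h
  exact ⟨Set.eq_of_subset_of_ncard_le hO (by rw [hc]; omega) (Set.toFinite _), hn242⟩

theorem exists_noncentral : ∃ t y g : G, c.EleFrame t y ∧ g * y * g⁻¹ ∈ U ∧ g * y * g⁻¹ ∉ zpowers x := by
  obtain ⟨t, y, f, g, hg⟩ := s.exists_frame
  refine ⟨t, y, g, f, hg, fun h => ?_⟩
  obtain ⟨i, hi⟩ := mem_zpowers_iff.1 h
  refine f.not_comm_z (u := g⁻¹ * z * g) ?_ ?_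
  · have := (c.isConj_z_conj g⁻¹ z).2 (IsConj.refl z)
    rwa [inv_inv] at this
  · have hc : z * (g * y * g⁻¹) = g * y * g⁻¹ * z := by
      rw [← hi]; exact ((show Commute z x from (c.comm_z s.x_mem.1).symm).zpow_right i).eq
    calc g⁻¹ * z * g * y = g⁻¹ * (z * (g * y * g⁻¹)) * g := by group
      _ = g⁻¹ * (g * y * g⁻¹ * z) * g := by rw [hc]
      _ = _ := by group

theorem exponent {w : G} (hw : w ∈ U) : w ^ 11 = 1 := by
  by_cases hwx : w ∈ zpowers x
  · obtain ⟨i, rfl⟩ := mem_zpowers_iff.1 hwx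
    rw [← zpow_natCast, ← zpow_mul, mul_comm, zpow_mul, zpow_natCast, ← s.ord, pow_orderOf_eq_one, one_zpow]
  · obtain ⟨t, y, g, f, hg, hgx⟩ := s.exists_noncentral
    obtain ⟨k, -, e⟩ := ((s.orbit_eq hg hgx).1).ge ⟨hw, hwx⟩
    rw [← e, conj_pow, conj_pow, ← f.ord_y, pow_orderOf_eq_one]
    group

theorem isExtraspecial : Cfsg.IsExtraspecial 11 ↥U := by
  haveI : Fact (Nat.Prime 11) := ⟨by norm_num⟩
  obtain ⟨a, ha, b, hb, hab⟩ := s.not_comm
  exact CfsgLib.GenExtraspecial.isExtraspecial_of_cube (a := (⟨a, ha⟩ : ↥U)) (b := ⟨b, hb⟩) s.card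
    (fun h => hab (congrArg Subtype.val h)) fun g => Subtype.ext (s.exponent g.2)

theorem exponent_eq : Monoid.exponent ↥U = 11 := by
  refine ((Nat.dvd_prime (by norm_num)).1
    (Monoid.exponent_dvd_of_forall_pow_eq_one fun g : ↥U => Subtype.ext (s.exponent g.2))).resolve_left fun h => ?_
  haveI := Monoid.exp_eq_one_iff.1 h
  have := s.card
  rw [Nat.card_of_subsingleton (1 : ↥U)] at this
  norm_num at this

/-- Two classes of elements of order eleven. -/
theorem classes : ∃ a b : G, orderOf a = 11 ∧ orderOf b = 11 ∧ ¬ IsConj a b ∧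
    ∀ w : G, orderOf w = 11 → IsConj w a ∨ IsConj w b := by
  classical
  haveI : Fact (Nat.Prime 11) := ⟨by norm_num⟩
  obtain ⟨t, y, g, f, hg, hgx⟩ := s.exists_noncentral
  refine ⟨x, y, s.ord, f.ord_y, fun h => ?_, fun w hw => ?_⟩
  · obtain ⟨k, hk⟩ := isConj_iff.1 h
    refine f.not_comm_z (u := k * z * k⁻¹) ((c.isConj_z_conj k z).2 (IsConj.refl z)) ?_
    rw [← hk, conj_mul, conj_mul, c.comm_z s.x_mem.1]
  obtain ⟨S, hS⟩ := (IsPGroup.of_card (p := 11) (n := 1) (show Nat.card ↥(zpowers w) = 11 ^ 1 by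
    rw [Nat.card_zpowers, hw, pow_one])).exists_le_sylow
  obtain ⟨a, ha⟩ := MulAction.exists_smul_eq G S s.toSylow
  have hwU : a * w * a⁻¹ ∈ U := by
    rw [← s.coe_toSylow, ← ha, Sylow.coe_subgroup_smul]
    exact ⟨w, hS (mem_zpowers w), rfl⟩
  have hwa : IsConj w (a * w * a⁻¹) := isConj_iff.2 ⟨a, rfl⟩
  by_cases hwx : a * w * a⁻¹ ∈ zpowers x
  · left
    obtain ⟨k, -, e⟩ := s.conj_x hwx (fun e => by rw [conj_eq_one_iff.1 e, orderOf_one] at hw; norm_num at hw)
    exact hwa.trans ((isConj_iff.2 ⟨k, e⟩).symm)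
  · right
    obtain ⟨k, -, e⟩ := ((s.orbit_eq hg hgx).1).ge ⟨hwU, hwx⟩
    exact hwa.trans (((isConj_iff.2 ⟨g, rfl⟩).trans (isConj_iff.2 ⟨k, e⟩)).symm)

end EleSyl

end CfsgLib.Spor.JFourType.Ctx
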