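import Cfsg.Agent.Lib.Spor.JFourType.Interface

/-!
# Further facts used for the normalizer of `W`

Orders of two normalizers, the outer involutions, and a second hexad disjoint from the first with the subgroup
of order 16 and the subgroup of order nine fixing both.
-/

set_option autoImplicit false

namespace CfsgLib.Spor.JFourType

open Subgroup

universe u

/-- A second hexad: `g` carries the first to it; `a`, `b`, `s` and `Y` fix both. -/
structure HexadPair {A : Type u} [Group A] (J I : Subgroup A) (g a b s : A) (Y : Subgroup A) : Prop where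
  g_mem : g ∈ J
  a_mem : a ∈ J
  b_mem : b ∈ J
  s_notMem : s ∉ J
  a_sq : a * a = 1
  b_sq : b * b = 1
  s_sq : s * s = 1
  ord_ab : orderOf (a * b) = 4
  comm_sa : s * a = a * s
  comm_sb : s * b = b * s
  fix_a : a ∈ normalizer (I : Set A) ∧ g⁻¹ * a * g ∈ normalizer (I : Set A)
  fix_b : b ∈ normalizer (I : Set A) ∧ g⁻¹ * b * g ∈ normalizer (I : Set A)
  fix_s : s ∈ normalizer (I : Set A) ∧ g⁻¹ * s * g ∈ normalizer (I : Set A)
  Y_le : Y ≤ J
  card_Y : Nat.card ↥Y = 9
  fix_Y : ∀ y ∈ Y, y ∈ normalizer (I : Set A) ∧ g⁻¹ * y * g ∈ normalizer (I : Set A)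
  free : ∀ i ∈ I, g⁻¹ * i * g ∈ normalizer (I : Set A) → i = 1

/-- The further facts. -/
structure Extra {A : Type u} [Group A] (J I R : Subgroup A) : Prop where
  card_NI : 11520 ≤ Nat.card ↥(normalizer (I : Set A))
  card_NR : Nat.card ↥(normalizer (R : Set A) ⊓ J) ≤ 1920
  invol_outer : ∀ K : Subgroup A, IsPGroup 2 ↥K → (∀ x ∈ K, ∀ y ∈ K, x * y = y * x) → Nat.card ↥K = 32 →
    K ⊓ J = R → ∀ x, x ∉ J → x * x = 1 → ∃ g : A, g * x * g⁻¹ ∈ K
  hexad_pair : ∃ g a b s : A, ∃ Y : Subgroup A, HexadPair J I g a b s Y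

end CfsgLib.Spor.JFourType
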