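import Cfsg.Agent.Lib.Spor.JFourType.Interface

/-!
# Elementary consequences of the facts on the quotient
-/

set_option autoImplicit false

namespace CfsgLib.Spor.JFourType

open Subgroup
open scoped Pointwise

universe u

variable {A : Type u} [Group A]

theorem isConjugateBy_self_iff {g : A} {K : Subgroup A} : IsConjugateBy g K K ↔ g ∈ normalizer (K : Set A) := by
  constructor
  · intro h
    refine mem_normalizer_iff.2 fun x => ?_
    rw [h (g * x * g⁻¹), show g⁻¹ * (g * x * g⁻¹) * g = x by group]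
  · intro h x
    rw [mem_normalizer_iff.1 h (g⁻¹ * x * g), show g * (g⁻¹ * x * g) * g⁻¹ = x by group]

theorem IsConjugateBy.mem_conj {g : A} {K L : Subgroup A} (h : IsConjugateBy g K L) {x : A} (hx : x ∈ K) :
    g * x * g⁻¹ ∈ L := (h _).2 (by rwa [show g⁻¹ * (g * x * g⁻¹) * g = x by group])

theorem IsConjugateBy.card_eq {g : A} {K L : Subgroup A} (h : IsConjugateBy g K L) : Nat.card ↥L = Nat.card ↥K :=
  Nat.card_congr
    { toFun := fun x => ⟨g⁻¹ * x * g, (h x).1 x.2⟩
      invFun := fun x => ⟨g * x * g⁻¹, h.mem_conj x.2⟩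
      left_inv := fun x => Subtype.ext (by show g * (g⁻¹ * x * g) * g⁻¹ = x; group)
      right_inv := fun x => Subtype.ext (by show g⁻¹ * (g * x * g⁻¹) * g = x; group) }

theorem IsConjugateBy.trans {g k : A} {K L M : Subgroup A} (h : IsConjugateBy g K L) (h' : IsConjugateBy k L M) :
    IsConjugateBy (k * g) K M := fun x => by
  rw [h' x, h (k⁻¹ * x * k)]
  group

theorem IsConjugateBy.symm' {g : A} {K L : Subgroup A} (h : IsConjugateBy g K L) : IsConjugateBy g⁻¹ L K := fun x => by
  rw [h (g⁻¹⁻¹ * x * g⁻¹), show g⁻¹ * (g⁻¹⁻¹ * x * g⁻¹) * g = x by group]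

/-- Two commuting elements of order three generate a group of order nine. -/
theorem card_closure_pair [Finite A] {a b : A} (ha : orderOf a = 3) (hb : orderOf b = 3) (hc : a * b = b * a)
    (hnb : b ∉ zpowers a) :
    Nat.card ↥(closure ({a, b} : Set A)) = 9 := by
  have hC : Commute a b := hc
  have e : closure ({a, b} : Set A) = zpowers a ⊔ zpowers b := by
    rw [show ({a, b} : Set A) = {a} ∪ {b} from rfl, Subgroup.closure_union, ← zpowers_eq_closure, ← zpowers_eq_closure]
  have hle : zpowers b ≤ normalizer (zpowers a : Set A) := by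
    refine zpowers_le.2 ?_
    rw [← isConjugateBy_self_iff]
    intro x
    constructor <;> intro hx <;> obtain ⟨n, hn⟩ := mem_zpowers_iff.1 hx
    · rw [← hn, mul_assoc, (hC.zpow_left n).eq, inv_mul_cancel_left]
      exact zpow_mem (mem_zpowers a) n
    · rw [show x = b * (b⁻¹ * x * b) * b⁻¹ by group, ← hn, ← (hC.zpow_left n).eq, mul_inv_cancel_right]
      exact zpow_mem (mem_zpowers a) n
  haveI : Fact (Nat.Prime 3) := ⟨Nat.prime_three⟩
  have hdisj : zpowers a ⊓ zpowers b = ⊥ := by
    rw [eq_bot_iff]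
    rintro x ⟨hx1, hx2⟩
    by_contra hx
    have hx' : orderOf x = 3 := by
      have hd := orderOf_dvd_natCard (⟨x, hx2⟩ : ↥(zpowers b))
      rw [← Subgroup.orderOf_coe, Nat.card_zpowers, hb] at hd
      exact ((Nat.dvd_prime Nat.prime_three).1 hd).resolve_left fun h => hx (mem_bot.2 (orderOf_eq_one_iff.1 h))
    have hsub : zpowers x = zpowers b :=
      eq_of_le_of_card_ge (zpowers_le.2 hx2) (by rw [Nat.card_zpowers, Nat.card_zpowers, hx', hb])
    exact hnb (zpowers_le.2 hx1 (hsub ▸ mem_zpowers b))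
  rw [e]
  let f : ↥(zpowers a) × ↥(zpowers b) → ↥(zpowers a ⊔ zpowers b) := fun w =>
    ⟨w.1 * w.2, mul_mem (mem_sup_left w.1.2) (mem_sup_right w.2.2)⟩
  have hf : Function.Bijective f := by
    refine ⟨fun u v h => mul_injective_of_disjoint (disjoint_iff.2 hdisj) (congrArg Subtype.val h), fun y => ?_⟩
    have hy : (y : A) ∈ (zpowers a : Set A) * (zpowers b : Set A) := by
      rw [← coe_mul_of_right_le_normalizer_left _ _ hle]; exact y.2
    obtain ⟨p, hp, q, hq, e'⟩ := hy
    exact ⟨(⟨p, hp⟩, ⟨q, hq⟩), Subtype.ext e'⟩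
  rw [← Nat.card_congr (Equiv.ofBijective f hf), Nat.card_prod, Nat.card_zpowers, Nat.card_zpowers, ha, hb]

end CfsgLib.Spor.JFourType
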