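import Cfsg.Agent.Lib.Spor.JFourType.FiveCent
import Cfsg.Agent.Lib.Spor.MonsterType.Seven.SlTwo

/-!
# Action on an elementary abelian group of order eight

A group normalizing such a group acts through `SL₃(2)` with kernel the centralizer; the orbit formula for conjugation
and the normal complement to a central subgroup of prime order.
-/

set_option autoImplicit false
set_option linter.style.haveILetI false

namespace CfsgLib.Spor.JFourType

open Subgroup

universe v

variable {B : Type v} [Group B]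

/-- The homomorphism into `SL₃(2)`. -/
theorem exists_sl_hom {K V : Subgroup B} (hV : Cfsg.IsElementaryAbelian 2 V) (h8 : Nat.card ↥V = 8)
    (hn : ∀ k ∈ K, ∀ a ∈ V, k * a * k⁻¹ ∈ V) :
    ∃ φ : ↥K →* Matrix.SpecialLinearGroup (Fin 3) (ZMod 2),
      ∀ k : ↥K, φ k = 1 ↔ ∀ a ∈ V, (k : B) * a = a * k := by
  classical
  haveI := hV.1
  letI : CommGroup ↥V := { (inferInstance : Group ↥V) with mul_comm := mul_comm' }
  letI : Module (ZMod 2) (Additive ↥V) := AddCommGroup.zmodModule (n := 2) fun a =>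
    (show (Additive.toMul a : ↥V) ^ 2 = 1 from Subtype.ext (hV.2 _ (Additive.toMul a).2))
  haveI : Finite ↥V := Nat.finite_of_card_ne_zero (by rw [h8]; norm_num)
  haveI : Module.Finite (ZMod 2) (Additive ↥V) := Module.Finite.of_finite
  have hr : Module.finrank (ZMod 2) (Additive ↥V) = 3 := by
    have h := Module.natCard_eq_pow_finrank (K := ZMod 2) (V := Additive ↥V)
    rw [show Nat.card (Additive ↥V) = 8 from h8, Nat.card_zmod] at h
    exact Nat.pow_right_injective le_rfl (h.symm.trans (by norm_num : (8 : ℕ) = 2 ^ 3))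
  let b := Module.finBasisOfFinrankEq (ZMod 2) (Additive ↥V) hr
  let act : ↥K → (↥V →* ↥V) := fun k =>
    { toFun := fun a => ⟨(k : B) * a * (k : B)⁻¹, hn k k.2 a a.2⟩
      map_one' := Subtype.ext (by simp)
      map_mul' := fun p q => Subtype.ext (by simp [mul_assoc]) }
  let lin : ↥K → (Additive ↥V →ₗ[ZMod 2] Additive ↥V) := fun k => (MonoidHom.toAdditive (act k)).toZModLinearMap 2
  have hone : lin 1 = LinearMap.id :=
    LinearMap.ext fun a => Additive.toMul.injective (Subtype.ext (by simp [lin, act]))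
  have hmul : ∀ k l, lin (k * l) = (lin k).comp (lin l) := fun k l =>
    LinearMap.ext fun a => Additive.toMul.injective (Subtype.ext (by simp [lin, act, mul_assoc]))
  have hdet : ∀ k, (LinearMap.toMatrix b b (lin k)).det = 1 := by
    intro k
    have h : (LinearMap.toMatrix b b (lin k)).det * (LinearMap.toMatrix b b (lin k⁻¹)).det = 1 := by
      rw [← Matrix.det_mul, ← LinearMap.toMatrix_comp, ← hmul, mul_inv_cancel, hone, LinearMap.toMatrix_id,
        Matrix.det_one]
    revert h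
    generalize (LinearMap.toMatrix b b (lin k)).det = p
    generalize (LinearMap.toMatrix b b (lin k⁻¹)).det = q
    revert p q
    decide
  let φ : ↥K →* Matrix.SpecialLinearGroup (Fin 3) (ZMod 2) :=
    { toFun := fun k => ⟨LinearMap.toMatrix b b (lin k), hdet k⟩
      map_one' := Subtype.ext (by
        show LinearMap.toMatrix b b (lin 1) = _
        rw [hone, LinearMap.toMatrix_id]; rfl)
      map_mul' := fun k l => Subtype.ext (by
        show LinearMap.toMatrix b b (lin (k * l)) = _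
        rw [hmul, LinearMap.toMatrix_comp b b b]; rfl) }
  refine ⟨φ, fun k => ⟨fun h a ha => ?_, fun h => ?_⟩⟩
  · have h' : LinearMap.toMatrix b b (lin k) = LinearMap.toMatrix b b LinearMap.id := by
      rw [LinearMap.toMatrix_id]; exact congrArg Subtype.val h
    have e := LinearMap.congr_fun ((LinearMap.toMatrix b b).injective h') (Additive.ofMul ⟨a, ha⟩)
    exact mul_inv_eq_iff_eq_mul.1 (congrArg (fun w : Additive ↥V => ((Additive.toMul w : ↥V) : B)) e)
  · refine Subtype.ext ?_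
    show LinearMap.toMatrix b b (lin k) = 1
    rw [show lin k = LinearMap.id from LinearMap.ext fun a => Additive.toMul.injective (Subtype.ext (by
      show (k : B) * ((Additive.toMul a : ↥V) : B) * (k : B)⁻¹ = _
      rw [h _ (Additive.toMul a).2, mul_inv_cancel_right]; rfl)), LinearMap.toMatrix_id]

/-- The orbit formula for conjugation. -/
theorem card_eq_orbit_mul [Finite B] {K : Subgroup B} {a : B} {S : Set B} (hmem : ∀ k ∈ K, k * a * k⁻¹ ∈ S)
    (hsurj : ∀ b ∈ S, ∃ k ∈ K, k * a * k⁻¹ = b) :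
    Nat.card ↥K = S.ncard * Nat.card ↥(K ⊓ centralizer ({a} : Set B)) := by
  classical
  set T := (K ⊓ centralizer ({a} : Set B)).subgroupOf K with hT
  have hstab : ∀ g h : ↥K, (g : B) * a * (g : B)⁻¹ = h * a * (h : B)⁻¹ ↔ g⁻¹ * h ∈ T := by
    intro g h
    have e : g⁻¹ * h ∈ T ↔ (g : B)⁻¹ * h * a = a * ((g : B)⁻¹ * h) := by
      rw [hT, mem_subgroupOf, mem_inf]
      exact ⟨fun hh => mem_centralizer_singleton_iff.1 hh.2,
        fun hh => ⟨(g⁻¹ * h).2, mem_centralizer_singleton_iff.2 hh⟩⟩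
    rw [e]
    constructor
    · intro he
      calc (g : B)⁻¹ * h * a = (g : B)⁻¹ * (h * a * (h : B)⁻¹) * h := by group
        _ = (g : B)⁻¹ * (g * a * (g : B)⁻¹) * h := by rw [he]
        _ = _ := by group
    · intro he
      calc (g : B) * a * (g : B)⁻¹ = g * (a * ((g : B)⁻¹ * h)) * (h : B)⁻¹ := by group
        _ = g * ((g : B)⁻¹ * h * a) * (h : B)⁻¹ := by rw [he]
        _ = _ := by group
  let q : ↥K ⧸ T → ↥S := Quotient.lift (fun g : ↥K => ⟨_, hmem g g.2⟩) fun g h hr =>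
    Subtype.ext ((hstab g h).2 (QuotientGroup.leftRel_apply.1 hr))
  have hq : Function.Bijective q := by
    constructor
    · intro p p' he
      induction p using Quotient.inductionOn with
      | h g =>
        induction p' using Quotient.inductionOn with
        | h g' => exact Quotient.sound (QuotientGroup.leftRel_apply.2 ((hstab g g').1 (congrArg Subtype.val he)))
    · rintro ⟨b, hb⟩
      obtain ⟨k, hk, hkb⟩ := hsurj b hb
      exact ⟨QuotientGroup.mk (⟨k, hk⟩ : ↥K), Subtype.ext hkb⟩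
  have h := T.card_mul_index
  rw [Subgroup.index, Nat.card_eq_of_bijective q hq, Nat.card_coe_set_eq,
    Nat.card_congr (subgroupOfEquivOfLe inf_le_left).toEquiv] at h
  rw [← h, mul_comm]

/-- A central subgroup of prime order whose square does not divide the order has a normal complement. -/
theorem exists_central_complement [Finite B] {C : Subgroup B} {x : B} {p : ℕ} (hp : p.Prime) (hxo : orderOf x = p)
    (hxC : x ∈ C) (hcen : ∀ g ∈ C, g * x = x * g) (hp2 : ¬ p ^ 2 ∣ Nat.card ↥C) :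
    ∃ K : Subgroup B, K ≤ C ∧ C ≤ normalizer (K : Set B) ∧ zpowers x ⊓ K = ⊥ ∧ zpowers x ⊔ K = C ∧
      p * Nat.card ↥K = Nat.card ↥C ∧ ∀ g ∈ C, (orderOf g).Coprime p → g ∈ K := by
  classical
  haveI : Fact p.Prime := ⟨hp⟩
  have hxn : ∀ g ∈ C, ∀ i : ℤ, g * x ^ i = x ^ i * g := fun g hg i =>
    ((show Commute g x from hcen g hg).zpow_right i).eq
  set N : Subgroup ↥C := zpowers ⟨x, hxC⟩ with hN
  haveI : N.Normal := ⟨fun n hn g => by
    obtain ⟨i, rfl⟩ := mem_zpowers_iff.1 hn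
    rw [show g * (⟨x, hxC⟩ : ↥C) ^ i * g⁻¹ = (⟨x, hxC⟩ : ↥C) ^ i from Subtype.ext (by
      show (g : B) * ((⟨x, hxC⟩ ^ i : ↥C) : B) * (g : B)⁻¹ = _
      rw [SubgroupClass.coe_zpow]
      show (g : B) * x ^ i * (g : B)⁻¹ = x ^ i
      rw [hxn g g.2 i, mul_inv_cancel_right])]
    exact zpow_mem (mem_zpowers _) i⟩
  have hNc : Nat.card ↥N = p := by rw [hN, Nat.card_zpowers, ← Subgroup.orderOf_coe]; exact hxo
  have hcop : (Nat.card ↥N).Coprime N.index := by
    rw [hNc, hp.coprime_iff_not_dvd]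
    intro hd
    refine hp2 ?_
    rw [← N.card_mul_index, hNc, pow_two]
    exact Nat.mul_dvd_mul_left p hd
  obtain ⟨K', hK'⟩ := exists_right_complement'_of_coprime hcop
  refine ⟨K'.map C.subtype, map_subtype_le _, ?_, ?_, ?_, ?_, ?_⟩
  · intro g hg
    obtain ⟨⟨⟨n, hn⟩, ⟨k, hk⟩⟩, hnk, -⟩ := hK'.existsUnique ⟨g, hg⟩
    have hg' : g = (n : B) * (k : B) := (congrArg Subtype.val (show n * k = ⟨g, hg⟩ from hnk)).symm
    obtain ⟨i, hi⟩ := mem_zpowers_iff.1 hn
    have hnx : ∀ w ∈ C, ((n : ↥C) : B) * w = w * ((n : ↥C) : B) := fun w hw => by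
      rw [← hi, SubgroupClass.coe_zpow]; exact (hxn w hw i).symm
    refine mem_normalizer_iff.2 fun w => ⟨?_, ?_⟩
    · rintro ⟨w', hw', rfl⟩
      refine ⟨k * w' * k⁻¹, mul_mem (mul_mem hk hw') (inv_mem hk), ?_⟩
      show (k : B) * (w' : B) * (k : B)⁻¹ = g * (w' : B) * g⁻¹
      rw [hg']
      have := hnx ((k : B) * (w' : B) * (k : B)⁻¹) (mul_mem (mul_mem k.2 w'.2) (inv_mem k.2))
      calc (k : B) * (w' : B) * (k : B)⁻¹ = ((k : B) * (w' : B) * (k : B)⁻¹) * ((n : ↥C) : B) * ((n : ↥C) : B)⁻¹ := by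
            group
        _ = ((n : ↥C) : B) * ((k : B) * (w' : B) * (k : B)⁻¹) * ((n : ↥C) : B)⁻¹ := by rw [this]
        _ = _ := by group
    · rintro ⟨w', hw', he⟩
      refine ⟨k⁻¹ * w' * k, mul_mem (mul_mem (inv_mem hk) hw') hk, ?_⟩
      have he' : (w' : B) = g * w * g⁻¹ := he
      show (k : B)⁻¹ * (w' : B) * (k : B) = w
      have e2 : ((n : ↥C) : B)⁻¹ * (w' : B) * ((n : ↥C) : B) = w' := by
        rw [mul_assoc, ← hnx (w' : B) w'.2]; group
      rw [← e2, he', hg']; group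
  · rw [eq_bot_iff]
    rintro w ⟨hw, w', hw', rfl⟩
    have hwN : w' ∈ N := by
      obtain ⟨i, hi⟩ := mem_zpowers_iff.1 hw
      exact mem_zpowers_iff.2 ⟨i, Subtype.ext (by rw [SubgroupClass.coe_zpow]; exact hi)⟩
    have h := hK'.disjoint.le_bot (mem_inf.2 ⟨hwN, hw'⟩)
    rw [mem_bot] at h ⊢
    rw [h]; rfl
  · refine le_antisymm (sup_le (zpowers_le.2 hxC) (map_subtype_le _)) fun g hg => ?_
    obtain ⟨⟨n, k⟩, hnk, -⟩ := hK'.existsUnique ⟨g, hg⟩
    have hg' : g = ((n : ↥C) : B) * ((k : ↥C) : B) := (congrArg Subtype.val hnk).symm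
    rw [hg']
    refine mul_mem_sup ?_ ⟨k, k.2, rfl⟩
    obtain ⟨i, hi⟩ := mem_zpowers_iff.1 n.2
    exact mem_zpowers_iff.2 ⟨i, by rw [← hi, SubgroupClass.coe_zpow]⟩
  · rw [← Nat.card_congr (equivMapOfInjective K' _ C.subtype_injective).toEquiv, ← hNc]
    exact hK'.card_mul_card
  · intro g hg hco
    obtain ⟨⟨n, k⟩, hnk, -⟩ := hK'.existsUnique ⟨g, hg⟩
    have hnk' : (n : ↥C) * (k : ↥C) = ⟨g, hg⟩ := hnk
    have hcom : Commute (n : ↥C) (k : ↥C) := by
      obtain ⟨i, hi⟩ := mem_zpowers_iff.1 n.2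
      rw [← hi]
      exact (Commute.zpow_left (show Commute (⟨x, hxC⟩ : ↥C) (k : ↥C) from
        Subtype.ext (hcen _ (k : ↥C).2).symm) i)
    have hno : (n : ↥C) ^ orderOf g = 1 := by
      have h1 : (n : ↥C) ^ orderOf g * (k : ↥C) ^ orderOf g = 1 := by
        rw [← hcom.mul_pow, hnk', ← Subgroup.orderOf_mk g hg, pow_orderOf_eq_one]
      have h2 : (n : ↥C) ^ orderOf g ∈ N ⊓ K' := mem_inf.2 ⟨pow_mem n.2 _, by
        rw [eq_inv_of_mul_eq_one_left h1]; exact inv_mem (pow_mem (show (k : ↥C) ∈ K' from k.2) _)⟩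
      exact mem_bot.1 (hK'.disjoint.le_bot h2)
    have hn1 : (n : ↥C) = 1 := orderOf_eq_one_iff.1 (Nat.eq_one_of_dvd_coprimes hco
      (orderOf_dvd_of_pow_eq_one hno) (by
        rw [← hNc, ← Subgroup.orderOf_mk (n : ↥C) n.2]; exact orderOf_dvd_natCard _))
    rw [hn1, one_mul] at hnk'
    exact ⟨k, k.2, congrArg Subtype.val hnk'⟩

end CfsgLib.Spor.JFourType
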