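import Cfsg.Agent.Lib.Spor.JFourType.Facts22Extra.Data
import Cfsg.Agent.Lib.Spor.JFourType.Facts22.Local
import Cfsg.Agent.Lib.Spor.JFourType.ExtraDef

/-!
# The further facts for the pair stabilizer
-/

set_option autoImplicit false

namespace CfsgLib.Spor.JFourType

open Cfsg Subgroup MulAction
open CfsgLib.Spor.PointSub (orbitF mem_orbitF card_orbitF mem_inf_stab card_univ_pts)
open scoped Pointwise

theorem pts_inj {a b : ℕ} (ha : a < 2 ^ 24) (hb : b < 2 ^ 24) (h : pts a = pts b) : a = b := by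
  rw [← maskPts_pts ha, h, maskPts_pts hb]

theorem mem_normalizer_I22_of {x : ↥Gam} (h : (x : Equiv.Perm GolayPt) • O8 = O8) :
    x ∈ normalizer (I22 : Set ↥Gam) :=
  isConjugateBy_self_iff.1 (normalizes_I22 h)

theorem fixes_common {mask : ℕ} {K : Subgroup ↥Gam}
    (hK : ∀ y ∈ K, ∃ i < 256, mask.testBit i = true ∧ permOf (el i) = (y : Equiv.Perm GolayPt))
    {p : GolayPt} (hp : p ∈ pts (commonFix mask)) {y : ↥Gam} (hy : y ∈ K) : (y : Equiv.Perm GolayPt) p = p := by
  obtain ⟨i, hi, hb, e⟩ := hK y hy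
  rw [mem_pts, commonFix, testBit_maskFn, decide_eq_true (ptIdx_lt _), Bool.true_and, List.all_eq_true] at hp
  have h := hp i (List.mem_range.2 hi)
  rw [hb, Bool.not_true, Bool.false_or, beq_iff_eq, ← fix_iff (el_data hi).1 (ptIdx_lt p), idxPt_ptIdx] at h
  rw [← e]
  exact h

theorem mem_common {mask : ℕ} {K : Subgroup ↥Gam}
    (hK : ∀ i < 256, mask.testBit i = true → ∃ y ∈ K, (y : Equiv.Perm GolayPt) = permOf (el i))
    {p : GolayPt} (hp : ∀ y ∈ K, (y : Equiv.Perm GolayPt) p = p) : p ∈ pts (commonFix mask) := by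
  rw [mem_pts, commonFix, testBit_maskFn, decide_eq_true (ptIdx_lt _), Bool.true_and, List.all_eq_true]
  intro i hi
  rw [List.mem_range] at hi
  by_cases hb : mask.testBit i = true
  · rw [hb, Bool.not_true, Bool.false_or, beq_iff_eq, ← fix_iff (el_data hi).1 (ptIdx_lt p), idxPt_ptIdx]
    obtain ⟨y, hy, e⟩ := hK i hi hb
    rw [← e]
    exact hp y hy
  · simp [hb]

theorem fix_normalizer {K : Subgroup ↥Gam} {x : ↥Gam} (hx : x ∈ normalizer (K : Set ↥Gam)) {p : GolayPt}
    (hp : ∀ y ∈ K, (y : Equiv.Perm GolayPt) p = p) {y : ↥Gam} (hy : y ∈ K) :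
    (y : Equiv.Perm GolayPt) ((x : Equiv.Perm GolayPt) p) = (x : Equiv.Perm GolayPt) p := by
  have h := hp (x⁻¹ * y * x) ((mem_normalizer_iff''.1 hx y).1 hy)
  rwa [coe_mul, coe_mul, coe_inv, Equiv.Perm.mul_apply, Equiv.Perm.mul_apply, Equiv.Perm.inv_eq_iff_eq] at h

theorem I22_idx (y : ↥Gam) (hy : y ∈ I22) :
    ∃ i < 256, mI.testBit i = true ∧ permOf (el i) = (y : Equiv.Perm GolayPt) :=
  mem_I24.1 (mem_subgroupOf.1 hy)

theorem smul_O8_of_normalizer {x : ↥Gam} (h : x ∈ normalizer (I22 : Set ↥Gam)) :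
    (x : Equiv.Perm GolayPt) • O8 = O8 := by
  refine Finset.eq_of_subset_of_card_le (fun q hq => ?_) (le_of_eq (Finset.card_smul_finset _ _).symm)
  obtain ⟨p, hp, rfl⟩ := Finset.mem_smul_finset.1 hq
  rw [O8, ← fix_masks.1]
  refine mem_common (K := I22) (fun i hi hb =>
    ⟨⟨permOf (el i), (el_data hi).2.2.1⟩, mem_subgroupOf.2 (mem_I24.2 ⟨i, hi, hb, rfl⟩), rfl⟩) fun y hy => ?_
  exact fix_normalizer h (fun y hy => (mem_ptwise.1 (mem_subgroupOf.1 hy)).2 p hp) hy

/-! ### The two normalizers -/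

theorem card_NI22 : 11520 ≤ Nat.card ↥(normalizer (I22 : Set ↥Gam)) := by
  classical
  set S : Subgroup (Equiv.Perm GolayPt) := M24 ⊓ stabilizer (Equiv.Perm GolayPt) O8 with hS
  have hcS : Nat.card ↥S = 322560 := by
    rw [← card_stab_octad O8_octad, card_subgroup_M24]
    exact Nat.card_congr (Equiv.subtypeEquivRight fun g => by
      rw [mem_map_stabilizer, hS, mem_inf, mem_stabilizer_iff]; exact Iff.rfl)
  set pr : Finset GolayPt := {none, some 0} with hpr
  have hsub : pr ⊆ O8 := by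
    intro p hp
    rw [hpr, Finset.mem_insert, Finset.mem_singleton] at hp
    rcases hp with rfl | rfl
    · rw [O8, OuterAut.none_eq, OuterAut.mem_pts_idx (by norm_num)]; exact octad_ok.2.2.2
    · rw [O8, OuterAut.zero_eq, OuterAut.mem_pts_idx (by norm_num)]; exact octad_ok.2.2.1
  have horb : (orbit ↥S pr : Set (Finset GolayPt)) ⊆ (O8.powersetCard 2 : Set (Finset GolayPt)) := by
    rintro q ⟨g, rfl⟩
    have hg : (g : Equiv.Perm GolayPt) • O8 = O8 := mem_stabilizer_iff.1 (mem_inf.1 g.2).2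
    rw [Finset.mem_coe, Finset.mem_powersetCard]
    refine ⟨?_, ?_⟩
    · rw [← hg]; exact Finset.smul_finset_subset_smul_finset hsub
    · show ((g : Equiv.Perm GolayPt) • pr).card = 2
      rw [Finset.card_smul_finset, hpr, Finset.card_pair (Option.some_ne_none (0 : ZMod 23)).symm]
  have h28 : (orbit ↥S pr : Set (Finset GolayPt)).ncard ≤ 28 := by
    refine (Set.ncard_le_ncard horb (Set.toFinite _)).trans ?_
    rw [Set.ncard_coe_finset, Finset.card_powersetCard, O8, card_pts, octad_ok.2.1]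
    decide
  have hmul := (stabilizer ↥S pr).card_mul_index
  rw [index_stabilizer, hcS] at hmul
  let f : ↥(stabilizer ↥S pr) → ↥(normalizer (I22 : Set ↥Gam)) := fun g =>
    ⟨⟨(g : ↥S), mem_inf.2 ⟨(mem_inf.1 (g : ↥S).2).1, g.2⟩⟩,
      mem_normalizer_I22_of (mem_stabilizer_iff.1 (mem_inf.1 (g : ↥S).2).2)⟩
  have hf : Function.Injective f := fun g k e => by
    have := congrArg (fun w : ↥(normalizer (I22 : Set ↥Gam)) => ((w : ↥Gam) : Equiv.Perm GolayPt)) e
    exact Subtype.ext (Subtype.ext this)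
  have hle := Nat.card_le_card_of_injective f hf
  by_contra hcon
  have : Nat.card ↥(stabilizer ↥S pr) * (orbit ↥S pr).ncard ≤ 11519 * 28 :=
    Nat.mul_le_mul (by omega) h28
  omega

theorem card_stab_le_of_map {p : GolayPt} {n m : ℕ} {K : Subgroup (Equiv.Perm GolayPt)}
    {U : Finset GolayPt} (hU : n ≤ U.card) (hmap : ∀ q ∈ U, ∃ g ∈ K, g p = q) (hK : Nat.card ↥K ≤ n * m)
    (hn : 0 < n) : Nat.card ↥(K ⊓ stabilizer (Equiv.Perm GolayPt) p) ≤ m := by
  have h := card_orbitF K p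
  have hle : n ≤ (orbitF K p).card := hU.trans (Finset.card_le_card fun q hq => mem_orbitF.2 (hmap q hq))
  by_contra hcon
  have : n * (m + 1) ≤ (orbitF K p).card * Nat.card ↥(K ⊓ stabilizer (Equiv.Perm GolayPt) p) :=
    Nat.mul_le_mul hle (by omega)
  rw [Nat.mul_succ] at this
  omega

theorem card_four_points {p q : GolayPt} (hp : p ≠ none) (hp0 : p ≠ some 0) (hq : q ≠ none) (hq0 : q ≠ some 0)
    (hpq : p ≠ q) : Nat.card ↥(Spor.M22 ⊓ stabilizer (Equiv.Perm GolayPt) p ⊓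
      stabilizer (Equiv.Perm GolayPt) q) ≤ 960 := by
  classical
  have h0 : (none : GolayPt) ≠ some 0 := (Option.some_ne_none _).symm
  refine card_stab_le_of_map (n := 21) (U := Finset.univ \ {none, some 0, p}) ?_ ?_ ?_ (by norm_num)
  · rw [Finset.card_univ_sdiff, Finset.card_insert_of_notMem (by simp [hp.symm]),
      Finset.card_pair hp0.symm,
      ← Finset.card_univ, card_univ_pts]
  · intro r hr
    simp only [Finset.mem_sdiff, Finset.mem_univ, true_and, Finset.mem_insert, Finset.mem_singleton, not_or] at hr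
    obtain ⟨hr1, hr2, hr3⟩ := hr
    obtain ⟨g, hg, h⟩ := OuterAut.exists_map (n := 4) (by norm_num) ![none, some 0, p, q] ![none, some 0, p, r]
      (by intro i j; fin_cases i <;> fin_cases j <;>
        simp [h0, h0.symm, hp, hp.symm, hp0, hp0.symm, hq, hq.symm, hq0, hq0.symm, hpq, hpq.symm])
      (by intro i j; fin_cases i <;> fin_cases j <;>
        simp [h0, h0.symm, hp, hp.symm, hp0, hp0.symm, hr1, Ne.symm hr1, hr2, Ne.symm hr2, hr3, Ne.symm hr3])
    exact ⟨g, mem_inf_stab.2 ⟨OuterAut.mem_M22.2 ⟨hg, h 0, h 1⟩, h 2⟩, h 3⟩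
  · refine (card_stab_le_of_map (n := 22) (m := 20160) (U := Finset.univ \ {none, some 0}) ?_ ?_ ?_
      (by norm_num)).trans (by norm_num)
    · rw [Finset.card_univ_sdiff, Finset.card_pair h0,
      ← Finset.card_univ, card_univ_pts]
    · intro r hr
      simp only [Finset.mem_sdiff, Finset.mem_univ, true_and, Finset.mem_insert, Finset.mem_singleton, not_or] at hr
      obtain ⟨g, hg, h1, h2, h3⟩ :=
        OuterAut.exists_map_three none (some 0) p r h0 hp.symm (Ne.symm hr.1) hp0.symm (Ne.symm hr.2)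
      exact ⟨g, OuterAut.mem_M22.2 ⟨hg, h1, h2⟩, h3⟩
    · rw [OuterAut.card_M22]

theorem card_NR22 : Nat.card ↥(normalizer (R22 : Set ↥Gam) ⊓ J22) ≤ 1920 := by
  classical
  set F := pts (commonFix mR) with hF
  have hFe : ∀ r, r ∈ F ↔ r = none ∨ r = some 0 ∨ r = idxPt 15 ∨ r = idxPt 20 := by
    rw [hF, fix_masks.2.1]
    decide +kernel
  set T := (normalizer (R22 : Set ↥Gam) ⊓ J22).map Gam.subtype with hT
  have hcT : Nat.card ↥T = Nat.card ↥(normalizer (R22 : Set ↥Gam) ⊓ J22) :=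
    (Nat.card_congr (equivMapOfInjective _ _ Gam.subtype_injective).toEquiv).symm
  rw [← hcT]
  have hTF : ∀ g ∈ T, g ∈ Spor.M22 ∧ ∀ r ∈ F, g r ∈ F := by
    rintro _ ⟨x, hx, rfl⟩
    obtain ⟨hxN, hxJ⟩ := mem_inf.1 hx
    refine ⟨mem_subgroupOf.1 hxJ, fun r hr => mem_common (K := R22) (fun i hi hb =>
      ⟨⟨permOf (el i), (el_data hi).2.2.1⟩, mem_subgroupOf.2 (mem_R24.2 ⟨i, hi, hb, rfl⟩), rfl⟩) fun y hy => ?_⟩
    exact fix_normalizer hxN (fun y hy => fixes_common (fun y hy => mem_R24.1 (mem_subgroupOf.1 hy)) hr hy) hy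
  have d := show idxPt 15 ≠ none ∧ idxPt 15 ≠ some 0 ∧ idxPt 20 ≠ none ∧ idxPt 20 ≠ some 0 ∧
      idxPt 15 ≠ idxPt 20 by decide +kernel
  obtain ⟨hp, hp0, hq, hq0, hpq⟩ := d
  have key : ∀ g ∈ T, ∀ r, (r = idxPt 15 ∨ r = idxPt 20) → g r = idxPt 15 ∨ g r = idxPt 20 := by
    intro g hg r hr
    obtain ⟨hg22, hgF⟩ := hTF g hg
    obtain ⟨-, hn, h0⟩ := OuterAut.mem_M22.1 hg22
    rcases (hFe _).1 (hgF r ((hFe r).2 (Or.inr (Or.inr hr)))) with h | h | h
    · exfalso
      have := g.injective (h.trans hn.symm)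
      rcases hr with rfl | rfl
      exacts [hp this, hq this]
    · exfalso
      have := g.injective (h.trans h0.symm)
      rcases hr with rfl | rfl
      exacts [hp0 this, hq0 this]
    · exact h
  have horb : (orbitF T (idxPt 15)).card ≤ 2 := by
    refine (Finset.card_le_card (t := {idxPt 15, idxPt 20}) fun r hr => ?_).trans Finset.card_le_two
    obtain ⟨g, hg, rfl⟩ := mem_orbitF.1 hr
    rw [Finset.mem_insert, Finset.mem_singleton]
    exact key g hg _ (Or.inl rfl)
  have hst : T ⊓ stabilizer (Equiv.Perm GolayPt) (idxPt 15) ≤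
      Spor.M22 ⊓ stabilizer (Equiv.Perm GolayPt) (idxPt 15) ⊓ stabilizer (Equiv.Perm GolayPt) (idxPt 20) := by
    intro g hg
    obtain ⟨hgT, h15⟩ := mem_inf_stab.1 hg
    refine mem_inf_stab.2 ⟨mem_inf_stab.2 ⟨(hTF g hgT).1, h15⟩, ?_⟩
    rcases key g hgT _ (Or.inr rfl) with h | h
    · exact absurd (g.injective (h.trans h15.symm)).symm hpq
    · exact h
  rw [← card_orbitF T (idxPt 15)]
  exact (Nat.mul_le_mul horb ((card_le_of_le hst).trans (card_four_points hp hp0 hq hq0 hpq))).trans (by norm_num)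

/-! ### The outer involutions -/

theorem exists_mem_RR {x : ↥Gam} (hx : x ∉ J22) (hx2 : x * x = 1) : ∃ g : ↥Gam, g * x * g⁻¹ ∈ RR22 := by
  haveI : Fact (Nat.Prime 2) := ⟨Nat.prime_two⟩
  haveI := J22.normal_of_index_eq_two J22_index
  have hpg : IsPGroup 2 ↥(zpowers x) := by
    rintro ⟨y, n, rfl⟩
    refine ⟨1, Subtype.ext ?_⟩
    rw [coe_pow, coe_one, ← zpow_natCast, ← zpow_mul, mul_comm, zpow_mul, pow_one, zpow_natCast, pow_two, hx2,
      one_zpow]
  obtain ⟨g, hg⟩ := exists_conj_le (K := zpowers x) hpg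
  have hy := hg x (mem_zpowers x)
  obtain ⟨i, hi, e⟩ := mem_SY.1 (mem_subgroupOf.1 hy)
  have hp := (el_data hi).1
  have hyJ : g * x * g⁻¹ ∉ J22 := fun h => hx (by
    have := Subgroup.Normal.conj_mem inferInstance _ h g⁻¹
    simpa [mul_assoc] using this)
  have hnot : ¬ permFn (el i) 23 = 23 := fun h => hyJ (mem_J22.2 (by rw [← e]; exact (none_fix hp).2 h))
  have hsq : sqCode (el i) = true := sqCode_of hp (by
    rw [e, ← coe_mul, show g * x * g⁻¹ * (g * x * g⁻¹) = g * (x * x) * g⁻¹ by group, hx2, mul_one, mul_inv_cancel,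
      coe_one])
  have h := List.all_eq_true.1 out_ok i (List.mem_range.2 hi)
  simp only [outRow, hsq, Bool.not_true, Bool.or_false, Bool.or_eq_true, beq_iff_eq, List.any_eq_true,
    Bool.and_eq_true, decide_eq_true_eq] at h
  rcases h with (h | h) | ⟨q, -, hqi, hj, hc, hb, htw⟩
  · exact absurd h hnot
  · exact ⟨g, mem_subgroupOf.2 (mem_RR24.2 ⟨i, hi, h, e⟩)⟩
  · simp only [pairOk, Bool.and_eq_true, Bool.or_eq_true, beq_iff_eq] at hc
    obtain ⟨hcM, hcp⟩ := hc
    have hcc := isPermCode_of_isM24Code hcM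
    have hcG : permOf q.2.2 ∈ Gam := by
      refine mem_Gam.2 ⟨permOf_mem_M24 hcM, ?_⟩
      rw [show (none : GolayPt) = idxPt 23 from rfl, OuterAut.zero_eq, permOf_idxPt hcc (by norm_num),
        permOf_idxPt hcc (by norm_num)]
      rcases hcp with ⟨e1, e2⟩ | ⟨e1, e2⟩
      · exact Or.inl ⟨by rw [e1], by rw [e2]⟩
      · exact Or.inr ⟨by rw [e1], by rw [e2]⟩
    refine ⟨⟨_, hcG⟩ * g, mem_subgroupOf.2 (mem_RR24.2 ⟨q.2.1, hj, hb, ?_⟩)⟩
    rw [← conj_eq_of_twine hcc hp (el_data hj).1 htw, e, coe_mul, coe_mul, coe_mul, coe_mul, coe_inv, coe_inv]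
    show _ = permOf q.2.2 * _ * x * (permOf q.2.2 * _)⁻¹
    group

theorem invol_outer22 (K : Subgroup ↥Gam) (hK : IsPGroup 2 ↥K) (hc : ∀ x ∈ K, ∀ y ∈ K, x * y = y * x)
    (h32 : Nat.card ↥K = 32) (_hR : K ⊓ J22 = R22) (x : ↥Gam) (hx : x ∉ J22) (hx2 : x * x = 1) :
    ∃ g : ↥Gam, g * x * g⁻¹ ∈ K := by
  obtain ⟨k, hk⟩ := exists_conj_le hK
  have e : K.map (MulAut.conj k).toMonoidHom = RR22 := by
    refine abelian_in_SY (by rintro _ ⟨y, hy, rfl⟩; exact hk y hy) ?_ ?_
    · rintro _ ⟨y, hy, rfl⟩ _ ⟨w, hw, rfl⟩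
      rw [← map_mul, ← map_mul, hc y hy w hw]
    · rw [(isConjugateBy_map k K).card_eq, h32]
  obtain ⟨g, hg⟩ := exists_mem_RR hx hx2
  rw [← e, mem_map_equiv, MulAut.conj_symm_apply] at hg
  exact ⟨k⁻¹ * g, by simpa [mul_assoc] using hg⟩

/-! ### The second hexad -/

/-- The element carrying the first hexad to the second. -/
noncomputable def hexgm : ↥Gam := gm (m22_sound hex_ok.1)

theorem hexgm_smul : (hexgm : Equiv.Perm GolayPt) • O8 = pts mO2 := by
  show permOf hexG • O8 = _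
  rw [O8, smul_pts (m22_sound hex_ok.1).1, hex_ok.2.1]

theorem fix_both {x : ↥Gam} {c : ℕ} (hc : isPermCode c = true) (e : (x : Equiv.Perm GolayPt) = permOf c)
    (h : keepsBoth c = true) :
    x ∈ normalizer (I22 : Set ↥Gam) ∧ hexgm⁻¹ * x * hexgm ∈ normalizer (I22 : Set ↥Gam) := by
  simp only [keepsBoth, Bool.and_eq_true, beq_iff_eq] at h
  refine ⟨mem_normalizer_I22_of (by rw [e]; exact keepsO_smul hc h.1), mem_normalizer_I22_of ?_⟩
  rw [coe_mul, coe_mul, coe_inv, mul_smul, mul_smul, hexgm_smul, e, smul_pts hc, h.2, ← hexgm_smul, inv_smul_smul]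

/-- A listed element. -/
noncomputable def ge (i : ℕ) (hi : i < 256) : ↥Gam := ⟨permOf (el i), (el_data hi).2.2.1⟩

theorem hexad_pair22 : ∃ g a b s : ↥Gam, ∃ Y : Subgroup ↥Gam, HexadPair J22 I22 g a b s Y := by
  obtain ⟨hg, -, fa, fb, fs, qa, qb, qs, ka, kb, ks, kA, kB, csa, csb⟩ := hex_ok
  have la : hexA < 256 := by decide
  have lb : hexB < 256 := by decide
  have ls : hexS < 256 := by decide
  have hA := m22_sound three_ok.1
  have hB := m22_sound three_ok.2.1
  refine ⟨hexgm, ge _ la, ge _ lb, ge _ ls, P9,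
    { g_mem := gm_mem _
      a_mem := mem_J22.2 ((none_fix (el_data la).1).2 (beq_iff_eq.1 fa))
      b_mem := mem_J22.2 ((none_fix (el_data lb).1).2 (beq_iff_eq.1 fb))
      s_notMem := outer_notMem ls fs
      a_sq := Subtype.ext (sq_of_sqCode (el_data la).1 qa)
      b_sq := Subtype.ext (sq_of_sqCode (el_data lb).1 qb)
      s_sq := Subtype.ext (sq_of_sqCode (el_data ls).1 qs)
      ord_ab := ?_
      comm_sa := Subtype.ext (eq_mul_of_commCodes (el_data ls).1 (el_data la).1 csa)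
      comm_sb := Subtype.ext (eq_mul_of_commCodes (el_data ls).1 (el_data lb).1 csb)
      fix_a := fix_both (el_data la).1 rfl ka
      fix_b := fix_both (el_data lb).1 rfl kb
      fix_s := fix_both (el_data ls).1 rfl ks
      Y_le := (closure_le _).2 ?_
      card_Y := ?_
      fix_Y := fun y hy => ?_
      free := fun i hi hn => ?_ }⟩
  · set c := permMulCode (el hexA) (el hexB) with hc
    have hcp : isPermCode c = true := isPermCode_permMulCode (el_data la).1 (el_data lb).1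
    have e : ∀ n, ((ge _ la * ge _ lb) ^ n : ↥Gam) = (permOf (powCode c n) : Equiv.Perm GolayPt) := fun n => by
      rw [SubgroupClass.coe_pow, (permOf_powCode hcp n).1, coe_mul,
        ← permOf_permMulCode (el_data la).1 (el_data lb).1 hcp rfl]
      rfl
    haveI : Fact (Nat.Prime 2) := ⟨Nat.prime_two⟩
    refine orderOf_eq_prime_pow (p := 2) (n := 1) (fun h => ?_) (Subtype.ext ?_)
    · refine hex_ord.2 (permOf_inj_normal (permOf_powCode hcp 2).2 (by decide +kernel)
        (permMulCode_idPacked_powCode hcp 2) (by decide +kernel) ?_)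
      rw [permOf_idPacked, ← e 2]
      exact congrArg Subtype.val h
    · rw [show (2 : ℕ) ^ (1 + 1) = 4 from rfl, e 4, hex_ord.1, permOf_idPacked, coe_one]
  · rintro x (rfl | rfl) <;> exact gm_mem _
  · rw [show Nat.card ↥P9 = (threeExps.map threeElt).length from card_of_list (H := P9) fix_masks.2.2
      (fun c hc => ?_) (fun x hx => ?_) fun c hc => ?_]
    · rfl
    · obtain ⟨v, -, rfl⟩ := List.mem_map.1 hc
      exact threeElt_data.1
    · obtain ⟨v, hv, e⟩ := mem_P9 hx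
      exact ⟨_, List.mem_map.2 ⟨v, hv, rfl⟩, e.symm⟩
    · obtain ⟨v, -, rfl⟩ := List.mem_map.1 hc
      exact ⟨_, exp_mem_P9 v, exp_coe v⟩
  · have hle : P9 ≤ normalizer (I22 : Set ↥Gam) ⊓
        (normalizer (I22 : Set ↥Gam)).comap (MulAut.conj hexgm⁻¹).toMonoidHom := by
      refine (closure_le _).2 ?_
      rintro x (rfl | rfl)
      · obtain ⟨h1, h2⟩ := fix_both (x := tA) hA.1 rfl kA
        exact ⟨h1, by simpa [mem_comap, mul_assoc] using h2⟩
      · obtain ⟨h1, h2⟩ := fix_both (x := tB) hB.1 rfl kB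
        exact ⟨h1, by simpa [mem_comap, mul_assoc] using h2⟩
    obtain ⟨h1, h2⟩ := mem_inf.1 (hle hy)
    exact ⟨h1, by simpa [mem_comap, mul_assoc] using h2⟩
  · obtain ⟨k, hk, hb, e⟩ := I22_idx i hi
    have h := smul_O8_of_normalizer hn
    rw [coe_mul, coe_mul, coe_inv, mul_smul, mul_smul, hexgm_smul, ← e, smul_pts (el_data hk).1,
      inv_smul_eq_iff, hexgm_smul] at h
    have hm := pts_inj (permMask_lt (el_data hk).1 _) (by decide +kernel) h
    have hrow := List.all_eq_true.1 hex_free k (List.mem_range.2 hk)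
    simp only [hb, hm, Bool.not_true, Bool.false_or, bne_self_eq_false, Bool.or_false, beq_iff_eq] at hrow
    refine Subtype.ext ?_
    rw [← e, hrow, show el 0 = idPacked by decide +kernel, permOf_idPacked, coe_one]

theorem extra22 : Extra J22 I22 R22 where
  card_NI := card_NI22
  card_NR := card_NR22
  invol_outer := invol_outer22
  hexad_pair := hexad_pair22

end CfsgLib.Spor.JFourType
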