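import Cfsg.Agent.Lib.Spor.JFourType.Interface

/-!
# Spread subgroups of order eight

The images of the elementary abelian groups of order `2 ^ 10`: inner, of order eight, with no two involutions in
one hexad group.
-/

set_option autoImplicit false

namespace CfsgLib.Spor.JFourType

open Subgroup

universe u

/-- Two elements lie in one conjugate of `I`. -/
def SameHexad {A : Type u} [Group A] (I : Subgroup A) (a b : A) : Prop := ∃ g : A, g * a * g⁻¹ ∈ I ∧ g * b * g⁻¹ ∈ I

/-- A spread subgroup. -/
structure Spread {A : Type u} [Group A] (J I D : Subgroup A) : Prop where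
  le : D ≤ J
  card : Nat.card ↥D = 8
  sq : ∀ x ∈ D, x * x = 1
  apart : ∀ a ∈ D, ∀ b ∈ D, a ≠ 1 → b ≠ 1 → a ≠ b → ¬ SameHexad I a b

/-- The facts about them. -/
structure SpreadFacts {A : Type u} [Group A] (J I : Subgroup A) : Prop where
  conj : ∀ D D' : Subgroup A, Spread J I D → Spread J I D' → ∃ g : A, IsConjugateBy g D D'
  card_norm : ∀ D : Subgroup A, Spread J I D → Nat.card ↥(normalizer (D : Set A)) = 2688

end CfsgLib.Spor.JFourType
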