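import Cfsg.Agent.Lib.Spor.JFourType.Facts22Ten.Data
import Cfsg.Agent.Lib.Spor.JFourType.Facts22Extra
import Cfsg.Agent.Lib.Spor.JFourType.TenDef

/-!
# The spread subgroups of the pair stabilizer: one class, normalizer of order 2688
-/

set_option autoImplicit false

namespace CfsgLib.Spor.JFourType

open Cfsg Subgroup MulAction
open scoped Pointwise

/-- The mask records the fixed points. -/
def FixSpec (m : ℕ) (x : ↥Gam) : Prop :=
  ∀ q < 24, m.testBit q = true ↔ (x : Equiv.Perm GolayPt) (idxPt q) = idxPt q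

theorem fixSpec_code {c : ℕ} (hc : isPermCode c = true) {x : ↥Gam} (e : permOf c = (x : Equiv.Perm GolayPt)) :
    FixSpec (fixMask c) x := fun q hq => by
  rw [fixMask, testBit_maskFn, decide_eq_true hq, Bool.true_and, beq_iff_eq, ← e, fix_iff hc hq]

theorem fixSpec_prod {c d : ℕ} (hc : isPermCode c = true) (hd : isPermCode d = true) {x y : ↥Gam}
    (ex : permOf c = (x : Equiv.Perm GolayPt)) (ey : permOf d = (y : Equiv.Perm GolayPt)) :
    FixSpec (fixProd c d) (x * y) := fun q hq => by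
  rw [fixProd, testBit_maskFn, decide_eq_true hq, Bool.true_and, beq_iff_eq, coe_mul, Equiv.Perm.mul_apply, ← ex, ← ey,
    permOf_idxPt hd hq, permOf_idxPt hc (permFn_lt hd hq)]
  exact ⟨fun h => by rw [h], fun h => by
    simpa [ptIdx_idxPt _ (permFn_lt hc (permFn_lt hd hq)), ptIdx_idxPt q hq] using congrArg ptIdx h⟩

theorem fix_eq_of_spec {m : ℕ} {x y : ↥Gam} (hx : FixSpec m x) (hy : FixSpec m y) (p : GolayPt) :
    (x : Equiv.Perm GolayPt) p = p ↔ (y : Equiv.Perm GolayPt) p = p := by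
  rw [← idxPt_ptIdx p, ← hx _ (ptIdx_lt p), ← hy _ (ptIdx_lt p)]

theorem sameHexad_of_fix {x y : ↥Gam} (hx : x ∈ J22) (hx2 : x * x = 1) (hx1 : x ≠ 1)
    (h : ∀ p, (x : Equiv.Perm GolayPt) p = p → (y : Equiv.Perm GolayPt) p = p) : SameHexad I22 x y := by
  obtain ⟨g, -, hg⟩ := invol_I22 x hx (orderOf_eq_prime (p := 2) (hp := ⟨Nat.prime_two⟩) (by rw [pow_two, hx2]) hx1)
  refine ⟨g, hg, mem_subgroupOf.2 (mem_ptwise.2 ⟨(mem_Gam.1 (g * y * g⁻¹).2).1, fun p hp => ?_⟩)⟩
  have hxp := (mem_ptwise.1 (mem_subgroupOf.1 hg)).2 p hp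
  simp only [coe_mul, coe_inv, Equiv.Perm.mul_apply] at hxp ⊢
  rw [h _ ((g : Equiv.Perm GolayPt).injective (hxp.trans (Equiv.apply_symm_apply _ _).symm))]
  exact Equiv.apply_symm_apply _ _

theorem apart_false {D : Subgroup ↥Gam} (hD : Spread J22 I22 D) {x y : ↥Gam} (hx : x ∈ D) (hy : y ∈ D) (hx1 : x ≠ 1)
    (hy1 : y ≠ 1) (hne : x ≠ y) {m : ℕ} (hmx : FixSpec m x) (hmy : FixSpec m y) : False :=
  hD.apart x hx y hy hx1 hy1 hne
    (sameHexad_of_fix (hD.le hx) (hD.sq x hx) hx1 fun p => (fix_eq_of_spec hmx hmy p).1)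

theorem spread_of_conj {D D' : Subgroup ↥Gam} {g : ↥Gam} (hD : Spread J22 I22 D) (h : IsConjugateBy g D D') :
    Spread J22 I22 D' := by
  haveI := J22.normal_of_index_eq_two J22_index
  refine ⟨fun x hx => ?_, by rw [h.card_eq, hD.card], fun x hx => ?_, fun a ha b hb ha1 hb1 hne ⟨k, h1, h2⟩ => ?_⟩
  · have := Normal.conj_mem inferInstance _ (hD.le ((h x).1 hx)) g
    rwa [show g * (g⁻¹ * x * g) * g⁻¹ = x by group] at this
  · have := hD.sq _ ((h x).1 hx)
    calc x * x = g * ((g⁻¹ * x * g) * (g⁻¹ * x * g)) * g⁻¹ := by group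
      _ = 1 := by rw [this]; group
  · refine hD.apart _ ((h a).1 ha) _ ((h b).1 hb) (fun e => ha1 ?_) (fun e => hb1 ?_)
      (fun e => hne (mul_left_cancel (mul_right_cancel e))) ⟨k * g, ?_, ?_⟩
    · rwa [mul_assoc, inv_mul_eq_one, right_eq_mul] at e
    · rwa [mul_assoc, inv_mul_eq_one, right_eq_mul] at e
    · rwa [show k * g * (g⁻¹ * a * g) * (k * g)⁻¹ = k * a * k⁻¹ by group]
    · rwa [show k * g * (g⁻¹ * b * g) * (k * g)⁻¹ = k * b * k⁻¹ by group]

/-- The spread subgroup. -/
def D22 : Subgroup ↥Gam where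
  carrier := {x | ∃ i ∈ spreadList, permOf (el i) = (x : Equiv.Perm GolayPt)}
  one_mem' := ⟨0, by decide, by rw [show el 0 = idPacked by decide +kernel, permOf_idPacked, coe_one]⟩
  mul_mem' := by
    rintro x y ⟨i, hi, ei⟩ ⟨j, hj, ej⟩
    obtain ⟨hlist, hmul, -, -⟩ := spread_list_ok
    have hlt : ∀ k ∈ spreadList, k < 256 := fun k hk => by
      simpa using ((Bool.and_eq_true _ _).mp (List.all_eq_true.1 hlist k hk)).2
    have h := List.all_eq_true.1 (List.all_eq_true.1 hmul i hi) j hj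
    simp only [List.any_eq_true, beq_iff_eq] at h
    obtain ⟨k, hk, e⟩ := h
    refine ⟨k, hk, ?_⟩
    rw [coe_mul, ← ei, ← ej, permOf_permMulCode (el_data (hlt i hi)).1 (el_data (hlt j hj)).1
      (el_data (hlt k hk)).1 e]
  inv_mem' := by
    rintro x ⟨i, hi, ei⟩
    have h := (Bool.and_eq_true _ _).mp (List.all_eq_true.1 spread_list_ok.1 i hi)
    have hi' : i < 256 := by simpa using h.2
    refine ⟨i, hi, ?_⟩
    rw [coe_inv, ← ei, eq_inv_iff_mul_eq_one]
    exact sq_of_sqCode (el_data hi').1 (inner_of_invBit hi' h.1).2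

theorem spreadList_data {i : ℕ} (hi : i ∈ spreadList) : i < 256 ∧ mInv.testBit i = true := by
  have h := (Bool.and_eq_true _ _).mp (List.all_eq_true.1 spread_list_ok.1 i hi)
  exact ⟨by simpa using h.2, h.1⟩

theorem card_D22 : Nat.card ↥D22 = 8 := by
  have e : Subtype.val '' (D22 : Set ↥Gam) = (fun i => permOf (el i)) '' (spreadList.toFinset : Set ℕ) := by
    ext g
    simp only [Set.mem_image, Finset.mem_coe, List.mem_toFinset]
    constructor
    · rintro ⟨x, ⟨i, hi, ei⟩, rfl⟩; exact ⟨i, hi, ei⟩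
    · rintro ⟨i, hi, rfl⟩; exact ⟨⟨_, (el_data (spreadList_data hi).1).2.2.1⟩, ⟨i, hi, rfl⟩, rfl⟩
  have h := congrArg Set.ncard e
  rw [Set.InjOn.ncard_image fun a ha b hb => el_inj (spreadList_data (List.mem_toFinset.1 ha)).1
      (spreadList_data (List.mem_toFinset.1 hb)).1,
    Set.ncard_coe_finset, Set.ncard_image_of_injective _ Subtype.val_injective,
    List.toFinset_card_of_nodup spread_list_ok.2.2.2] at h
  rw [← SetLike.coe_sort_coe, Nat.card_coe_set_eq, h]
  rfl

theorem spread_D22 : Spread J22 I22 D22 := by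
  refine ⟨fun x ⟨i, hi, e⟩ => mem_subgroupOf.2 (e ▸ (inner_of_invBit (spreadList_data hi).1 (spreadList_data hi).2).1),
    card_D22, fun x ⟨i, hi, e⟩ => Subtype.ext ?_, ?_⟩
  · rw [coe_mul, ← e, coe_one]
    exact sq_of_sqCode (el_data (spreadList_data hi).1).1
      (inner_of_invBit (spreadList_data hi).1 (spreadList_data hi).2).2
  rintro a ⟨i, hi, ei⟩ b ⟨j, hj, ej⟩ ha1 hb1 hne ⟨g, hga, hgb⟩
  have h0 : ∀ {k : ℕ} {x : ↥Gam}, permOf (el k) = (x : Equiv.Perm GolayPt) → x ≠ 1 → k ≠ 0 := by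
    rintro k x e hx rfl
    refine hx (Subtype.ext ?_)
    rw [← e, show el 0 = idPacked by decide +kernel, permOf_idPacked, coe_one]
  have h := List.all_eq_true.1 (List.all_eq_true.1 spread_list_ok.2.2.1 i hi) j hj
  simp only [Bool.or_eq_true, beq_iff_eq, bne_iff_ne, ne_eq] at h
  have hij : i ≠ j := fun e => hne (Subtype.ext (by rw [← ei, e, ej]))
  have hdiff := h.resolve_left (by simp [h0 ei ha1, h0 ej hb1, hij])
  -- both fixed sets are the moved octad
  have hfix : ∀ {k : ℕ} {x : ↥Gam}, k ∈ spreadList → k ≠ 0 → permOf (el k) = (x : Equiv.Perm GolayPt) →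
      g * x * g⁻¹ ∈ I22 → pts (fixMask (el k)) = (g : Equiv.Perm GolayPt)⁻¹ • O8 := by
    intro k x hk hk0 e hx
    refine (Finset.eq_of_subset_of_card_le (fun p hp => ?_) ?_).symm
    · obtain ⟨q, hq, rfl⟩ := Finset.mem_smul_finset.1 hp
      have h := (mem_ptwise.1 (mem_subgroupOf.1 hx)).2 q hq
      simp only [coe_mul, coe_inv, Equiv.Perm.mul_apply] at h
      rw [mem_pts, fixSpec_code (el_data (spreadList_data hk).1).1 e _ (ptIdx_lt _), idxPt_ptIdx]
      exact (g : Equiv.Perm GolayPt).injective (h.trans (Equiv.apply_symm_apply _ _).symm)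
    · rw [Finset.card_smul_finset, card_pts, O8, card_pts, octad_ok.2.1]
      exact le_of_eq ((by decide +kernel :
        ∀ k ∈ spreadList, k ≠ 0 → pop 24 (fixMask (el k)) = 8) k hk hk0)
  exact hdiff (pts_inj (maskFn_lt _ _) (maskFn_lt _ _)
    ((hfix hi (h0 ei ha1) ei hga).trans (hfix hj (h0 ej hb1) ej hgb).symm))

theorem gamCode_mem {c : ℕ} (h : gamCode c = true) : isPermCode c = true ∧ permOf c ∈ Gam := by
  simp only [gamCode, Bool.and_eq_true, Bool.or_eq_true, beq_iff_eq] at h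
  obtain ⟨hM, hp⟩ := h
  have hc := isPermCode_of_isM24Code hM
  refine ⟨hc, mem_Gam.2 ⟨permOf_mem_M24 hM, ?_⟩⟩
  rw [show (none : GolayPt) = idxPt 23 from rfl, OuterAut.zero_eq, permOf_idxPt hc (by norm_num),
    permOf_idxPt hc (by norm_num)]
  rcases hp with ⟨e1, e2⟩ | ⟨e1, e2⟩
  · exact Or.inl ⟨by rw [e1], by rw [e2]⟩
  · exact Or.inr ⟨by rw [e1], by rw [e2]⟩

/-- A spread subgroup of the Sylow subgroup is carried to the listed one. -/
theorem spread_in_SY {D : Subgroup ↥Gam} (hD : Spread J22 I22 D) (hS : D ≤ SY22) :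
    ∃ h : ↥Gam, IsConjugateBy h D D22 := by
  classical
  set S := (idxSet D).erase 0 with hSdef
  have h00 : permOf (el 0) = 1 := by rw [show el 0 = idPacked by decide +kernel, permOf_idPacked]
  have h0 : 0 ∈ idxSet D := mem_idxSet.2 ⟨by norm_num, 1, one_mem _, by rw [h00, coe_one]⟩
  have h7 : S.card = 7 := by rw [hSdef, Finset.card_erase_of_mem h0, card_idxSet hS, hD.card]
  have elem : ∀ i ∈ S, ∃ x ∈ D, i < 256 ∧ permOf (el i) = (x : Equiv.Perm GolayPt) ∧ x ≠ 1 ∧
      mInv.testBit i = true := by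
    intro i hi
    obtain ⟨hi0, hi⟩ := Finset.mem_erase.1 hi
    obtain ⟨hlt, x, hx, e⟩ := mem_idxSet.1 hi
    refine ⟨x, hx, hlt, e.symm, fun he => hi0 (el_inj hlt (by norm_num) ?_), ?_⟩
    · rw [← e, he, h00, coe_one]
    · obtain ⟨hp, -, -, hb, -⟩ := el_data hlt
      rw [hb, Bool.and_eq_true, beq_iff_eq]
      refine ⟨(none_fix hp).1 ?_, sqCode_of hp ?_⟩
      · rw [← e]; exact mem_J22.1 (hD.le hx)
      · rw [← e, ← coe_mul, hD.sq x hx, coe_one]
  obtain ⟨a, haS, hamin⟩ := S.exists_min_image id (Finset.card_pos.1 (by omega))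
  obtain ⟨b, hbS, hbmin⟩ := (S.erase a).exists_min_image id
    (Finset.card_pos.1 (by rw [Finset.card_erase_of_mem haS]; omega))
  obtain ⟨hba, hbS'⟩ := Finset.mem_erase.1 hbS
  obtain ⟨x, hx, ha, ex, hx1, hia⟩ := elem a haS
  obtain ⟨y, hy, hb, ey, hy1, hib⟩ := elem b hbS'
  obtain ⟨k, hk0, hk⟩ := exists_idx hS (mul_mem hx hy)
  obtain ⟨c, hcS⟩ : (((S.erase a).erase b).erase k).Nonempty := Finset.card_pos.1 (by
    have h1 := Finset.pred_card_le_card_erase (a := k) (s := (S.erase a).erase b)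
    rw [Finset.card_erase_of_mem hbS, Finset.card_erase_of_mem haS] at h1
    omega)
  obtain ⟨hck, hcS⟩ := Finset.mem_erase.1 hcS
  obtain ⟨hcb, hca'⟩ := Finset.mem_erase.1 hcS
  obtain ⟨hca, hcS'⟩ := Finset.mem_erase.1 hca'
  obtain ⟨w, hw, hc, ew, hw1, hic⟩ := elem c hcS'
  have hab : a < b := lt_of_le_of_ne (hamin b hbS') (Ne.symm hba)
  have hbc : b < c := lt_of_le_of_ne (hbmin c hca') (Ne.symm hcb)
  have hxy : x ≠ y := fun e => hab.ne (el_inj ha hb (by rw [ex, ey, e]))
  have hxw : x ≠ w := fun e => hca.symm (el_inj ha hc (by rw [ex, ew, e]))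
  have hyw : y ≠ w := fun e => hbc.ne (el_inj hb hc (by rw [ey, ew, e]))
  have pa := (el_data ha).1
  have pb := (el_data hb).1
  have pc := (el_data hc).1
  have hwxy : w ≠ x * y := fun e => hck (el_inj hc (mem_idxSet.1 hk0).1 (by rw [ew, e, hk]))
  have hcomm : ∀ p ∈ D, ∀ q ∈ D, p * q = q * p := fun p hp q hq => by
    calc p * q = (p * q)⁻¹ := eq_inv_of_mul_eq_one_left (hD.sq _ (mul_mem hp hq))
      _ = q * p := by
        rw [mul_inv_rev, ← eq_inv_of_mul_eq_one_left (hD.sq p hp), ← eq_inv_of_mul_eq_one_left (hD.sq q hq)]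
  have tab : ∀ i, i < 256 → i ≠ 0 → mInv.testBit i = true → ∃ f, (i, f) ∈ invTab ∧ fixMask (el i) = f := by
    intro i hi hi0 hm
    have h := List.all_eq_true.1 invTab_ok.1 i (List.mem_range.2 hi)
    simp only [invRow, Bool.or_eq_true, beq_iff_eq, hi0, false_or, hm] at h
    obtain ⟨p, hp, e⟩ := List.any_eq_true.1 h.symm
    rw [beq_iff_eq] at e
    have h2 := List.all_eq_true.1 invTab_ok.2 p hp
    rw [beq_iff_eq, e] at h2
    exact ⟨p.2, e ▸ hp, h2⟩
  obtain ⟨fa, hfa, efa⟩ := tab a ha (Finset.mem_erase.1 haS).1 hia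
  obtain ⟨fb, hfb, efb⟩ := tab b hb (Finset.mem_erase.1 hbS').1 hib
  obtain ⟨fc, hfc, efc⟩ := tab c hc (Finset.mem_erase.1 hcS').1 hic
  have hcm : ∀ {i j : ℕ} {p q : ↥Gam}, i < 256 → j < 256 → permOf (el i) = (p : Equiv.Perm GolayPt) →
      permOf (el j) = (q : Equiv.Perm GolayPt) → p * q = q * p → (cmask i).testBit j = true := fun hi hj ep eq h =>
    (cmask_iff hi hj).2 (by rw [ep, eq]; exact congrArg Subtype.val h)
  have h := List.all_eq_true.1 trip_ok _ hfa
  simp only [tripRow, List.all_eq_true, Bool.or_eq_true, Bool.not_eq_true', Bool.and_eq_false_iff, beq_iff_eq] at h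
  have sa := fixSpec_code pa ex
  have sb := fixSpec_code pb ey
  have sc := fixSpec_code pc ew
  rw [efa] at sa
  rw [efb] at sb
  rw [efc] at sc
  have e1 : x * y ≠ 1 := fun e => hxy (by rw [eq_inv_of_mul_eq_one_left e, ← eq_inv_of_mul_eq_one_left (hD.sq y hy)])
  have e2 : x * w ≠ 1 := fun e => hxw (by rw [eq_inv_of_mul_eq_one_left e, ← eq_inv_of_mul_eq_one_left (hD.sq w hw)])
  have e3 : y * w ≠ 1 := fun e => hyw (by rw [eq_inv_of_mul_eq_one_left e, ← eq_inv_of_mul_eq_one_left (hD.sq w hw)])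
  rcases h (b, fb) hfb with (hf | hf) | h
  · rcases hf with hf | hf
    · exact absurd (Nat.ble_eq.mpr hab) (by simp only [Nat.blt] at hf; rw [hf]; simp)
    · exact absurd (hcm ha hb ex ey (hcomm x hx y hy)) (by simp only at hf; rw [hf]; simp)
  · exact (apart_false hD hx hy hx1 hy1 hxy sa (show FixSpec fa y by rw [show fa = fb from hf]; exact sb)).elim
  rcases h (c, fc) hfc with ((((hf | hf | hf) | hf) | hf) | hf) | hrest
  · exact absurd (Nat.ble_eq.mpr hbc) (by simp only [Nat.blt] at hf; rw [hf]; simp)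
  · exact absurd (hcm ha hc ex ew (hcomm x hx w hw)) (by simp only at hf; rw [hf]; simp)
  · exact absurd (hcm hb hc ey ew (hcomm y hy w hw)) (by simp only at hf; rw [hf]; simp)
  · exact (apart_false hD hx hw hx1 hw1 hxw sa (show FixSpec fa w by rw [show fa = fc from hf]; exact sc)).elim
  · exact (apart_false hD hy hw hy1 hw1 hyw sb (show FixSpec fb w by rw [show fb = fc from hf]; exact sc)).elim
  · refine absurd ?_ hwxy
    refine Subtype.ext ?_
    rw [coe_mul, ← ex, ← ey, ← ew]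
    exact (permOf_permMulCode pa pb pc hf).symm
  simp only [tripRest, Bool.or_eq_true, beq_iff_eq, List.any_eq_true, Bool.and_eq_true] at hrest
  rcases hrest with (((hf | hf) | hf) | hf) | ⟨v, hv, hva, hvb, hvc⟩
  · refine (apart_false hD hx (mul_mem hy hw) hx1 e3 (fun e => hwxy ?_) sa
      (by rw [← hf]; exact fixSpec_prod pb pc ey ew)).elim
    rw [hcomm x hx y hy, e, ← mul_assoc, hD.sq y hy, one_mul]
  · refine (apart_false hD hy (mul_mem hx hw) hy1 e2 (fun e => hwxy ?_) sb
      (by rw [← hf]; exact fixSpec_prod pa pc ex ew)).elim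
    rw [e, ← mul_assoc, hD.sq x hx, one_mul]
  · exact (apart_false hD hw (mul_mem hx hy) hw1 e1 hwxy sc (by rw [← hf]; exact fixSpec_prod pa pb ex ey)).elim
  · exact (apart_false hD (mul_mem hx hy) (mul_mem hx hw) e1 e2 (fun e => hyw (mul_left_cancel e))
      (fixSpec_prod pa pb ex ey) (by rw [hf]; exact fixSpec_prod pa pc ex ew)).elim
  · have hvG : isPermCode v = true ∧ permOf v ∈ Gam := by
      simp only [List.mem_cons, List.not_mem_nil, or_false] at hv
      rcases hv with rfl | rfl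
      exacts [gamCode_mem move_ok.2, gamCode_mem move_ok.1]
    set g : ↥Gam := ⟨permOf v, hvG.2⟩ with hg
    refine ⟨g, fun u => ?_⟩
    have into : ∀ {i : ℕ} {p : ↥Gam}, i < 256 → permOf (el i) = (p : Equiv.Perm GolayPt) → intoSpread v i = true →
        g * p * g⁻¹ ∈ D22 := by
      intro i p hi e hh
      simp only [intoSpread, List.any_eq_true] at hh
      obtain ⟨d, hd, htw⟩ := hh
      refine ⟨d, hd, ?_⟩
      rw [coe_mul, coe_mul, coe_inv, ← e]
      exact (conj_eq_of_twine hvG.1 (el_data hi).1 (el_data (spreadList_data hd).1).1 htw).symm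
    set K := D ⊓ D22.comap (MulAut.conj g).toMonoidHom with hK
    have hKeq : K = D := by
      refine eq_of_le_of_card_ge inf_le_left ?_
      have hxK : x ∈ K := ⟨hx, into ha ex hva⟩
      have hyK : y ∈ K := ⟨hy, into hb ey hvb⟩
      have hwK : w ∈ K := ⟨hw, into hc ew hvc⟩
      have hsub : (({1, x, y, x * y, w} : Finset ↥Gam) : Set ↥Gam) ⊆ (K : Set ↥Gam) := by
        intro p hp
        simp only [Finset.coe_insert, Finset.coe_singleton, Set.mem_insert_iff, Set.mem_singleton_iff] at hp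
        rcases hp with rfl | rfl | rfl | rfl | rfl
        exacts [one_mem _, hxK, hyK, mul_mem hxK hyK, hwK]
      have h5 : ({1, x, y, x * y, w} : Finset ↥Gam).card = 5 := by
        simp [Ne.symm hx1, Ne.symm hy1, Ne.symm e1, Ne.symm hw1, hxy, hxw, hyw, Ne.symm hwxy, hx1, hy1]
      have hle := Set.ncard_le_ncard hsub (Set.toFinite _)
      rw [Set.ncard_coe_finset, h5, ← Nat.card_coe_set_eq] at hle
      have hle' : 5 ≤ Nat.card ↥K := hle
      have hd : Nat.card ↥K ∣ 8 := hD.card ▸ card_dvd_of_le inf_le_left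
      have := Nat.le_of_dvd (by norm_num) hd
      rw [hD.card]
      interval_cases hn : Nat.card ↥K <;> omega
    have hle : D.map (MulAut.conj g).toMonoidHom ≤ D22 := by
      rintro _ ⟨p, hp, rfl⟩
      exact (hKeq.ge hp).2
    have he : D.map (MulAut.conj g).toMonoidHom = D22 :=
      eq_of_le_of_card_ge hle (by rw [card_map_of_injective (MulEquiv.injective _), hD.card, card_D22])
    rw [← he]
    exact isConjugateBy_map g D u

theorem spread_conj_D22 {D : Subgroup ↥Gam} (hD : Spread J22 I22 D) : ∃ h : ↥Gam, IsConjugateBy h D D22 := by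
  obtain ⟨g, hg⟩ := exists_conj_le (isPGroup_of_ea (ea_of (fun a ha b hb => by
    calc a * b = (a * b)⁻¹ := eq_inv_of_mul_eq_one_left (hD.sq _ (mul_mem ha hb))
      _ = b * a := by
        rw [mul_inv_rev, ← eq_inv_of_mul_eq_one_left (hD.sq a ha), ← eq_inv_of_mul_eq_one_left (hD.sq b hb)]) hD.sq))
  have hc := isConjugateBy_map g D
  obtain ⟨h, hh⟩ := spread_in_SY (spread_of_conj hD hc) (by rintro _ ⟨x, hx, rfl⟩; exact hg x hx)
  exact ⟨h * g, hc.trans hh⟩

theorem card_normalizer_conj {D D' : Subgroup ↥Gam} {g : ↥Gam} (h : IsConjugateBy g D D') :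
    Nat.card ↥(normalizer (D' : Set ↥Gam)) = Nat.card ↥(normalizer (D : Set ↥Gam)) := by
  have e : D.map (MulAut.conj g).toMonoidHom = D' := by
    ext x
    rw [mem_map_equiv, MulAut.conj_symm_apply]
    exact (h x).symm
  rw [← e, ← card_map_of_injective (K := normalizer (D : Set ↥Gam))
    (f := (MulAut.conj g).toMonoidHom) (MulEquiv.injective _)]
  exact congrArg (fun K : Subgroup ↥Gam => Nat.card ↥K) (map_equiv_normalizer_eq D (MulAut.conj g)).symm

theorem card_norm_D22_ge : 2688 ≤ Nat.card ↥(normalizer (D22 : Set ↥Gam)) := by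
  have hnorm : ∀ i < 33, normSpread (arrGet 120 spreadW i) = true := fun i hi => by
    rcases Nat.lt_or_ge i 16 with h | h
    · exact List.all_eq_true.1 spread_norm_ok0 i (List.mem_range'_1.2 ⟨Nat.zero_le _, by omega⟩)
    · exact List.all_eq_true.1 spread_norm_ok1 i (List.mem_range'_1.2 ⟨h, by omega⟩)
  have data : ∀ i < 33, ∃ x ∈ normalizer (D22 : Set ↥Gam), (x : Equiv.Perm GolayPt) = permOf (arrGet 120 spreadW i) ∧
      isPermCode (arrGet 120 spreadW i) = true := by
    intro i hi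
    have h := hnorm i hi
    simp only [normSpread, Bool.and_eq_true, List.all_eq_true, List.any_eq_true] at h
    obtain ⟨hG, htw⟩ := h
    obtain ⟨hc, hcG⟩ := gamCode_mem hG
    refine ⟨⟨_, hcG⟩, isConjugateBy_self_iff.1 (conj_self_of_le fun p hp => ?_), rfl, hc⟩
    obtain ⟨j, hj, ej⟩ := hp
    obtain ⟨d, hd, h⟩ := htw j hj
    refine ⟨d, hd, ?_⟩
    rw [coe_mul, coe_mul, coe_inv, ← ej]
    exact (conj_eq_of_twine hc (el_data (spreadList_data hj).1).1 (el_data (spreadList_data hd).1).1 h).symm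
  obtain ⟨hlev, hprod⟩ := spread_levels
  rw [← hprod]
  refine (le_card_of_levelsCheck hlev (fun i hi => (data i hi).choose_spec.2.2)
    (K := (normalizer (D22 : Set ↥Gam)).map Gam.subtype) fun i hi => ?_).trans
    (le_of_eq (card_map_of_injective Gam.subtype_injective))
  obtain ⟨x, hx, e, -⟩ := data i hi
  exact ⟨x, hx, e⟩

theorem card_norm_D22_le : Nat.card ↥(normalizer (D22 : Set ↥Gam)) ≤ 2688 := by
  classical
  obtain ⟨hrows, hgens, h0, hsort, hlt⟩ := orb_ok
  have hmem : ∀ k < 330, ∃ g : ↥Gam, (g : Equiv.Perm GolayPt) • pts mOD = pts (arrGet 24 orbMasks k) := by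
    intro k
    induction k using Nat.strong_induction_on with
    | _ k ih =>
      intro hk
      have h := List.all_eq_true.1 hrows k (List.mem_range.2 hk)
      simp only [orbRow, Bool.or_eq_true, beq_iff_eq, Bool.and_eq_true, decide_eq_true_eq] at h
      rcases h with rfl | ⟨hp, hgi, e⟩
      · exact ⟨1, by rw [coe_one, one_smul, h0]⟩
      · obtain ⟨g, hg⟩ := ih _ hp (hp.trans hk)
        have hc := List.all_eq_true.1 hgens (orbGens.getD (arrGet 16 orbPar k / 1024) 0) (by
          rw [List.getD_eq_getElem _ _ hgi]; exact List.getElem_mem _)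
        obtain ⟨hcp, hcG⟩ := gamCode_mem hc
        refine ⟨⟨_, hcG⟩ * g, ?_⟩
        rw [coe_mul, mul_smul, hg, smul_pts hcp, e]
  set X := (orbit ↥Gam (pts mOD) : Set (Finset GolayPt)) with hX
  have hinj : Set.InjOn (fun n => pts (arrGet 24 orbMasks (arrGet 16 orbOrd n))) (Finset.range 330 : Set ℕ) := by
    intro m hm n hn e
    rw [Finset.coe_range, Set.mem_Iio] at hm hn
    have h24 : ∀ i, arrGet 24 orbMasks i < 2 ^ 24 := fun i => by
      rw [arrGet]; exact Nat.lt_of_le_of_lt Nat.and_le_right (by norm_num)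
    have he := pts_inj (h24 _) (h24 _) e
    by_contra hne
    have mono : ∀ i j, i < j → j < 330 →
        arrGet 24 orbMasks (arrGet 16 orbOrd i) < arrGet 24 orbMasks (arrGet 16 orbOrd j) := by
      intro i j hij hj
      induction j with
      | zero => omega
      | succ j ih =>
        have h := List.all_eq_true.1 hsort j (List.mem_range.2 (by omega))
        rw [decide_eq_true_eq] at h
        rcases Nat.lt_or_ge i j with h' | h'
        · exact (ih h' (by omega)).trans h
        · rwa [show i = j by omega]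
    rcases Nat.lt_or_ge m n with h | h
    · exact (mono m n h hn).ne he
    · exact (mono n m (by omega) hm).ne he.symm
  have h330 : 330 ≤ X.ncard := by
    refine le_trans ?_ (Set.ncard_le_ncard (s := (fun n => pts (arrGet 24 orbMasks (arrGet 16 orbOrd n))) ''
      (Finset.range 330 : Set ℕ)) ?_ (Set.toFinite _))
    · rw [hinj.ncard_image, Set.ncard_coe_finset, Finset.card_range]
    · rintro _ ⟨n, hn, rfl⟩
      rw [Finset.coe_range, Set.mem_Iio] at hn
      obtain ⟨g, hg⟩ := hmem _ (by simpa using List.all_eq_true.1 hlt n (List.mem_range.2 hn))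
      exact ⟨g, hg⟩
  have hle : normalizer (D22 : Set ↥Gam) ≤ stabilizer ↥Gam (pts mOD) := by
    intro g hg
    rw [mem_stabilizer_iff]
    have hfree : ∀ p, p ∈ pts mOD ↔ ∀ y ∈ D22, y ≠ 1 → (y : Equiv.Perm GolayPt) p ≠ p := by
      intro p
      have hb := List.all_eq_true.1 oct_free.1 (ptIdx p) (List.mem_range.2 (ptIdx_lt p))
      rw [beq_iff_eq] at hb
      rw [mem_pts, hb, List.all_eq_true]
      constructor
      · rintro h y ⟨i, hi, e⟩ hy1 hfix
        have h' := h i hi
        simp only [Bool.or_eq_true, beq_iff_eq, Bool.not_eq_true', beq_eq_false_iff_ne] at h'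
        rcases h' with rfl | h'
        · refine hy1 (Subtype.ext ?_)
          rw [← e, show el 0 = idPacked by decide +kernel, permOf_idPacked, coe_one]
        · refine h' ((fix_iff (el_data (spreadList_data hi).1).1 (ptIdx_lt p)).1 ?_)
          rw [idxPt_ptIdx, e]
          exact hfix
      · intro h i hi
        simp only [Bool.or_eq_true, beq_iff_eq, Bool.not_eq_true', beq_eq_false_iff_ne]
        by_cases h0' : i = 0
        · exact Or.inl h0'
        · refine Or.inr fun e => ?_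
          have hlt := (spreadList_data hi).1
          refine h ⟨_, (el_data hlt).2.2.1⟩ ⟨i, hi, rfl⟩ (fun e' => h0' (el_inj hlt (by norm_num) ?_)) ?_
          · rw [show el 0 = idPacked by decide +kernel, permOf_idPacked]
            exact congrArg Subtype.val e'
          · show permOf (el i) p = p
            rw [← idxPt_ptIdx p]
            exact (fix_iff (el_data hlt).1 (ptIdx_lt p)).2 e
    refine Finset.eq_of_subset_of_card_le (fun q hq => ?_) (le_of_eq (Finset.card_smul_finset _ _).symm)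
    obtain ⟨p, hp, rfl⟩ := Finset.mem_smul_finset.1 hq
    refine (hfree _).2 fun y hy hy1 hfix => (hfree p).1 hp (g⁻¹ * y * g) ((mem_normalizer_iff''.1 hg y).1 hy)
      (fun e => hy1 (by rwa [mul_assoc, inv_mul_eq_one, right_eq_mul] at e)) ?_
    rw [coe_mul, coe_mul, coe_inv, Equiv.Perm.mul_apply, Equiv.Perm.mul_apply, Equiv.Perm.inv_eq_iff_eq]
    exact hfix
  refine (card_le_of_le hle).trans ?_
  have h := (stabilizer ↥Gam (pts mOD)).card_mul_index
  rw [index_stabilizer, card_Gam] at h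
  have h' : Nat.card ↥(stabilizer ↥Gam (pts mOD)) * X.ncard = 887040 := h
  by_contra hcon
  have : 2689 * 330 ≤ Nat.card ↥(stabilizer ↥Gam (pts mOD)) * X.ncard := Nat.mul_le_mul (by omega) h330
  omega

theorem spreadFacts22 : SpreadFacts J22 I22 where
  conj D D' hD hD' := by
    obtain ⟨g, hg⟩ := spread_conj_D22 hD
    obtain ⟨h, hh⟩ := spread_conj_D22 hD'
    exact ⟨h⁻¹ * g, hg.trans hh.symm'⟩
  card_norm D hD := by
    obtain ⟨g, hg⟩ := spread_conj_D22 hD
    rw [← card_normalizer_conj hg]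
    exact le_antisymm card_norm_D22_le card_norm_D22_ge

end CfsgLib.Spor.JFourType
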