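import Cfsg.Agent.Lib.Spor.JFourType.APoint

/-!
# Fusion of the eight-group in the centralizer of an element of order five

A 2-group of order `2 ^ 18` centralizes the eight-group, so each of its conjugates carrying a nontrivial member to `z`
lies in the core.
-/

set_option autoImplicit false
set_option linter.style.haveILetI false

namespace CfsgLib.Spor.JFourType.Ctx

open Subgroup

universe u

variable {G : Type u} [Group G] [Finite G] {A : Type} [Group A] {J I R : Subgroup A}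
  {z : G} {P : Subgroup G} (c : Ctx J I R z P)
include c

/-- The data for the centralizer of an element of order five. -/
structure FiveFull (x n s : G) : Prop where
  base : c.FiveCtx x n
  card_cent : Nat.card ↥(centralizer ({c.im x} : Set A)) = 10
  card_NR : Nat.card ↥(normalizer (R : Set A) ⊓ J) = 1920
  s_mem : s ∈ c.H
  s_comm : s * x = x * s
  s_out : s ∉ c.M

/-- A two-element of `M` keeping a fixed line of order four fixes it. -/
theorem fix_line_of_two {g : G} (hg : g ∈ c.M) {a : ℕ} (ha : g ^ 2 ^ a = 1) {K : AddSubgroup c.Vs}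
    (hom : ∀ v ∈ K, c.om v ∈ K) (h4 : Nat.card ↥K ≤ 4) (hK : ∀ v ∈ K, c.act g v ∈ K) {v : c.Vs} (hv : v ∈ K) :
    c.act g v = v := by
  have hgH := c.H_of_M hg
  by_cases hv0 : v = 0
  · rw [hv0, map_zero]
  have hne : c.act g v ≠ 0 := fun h => hv0 (c.act_injective hgH (h.trans (map_zero _).symm))
  have hne1 : c.om v ≠ v := fun h => hv0 (c.om_fixed h)
  have hne2 : c.om (c.om v) ≠ v := fun h => hne1 (by
    have e := congrArg c.om h
    rw [c.om_cube] at e
    exact e.symm)
  -- otherwise the powers of the element move the vector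
  have key : c.act g v = c.om v ∨ c.act g v = c.om (c.om v) → False := by
    intro h
    have hpow : ∀ k, c.act (g ^ 2 ^ k) v = c.om v ∨ c.act (g ^ 2 ^ k) v = c.om (c.om v) := by
      intro k
      induction k with
      | zero => simpa using h
      | succ k ih =>
        have hp := pow_mem hgH (2 ^ k)
        rw [pow_succ, pow_mul, pow_two, c.act_apply_mul hp hp]
        rcases ih with e | e
        · right; rw [e, c.om_M (pow_mem hg _), e]
        · left; rw [e, c.om_M (pow_mem hg _), c.om_M (pow_mem hg _), e, c.om_cube]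
    rcases hpow a with e | e <;> rw [ha, c.act_one] at e
    · exact hne1 e.symm
    · exact hne2 e.symm
  rcases c.eq_or_of_card_four hom h4 hv hv0 (hK v hv) with h | h | h | h
  exacts [absurd h hne, h, absurd (Or.inl h) key, absurd (Or.inr h) key]

/-- A two-group fixing the image of an element of the core has a subgroup of index at most two centralizing it. -/
theorem card_inf_centralizer {S : Subgroup G} (hS : S ≤ c.H) {e : G} (he : e ∈ c.E)
    (hfix : ∀ g ∈ S, c.act g (c.pv e) = c.pv e) :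
    Nat.card ↥S ≤ 2 * Nat.card ↥(S ⊓ centralizer ({e} : Set G)) := by
  have hzz : ∀ g ∈ S, g * e * g⁻¹ * e⁻¹ ∈ zpowers z := by
    intro g hg
    have h := hfix g hg
    rw [← c.pv_conj (hS hg) he] at h
    rcases (c.pv_eq_iff (c.conj_E (hS hg) he) he).1 h with h | h
    · rw [h, mul_inv_cancel]; exact one_mem _
    · rw [h, mul_inv_cancel_right]; exact mem_zpowers z
  let f : ↥S →* ↥(zpowers z) :=
    { toFun := fun g => ⟨(g : G) * e * (g : G)⁻¹ * e⁻¹, hzz g g.2⟩
      map_one' := Subtype.ext (by simp)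
      map_mul' := fun g h => Subtype.ext (by
        show (g : G) * h * e * ((g : G) * h)⁻¹ * e⁻¹ = (g : G) * e * (g : G)⁻¹ * e⁻¹ * ((h : G) * e * (h : G)⁻¹ * e⁻¹)
        have hc : ∀ w ∈ zpowers z, ∀ t ∈ c.H, t * w = w * t := fun w hw t ht => by
          obtain ⟨k, rfl⟩ := mem_zpowers_iff.1 hw
          exact ((show Commute t z from c.comm_z ht).zpow_right k).eq
        set q := (h : G) * e * (h : G)⁻¹ * e⁻¹ with hq
        have hgq := hc q (hzz h h.2) g (hS g.2)
        have hqg := hc q (hzz h h.2) ((g : G) * e * (g : G)⁻¹ * e⁻¹)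
          (mul_mem (mul_mem (mul_mem (hS g.2) (c.E_le he)) (inv_mem (hS g.2))) (inv_mem (c.E_le he)))
        calc (g : G) * h * e * ((g : G) * h)⁻¹ * e⁻¹ = (g : G) * q * (e * (g : G)⁻¹ * e⁻¹) := by rw [hq]; group
          _ = q * ((g : G) * e * (g : G)⁻¹ * e⁻¹) := by rw [hgq]; group
          _ = _ := hqg.symm) }
  have hker : Nat.card ↥f.ker ≤ Nat.card ↥(S ⊓ centralizer ({e} : Set G)) := by
    refine Nat.card_le_card_of_injective (fun w : ↥f.ker =>
      (⟨((w : ↥S) : G), (w : ↥S).2, mem_centralizer_singleton_iff.2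
        (mul_inv_eq_iff_eq_mul.1 (mul_inv_eq_one.1 (congrArg Subtype.val w.2)))⟩ :
        ↥(S ⊓ centralizer ({e} : Set G)))) ?_
    intro u v h
    exact Subtype.ext (Subtype.ext (congrArg Subtype.val h :))
  have h := f.ker.card_mul_index
  have hi : f.ker.index ≤ 2 := by
    rw [Subgroup.index_ker, ← c.zpowers_z_card]
    exact Nat.card_le_card_of_injective _ f.range.subtype_injective
  rw [← h, mul_comm]
  exact Nat.mul_le_mul hi hker

variable {c} {x n s : G}

theorem FiveFull.xH (f : c.FiveFull x n s) : x ∈ c.H := f.base.data.xH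

/-- A two-group of order `2 ^ 18` centralizing the eight-group. -/
theorem FiveFull.exists_big (f : c.FiveFull x n s) (hS : c.Split) :
    ∃ T : Subgroup G, T ≤ c.H ∧ IsPGroup 2 ↥T ∧ 2 ^ 18 ≤ Nat.card ↥T ∧
      ∀ t ∈ T, ∀ a ∈ c.lift c.KR, t * a = a * t := by
  classical
  haveI : Fact (Nat.Prime 2) := ⟨Nat.prime_two⟩
  haveI := c.finite_A
  set K := c.pre (normalizer (R : Set A) ⊓ J) with hKdef
  obtain ⟨Q⟩ := (inferInstance : Nonempty (Sylow 2 ↥K))
  set S : Subgroup G := (Q : Subgroup ↥K).map K.subtype with hSdef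
  have hS20 : Nat.card ↥S = 2 ^ 20 := by
    rw [hSdef, ← Nat.card_congr (equivMapOfInjective _ _ K.subtype_injective).toEquiv, Sylow.card_eq_multiplicity]
    congr 1
    rw [hKdef, c.card_pre, f.card_NR, show 3 * 2 ^ 13 * 1920 = 2 ^ 20 * 45 by norm_num,
      Nat.factorization_mul (by norm_num) (by norm_num), Finsupp.add_apply, Nat.Prime.factorization_pow Nat.prime_two,
      Nat.factorization_eq_zero_of_not_dvd (by norm_num : ¬ 2 ∣ 45)]
    simp
  have hSK : S ≤ K := map_subtype_le _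
  have hSH : S ≤ c.H := hSK.trans (c.pre_le _)
  have hSp : IsPGroup 2 ↥S := IsPGroup.of_card (n := 20) hS20
  have hfix : ∀ g ∈ S, ∀ v ∈ c.KR, c.act g v = v := by
    intro g hg v hv
    obtain ⟨hgH, hgi⟩ := c.mem_pre.1 (hSK hg)
    obtain ⟨a, ha⟩ := c.exists_two_pow hSp hg
    exact c.fix_line_of_two (c.mem_M.2 ⟨hgH, by rw [← c.im_eq]; exact hgi.2⟩) ha (fun w hw => c.KR_om hw)
      c.card_KR.le (fun w hw => c.KR_invariant hgH hgi.1 hw) hv
  obtain ⟨u, hu, huz, hu1, -, huK⟩ := f.base.exists_point hS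
  set u' := c.pg * u * c.pg⁻¹ with hu'
  have hu'E : u' ∈ c.E := c.conj_E c.pg_H hu
  have hu'v : c.pv u' = c.om (c.pv u) := c.pv_conj c.pg_H hu
  set T := S ⊓ centralizer ({u} : Set G) ⊓ centralizer ({u'} : Set G) with hT
  have hTS : T ≤ S := inf_le_left.trans inf_le_left
  have hbig : 2 ^ 18 ≤ Nat.card ↥T := by
    have h1 := c.card_inf_centralizer hSH hu fun g hg => hfix g hg _ huK
    have h2 := c.card_inf_centralizer (S := S ⊓ centralizer ({u} : Set G)) (inf_le_left.trans hSH) hu'E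
      fun g hg => hfix g hg.1 _ (by rw [hu'v]; exact c.KR_om huK)
    rw [hS20] at h1
    rw [hT]
    omega
  refine ⟨T, hTS.trans hSH, hSp.to_le hTS, hbig, fun t ht a ha => ?_⟩
  have htz : t * z = z * t := c.comm_z (hSH (hTS ht))
  have htu : t * u = u * t := mem_centralizer_singleton_iff.1 ht.1.2
  have htu' : t * u' = u' * t := mem_centralizer_singleton_iff.1 ht.2
  have hv0 : c.pv u ≠ 0 := fun h => by
    rcases (c.pv_eq_zero hu).1 h with h' | h'
    exacts [hu1 h', huz h']
  have hzmul : ∀ b ∈ c.E, t * b = b * t → c.pv a = c.pv b → t * a = a * t := by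
    intro b hb htb hab
    rcases (c.pv_eq_iff ha.1 hb).1 hab with rfl | rfl
    · exact htb
    · exact ((show Commute t z from htz).mul_right htb).eq
  rcases c.eq_or_of_card_four (K := c.KR) (fun v hv => c.KR_om hv) c.card_KR.le huK hv0 ha.2 with h | h | h | h
  · exact hzmul 1 (one_mem _) (by rw [mul_one, one_mul]) (h.trans c.pv_one.symm)
  · exact hzmul u hu htu h
  · exact hzmul u' hu'E htu' (h.trans hu'v.symm)
  · refine hzmul (u * u') (mul_mem hu hu'E) ((show Commute t u from htu).mul_right htu').eq (h.trans ?_)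
    rw [c.pv_mul hu hu'E, hu'v, c.om_two]

/-- Some element of `H` raises `x` to a given power of two. -/
theorem FiveCtx.exists_aut (f : c.FiveCtx x n) (j : ℕ) : ∃ h ∈ c.H, h * x * h⁻¹ = x ^ 2 ^ j := by
  have hn := f.data.n_mem.1
  have hconj : ∀ k : ℕ, c.im n ^ k * c.im x * (c.im n ^ k)⁻¹ = c.im x ^ 2 ^ k := by
    intro k
    induction k with
    | zero => simp
    | succ k ih =>
      calc c.im n ^ (k + 1) * c.im x * (c.im n ^ (k + 1))⁻¹
          = c.im n * (c.im n ^ k * c.im x * (c.im n ^ k)⁻¹) * (c.im n)⁻¹ := by rw [pow_succ']; group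
        _ = (c.im n * c.im x * (c.im n)⁻¹) ^ 2 ^ k := by rw [ih, conj_pow]
        _ = _ := by rw [f.data.conj, ← pow_mul, pow_succ' 2 k]
  obtain ⟨k, hk, -, he⟩ := c.exists_adjust (p := 5) (by norm_num) (by norm_num) f.data.xH (pow_mem hn j) f.ord_x
    (by rw [c.im_pow hn]; exact hconj j)
  exact ⟨k * n ^ j, mul_mem hk (pow_mem hn j), he⟩

/-- All generators are conjugate in `H`. -/
theorem FiveCtx.exists_back (f : c.FiveCtx x n) {i : ℕ} (hi : ¬ 5 ∣ i) : ∃ h ∈ c.H, h * x ^ i * h⁻¹ = x := by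
  have hj : ∃ j < 4, i % 5 * 2 ^ j % 5 = 1 := by
    have hlt : i % 5 < 5 := Nat.mod_lt _ (by norm_num)
    have h0 : i % 5 ≠ 0 := fun h => hi (Nat.dvd_of_mod_eq_zero h)
    revert hlt h0
    generalize i % 5 = r
    intro hlt h0
    interval_cases r
    exacts [absurd rfl h0, ⟨0, by norm_num, rfl⟩, ⟨3, by norm_num, rfl⟩, ⟨1, by norm_num, rfl⟩, ⟨2, by norm_num, rfl⟩]
  obtain ⟨j, -, hj⟩ := hj
  obtain ⟨h, hh, he⟩ := f.exists_aut j
  refine ⟨h, hh, ?_⟩
  rw [← conj_pow, he, ← pow_mul]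
  nth_rewrite 2 [← pow_one x]
  rw [pow_eq_pow_iff_modEq, f.ord_x]
  show 2 ^ j * i % 5 = 1 % 5
  rw [show 1 % 5 = 1 from rfl, ← hj, mul_comm, Nat.mul_mod, Nat.mul_mod (i % 5) (2 ^ j), Nat.mod_mod]

/-- The centralizer of `x` in `H` normalizes the eight-group. -/
theorem FiveFull.conj_mem (f : c.FiveFull x n s) (hS : c.Split) {h : G} (hh : h ∈ c.H) (hx : h * x = x * h) {a : G}
    (ha : a ∈ c.lift c.KR) : h * a * h⁻¹ ∈ c.lift c.KR := by
  rcases (f.base.mem_iff hS).1 ha with rfl | ⟨haE, hac, hax⟩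
  · rw [mul_one, mul_inv_cancel]; exact one_mem _
  · refine (f.base.mem_iff hS).2 (Or.inr ⟨c.conj_E hh haE, hac.trans (isConj_iff.2 ⟨h, rfl⟩), ?_⟩)
    have c1 : Commute x h := hx.symm
    exact ((c1.mul_right hax).mul_right c1.inv_right).eq

/-- Every nontrivial member is carried to `z` by an element of the centralizer of `x` keeping the eight-group. -/
theorem FiveFull.exists_fusion (f : c.FiveFull x n s) (hS : c.Split) {a : G} (ha : a ∈ c.lift c.KR) (h1 : a ≠ 1) :
    ∃ g : G, g * x = x * g ∧ g * a * g⁻¹ = z ∧ ∀ b ∈ c.lift c.KR, g * b * g⁻¹ ∈ c.lift c.KR := by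
  obtain ⟨g₀, hg₀⟩ := isConj_iff.1 (f.base.isConj_of_mem hS ha h1).symm
  have hxa : x * a = a * x := ((f.base.mem_iff hS).1 ha).resolve_left h1 |>.2.2
  set y := g₀ * x * g₀⁻¹ with hy
  have hyH : y ∈ c.H := mem_centralizer_singleton_iff.2 (by
    rw [hy, ← hg₀]
    calc g₀ * x * g₀⁻¹ * (g₀ * a * g₀⁻¹) = g₀ * (x * a) * g₀⁻¹ := by group
      _ = g₀ * (a * x) * g₀⁻¹ := by rw [hxa]
      _ = _ := by group)
  have hyo : orderOf y = 5 := by
    rw [hy, show g₀ * x * g₀⁻¹ = MulAut.conj g₀ x from rfl, MulEquiv.orderOf_eq, f.base.ord_x]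
  obtain ⟨h, hh, i, hi, hi5⟩ := c.conj_prime (p := 5) (by norm_num) (by norm_num) (by norm_num) f.xH hyH
    f.base.ord_x hyo
  obtain ⟨h', hh', hb⟩ := f.base.exists_back hi5
  set g := h' * h * g₀ with hg
  have hgx' : g * x * g⁻¹ = x := by
    rw [hg]
    calc h' * h * g₀ * x * (h' * h * g₀)⁻¹ = h' * (h * y * h⁻¹) * h'⁻¹ := by rw [hy]; group
      _ = x := by rw [hi, hb]
  have hgx : g * x = x * g := mul_inv_eq_iff_eq_mul.1 hgx'
  have hga : g * a * g⁻¹ = z := by
    rw [hg]
    calc h' * h * g₀ * a * (h' * h * g₀)⁻¹ = (h' * h) * (g₀ * a * g₀⁻¹) * (h' * h)⁻¹ := by group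
      _ = (h' * h) * z * (h' * h)⁻¹ := by rw [hg₀]
      _ = z := by rw [c.comm_z (mul_mem hh' hh), mul_inv_cancel_right]
  refine ⟨g, hgx, hga, fun b hb => ?_⟩
  by_cases hb1 : b = 1
  · rw [hb1, mul_one, mul_inv_cancel]; exact one_mem _
  obtain ⟨T, hTH, hTp, hTbig, hTc⟩ := f.exists_big hS
  have hab : a * b = b * a := by
    haveI := (f.base.elementary hS).1
    exact congrArg Subtype.val (mul_comm' (⟨a, ha⟩ : ↥(c.lift c.KR)) ⟨b, hb⟩)
  have htoH : ∀ t, t * a = a * t → g * t * g⁻¹ ∈ c.H := fun t ht => mem_centralizer_singleton_iff.2 (by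
    rw [← hga]
    calc g * t * g⁻¹ * (g * a * g⁻¹) = g * (t * a) * g⁻¹ := by group
      _ = g * (a * t) * g⁻¹ := by rw [ht]
      _ = _ := by group)
  have hsq : b * b = 1 := by rw [← pow_two]; exact (f.base.elementary hS).2 b hb
  set T' := T.map (MulAut.conj g).toMonoidHom with hT'
  have hE : g * b * g⁻¹ ∈ c.E := by
    refine c.mem_E_of_big (htoH b hab.symm) (by
      rw [show g * b * g⁻¹ * (g * b * g⁻¹) = g * (b * b) * g⁻¹ by group, hsq, mul_one, mul_inv_cancel])
      (T := T') ?_ (hTp.map _) ?_ ?_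
    · rintro _ ⟨t, ht, rfl⟩
      exact htoH t (hTc t ht a ha)
    · rintro _ ⟨t, ht, rfl⟩
      show g * t * g⁻¹ * (g * b * g⁻¹) = g * b * g⁻¹ * (g * t * g⁻¹)
      calc g * t * g⁻¹ * (g * b * g⁻¹) = g * (t * b) * g⁻¹ := by group
        _ = g * (b * t) * g⁻¹ := by rw [hTc t ht b hb]
        _ = _ := by group
    · rw [hT', ← Nat.card_congr (equivMapOfInjective _ _ (MulAut.conj g).injective).toEquiv]
      exact hTbig
  refine (f.base.mem_iff hS).2 (Or.inr ⟨hE, (f.base.isConj_of_mem hS hb hb1).trans (isConj_iff.2 ⟨g, rfl⟩), ?_⟩)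
  have c1 : Commute x g := hgx.symm
  have c2 : Commute x b := (((f.base.mem_iff hS).1 hb).resolve_left hb1).2.2
  exact ((c1.mul_right c2).mul_right c1.inv_right).eq

end CfsgLib.Spor.JFourType.Ctx
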