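import Cfsg.Agent.Lib.Spor.JFourType.Lines

/-!
# The two kinds of points of `U`

A vector of `U` lies on five lines, no three of them concurrent with their product, or on three lines forming the
involutions of a four-group.  Every line has six vectors of the first and nine of the second kind.
-/

set_option autoImplicit false
set_option linter.style.haveILetI false

namespace CfsgLib.Spor.JFourType.Ctx

open Subgroup

universe u

variable {G : Type u} [Group G] [Finite G] {A : Type} [Group A] {J I R : Subgroup A}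
  {z : G} {P : Subgroup G} (c : Ctx J I R z P)
include c

/-- The involutions whose line passes through a vector. -/
def thru (v : c.Vs) : Set ↥I := {i | i ≠ 1 ∧ v ∈ c.Li i}

/-- The point of a vector, with zero. -/
def Pt (v : c.Vs) : Set c.Vs := {0, v, c.om v, c.om (c.om v)}

/-- The vectors on five lines. -/
def IsN (v : c.Vs) : Prop := v ∈ c.U ∧ v ≠ 0 ∧ (c.thru v).ncard = 5

/-- The vectors on three lines. -/
def IsE (v : c.Vs) : Prop := v ∈ c.U ∧ v ≠ 0 ∧ (c.thru v).ncard = 3

theorem om_ne_zero {v : c.Vs} (hv : v ≠ 0) : c.om v ≠ 0 := fun h => hv (c.om_injective (h.trans (map_zero c.om).symm))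

theorem ncard_Pt {v : c.Vs} (hv : v ≠ 0) : (c.Pt v).ncard = 4 := by
  have e1 := c.om_ne_zero hv
  have e2 := c.om_ne_zero e1
  have e3 : c.om v ≠ v := fun h => hv (c.om_fixed h)
  have e4 : c.om (c.om v) ≠ c.om v := fun h => e3 (c.om_injective h)
  have e5 : c.om (c.om v) ≠ v := fun h => e3 (by
    have e := congrArg c.om h
    rw [c.om_cube] at e
    exact e.symm)
  rw [Pt, Set.ncard_insert_of_notMem (by simp [Ne.symm hv, Ne.symm e1, Ne.symm e2]) (Set.toFinite _),
    Set.ncard_insert_of_notMem (by simp [Ne.symm e3, Ne.symm e5]) (Set.toFinite _),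
    Set.ncard_insert_of_notMem (by simp [Ne.symm e4]) (Set.toFinite _), Set.ncard_singleton]

theorem Pt_subset {K : AddSubgroup c.Vs} (hK : ∀ w ∈ K, c.om w ∈ K) {v : c.Vs} (hv : v ∈ K) :
    c.Pt v ⊆ K := by
  intro w hw
  simp only [Pt, Set.mem_insert_iff, Set.mem_singleton_iff] at hw
  rcases hw with rfl | rfl | rfl | rfl
  exacts [zero_mem _, hv, hK _ hv, hK _ (hK _ hv)]

theorem Pt_mem_of {K : AddSubgroup c.Vs} (hK : ∀ w ∈ K, c.om w ∈ K) {v w : c.Vs} (hw : w ∈ c.Pt v) (hw0 : w ≠ 0) :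
    w ∈ K ↔ v ∈ K := by
  simp only [Pt, Set.mem_insert_iff, Set.mem_singleton_iff] at hw
  rcases hw with rfl | rfl | rfl | rfl
  · exact absurd rfl hw0
  · exact Iff.rfl
  · exact ⟨fun h => by have := hK _ (hK _ h); rwa [c.om_cube] at this, fun h => hK _ h⟩
  · exact ⟨fun h => by have := hK _ h; rwa [c.om_cube] at this, fun h => hK _ (hK _ h)⟩

theorem mem_Pt_of_lines {a b : ↥I} (ha : a ≠ 1) (hb : b ≠ 1) (hab : a ≠ b) {v w : c.Vs} (hva : v ∈ c.Li a)
    (hvb : v ∈ c.Li b) (hv : v ≠ 0) (hwa : w ∈ c.Li a) (hwb : w ∈ c.Li b) : w ∈ c.Pt v := by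
  simpa [Pt] using c.eq_or_of_card_four (K := c.Li a ⊓ c.Li b) (fun x hx => ⟨c.Li_om hx.1, c.Li_om hx.2⟩)
    (le_of_eq (c.card_Li_inf ha hb hab)) ⟨hva, hvb⟩ hv ⟨hwa, hwb⟩

theorem thru_om {v : c.Vs} : c.thru (c.om v) = c.thru v := by
  ext i
  show i ≠ 1 ∧ c.om v ∈ c.Li i ↔ i ≠ 1 ∧ v ∈ c.Li i
  refine ⟨fun h => ⟨h.1, ?_⟩, fun h => ⟨h.1, c.Li_om h.2⟩⟩
  have := c.Li_om (c.Li_om h.2)
  rwa [c.om_cube] at this

/-- The isotropy does not depend on the line. -/
theorem iso_closed {a b : ↥I} (ha : a ≠ 1) (hb : b ≠ 1) (hab : a ≠ b) {v : c.Vs} (hva : v ∈ c.Li a)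
    (hvb : v ∈ c.Li b) (hv : v ≠ 0) : (c.Iso a v ↔ c.Iso b v) ∧ (c.Iso a v ↔ v ∈ c.Li (a * b)) := by
  have h1 := c.mem_mul_iff_iso ha hb hab hva hvb hv
  have h2 := c.mem_mul_iff_iso hb ha (Ne.symm hab) hvb hva hv
  rw [c.comm_I b a] at h2
  exact ⟨h1.symm.trans h2, h1.symm⟩

/-- At most five lines pass through a vector. -/
theorem ncard_thru_le {v : c.Vs} (hv : v ≠ 0) : (c.thru v).ncard ≤ 5 := by
  classical
  haveI := c.finite_A
  haveI : Fintype ↥I := Fintype.ofFinite _
  haveI : Fintype c.Vs := Fintype.ofFinite _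
  set T : Finset ↥I := Finset.univ.filter fun i => i ∈ c.thru v with hT
  have hTc : (c.thru v).ncard = T.card := by
    rw [← Set.ncard_coe_finset]; congr; ext; simp [hT]
  rw [hTc]
  set P0 : Finset c.Vs := Finset.univ.filter fun w => w ∈ c.Pt v with hP0
  have hP4 : P0.card = 4 := by
    rw [← c.ncard_Pt hv, ← Set.ncard_coe_finset]; congr; ext; simp [hP0]
  set L : ↥I → Finset c.Vs := fun i => (Finset.univ.filter fun w => w ∈ c.Li i) \ P0 with hL
  have hL12 : ∀ i ∈ T, (L i).card = 12 := by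
    intro i hi
    obtain ⟨hi1, hiv⟩ := (Finset.mem_filter.1 hi).2
    rw [hL]
    simp only
    rw [Finset.card_sdiff_of_subset (by
      intro w hw
      simp only [hP0, Finset.mem_filter, Finset.mem_univ, true_and] at hw ⊢
      exact c.Pt_subset (fun _ h => c.Li_om h) hiv hw), hP4]
    rw [show (Finset.univ.filter fun w => w ∈ c.Li i).card = 16 by
      rw [← Fintype.card_subtype, ← Nat.card_eq_fintype_card]
      exact c.card_Li hi1]
  have hdis : (T : Set ↥I).PairwiseDisjoint L := by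
    intro i hi j hj hij
    obtain ⟨hi1, hiv⟩ := (Finset.mem_filter.1 hi).2
    obtain ⟨hj1, hjv⟩ := (Finset.mem_filter.1 hj).2
    refine Finset.disjoint_left.2 fun w hwi hwj => ?_
    simp only [hL, hP0, Finset.mem_sdiff, Finset.mem_filter, Finset.mem_univ, true_and] at hwi hwj
    exact hwi.2 (c.mem_Pt_of_lines hi1 hj1 hij hiv hjv hv hwi.1 hwj.1)
  have hsub : T.biUnion L ⊆ (Finset.univ.filter fun w => w ∈ c.U) \ P0 := by
    intro w hw
    obtain ⟨i, hi, hwi⟩ := Finset.mem_biUnion.1 hw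
    simp only [hL, Finset.mem_sdiff, Finset.mem_filter, Finset.mem_univ, true_and] at hwi ⊢
    exact ⟨c.Li_le_U i hwi.1, hwi.2⟩
  rcases T.eq_empty_or_nonempty with h | ⟨i, hi⟩
  · rw [h]; simp
  have hvU : v ∈ c.U := c.Li_le_U i (Finset.mem_filter.1 hi).2.2
  have hPU : P0 ⊆ Finset.univ.filter fun w => w ∈ c.U := by
    intro w hw
    simp only [hP0, Finset.mem_filter, Finset.mem_univ, true_and] at hw ⊢
    exact c.Pt_subset (fun _ h => c.U_om h) hvU hw
  have h := Finset.card_le_card hsub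
  rw [Finset.card_biUnion hdis, Finset.sum_congr rfl hL12, Finset.sum_const, smul_eq_mul,
    Finset.card_sdiff_of_subset hPU, hP4, show (Finset.univ.filter fun w => w ∈ c.U).card = 64 by
      rw [← Fintype.card_subtype, ← Nat.card_eq_fintype_card]; exact c.card_U] at h
  omega

/-- An isotropic vector lies on at most three lines. -/
theorem ncard_thru_iso {a : ↥I} (ha : a ≠ 1) {v : c.Vs} (hva : v ∈ c.Li a) (hv : v ≠ 0) (hi : c.Iso a v) :
    (c.thru v).ncard ≤ 3 := by
  haveI := c.finite_A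
  have hiso : ∀ b ∈ c.thru v, c.Iso b v := by
    rintro b ⟨hb, hvb⟩
    by_cases e : a = b
    · exact e ▸ hi
    · exact (c.iso_closed ha hb e hva hvb hv).1.1 hi
  let S : Subgroup ↥I :=
    { carrier := {i | i = 1 ∨ i ∈ c.thru v}
      one_mem' := Or.inl rfl
      mul_mem' := by
        rintro x y (rfl | hx) (rfl | hy)
        · exact Or.inl (one_mul 1)
        · exact Or.inr (by rwa [one_mul])
        · exact Or.inr (by rwa [mul_one])
        · by_cases e : x = y
          · exact Or.inl (by rw [e, c.mul_self_I])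
          · exact Or.inr ⟨c.mul_ne_one_I e, (c.iso_closed hx.1 hy.1 e hx.2 hy.2 hv).2.1 (hiso x hx)⟩
      inv_mem' := fun {x} hx => by rwa [c.inv_I x] }
  have hS : Nat.card ↥S = (c.thru v).ncard + 1 := by
    rw [← Set.ncard_insert_of_notMem (fun h : (1 : ↥I) ∈ c.thru v => h.1 rfl) (Set.toFinite _),
      ← Nat.card_coe_set_eq]
    exact Nat.card_congr (Equiv.subtypeEquivRight fun i => Iff.rfl)
  have hd := S.card_subgroup_dvd_card
  rw [hS, c.facts.card_I] at hd
  have := c.ncard_thru_le hv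
  interval_cases h : (c.thru v).ncard <;> omega

/-- The functional deciding concurrency with a fixed involution. -/
theorem exists_functional {a : ↥I} (ha : a ≠ 1) : ∃ f : ↥I →* Multiplicative (ZMod 2), f a = 1 ∧
    ∀ b : ↥I, b ≠ 1 → a ≠ b → ∀ v, v ∈ c.Li a → v ∈ c.Li b → v ≠ 0 → (c.Iso a v ↔ f b = 1) := by
  obtain ⟨q, hq, hqU⟩ : ∃ q ∈ c.Fx a, q ∉ c.U := by
    by_contra hcon
    push Not at hcon
    have h := AddSubgroup.card_le_of_le (K := c.U) (H := c.Fx a) fun q hq => hcon q hq
    rw [c.card_Fx ha, c.card_U] at h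
    norm_num at h
  let f : ↥I →* Multiplicative (ZMod 2) :=
    { toFun := fun b => Multiplicative.ofAdd (c.Bf q (c.om (c.D b q)))
      map_one' := by rw [c.D_one, map_zero, c.Bf_zero_right]; rfl
      map_mul' := fun b b' => by
        rw [c.D_mul, map_add, c.Bf_add_right]; rfl }
  have hf : ∀ b, f b = 1 ↔ c.Bf q (c.om (c.D b q)) = 0 := fun b => Iff.rfl
  refine ⟨f, (hf a).2 (by rw [c.D_eq_zero.2 hq, map_zero, c.Bf_zero_right]), fun b hb hab v hva hvb hv => ?_⟩
  set v0 := c.D b q with hv0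
  have hab1 : a * b ≠ 1 := c.mul_ne_one_I hab
  have hbab : b ≠ a * b := fun e => ha (by
    calc a = a * (b * b) := by rw [c.mul_self_I, mul_one]
      _ = 1 := by rw [← mul_assoc, ← e, c.mul_self_I])
  have hprod : b * (a * b) = a := by rw [c.comm_I a b, c.mul_mul_cancel_I]
  have h0b : v0 ∈ c.Li b := c.D_mem b q
  have h0ab : v0 ∈ c.Li (a * b) := by
    have e : c.D (a * b) q = v0 := by rw [c.D_mul, c.D_eq_zero.2 hq, zero_add]
    exact e ▸ c.D_mem _ q
  have h00 : v0 ≠ 0 := fun h => hqU (c.Fx_inf ha hb hab ▸ ⟨hq, c.D_eq_zero.1 h⟩)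
  have key : v0 ∈ c.Li a ↔ f b = 1 := by
    rw [hf, ← c.iso_iff h0b hv0.symm]
    have := c.mem_mul_iff_iso hb hab1 hbab h0b h0ab h00
    rwa [hprod] at this
  rw [← key, ← c.mem_mul_iff_iso ha hb hab hva hvb hv]
  constructor
  · intro h
    have hm := c.mem_Pt_of_lines hb hab1 hbab hvb h hv h0b h0ab
    exact (c.Pt_mem_of (fun _ h => c.Li_om h) hm h00).2 hva
  · intro h
    have hm := c.mem_Pt_of_lines ha hb hab h h0b h00 hva hvb
    exact (c.Pt_mem_of (fun _ h => c.Li_om h) hm hv).2 h0ab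

/-- The counts on a line. -/
theorem line_profile {a : ↥I} (ha : a ≠ 1) :
    (∀ v ∈ c.Li a, v ≠ 0 → (c.Iso a v → (c.thru v).ncard = 3) ∧ (¬ c.Iso a v → (c.thru v).ncard = 5)) ∧
    {v | v ∈ c.Li a ∧ v ≠ 0 ∧ ¬ c.Iso a v}.ncard = 6 := by
  classical
  haveI := c.finite_A
  haveI : Fintype ↥I := Fintype.ofFinite _
  haveI : Fintype c.Vs := Fintype.ofFinite _
  obtain ⟨f, hfa, hf⟩ := c.exists_functional ha
  set X : Finset c.Vs := Finset.univ.filter fun v => v ∈ c.Li a ∧ v ≠ 0 with hX
  set O : Finset ↥I := Finset.univ.filter fun b => b ≠ 1 ∧ a ≠ b with hO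
  have hX15 : X.card = 15 := by
    have e : X = (Finset.univ.filter fun v => v ∈ c.Li a).erase 0 := by ext; simp [hX, and_comm]
    rw [e, Finset.card_erase_of_mem (by simp [zero_mem]), ← Fintype.card_subtype, ← Nat.card_eq_fintype_card]
    have := c.card_Li ha
    omega
  have hO14 : O.card = 14 := by
    have e : O = (Finset.univ.erase (1 : ↥I)).erase a := by ext; simp [hO, ne_comm, and_comm]
    rw [e, Finset.card_erase_of_mem (by simp [ha]), Finset.card_erase_of_mem (Finset.mem_univ _), Finset.card_univ,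
      ← Nat.card_eq_fintype_card, c.facts.card_I]
  have hcol : ∀ b ∈ O, (X.filter fun v => v ∈ c.Li b).card = 3 := by
    intro b hb
    obtain ⟨hb1, hab⟩ := (Finset.mem_filter.1 hb).2
    have e : (X.filter fun v => v ∈ c.Li b) = (Finset.univ.filter fun v => v ∈ c.Li a ⊓ c.Li b).erase 0 := by
      ext v
      simp only [hX, Finset.mem_filter, Finset.mem_univ, true_and, Finset.mem_erase, AddSubgroup.mem_inf]
      tauto
    rw [e, Finset.card_erase_of_mem (by simp [zero_mem]), ← Fintype.card_subtype, ← Nat.card_eq_fintype_card]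
    have := c.card_Li_inf ha hb1 hab
    omega
  set oth : c.Vs → Finset ↥I := fun v => O.filter fun b => v ∈ c.Li b with hoth
  have hothc : ∀ v ∈ X, (oth v).card + 1 = (c.thru v).ncard := by
    intro v hv
    obtain ⟨hva, hv0⟩ := (Finset.mem_filter.1 hv).2
    have e : c.thru v = ↑(insert a (oth v)) := by
      ext i
      simp only [hoth, hO, Finset.coe_insert, Set.mem_insert_iff, Finset.mem_coe, Finset.mem_filter, Finset.mem_univ,
        true_and]
      show i ≠ 1 ∧ v ∈ c.Li i ↔ _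
      constructor
      · rintro ⟨h1, h2⟩
        by_cases e : i = a
        · exact Or.inl e
        · exact Or.inr ⟨⟨h1, Ne.symm e⟩, h2⟩
      · rintro (rfl | ⟨⟨h1, -⟩, h2⟩)
        · exact ⟨ha, hva⟩
        · exact ⟨h1, h2⟩
    rw [e, Set.ncard_coe_finset, Finset.card_insert_of_notMem (by simp [hoth, hO])]
  -- the double counts, by isotropy
  have hswap : ∀ p : c.Vs → Prop, ∀ q : ↥I → Prop, (∀ b ∈ O, ∀ v ∈ X, v ∈ c.Li b → (p v ↔ q b)) →
      ∑ v ∈ X.filter p, (oth v).card = 3 * (O.filter q).card := by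
    intro p q hpq
    calc ∑ v ∈ X.filter p, (oth v).card = ∑ v ∈ X.filter p, ∑ b ∈ O, (if v ∈ c.Li b then 1 else 0) := by
          refine Finset.sum_congr rfl fun v _ => ?_
          rw [hoth, Finset.card_filter]
      _ = ∑ b ∈ O, ∑ v ∈ X.filter p, (if v ∈ c.Li b then 1 else 0) := Finset.sum_comm
      _ = ∑ b ∈ O, (if q b then 3 else 0) := by
          refine Finset.sum_congr rfl fun b hb => ?_
          rw [← Finset.card_filter]
          split_ifs with hq
          · rw [← hcol b hb]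
            congr 1
            ext v
            simp only [Finset.mem_filter]
            exact ⟨fun h => ⟨h.1.1, h.2⟩, fun h => ⟨⟨h.1, (hpq b hb v h.1 h.2).2 hq⟩, h.2⟩⟩
          · rw [Finset.card_eq_zero, Finset.filter_eq_empty_iff]
            exact fun v hv hvb => hq ((hpq b hb v (Finset.mem_filter.1 hv).1 hvb).1 (Finset.mem_filter.1 hv).2)
      _ = _ := by rw [Finset.sum_ite, Finset.sum_const_zero, add_zero, Finset.sum_const, smul_eq_mul, mul_comm]
  have hiff : ∀ b ∈ O, ∀ v ∈ X, v ∈ c.Li b → (c.Iso a v ↔ f b = 1) := by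
    intro b hb v hv hvb
    obtain ⟨hva, hv0⟩ := (Finset.mem_filter.1 hv).2
    obtain ⟨hb1, hab⟩ := (Finset.mem_filter.1 hb).2
    exact hf b hb1 hab v hva hvb hv0
  have h1 := hswap (c.Iso a) (fun b => f b = 1) hiff
  have h2 := hswap (fun v => ¬ c.Iso a v) (fun b => ¬ f b = 1) fun b hb v hv hvb => not_congr (hiff b hb v hv hvb)
  have hle1 : ∀ v ∈ X.filter (c.Iso a), (oth v).card ≤ 2 := by
    intro v hv
    obtain ⟨hv', hiso⟩ := Finset.mem_filter.1 hv
    obtain ⟨hva, hv0⟩ := (Finset.mem_filter.1 hv').2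
    have := c.ncard_thru_iso ha hva hv0 hiso
    have := hothc v hv'
    omega
  have hle2 : ∀ v ∈ X.filter (fun v => ¬ c.Iso a v), (oth v).card ≤ 4 := by
    intro v hv
    obtain ⟨hv', -⟩ := Finset.mem_filter.1 hv
    have := c.ncard_thru_le (Finset.mem_filter.1 hv').2.2
    have := hothc v hv'
    omega
  have b1 := Finset.sum_le_card_nsmul _ _ 2 hle1
  have b2 := Finset.sum_le_card_nsmul _ _ 4 hle2
  have e1 : ∑ v ∈ X.filter (c.Iso a), (oth v).card = 3 * (O.filter fun b => f b = 1).card := by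
    convert h1
  rw [smul_eq_mul, e1] at b1
  have e2 : ∑ v ∈ X.filter (fun v => ¬ c.Iso a v), (oth v).card = 3 * (O.filter fun b => ¬ f b = 1).card := by
    convert h2
  rw [smul_eq_mul, e2] at b2
  have hsX : (X.filter (c.Iso a)).card + (X.filter fun v => ¬ c.Iso a v).card = 15 := by
    rw [← hX15]
    convert Finset.card_filter_add_card_filter_not (s := X) (c.Iso a)
  have hsO : (O.filter fun b => f b = 1).card + (O.filter fun b => ¬ f b = 1).card = 14 := by
    rw [← hO14]
    convert Finset.card_filter_add_card_filter_not (s := O) (fun b => f b = 1)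
  -- the kernel has order eight or sixteen
  have hker : (O.filter fun b => f b = 1).card + 2 = Nat.card ↥f.ker := by
    have e : (Finset.univ.filter fun b => b ∈ f.ker) = insert 1 (insert a (O.filter fun b => f b = 1)) := by
      ext b
      simp only [hO, Finset.mem_filter, Finset.mem_univ, true_and, Finset.mem_insert, MonoidHom.mem_ker]
      constructor
      · intro h
        by_cases e1 : b = 1
        · exact Or.inl e1
        by_cases e2 : b = a
        · exact Or.inr (Or.inl e2)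
        exact Or.inr (Or.inr ⟨⟨e1, Ne.symm e2⟩, h⟩)
      · rintro (rfl | rfl | ⟨-, h⟩)
        exacts [map_one f, hfa, h]
    rw [Nat.card_eq_fintype_card, Fintype.card_subtype, e, Finset.card_insert_of_notMem (by simp [hO, Ne.symm ha]),
      Finset.card_insert_of_notMem (by simp [hO])]
  have hmul : Nat.card ↥f.ker * Nat.card ↥f.range = 16 := by
    rw [← Subgroup.index_ker, f.ker.card_mul_index, c.facts.card_I]
  have hrange : Nat.card ↥f.range ≤ 2 :=
    (Nat.card_le_card_of_injective _ Subtype.val_injective).trans (le_of_eq (by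
      rw [Nat.card_congr Multiplicative.toAdd, Nat.card_zmod]))
  have hrpos : 0 < Nat.card ↥f.range := Nat.card_pos
  have hC : (O.filter fun b => f b = 1).card = 6 := by
    have hr : Nat.card ↥f.range = 1 ∨ Nat.card ↥f.range = 2 := by omega
    rcases hr with hr | hr <;> rw [hr] at hmul <;> omega
  have hn : (X.filter (c.Iso a)).card = 9 := by omega
  have hn' : (X.filter fun v => ¬ c.Iso a v).card = 6 := by omega
  have q1 := (Finset.sum_eq_sum_iff_of_le (g := fun _ => 2) hle1).1 (by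
    rw [e1, Finset.sum_const, smul_eq_mul]; omega)
  have q2 := (Finset.sum_eq_sum_iff_of_le (g := fun _ => 4) hle2).1 (by
    rw [e2, Finset.sum_const, smul_eq_mul]; omega)
  refine ⟨fun v hva hv0 => ?_, ?_⟩
  · have hvX : v ∈ X := by simp [hX, hva, hv0]
    refine ⟨fun h => ?_, fun h => ?_⟩
    · rw [← hothc v hvX, q1 v (Finset.mem_filter.2 ⟨hvX, h⟩)]
    · rw [← hothc v hvX, q2 v (Finset.mem_filter.2 ⟨hvX, h⟩)]
  · rw [← hn', ← Set.ncard_coe_finset]
    congr 1
    ext v
    simp [hX, and_assoc]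

theorem isN_iff {a : ↥I} (ha : a ≠ 1) {v : c.Vs} (hva : v ∈ c.Li a) (hv : v ≠ 0) :
    c.IsN v ↔ ¬ c.Iso a v := by
  obtain ⟨h3, h5⟩ := (c.line_profile ha).1 v hva hv
  refine ⟨fun h hi => ?_, fun h => ⟨c.Li_le_U a hva, hv, h5 h⟩⟩
  have := h.2.2
  rw [h3 hi] at this
  omega

theorem isE_iff {a : ↥I} (ha : a ≠ 1) {v : c.Vs} (hva : v ∈ c.Li a) (hv : v ≠ 0) :
    c.IsE v ↔ c.Iso a v := by
  obtain ⟨h3, h5⟩ := (c.line_profile ha).1 v hva hv
  refine ⟨fun h => ?_, fun h => ⟨c.Li_le_U a hva, hv, h3 h⟩⟩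
  by_contra hi
  have := h.2.2
  rw [h5 hi] at this
  omega

theorem isN_om {v : c.Vs} (h : c.IsN v) : c.IsN (c.om v) :=
  ⟨c.U_om h.1, c.om_ne_zero h.2.1, by rw [c.thru_om]; exact h.2.2⟩

theorem isN_line {v : c.Vs} (h : c.IsN v) : ∃ a : ↥I, a ≠ 1 ∧ v ∈ c.Li a := by
  obtain ⟨a, ha⟩ := Set.nonempty_of_ncard_ne_zero (s := c.thru v) (by rw [h.2.2]; norm_num)
  exact ⟨a, ha⟩

/-- Two lines through a vector on five lines have a product line avoiding it. -/
theorem isN_no_triple {v : c.Vs} (h : c.IsN v) {a b : ↥I} (ha : a ≠ 1) (hb : b ≠ 1) (hab : a ≠ b)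
    (hva : v ∈ c.Li a) (hvb : v ∈ c.Li b) : v ∉ c.Li (a * b) := fun hm =>
  (c.isN_iff ha hva h.2.1).1 h ((c.mem_mul_iff_iso ha hb hab hva hvb h.2.1).1 hm)

theorem sum_thru_eq : {v | c.IsN v}.ncard = 18 ∧ ∀ v ∈ c.U, v ≠ 0 → c.IsN v ∨ c.IsE v := by
  classical
  haveI := c.finite_A
  haveI : Fintype ↥I := Fintype.ofFinite _
  haveI : Fintype c.Vs := Fintype.ofFinite _
  set T : Finset ↥I := Finset.univ.filter fun i => i ≠ 1 with hT
  have hTc : T.card = 15 := by
    rw [hT, Finset.filter_ne', Finset.card_erase_of_mem (Finset.mem_univ _), Finset.card_univ,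
      ← Nat.card_eq_fintype_card, c.facts.card_I]
  set NS : Finset c.Vs := Finset.univ.filter fun v => c.IsN v with hNS
  set ES : Finset c.Vs := Finset.univ.filter fun v => c.IsE v with hES
  have hcount : ∀ (S : Finset c.Vs) (k m : ℕ), (∀ v ∈ S, (c.thru v).ncard = k) →
      (∀ a ∈ T, (S.filter fun v => v ∈ c.Li a).card = m) → k * S.card = 15 * m := by
    intro S k m hk hm
    calc k * S.card = ∑ v ∈ S, (T.filter fun a => v ∈ c.Li a).card := by
          rw [Finset.sum_congr rfl (g := fun _ => k) fun v hv => ?_, Finset.sum_const, smul_eq_mul, mul_comm]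
          rw [← hk v hv, ← Set.ncard_coe_finset]
          congr 1
          ext i
          simp [hT, thru]
      _ = ∑ a ∈ T, (S.filter fun v => v ∈ c.Li a).card := by
          simp only [Finset.card_filter]
          exact Finset.sum_comm
      _ = _ := by rw [Finset.sum_congr rfl hm, Finset.sum_const, smul_eq_mul, hTc]
  have hN := hcount NS 5 6 (fun v hv => (Finset.mem_filter.1 hv).2.2.2) fun a ha => by
    have ha1 := (Finset.mem_filter.1 ha).2
    rw [← (c.line_profile ha1).2, ← Set.ncard_coe_finset]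
    congr 1
    ext v
    simp only [hNS, Finset.coe_filter, Finset.mem_filter, Finset.mem_univ, true_and, Set.mem_setOf_eq]
    exact ⟨fun h => ⟨h.2, h.1.2.1, (c.isN_iff ha1 h.2 h.1.2.1).1 h.1⟩,
      fun h => ⟨(c.isN_iff ha1 h.1 h.2.1).2 h.2.2, h.1⟩⟩
  have hE := hcount ES 3 9 (fun v hv => (Finset.mem_filter.1 hv).2.2.2) fun a ha => by
    have ha1 := (Finset.mem_filter.1 ha).2
    have e6 := (c.line_profile ha1).2
    have e : (ES.filter fun v => v ∈ c.Li a) ∪ (Finset.univ.filter fun v => v ∈ c.Li a ∧ v ≠ 0 ∧ ¬ c.Iso a v) =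
        (Finset.univ.filter fun v => v ∈ c.Li a).erase 0 := by
      ext v
      simp only [hES, Finset.mem_union, Finset.mem_filter, Finset.mem_univ, true_and, Finset.mem_erase]
      constructor
      · rintro (⟨h, h'⟩ | ⟨h', h, -⟩)
        · exact ⟨h.2.1, h'⟩
        · exact ⟨h, h'⟩
      · rintro ⟨h, h'⟩
        by_cases hi : c.Iso a v
        · exact Or.inl ⟨(c.isE_iff ha1 h' h).2 hi, h'⟩
        · exact Or.inr ⟨h', h, hi⟩
    have hd : Disjoint (ES.filter fun v => v ∈ c.Li a)
        (Finset.univ.filter fun v => v ∈ c.Li a ∧ v ≠ 0 ∧ ¬ c.Iso a v) := by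
      refine Finset.disjoint_left.2 fun v h1 h2 => ?_
      simp only [hES, Finset.mem_filter, Finset.mem_univ, true_and] at h1 h2
      exact h2.2.2 ((c.isE_iff ha1 h1.2 h2.2.1).1 h1.1)
    have hc := congrArg Finset.card e
    rw [Finset.card_union_of_disjoint hd, Finset.card_erase_of_mem (by simp [zero_mem]), ← Fintype.card_subtype,
      ← Fintype.card_subtype, ← Nat.card_eq_fintype_card, ← Nat.card_eq_fintype_card] at hc
    have h6 : Nat.card {v // v ∈ c.Li a ∧ v ≠ 0 ∧ ¬ c.Iso a v} = 6 := by rw [← e6, ← Nat.card_coe_set_eq]; rfl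
    have h16 := c.card_Li ha1
    omega
  refine ⟨by rw [show {v | c.IsN v} = (NS : Set c.Vs) by ext; simp [hNS], Set.ncard_coe_finset]; omega, ?_⟩
  intro v hv hv0
  have hd : Disjoint NS ES := by
    refine Finset.disjoint_left.2 fun v h1 h2 => ?_
    have e1 := (Finset.mem_filter.1 h1).2.2.2
    rw [(Finset.mem_filter.1 h2).2.2.2] at e1
    omega
  have hsub : NS ∪ ES ⊆ (Finset.univ.filter fun v => v ∈ c.U).erase 0 := by
    intro w hw
    rcases Finset.mem_union.1 hw with h | h <;>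
      exact Finset.mem_erase.2 ⟨(Finset.mem_filter.1 h).2.2.1,
        Finset.mem_filter.2 ⟨Finset.mem_univ _, (Finset.mem_filter.1 h).2.1⟩⟩
  have heq := Finset.eq_of_subset_of_card_le hsub (by
    rw [Finset.card_union_of_disjoint hd, Finset.card_erase_of_mem (by simp [zero_mem]), ← Fintype.card_subtype,
      ← Nat.card_eq_fintype_card, c.card_U]
    omega)
  have hm : v ∈ NS ∪ ES := heq ▸ Finset.mem_erase.2 ⟨hv0, Finset.mem_filter.2 ⟨Finset.mem_univ _, hv⟩⟩
  rcases Finset.mem_union.1 hm with h | h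
  exacts [Or.inl (Finset.mem_filter.1 h).2, Or.inr (Finset.mem_filter.1 h).2]

theorem card_IsN : {v | c.IsN v}.ncard = 18 := c.sum_thru_eq.1

theorem isN_or_isE {v : c.Vs} (hv : v ∈ c.U) (hv0 : v ≠ 0) : c.IsN v ∨ c.IsE v := c.sum_thru_eq.2 v hv hv0

theorem isN_not_isE {v : c.Vs} (h : c.IsN v) : ¬ c.IsE v := fun h' => by
  have := h.2.2
  rw [h'.2.2] at this
  omega

/-- The five lines through such a vector cover `U`. -/
theorem isN_cover {v : c.Vs} (h : c.IsN v) {w : c.Vs} (hw : w ∈ c.U) : ∃ a : ↥I, a ≠ 1 ∧ v ∈ c.Li a ∧ w ∈ c.Li a := by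
  classical
  haveI := c.finite_A
  by_cases hp : w ∈ c.Pt v
  · obtain ⟨a, ha, hva⟩ := c.isN_line h
    exact ⟨a, ha, hva, c.Pt_subset (fun _ hx => c.Li_om hx) hva hp⟩
  haveI : Fintype ↥I := Fintype.ofFinite _
  haveI : Fintype c.Vs := Fintype.ofFinite _
  by_contra hcon
  push Not at hcon
  set T : Finset ↥I := Finset.univ.filter fun i => i ∈ c.thru v with hT
  have hT5 : T.card = 5 := by rw [← h.2.2, ← Set.ncard_coe_finset]; congr 1; ext; simp [hT]
  set P0 : Finset c.Vs := Finset.univ.filter fun x => x ∈ c.Pt v with hP0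
  have hP4 : P0.card = 4 := by
    rw [← c.ncard_Pt h.2.1, ← Set.ncard_coe_finset]; congr; ext; simp [hP0]
  set L : ↥I → Finset c.Vs := fun i => (Finset.univ.filter fun x => x ∈ c.Li i) \ P0 with hL
  have hL12 : ∀ i ∈ T, (L i).card = 12 := by
    intro i hi
    obtain ⟨hi1, hiv⟩ := (Finset.mem_filter.1 hi).2
    simp only [hL]
    rw [Finset.card_sdiff_of_subset (by
      intro x hx
      simp only [hP0, Finset.mem_filter, Finset.mem_univ, true_and] at hx ⊢
      exact c.Pt_subset (fun _ hy => c.Li_om hy) hiv hx), hP4,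
      show (Finset.univ.filter fun x => x ∈ c.Li i).card = 16 by
        rw [← Fintype.card_subtype, ← Nat.card_eq_fintype_card]; exact c.card_Li hi1]
  have hdis : (T : Set ↥I).PairwiseDisjoint L := by
    intro i hi j hj hij
    obtain ⟨hi1, hiv⟩ := (Finset.mem_filter.1 hi).2
    obtain ⟨hj1, hjv⟩ := (Finset.mem_filter.1 hj).2
    refine Finset.disjoint_left.2 fun x hxi hxj => ?_
    simp only [hL, hP0, Finset.mem_sdiff, Finset.mem_filter, Finset.mem_univ, true_and] at hxi hxj
    exact hxi.2 (c.mem_Pt_of_lines hi1 hj1 hij hiv hjv h.2.1 hxi.1 hxj.1)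
  have hsub : insert w (T.biUnion L) ⊆ (Finset.univ.filter fun x => x ∈ c.U) \ P0 := by
    refine Finset.insert_subset (by simp [hP0, hw, hp]) fun x hx => ?_
    obtain ⟨i, hi, hxi⟩ := Finset.mem_biUnion.1 hx
    simp only [hL, Finset.mem_sdiff, Finset.mem_filter, Finset.mem_univ, true_and] at hxi ⊢
    exact ⟨c.Li_le_U i hxi.1, hxi.2⟩
  have hPU : P0 ⊆ Finset.univ.filter fun x => x ∈ c.U := by
    intro x hx
    simp only [hP0, Finset.mem_filter, Finset.mem_univ, true_and] at hx ⊢
    exact c.Pt_subset (fun _ hy => c.U_om hy) h.1 hx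
  have hcard := Finset.card_le_card hsub
  rw [Finset.card_insert_of_notMem (by
      intro hm
      obtain ⟨i, hi, hxi⟩ := Finset.mem_biUnion.1 hm
      obtain ⟨hi1, hiv⟩ := (Finset.mem_filter.1 hi).2
      simp only [hL, Finset.mem_sdiff, Finset.mem_filter, Finset.mem_univ, true_and] at hxi
      exact hcon i hi1 hiv hxi.1),
    Finset.card_biUnion hdis, Finset.sum_congr rfl hL12, Finset.sum_const, smul_eq_mul, hT5,
    Finset.card_sdiff_of_subset hPU, hP4, show (Finset.univ.filter fun x => x ∈ c.U).card = 64 by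
      rw [← Fintype.card_subtype, ← Nat.card_eq_fintype_card]; exact c.card_U] at hcard
  omega

/-- The sum of two such vectors of different points is of the other kind. -/
theorem isN_add {v w : c.Vs} (hv : c.IsN v) (hw : c.IsN w) (hne : w ∉ c.Pt v) : c.IsE (v + w) := by
  obtain ⟨a, ha, hva, hwa⟩ := c.isN_cover hv hw.1
  have hs0 : v + w ≠ 0 := fun h => hne (by rw [← c.add_eq_zero_V h]; simp [Pt])
  have hsa := add_mem hva hwa
  rw [c.isE_iff ha hsa hs0]
  by_contra hniso
  -- the six vectors on the line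
  have hsub : (c.Pt v ∪ c.Pt w) \ {0} ⊆ {x | x ∈ c.Li a ∧ x ≠ 0 ∧ ¬ c.Iso a x} := by
    rintro x ⟨hx, hx0⟩
    rw [Set.mem_singleton_iff] at hx0
    have hxa : x ∈ c.Li a := by
      rcases hx with hx | hx
      exacts [c.Pt_subset (fun _ h => c.Li_om h) hva hx, c.Pt_subset (fun _ h => c.Li_om h) hwa hx]
    refine ⟨hxa, hx0, (c.isN_iff ha hxa hx0).1 ?_⟩
    have key : ∀ {y : c.Vs}, c.IsN y → x ∈ c.Pt y → c.IsN x := by
      intro y hy hxy
      simp only [Pt, Set.mem_insert_iff, Set.mem_singleton_iff] at hxy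
      rcases hxy with rfl | rfl | rfl | rfl
      exacts [absurd rfl hx0, hy, c.isN_om hy, c.isN_om (c.isN_om hy)]
    rcases hx with hx | hx
    exacts [key hv hx, key hw hx]
  have hinter : c.Pt v ∩ c.Pt w = {0} := by
    refine Set.eq_singleton_iff_unique_mem.2 ⟨⟨by simp [Pt], by simp [Pt]⟩, fun x hx => ?_⟩
    by_contra hx0
    refine hne ?_
    obtain ⟨hxv, hxw⟩ := hx
    simp only [Pt, Set.mem_insert_iff, Set.mem_singleton_iff] at hxv hxw ⊢
    rcases hxv with rfl | rfl | rfl | rfl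
    · exact absurd rfl hx0
    all_goals
      rcases hxw with h | h | h | h
      · exact absurd h hx0
      all_goals
        first
          | (subst h; simp)
          | (have h' := congrArg c.om h; have h'' := congrArg c.om h';
             simp only [c.om_cube] at h' h'';
             first
               | (simp [← h]; done)
               | (simp [← h']; done)
               | (simp [← h'']; done))
  have h6 := (c.line_profile ha).2
  have hs : v + w ∉ c.Pt v ∪ c.Pt w := by
    rintro (h | h)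
    · refine hne ?_
      have hmem : w ∈ (c.Li a ⊓ c.Li a : AddSubgroup c.Vs) := ⟨hwa, hwa⟩
      simp only [Pt, Set.mem_insert_iff, Set.mem_singleton_iff] at h ⊢
      have e : w = v + (v + w) := by rw [← add_assoc, c.two_V, zero_add]
      rcases h with h | h | h | h <;> rw [h] at e
      · exact Or.inr (Or.inl (by rw [e, add_zero]))
      · exact Or.inl (by rw [e, c.two_V])
      · exact Or.inr (Or.inr (Or.inr (by rw [e, c.om_two])))
      · exact Or.inr (Or.inr (Or.inl (by rw [e, c.om_two, ← add_assoc, c.two_V, zero_add])))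
    · refine hne ?_
      simp only [Pt, Set.mem_insert_iff, Set.mem_singleton_iff] at h ⊢
      have e : v = (v + w) + w := by rw [add_assoc, c.two_V, add_zero]
      rcases h with h | h | h | h <;> rw [h] at e
      · exact Or.inr (Or.inl (by rw [e, zero_add]))
      · exact absurd (e.trans (c.two_V w)) hv.2.1
      · have e' : v = c.om (c.om w) := by rw [e, c.om_two, add_comm]
        exact Or.inr (Or.inr (Or.inl (by rw [e', c.om_cube])))
      · have e' : v = c.om w := by rw [e, c.om_two, add_comm w, add_assoc, c.two_V, add_zero]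
        exact Or.inr (Or.inr (Or.inr (by rw [e', c.om_cube])))
  have hbig : (insert (v + w) ((c.Pt v ∪ c.Pt w) \ {0})).ncard ≤ 6 := by
    rw [← h6]
    exact Set.ncard_le_ncard (Set.insert_subset ⟨hsa, hs0, hniso⟩ hsub) (Set.toFinite _)
  rw [Set.ncard_insert_of_notMem (fun h => hs h.1) (Set.toFinite _),
    Set.ncard_sdiff (Set.singleton_subset_iff.2
      (show (0 : c.Vs) ∈ c.Pt v ∪ c.Pt w from Or.inl (by simp [Pt]))) (Set.toFinite _),
    Set.ncard_singleton] at hbig
  have hu := Set.ncard_union_add_ncard_inter (c.Pt v) (c.Pt w)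
  rw [hinter, Set.ncard_singleton, c.ncard_Pt hv.2.1, c.ncard_Pt hw.2.1] at hu
  omega

end CfsgLib.Spor.JFourType.Ctx
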