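import Cfsg.Agent.Lib.Spor.JFourType.FiveStructure
import Cfsg.Agent.Lib.Spor.JFourType.Points

/-!
# The extension of the eight-group by `SL₃(2)` does not split

A complement gives a second singular line of the fixed space of `x` kept by all of the centralizer of `x` in `H`;
hence the outer element fixes a vector of `U`, which is then fixed by an element of order seven.
-/

set_option autoImplicit false
set_option linter.style.haveILetI false

namespace CfsgLib.Spor.JFourType.Ctx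

open Subgroup

universe u

variable {G : Type u} [Group G] [Finite G] {A : Type} [Group A] {J I R : Subgroup A}
  {z : G} {P : Subgroup G} {c : Ctx J I R z P} {x n s : G}

/-- The translate of the fixed space of `L0` by an element of `C0`. -/
noncomputable def Uconj5 (c : Ctx J I R z P) (h : G) : AddSubgroup c.Vs where
  carrier := {v | c.act h⁻¹ v ∈ c.U}
  zero_mem' := by show c.act h⁻¹ 0 ∈ c.U; rw [map_zero]; exact zero_mem _
  add_mem' := fun {a b} ha hb => by show c.act h⁻¹ (a + b) ∈ c.U; rw [map_add]; exact add_mem ha hb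
  neg_mem' := fun {a} ha => by show c.act h⁻¹ (-a) ∈ c.U; rw [map_neg]; exact neg_mem ha

theorem mem_Uconj5 {h : G} {v : c.Vs} : v ∈ c.Uconj5 h ↔ c.act h⁻¹ v ∈ c.U := Iff.rfl

theorem card_Uconj5 {h : G} (hh : h ∈ c.H) : Nat.card ↥(c.Uconj5 h) = 2 ^ 6 := by
  rw [← c.card_U]
  exact Nat.card_congr
    { toFun := fun v => ⟨c.act h⁻¹ v, v.2⟩
      invFun := fun u => ⟨c.act h u, by rw [mem_Uconj5, c.act_inv_apply hh]; exact u.2⟩
      left_inv := fun v => Subtype.ext (c.act_apply_inv hh v)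
      right_inv := fun u => Subtype.ext (c.act_inv_apply hh u) }

theorem Bf_Uconj5 {h : G} (hh : h ∈ c.H) {v w : c.Vs} (hv : v ∈ c.Uconj5 h) (hw : w ∈ c.Uconj5 h) : c.Bf v w = 0 := by
  rw [← c.Bf_act (inv_mem hh) v w]; exact c.Bf_U hv hw

theorem Uconj5_om {h : G} (hh : h ∈ c.C0) {v : c.Vs} (hv : v ∈ c.Uconj5 h) : c.om v ∈ c.Uconj5 h := by
  rw [mem_Uconj5, c.om_C0 (inv_mem hh)]; exact c.U_om hv

theorem Sf_Uconj5 {h : G} (hh : h ∈ c.H) {v : c.Vs} (hv : v ∈ c.Uconj5 h) : c.Sf v = 0 := by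
  obtain ⟨a, ha, rfl⟩ := c.pv_surj v
  rw [mem_Uconj5, ← c.pv_conj (inv_mem hh) ha] at hv
  have h2 := (c.Sf_sq (c.conj_E (inv_mem hh) ha)).1 (c.Sf_U hv)
  rw [show h⁻¹ * a * h⁻¹⁻¹ * (h⁻¹ * a * h⁻¹⁻¹) = h⁻¹ * (a * a) * h by group] at h2
  refine (c.Sf_sq ha).2 ?_
  calc a * a = h * (h⁻¹ * (a * a) * h) * h⁻¹ := by group
    _ = 1 := by rw [h2, mul_one, mul_inv_cancel]

theorem Uconj5_fixed {h : G} (hh : h ∈ c.H) {v : c.Vs} (hv : v ∈ c.Uconj5 h) {l : G} (hl : l ∈ c.L0) :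
    c.act (h * l * h⁻¹) v = v := by
  have hlH := (c.L0_le hl).1
  rw [c.act_apply_mul (mul_mem hh hlH) (inv_mem hh), c.act_apply_mul hh hlH, (mem_Uconj5 (c := c)).1 hv l hl,
    c.act_apply_inv hh]

/-- The outer element cannot keep the line of `U` fixed by `x`. -/
theorem FiveFull.line_moved (f : c.FiveFull x n s) {h₀ : G} (hh₀ : h₀ ∈ c.C0)
    (hw : ∃ w ∈ closure ((fun i => c.im h₀ * i * (c.im h₀)⁻¹) '' (I : Set A) ∪
      (fun i => c.im s * (c.im h₀ * i * (c.im h₀)⁻¹) * (c.im s)⁻¹) '' (I : Set A)), orderOf w = 7)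
    {W : AddSubgroup c.Vs} (hWU : W ≤ c.Uconj5 h₀) (hWo : ∀ v ∈ W, c.om v ∈ W) (hW4 : Nat.card ↥W = 4)
    (hWs : ∀ v ∈ W, c.act s v ∈ W) : False := by
  classical
  haveI := c.finite_A
  haveI : J.Normal := normal_of_index_eq_two c.facts.index_J
  -- a vector fixed by the outer element
  obtain ⟨v, hv, hv0, hsv⟩ : ∃ v ∈ W, v ≠ 0 ∧ c.act s v = v := by
    obtain ⟨w, hw', hw0⟩ : ∃ w ∈ W, w ≠ 0 := by
      by_contra hcon
      push Not at hcon
      rw [(AddSubgroup.eq_bot_iff_forall W).2 hcon, AddSubgroup.card_bot] at hW4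
      norm_num at hW4
    rcases c.eq_or_of_card_four hWo hW4.le hw' hw0 (hWs w hw') with h | h | h | h
    · exact absurd (c.act_injective f.s_mem (h.trans (map_zero _).symm)) hw0
    · exact ⟨w, hw', hw0, h⟩
    · refine ⟨c.om (c.om w), hWo _ (hWo _ hw'), c.om_ne_zero (c.om_ne_zero hw0), ?_⟩
      rw [c.om_outer f.s_mem f.s_out, c.om_outer f.s_mem f.s_out, h, c.om_cube]
    · refine ⟨c.om w, hWo _ hw', c.om_ne_zero hw0, ?_⟩
      rw [c.om_outer f.s_mem f.s_out, h, c.om_cube]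
  -- the images of the elements of `M` fixing it
  let S : Subgroup A :=
    { carrier := {a | ∃ h ∈ c.M, c.act h v = v ∧ c.im h = a}
      one_mem' := ⟨1, one_mem _, by rw [c.act_one]; rfl, c.im_one⟩
      mul_mem' := by
        rintro _ _ ⟨h, hh, hhv, rfl⟩ ⟨k, hk, hkv, rfl⟩
        exact ⟨h * k, mul_mem hh hk, by rw [c.act_apply_mul (c.H_of_M hh) (c.H_of_M hk), hkv, hhv],
          c.im_mul (c.H_of_M hh) (c.H_of_M hk)⟩
      inv_mem' := by
        rintro _ ⟨h, hh, hhv, rfl⟩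
        exact ⟨h⁻¹, inv_mem hh, by conv_lhs => rw [← hhv, c.act_inv_apply (c.H_of_M hh)],
          c.im_inv (c.H_of_M hh)⟩ }
  have hh₀H := hh₀.1
  have hsub : closure ((fun i => c.im h₀ * i * (c.im h₀)⁻¹) '' (I : Set A) ∪
      (fun i => c.im s * (c.im h₀ * i * (c.im h₀)⁻¹) * (c.im s)⁻¹) '' (I : Set A)) ≤ S := by
    rw [closure_le]
    rintro a (⟨i, hi, rfl⟩ | ⟨i, hi, rfl⟩)
    · obtain ⟨l, hl, rfl⟩ := c.exists_L0 hi
      have hm : h₀ * l * h₀⁻¹ ∈ c.C0 := mul_mem (mul_mem hh₀ (c.L0_le hl)) (inv_mem hh₀)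
      exact ⟨h₀ * l * h₀⁻¹, c.C0_le_M hm, Uconj5_fixed hh₀H (hWU hv) hl, c.im_conj hh₀H (c.L0_le hl).1⟩
    · obtain ⟨l, hl, rfl⟩ := c.exists_L0 hi
      set m := h₀ * l * h₀⁻¹ with hm
      have hmC : m ∈ c.C0 := mul_mem (mul_mem hh₀ (c.L0_le hl)) (inv_mem hh₀)
      have hcH : s * m * s⁻¹ ∈ c.H := mul_mem (mul_mem f.s_mem hmC.1) (inv_mem f.s_mem)
      refine ⟨s * m * s⁻¹, c.mem_M.2 ⟨hcH, ?_⟩, ?_, ?_⟩
      · rw [← c.im_eq, c.im_conj f.s_mem hmC.1]
        exact (inferInstance : J.Normal).conj_mem _ (c.im_C0 hmC) _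
      · have hsinv : c.act s⁻¹ v = v := by conv_lhs => rw [← hsv, c.act_inv_apply f.s_mem]
        rw [c.act_apply_mul (mul_mem f.s_mem hmC.1) (inv_mem f.s_mem), hsinv, c.act_apply_mul f.s_mem hmC.1,
          Uconj5_fixed hh₀H (hWU hv) hl, hsv]
      · rw [c.im_conj f.s_mem hmC.1, hm, c.im_conj hh₀H (c.L0_le hl).1]
  obtain ⟨w, hwc, hwo⟩ := hw
  obtain ⟨h, hh, hhv, rfl⟩ := hsub hwc
  have hhH := c.H_of_M hh
  have h7 : c.im (h ^ 7) = 1 := by rw [c.im_pow hhH, ← hwo, pow_orderOf_eq_one]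
  obtain ⟨q, hq, hact⟩ := c.act_of_im_eq_one (pow_mem hhH 7) h7
  have hfix7 : c.act (h ^ 7) v = v := by
    have : ∀ k, c.act (h ^ k) v = v := by
      intro k
      induction k with
      | zero => rw [pow_zero, c.act_one]; rfl
      | succ k ih => rw [pow_succ, c.act_apply_mul (pow_mem hhH k) hhH, hhv, ih]
    exact this 7
  rw [hact] at hfix7
  have hact7 : c.act (h ^ 7) = 1 := by
    rw [hact]
    rcases c.mem_P hq with e | e | e
    · rw [e, c.act_one]
    · rw [e] at hfix7; exact absurd (c.om_fixed hfix7) hv0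
    · rw [e, c.act_pg_inv] at hfix7
      have e' := congrArg c.om hfix7
      rw [c.om_cube] at e'
      exact absurd (c.om_fixed e'.symm) hv0
  have hbot := c.card_fix_seven hh hact7 fun hE => by
    rw [c.im_E hE, orderOf_one] at hwo
    norm_num at hwo
  exact hv0 ((AddSubgroup.eq_bot_iff_forall _).1 hbot v (c.mem_fix_singleton.2 hhv))

/-- There is no complement of the eight-group in the core of the centralizer. -/
theorem FiveFull.nonsplit (f : c.FiveFull x n s) (hS : c.Split)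
    {h₀ : G} (hh₀ : h₀ ∈ c.C0) (hxI : c.im (h₀⁻¹ * x * h₀) ∈ normalizer (I : Set A))
    (hw : ∃ w ∈ closure ((fun i => c.im h₀ * i * (c.im h₀)⁻¹) '' (I : Set A) ∪
      (fun i => c.im s * (c.im h₀ * i * (c.im h₀)⁻¹) * (c.im s)⁻¹) '' (I : Set A)), orderOf w = 7)
    (hI : ∃ i ∈ I, c.im h₀ * i * (c.im h₀)⁻¹ ∉ normalizer (R : Set A)) {K : Subgroup G} (hBK : c.lift c.KR ≤ K)
    (hprod : Cfsg.IsInternalDirectProduct (zpowers x) K (centralizer (zpowers x : Set G)))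
    (hKC : K ≤ centralizer ({x} : Set G))
    (hmem : ∀ g ∈ centralizer ({x} : Set G), (orderOf g).Coprime 5 → g ∈ K) (L : Subgroup ↥K) :
    ¬ ((c.lift c.KR).subgroupOf K).IsComplement' L := by
  classical
  intro hL
  have hd := f.base.data
  set B := c.lift c.KR with hB
  set L' : Subgroup G := L.map K.subtype with hL'
  have hLK : L' ≤ K := map_subtype_le _
  have hdec : ∀ k ∈ K, ∃ b ∈ B, ∃ l ∈ L', k = b * l := by
    intro k hk
    obtain ⟨⟨b, l⟩, hbl, -⟩ := hL.existsUnique ⟨k, hk⟩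
    exact ⟨_, b.2, _, ⟨l, l.2, rfl⟩, (congrArg Subtype.val hbl).symm⟩
  have hdisj : ∀ g, g ∈ B → g ∈ L' → g = 1 := by
    rintro _ hb ⟨l, hl, rfl⟩
    exact congrArg Subtype.val (mem_bot.1 (hL.disjoint.le_bot (mem_inf.2 ⟨hb, hl⟩)))
  have hEK : ∀ e ∈ c.E, e * x = x * e → e ∈ K := fun e he hex => hmem e (mem_centralizer_singleton_iff.2 hex) (by
    obtain ⟨k, hk⟩ := c.exists_two_pow c.E_isPGroup he
    exact Nat.Coprime.coprime_dvd_left (orderOf_dvd_of_pow_eq_one hk) (Nat.Coprime.pow_left k (by norm_num)))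
  -- the second line
  let D : AddSubgroup c.Vs :=
    { carrier := {w | ∃ e ∈ c.E ⊓ L', c.pv e = w}
      zero_mem' := ⟨1, one_mem _, c.pv_one⟩
      add_mem' := by
        rintro _ _ ⟨a, ha, rfl⟩ ⟨b, hb, rfl⟩
        exact ⟨a * b, mul_mem ha hb, c.pv_mul ha.1 hb.1⟩
      neg_mem' := by
        rintro _ ⟨a, ha, rfl⟩
        exact ⟨a, ha, (neg_eq_of_add_eq_zero_left (c.two_V (c.pv a))).symm⟩ }
  have hnotz : z ∉ L' := fun h => c.z_ne (hdisj z (c.z_mem_lift _) h)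
  have hLsq : ∀ a ∈ c.E ⊓ L', a * a = 1 := fun a ha => by
    rcases c.sq_E ha.1 with h | h
    · exact h
    · exact absurd (h ▸ mul_mem ha.2 ha.2) hnotz
  have hDsing : ∀ w ∈ D, c.Sf w = 0 := by
    rintro _ ⟨a, ha, rfl⟩
    exact (c.Sf_sq ha.1).2 (hLsq a ha)
  have hDK : ∀ w ∈ D, w ∈ c.KR → w = 0 := by
    rintro _ ⟨a, ha, rfl⟩ hw'
    rw [hdisj a ⟨ha.1, hw'⟩ ha.2, c.pv_one]
  have hinj : ∀ a ∈ c.E ⊓ L', c.pv a = 0 → a = 1 := fun a ha h =>
    ((c.pv_eq_zero ha.1).1 h).resolve_right fun h' => hnotz (h' ▸ ha.2)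
  have hD4 : Nat.card ↥D = 4 := by
    have h1 : Nat.card ↥(c.E ⊓ L') = Nat.card ↥D := by
      refine Nat.card_eq_of_bijective (fun a => ⟨c.pv a, a, a.2, rfl⟩ : ↥(c.E ⊓ L') → ↥D) ⟨?_, ?_⟩
      · intro a b h
        have h' : c.pv (a : G) = c.pv (b : G) := congrArg Subtype.val h
        refine Subtype.ext (mul_inv_eq_one.1 (hinj _ (mul_mem a.2 (inv_mem b.2)) ?_))
        rw [c.pv_mul a.2.1 (inv_mem b.2.1), c.pv_inv b.2.1, h', c.two_V]
      · rintro ⟨_, a, ha, rfl⟩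
        exact ⟨⟨a, ha⟩, rfl⟩
    have h32 : Nat.card ↥(c.E ⊓ centralizer ({x} : Set G)) = 32 := by
      rw [c.centralizer_E_eq (by decide : Odd 5) f.xH f.pow_five, c.card_lift, card_fix_x hd]
    let g : ↥B × ↥(c.E ⊓ L') → ↥(c.E ⊓ centralizer ({x} : Set G)) := fun w => ⟨w.1 * w.2,
      mem_inf.2 ⟨mul_mem w.1.2.1 w.2.2.1, mul_mem (hKC (hBK w.1.2)) (hKC (hLK w.2.2.2))⟩⟩
    have hg : Function.Bijective g := by
      refine ⟨fun p q hpq => ?_, fun e => ?_⟩
      · obtain ⟨a, l⟩ := p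
        obtain ⟨b, m⟩ := q
        have h' : (a : G) * l = b * m := congrArg Subtype.val hpq
        have hm : (b : G)⁻¹ * a = m * (l : G)⁻¹ := by
          rw [eq_mul_inv_iff_mul_eq, mul_assoc, h', inv_mul_cancel_left]
        have h0 := hdisj _ (mul_mem (inv_mem b.2) a.2) (by rw [hm]; exact mul_mem m.2.2 (inv_mem l.2.2))
        have e1 : a = b := Subtype.ext (inv_mul_eq_one.1 h0).symm
        subst e1
        exact Prod.ext rfl (Subtype.ext (mul_left_cancel h'))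
      · obtain ⟨b, hb, l, hl, he⟩ := hdec e (hEK e e.2.1 (mem_centralizer_singleton_iff.1 e.2.2))
        refine ⟨(⟨b, hb⟩, ⟨l, mem_inf.2 ⟨?_, hl⟩⟩), Subtype.ext he.symm⟩
        rw [show l = b⁻¹ * e by rw [he, inv_mul_cancel_left]]
        exact mul_mem (inv_mem hb.1) e.2.1
    have h2 := Nat.card_eq_of_bijective g hg
    rw [Nat.card_prod, FiveFull.card_lift_KR, h1, h32] at h2
    omega
  -- everything in `H` commuting with `x` keeps it
  have hinv : ∀ h ∈ c.H, h * x = x * h → ∀ w ∈ D, c.act h w ∈ D := by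
    intro h hh hx w hwD
    have hC : h ∈ zpowers x ⊔ K := by
      rw [hprod.2.2.2.2, zpowers_eq_closure, centralizer_closure]; exact mem_centralizer_singleton_iff.2 hx
    rw [← SetLike.mem_coe, coe_mul_of_right_le_normalizer_left (zpowers x) K (fun k hk =>
      mem_normalizer_zpowers (by rw [mem_centralizer_singleton_iff.1 (hKC hk), mul_inv_cancel_right];
                                 exact mem_zpowers x))] at hC
    obtain ⟨p, hp, k, hk, rfl⟩ := hC
    obtain ⟨i, rfl⟩ := mem_powers_iff_mem_zpowers.2 hp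
    obtain ⟨b, hb, l, hl, rfl⟩ := hdec k hk
    have hxi : x ^ i ∈ c.H := pow_mem f.xH i
    have hbl : b * l ∈ c.H := by
      have := mul_mem (inv_mem hxi) hh
      rwa [inv_mul_cancel_left] at this
    have hbH := c.E_le hb.1
    have hlH : l ∈ c.H := by
      have := mul_mem (inv_mem hbH) hbl
      rwa [inv_mul_cancel_left] at this
    obtain ⟨a, ha, rfl⟩ := hwD
    have hla : l * a * l⁻¹ ∈ c.E ⊓ L' :=
      mem_inf.2 ⟨c.conj_E hlH ha.1, mul_mem (mul_mem hl ha.2) (inv_mem hl)⟩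
    refine ⟨_, hla, ?_⟩
    show c.pv (l * a * l⁻¹) = c.act (x ^ i * (b * l)) (c.pv a)
    rw [c.act_apply_mul hxi hbl, c.act_apply_mul hbH hlH, (c.act_eq_one hbH).2 hb.1, c.pv_conj hlH ha.1]
    show _ = c.act (x ^ i) (c.act l (c.pv a))
    have hf : c.act x (c.act l (c.pv a)) = c.act l (c.pv a) := by
      rw [← c.pv_conj hlH ha.1, ← c.pv_conj f.xH hla.1]
      congr 1
      rw [← mem_centralizer_singleton_iff.1 (hKC (hLK hla.2)), mul_inv_cancel_right]
    have hp : ∀ m, c.act (x ^ m) (c.act l (c.pv a)) = c.act l (c.pv a) := by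
      intro m
      induction m with
      | zero => rw [pow_zero, c.act_one]; rfl
      | succ m ih => rw [pow_succ, c.act_apply_mul (pow_mem f.xH m) f.xH, hf, ih]
    exact (hp i).symm
  have hpgx : c.pg * x = x * c.pg := c.comm_P hd.x_mem c.pg_mem
  have hDo : ∀ w ∈ D, c.om w ∈ D := hinv _ c.pg_H hpgx
  have hDs : ∀ w ∈ D, c.act s w ∈ D := hinv _ f.s_mem f.s_comm
  have hsix : s⁻¹ * x = x * s⁻¹ := (show Commute s x from f.s_comm).inv_left.eq
  -- the line of `U`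
  set F := c.fix {x} with hF
  have hFo : ∀ w ∈ F, c.om w ∈ F := fun w hw' =>
    c.fix_om (Set.singleton_subset_iff.2 (c.C0_le_M hd.x_mem)) hw'
  set W := c.Uconj5 h₀ ⊓ F with hW
  have hWo : ∀ w ∈ W, c.om w ∈ W := fun w hw' => ⟨Uconj5_om hh₀ hw'.1, hFo w hw'.2⟩
  haveI : Fact (Nat.Prime 5) := ⟨by norm_num⟩
  have hW4 : Nat.card ↥W = 4 := by
    obtain ⟨k, hk, he⟩ := c.card_eq_two_pow W hWo
    have hmod := c.card_fix_mod f.xH hd.act_pow_five (c.Uconj5 h₀) fun v hv => by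
      rw [mem_Uconj5] at hv ⊢
      have hg : h₀⁻¹ * x * h₀ ∈ c.C0 := mul_mem (mul_mem (inv_mem hh₀) hd.x_mem) hh₀
      have e : c.act h₀⁻¹ (c.act x v) = c.act (h₀⁻¹ * x * h₀) (c.act h₀⁻¹ v) := by
        rw [c.act_apply_mul (mul_mem (inv_mem hh₀.1) f.xH) hh₀.1, c.act_apply_inv hh₀.1,
          c.act_apply_mul (inv_mem hh₀.1) f.xH]
      rw [e]; exact c.U_conj hg hxI hv
    rw [card_Uconj5 hh₀.1, ← hF, ← hW, he] at hmod
    -- it is totally isotropic in a nondegenerate space of order sixteen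
    have hWp : W ≤ F ⊓ c.perp W := fun v hv => ⟨hv.2, c.mem_perp.2 fun w hw' => Bf_Uconj5 hh₀.1 hw'.1 hv.1⟩
    have htop : F ⊔ c.perp W = ⊤ := by
      have hb : c.perp F ⊓ W = ⊥ := by
        rw [eq_bot_iff]
        exact fun v hv => AddSubgroup.mem_bot.2 ((AddSubgroup.eq_bot_iff_forall _).1
          (c.fix_inf_perp (by decide : Odd 5) f.xH hd.act_pow_five) v ⟨hv.2.2, hv.1⟩)
      have hle : c.perp (F ⊔ c.perp W) ≤ c.perp F ⊓ W := le_inf (c.perp_anti le_sup_left)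
        ((c.perp_anti le_sup_right).trans (le_of_eq (c.perp_perp _)))
      rw [hb, le_bot_iff] at hle
      have h := c.card_perp (F ⊔ c.perp W)
      rw [hle, AddSubgroup.card_bot, mul_one] at h
      exact AddSubgroup.eq_top_of_card_eq _ (by rw [h, c.card_V])
    have hcard := c.card_sup_inf F (c.perp W)
    rw [htop, AddSubgroup.card_top, c.card_V, card_fix_x hd] at hcard
    have hperp := c.card_perp W
    have hle := AddSubgroup.card_le_of_le hWp
    rw [he] at hle hperp ⊢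
    have hmX : 4 ^ k * Nat.card ↥(F ⊓ c.perp W) = 16 := by
      have e : 2 ^ 12 * (4 ^ k * Nat.card ↥(F ⊓ c.perp W)) = 16 * (4 ^ k * Nat.card ↥(c.perp W)) := by
        linear_combination (4 ^ k) * hcard
      rw [hperp] at e
      omega
    have hsq : 4 ^ k * 4 ^ k ≤ 16 := (Nat.mul_le_mul_left _ hle).trans hmX.le
    have hk1 : k ≤ 1 := by
      by_contra hlt
      push Not at hlt
      have h16 : 16 ≤ 4 ^ k := le_trans (by norm_num) (Nat.pow_le_pow_right (by norm_num) hlt)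
      have := (Nat.mul_le_mul h16 h16).trans hsq
      norm_num at this
    interval_cases k
    · norm_num at hmod
    · norm_num
  have hWK : ∀ w ∈ W, w ∈ c.KR → w = 0 := by
    intro w hw' hwK
    by_contra hw0
    obtain ⟨u, hu, huz, hu1, huc, huK⟩ := f.base.exists_point hS
    have huW : c.pv u ∈ W := by
      rcases c.eq_or_of_card_four (K := c.KR) (fun v hv => c.KR_om hv) c.card_KR.le hwK hw0 huK with h | h | h | h
      · rw [h]; exact zero_mem _
      · rw [h]; exact hw'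
      · rw [h]; exact hWo _ hw'
      · rw [h]; exact hWo _ (hWo _ hw')
    obtain ⟨i, hi, hiR⟩ := hI
    obtain ⟨l, hl, rfl⟩ := c.exists_L0 hi
    rw [← c.im_conj hh₀.1 (c.L0_le hl).1] at hiR
    obtain ⟨g, hg⟩ := isConj_iff.1 huc
    obtain ⟨j, hj, hc⟩ := c.KC_shape hg hu huz
    have hux : x * u = u * x := c.comm_of_pv_fixed (by decide : Odd 5) f.xH hd.pow_x hu
      (c.mem_fix_singleton.1 (KR_le_fix hd huK))
    -- `u` is a point of `R`
    have hRP : c.RPoint u := f.base.rpoint hu huz huc hux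
    exact hiR (RPoint.normalizes c hRP (mul_mem (mul_mem hh₀.1 (c.L0_le hl).1) (inv_mem hh₀.1))
      (Uconj5_fixed hh₀.1 huW.1 hl))
  -- it is kept by the outer element
  refine f.line_moved hh₀ hw (W := W) inf_le_left hWo hW4 fun w hw' => ?_
  have hF_s : ∀ v ∈ F, c.act s v ∈ F := fun v hv => by
    rw [hF, c.mem_fix_singleton] at hv ⊢
    rw [← c.act_apply_mul f.xH f.s_mem, ← f.s_comm, c.act_apply_mul f.s_mem f.xH, hv]
  by_cases hw0 : w = 0
  · rw [hw0, map_zero]; exact zero_mem _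
  have hsub : ∀ (L₁ L₂ : AddSubgroup c.Vs), (∀ v ∈ L₁, c.om v ∈ L₁) → (∀ v ∈ L₂, c.om v ∈ L₂) →
      Nat.card ↥L₁ = 4 → ∀ v, v ≠ 0 → v ∈ L₁ → v ∈ L₂ → L₁ ≤ L₂ := by
    intro L₁ L₂ h1 h2 hc v hv0 hv1 hv2 y hy
    rcases c.eq_or_of_card_four h1 hc.le hv1 hv0 hy with h | h | h | h
    · rw [h]; exact zero_mem _
    · rw [h]; exact hv2
    · rw [h]; exact h2 _ hv2
    · rw [h]; exact h2 _ (h2 _ hv2)
  by_cases hWD : ∃ v ∈ W, v ≠ 0 ∧ v ∈ D
  · obtain ⟨v, hv, hv0, hvD⟩ := hWD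
    exact hsub D W hDo hWo hD4 v hv0 hvD hv (hDs w (hsub W D hWo hDo hW4 v hv0 hv hvD hw'))
  push Not at hWD
  have hDF : D ≤ F := by
    rintro _ ⟨a, ha, rfl⟩
    rw [hF, c.mem_fix_singleton, ← c.pv_conj f.xH ha.1, ← mem_centralizer_singleton_iff.1 (hKC (hLK ha.2)),
      mul_inv_cancel_right]
  have hKD : c.KR ⊔ D = F := by
    refine AddSubgroup.eq_of_le_of_card_ge (sup_le (KR_le_fix hd) hDF) ?_
    have h := c.card_sup_inf c.KR D
    rw [show c.KR ⊓ D = ⊥ from (AddSubgroup.eq_bot_iff_forall _).2 fun v hv => hDK v hv.2 hv.1,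
      AddSubgroup.card_bot, c.card_KR, hD4] at h
    rw [hF, card_fix_x hd]
    omega
  have hKs : ∀ v ∈ c.KR, ∀ h ∈ c.H, h * x = x * h → c.act h v ∈ c.KR := by
    intro v hv h hh hhx
    obtain ⟨a, ha, rfl⟩ := c.pv_surj v
    rw [← c.pv_conj hh ha]
    exact (f.conj_mem hS hh hhx ⟨ha, hv⟩).2
  have hWsing : ∀ v ∈ W, c.Sf v = 0 := fun v hv => Sf_Uconj5 hh₀.1 hv.1
  have hsw : c.Sf (c.act s w) = 0 := by
    obtain ⟨a, ha, rfl⟩ := c.pv_surj w
    rw [← c.pv_conj f.s_mem ha, c.Sf_sq (c.conj_E f.s_mem ha)]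
    have h2 := (c.Sf_sq ha).1 (hWsing _ hw')
    rw [show s * a * s⁻¹ * (s * a * s⁻¹) = s * (a * a) * s⁻¹ by group, h2, mul_one, mul_inv_cancel]
  obtain ⟨a', ha', b', hb', hsplit⟩ := AddSubgroup.mem_sup.1 (hKD ▸ hF_s w hw'.2)
  have hKsing : ∀ v ∈ c.KR, c.Sf v = 0 := fun v hv => by
    obtain ⟨a, ha, rfl⟩ := c.pv_surj v
    exact (c.Sf_sq ha).2 (by rw [← pow_two]; exact (f.base.elementary hS).2 a ⟨ha, hv⟩)
  have hback : ∀ v, c.act s⁻¹ (c.act s v) = v := fun v => c.act_inv_apply f.s_mem v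
  have ha0 : a' ≠ 0 := fun h => by
    rw [h, zero_add] at hsplit
    have := hinv _ (inv_mem f.s_mem) hsix _ (hsplit ▸ hb')
    rw [hback] at this
    exact hw0 (hWD w hw' hw0 this).elim
  obtain ⟨w₀, hw₀, hw₀0⟩ : ∃ v ∈ W, v ≠ 0 := ⟨w, hw', hw0⟩
  obtain ⟨a, ha, b, hb, hab⟩ := AddSubgroup.mem_sup.1 (hKD ▸ hw₀.2)
  have ha00 : a ≠ 0 := fun h => hWD w₀ hw₀ hw₀0 (by rw [← hab, h, zero_add]; exact hb)
  obtain ⟨v, hv, b'', hb'', hv'⟩ : ∃ v ∈ W, ∃ b'' ∈ D, v = a' + b'' := by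
    rcases c.eq_or_of_card_four (K := c.KR) (fun v hv => c.KR_om hv) c.card_KR.le ha ha00 ha' with h | h | h | h
    · exact absurd h ha0
    · exact ⟨w₀, hw₀, b, hb, by rw [h, hab]⟩
    · exact ⟨c.om w₀, hWo _ hw₀, c.om b, hDo _ hb, by rw [h, ← map_add, hab]⟩
    · exact ⟨c.om (c.om w₀), hWo _ (hWo _ hw₀), c.om (c.om b), hDo _ (hDo _ hb), by
        rw [h, ← map_add, ← map_add, hab]⟩
  suffices hbb : b' = b'' by rw [← hsplit, hbb, ← hv']; exact hv
  by_contra hne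
  have horth : ∀ d ∈ D, c.Sf (a' + d) = 0 → c.Bf a' d = 0 := fun d hd' h => by
    rw [c.Sf_add, hKsing a' ha', hDsing d hd', zero_add, zero_add] at h
    exact h
  have h1 := horth b' hb' (hsplit ▸ hsw)
  have h2 := horth b'' hb'' (hv' ▸ hWsing v hv)
  let D₀ : AddSubgroup c.Vs :=
    { carrier := {d | d ∈ D ∧ c.Bf a' d = 0}
      zero_mem' := ⟨zero_mem _, c.Bf_zero_right a'⟩
      add_mem' := fun hp hq => ⟨add_mem hp.1 hq.1, by rw [c.Bf_add_right, hp.2, hq.2, add_zero]⟩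
      neg_mem' := fun {p} hp => by
        rw [show -p = p from neg_eq_of_add_eq_zero_left (c.two_V p)]; exact hp }
  have hD0 : D₀ = D := by
    refine AddSubgroup.eq_of_le_of_card_ge (fun d hd' => hd'.1) ?_
    rw [hD4]
    have h3 : 3 ≤ Nat.card ↥D₀ := by
      by_cases hz : b' = 0 ∨ b'' = 0
      · exfalso
        rcases hz with hz | hz
        · rw [hz, add_zero] at hsplit
          have := hKs _ (hsplit ▸ ha' : c.act s w ∈ c.KR) _ (inv_mem f.s_mem) hsix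
          rw [hback] at this
          exact hw0 (hWK w hw' this)
        · rw [hz, add_zero] at hv'
          exact ha0 (hv' ▸ hWK v hv (hv' ▸ ha'))
      push Not at hz
      have hs3 : (({0, b', b''} : Finset c.Vs) : Set c.Vs) ⊆ D₀ := by
        intro y hy
        simp only [Finset.coe_insert, Finset.coe_singleton, Set.mem_insert_iff, Set.mem_singleton_iff] at hy
        rcases hy with rfl | rfl | rfl
        exacts [zero_mem _, ⟨hb', h1⟩, ⟨hb'', h2⟩]
      have h := Set.ncard_le_ncard hs3 (Set.toFinite _)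
      rw [Set.ncard_coe_finset, ← Nat.card_coe_set_eq, Finset.card_insert_of_notMem
        (by simp [Ne.symm hz.1, Ne.symm hz.2]), Finset.card_insert_of_notMem (by simp [hne]),
        Finset.card_singleton] at h
      exact h
    have hd4 := AddSubgroup.card_dvd_of_le (show D₀ ≤ D from fun d hd' => hd'.1)
    rw [hD4] at hd4
    have hle := Nat.le_of_dvd (by norm_num) hd4
    interval_cases hc : Nat.card ↥D₀ <;> omega
  -- then it is orthogonal to the whole fixed space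
  refine ha0 ((AddSubgroup.eq_bot_iff_forall _).1 (c.fix_inf_perp (by decide : Odd 5) f.xH hd.act_pow_five) a'
    ⟨KR_le_fix hd ha', c.mem_perp.2 fun y hy => ?_⟩)
  obtain ⟨p, hp, q, hq, rfl⟩ := AddSubgroup.mem_sup.1 (show y ∈ c.KR ⊔ D by rw [hKD]; exact hy)
  have hpa : c.Bf p a' = 0 := by
    have hh := hKsing _ (add_mem hp ha')
    rwa [c.Sf_add, hKsing p hp, hKsing a' ha', zero_add, zero_add] at hh
  rw [c.Bf_add_left, hpa, c.Bf_symm q a', (hD0.ge hq).2, add_zero]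

end CfsgLib.Spor.JFourType.Ctx
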