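import Cfsg.Agent.Lib.Spor.JFourType.FixInner

/-!
# An involution of the hexad subgroup fixes `2 ^ 8` vectors
-/

set_option autoImplicit false
set_option linter.style.haveILetI false

namespace CfsgLib.Spor.JFourType.Ctx

open Subgroup

universe u

variable {G : Type u} [Group G] [Finite G] {A : Type} [Group A] {J I R : Subgroup A}
  {z : G} {P : Subgroup G} (c : Ctx J I R z P)
include c

theorem act_apply_mul {a b : G} (ha : a ∈ c.H) (hb : b ∈ c.H) (v : c.Vs) :
    c.act (a * b) v = c.act a (c.act b v) := by rw [c.act_mul ha hb]; rfl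

theorem act_pg_inv (v : c.Vs) : c.act c.pg⁻¹ v = c.om (c.om v) := by
  refine c.act_injective c.pg_H ?_
  rw [c.act_apply_inv c.pg_H]
  exact (c.om_cube v).symm

theorem act_L0_sq {l : G} (hl : l ∈ c.L0) (v : c.Vs) : c.act l (c.act l v) = v := by
  rw [← c.act_apply_mul (c.L0_le hl).1 (c.L0_le hl).1, c.L0_elementary hl, c.act_one]; rfl

/-- The sum of the translates by an element of order three. -/
noncomputable def proj (y : G) : c.Vs →+ c.Vs :=
  AddMonoidHom.mk' (fun v => v + c.act y v + c.act y (c.act y v)) fun a b => by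
    simp only [map_add]; abel

theorem proj_apply (y : G) (v : c.Vs) : c.proj y v = v + c.act y v + c.act y (c.act y v) := rfl

theorem proj_fix {y : G} (hy : y ∈ c.H) (h3 : y ^ 3 = 1) (v : c.Vs) : c.proj y v ∈ c.fix {y} := by
  have e : c.act y (c.act y (c.act y v)) = v := by
    rw [← c.act_apply_mul hy hy, ← c.act_apply_mul (mul_mem hy hy) hy,
      show y * y * y = y ^ 3 by rw [pow_succ, pow_two], h3, c.act_one]
    rfl
  rw [c.mem_fix_singleton, c.proj_apply, map_add, map_add, e]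
  abel

theorem proj_of_fix {y : G} {v : c.Vs} (h : c.act y v = v) : c.proj y v = v := by
  rw [c.proj_apply, h, h, c.two_V, zero_add]

theorem proj_kill {y : G} (hy : y ∈ c.C0) {v : c.Vs} (h : c.act y v = c.om v ∨ c.act y v = c.om (c.om v)) :
    c.proj y v = 0 := by
  rw [c.proj_apply]
  rcases h with h | h
  · rw [h, c.om_C0 hy, h]
    exact c.om_sum v
  · rw [h, c.om_C0 hy, c.om_C0 hy, h, c.om_cube, add_right_comm v]
    exact c.om_sum v

theorem three_proj {y : G} (hy : y ∈ c.C0) (v : c.Vs) :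
    c.proj y v + c.proj (y * c.pg) v + c.proj (y * c.pg⁻¹) v = v := by
  have hp : ∀ w, c.act (y * c.pg) w = c.om (c.act y w) := fun w => by
    rw [c.act_apply_mul hy.1 c.pg_H]; exact c.om_C0 hy w
  have hq : ∀ w, c.act (y * c.pg⁻¹) w = c.om (c.om (c.act y w)) := fun w => by
    rw [c.act_apply_mul hy.1 (inv_mem c.pg_H), c.act_pg_inv, c.om_C0 hy, c.om_C0 hy]
  simp only [c.proj_apply, hp, hq, c.om_C0 hy, c.om_cube]
  calc _ = v + v + v + (c.act y v + c.om (c.act y v) + c.om (c.om (c.act y v)))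
      + (c.act y (c.act y v) + c.om (c.act y (c.act y v)) + c.om (c.om (c.act y (c.act y v)))) := by abel
    _ = v := by rw [c.two_V, zero_add, c.om_sum, c.om_sum, add_zero, add_zero]

theorem adjoint_disp {l : G} (hl : l ∈ c.L0) (v w : c.Vs) :
    c.Bf (c.act l v + v) w = c.Bf v (c.act l w + w) := by
  rw [c.Bf_add_left, c.Bf_add_right, ← c.Bf_act (c.L0_le hl).1 (c.act l v) w, c.act_L0_sq hl]

theorem disp_om {l : G} (hl : l ∈ c.L0) (v : c.Vs) :
    c.Bf (c.om (c.act l v + v)) v = c.Bf (c.om (c.om (c.act l v + v))) v := by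
  have h := c.adjoint_disp hl v (c.om v)
  rw [c.om_C0 (c.L0_le hl), ← map_add, c.Bf_symm v] at h
  rw [← h]
  nth_rewrite 1 [← c.om_cube (c.act l v + v)]
  exact c.Bf_act c.pg_H _ v

/-- The displacement of a vector is orthogonal to it. -/
theorem disp_perp {l : G} (hl : l ∈ c.L0) (v : c.Vs) : c.Bf (c.act l v + v) v = 0 := by
  have h := c.disp_om hl v
  have e : c.om (c.act l v + v) + c.om (c.om (c.act l v + v)) = c.act l v + v := by
    rw [c.om_two, ← add_assoc, add_right_comm, c.two_V, zero_add]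
  rw [← e, c.Bf_add_left, h]
  exact CharTwo.add_self_eq_zero _

theorem fix_L0_eq {l m : G} (hl : l ∈ c.L0) (hm : m ∈ c.L0) (h : c.im l = c.im m) : c.fix {l} = c.fix {m} := by
  refine c.fix_act_eq (c.act_eq_of_im (c.C0_le_M (c.L0_le hl)) (c.C0_le_M (c.L0_le hm)) h (n := 2) (by norm_num) ?_ ?_)
  · rw [← c.act_pow (c.L0_le hl).1, pow_two, c.L0_elementary hl, c.act_one]
  · rw [← c.act_pow (c.L0_le hm).1, pow_two, c.L0_elementary hm, c.act_one]

theorem U_le_fix {l : G} (hl : l ∈ c.L0) : c.U ≤ c.fix {l} := c.fix_anti (Set.singleton_subset_iff.2 hl)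

theorem card_fix_L0_const {l m : G} (hl : l ∈ c.L0) (hm : m ∈ c.L0) (h1 : c.im l ≠ 1) (h2 : c.im m ≠ 1) :
    Nat.card ↥(c.fix {l}) = Nat.card ↥(c.fix {m}) := by
  obtain ⟨j, hj, hn, hjm⟩ := c.facts.I_trans _ (c.mem_L0.1 hl).2.1 _ (c.mem_L0.1 hm).2.1 h1 h2
  obtain ⟨g, hg, hgj⟩ := c.exists_C0_im hj
  have hgn : c.im g ∈ normalizer (I : Set A) := hgj.symm ▸ isConjugateBy_self_iff.1 hn
  have hl' := c.L0_conj hg hgn hl
  rw [← c.card_fix_conj hg.1 (c.L0_le hl).1,
    c.fix_L0_eq hl' hm (by rw [c.im_conj hg.1 (c.L0_le hl).1, hgj, hjm])]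

/-- The fixed vectors in `U` of a lifted element of order three. -/
theorem card_U_fix {Q : Subgroup G} (hQ : c.Three Q) (hQn : ∀ x ∈ Q, c.im x ∈ normalizer (I : Set A)) {ya : G}
    (hya : ya ∈ Q) (h3 : ∀ x ∈ Q, x ^ 3 = 1) {q : G} (hq : q ∈ Q) (hqy : q * ya * q⁻¹ = ya * c.pg) :
    Nat.card ↥(c.fix {ya} ⊓ c.U) = 4 := by
  have hUQ : ∀ x ∈ Q, ∀ v ∈ c.U, c.act x v ∈ c.U := fun x hx v hv => c.U_conj (hQ.le hx) (hQn x hx) hv
  have hpQ : c.pg ∈ Q := hQ.P_le c.pg_mem
  set y1 := ya * c.pg with hy1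
  set y2 := ya * c.pg⁻¹ with hy2
  have m1 : y1 ∈ Q := mul_mem hya hpQ
  have m2 : y2 ∈ Q := mul_mem hya (inv_mem hpQ)
  have hqp : q * c.pg * q⁻¹ = c.pg := by rw [← c.comm_P (hQ.le hq) c.pg_mem, mul_inv_cancel_right]
  have hqy2 : q * y1 * q⁻¹ = y2 := by
    have hp2 : c.pg * c.pg = c.pg⁻¹ := eq_inv_of_mul_eq_one_left (by
      rw [show c.pg * c.pg * c.pg = c.pg ^ 3 by rw [pow_succ, pow_two]]
      exact h3 _ hpQ)
    calc q * (ya * c.pg) * q⁻¹ = (q * ya * q⁻¹) * (q * c.pg * q⁻¹) := by group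
      _ = ya * (c.pg * c.pg) := by rw [hqy, hqp, hy1, mul_assoc]
      _ = y2 := by rw [hp2]
  have hconj : ∀ y ∈ Q, Nat.card ↥(c.fix {q * y * q⁻¹} ⊓ c.U) = Nat.card ↥(c.fix {y} ⊓ c.U) := by
    intro y hy
    have hqH := (hQ.le hq).1
    exact Nat.card_congr
      { toFun := fun v => ⟨c.act q⁻¹ v, (c.fix_conj hqH (hQ.le hy).1).1 v.2.1, hUQ _ (inv_mem hq) _ v.2.2⟩
        invFun := fun v => ⟨c.act q v, (c.fix_conj hqH (hQ.le hy).1).2 (by rw [c.act_inv_apply hqH]; exact v.2.1),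
          hUQ _ hq _ v.2.2⟩
        left_inv := fun v => Subtype.ext (c.act_apply_inv hqH _)
        right_inv := fun v => Subtype.ext (c.act_inv_apply hqH _) }
  have e1 : Nat.card ↥(c.fix {y1} ⊓ c.U) = Nat.card ↥(c.fix {ya} ⊓ c.U) := by rw [← hconj ya hya, hqy]
  have e2 : Nat.card ↥(c.fix {y2} ⊓ c.U) = Nat.card ↥(c.fix {ya} ⊓ c.U) := by rw [← hqy2, hconj y1 m1, e1]
  have hprojU : ∀ y ∈ Q, ∀ v ∈ c.U, c.proj y v ∈ c.fix {y} ⊓ c.U := fun y hy v hv =>
    ⟨c.proj_fix (hQ.le hy).1 (h3 y hy) v, add_mem (add_mem hv (hUQ y hy v hv)) (hUQ y hy _ (hUQ y hy v hv))⟩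
  have hC := hQ.le hya
  have a1 : ∀ v, c.act y1 v = c.om (c.act ya v) := fun v => by
    rw [c.act_apply_mul hC.1 c.pg_H]; exact c.om_C0 hC v
  have a2 : ∀ v, c.act y2 v = c.om (c.om (c.act ya v)) := fun v => by
    rw [c.act_apply_mul hC.1 (inv_mem c.pg_H), c.act_pg_inv, c.om_C0 hC, c.om_C0 hC]
  have f0 : ∀ v ∈ c.fix {ya}, c.proj y1 v = 0 ∧ c.proj y2 v = 0 := fun v hv =>
    ⟨c.proj_kill (hQ.le m1) (Or.inl (by rw [a1, c.mem_fix_singleton.1 hv])),
      c.proj_kill (hQ.le m2) (Or.inr (by rw [a2, c.mem_fix_singleton.1 hv]))⟩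
  have f1 : ∀ v ∈ c.fix {y1}, c.proj ya v = 0 ∧ c.proj y2 v = 0 := fun v hv => by
    have h := c.mem_fix_singleton.1 hv
    rw [a1] at h
    have h' : c.act ya v = c.om (c.om v) := c.om_injective (by rw [h, c.om_cube])
    exact ⟨c.proj_kill hC (Or.inr h'), c.proj_kill (hQ.le m2) (Or.inl (by rw [a2, h]))⟩
  have f2 : ∀ v ∈ c.fix {y2}, c.proj ya v = 0 ∧ c.proj y1 v = 0 := fun v hv => by
    have h := c.mem_fix_singleton.1 hv
    rw [a2] at h
    have h' : c.act ya v = c.om v := c.om_injective (c.om_injective (by rw [h, c.om_cube]))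
    exact ⟨c.proj_kill hC (Or.inl h'), c.proj_kill (hQ.le m1) (Or.inr (by rw [a1, h']))⟩
  let e : ↥c.U ≃ ↥(c.fix {ya} ⊓ c.U) × ↥(c.fix {y1} ⊓ c.U) × ↥(c.fix {y2} ⊓ c.U) :=
    { toFun := fun v => (⟨_, hprojU ya hya v v.2⟩, ⟨_, hprojU y1 m1 v v.2⟩, ⟨_, hprojU y2 m2 v v.2⟩)
      invFun := fun w => ⟨w.1 + w.2.1 + w.2.2, add_mem (add_mem w.1.2.2 w.2.1.2.2) w.2.2.2.2⟩
      left_inv := fun v => Subtype.ext (c.three_proj hC v)
      right_inv := fun ⟨⟨a, ha⟩, ⟨b, hb⟩, ⟨d, hd⟩⟩ => by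
        refine Prod.ext (Subtype.ext ?_) (Prod.ext (Subtype.ext ?_) (Subtype.ext ?_))
        · show c.proj ya (a + b + d) = a
          rw [map_add, map_add, c.proj_of_fix (c.mem_fix_singleton.1 ha.1), (f1 b hb.1).1, (f2 d hd.1).1,
            add_zero, add_zero]
        · show c.proj y1 (a + b + d) = b
          rw [map_add, map_add, c.proj_of_fix (c.mem_fix_singleton.1 hb.1), (f0 a ha.1).1, (f2 d hd.1).2,
            zero_add, add_zero]
        · show c.proj y2 (a + b + d) = d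
          rw [map_add, map_add, c.proj_of_fix (c.mem_fix_singleton.1 hd.1), (f0 a ha.1).2, (f1 b hb.1).2,
            zero_add, zero_add] }
  have h := Nat.card_congr e
  rw [Nat.card_prod, Nat.card_prod, e1, e2, c.card_U] at h
  rcases lt_trichotomy (Nat.card ↥(c.fix {ya} ⊓ c.U)) 4 with hlt | heq | hgt
  · interval_cases (Nat.card ↥(c.fix {ya} ⊓ c.U)) <;> omega
  · exact heq
  · have := Nat.mul_le_mul hgt (Nat.mul_le_mul hgt hgt)
    omega

theorem fix_L0_ne_six {l₀ : G} (hl₀ : l₀ ∈ c.L0) (h₀ : c.im l₀ ≠ 1) : Nat.card ↥(c.fix {l₀}) ≠ 2 ^ 6 := by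
  intro hsix
  have hall : ∀ l ∈ c.L0, c.im l ≠ 1 → c.fix {l} = c.U := fun l hl h =>
    (AddSubgroup.eq_of_le_of_card_ge (c.U_le_fix hl)
      (by rw [c.card_U, ← hsix, c.card_fix_L0_const hl hl₀ h h₀])).symm
  obtain ⟨Q, ya, hQ, hQn, hya, -, h3, hq, l, hl, m, hm, hl1, hm1, hlm, hly, hmy⟩ := c.exists_three_lift
  obtain ⟨q, hq, hqy⟩ : ∃ q ∈ Q, q * ya * q⁻¹ = ya * c.pg := by
    obtain ⟨q, hq, h | h⟩ := hq
    · exact ⟨q, hq, h⟩
    · refine ⟨q⁻¹, inv_mem hq, ?_⟩
      have hp : c.pg * q = q * c.pg := c.comm_P (hQ.le hq) c.pg_mem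
      calc q⁻¹ * ya * q⁻¹⁻¹ = q⁻¹ * (ya * c.pg⁻¹) * (c.pg * q) := by group
        _ = q⁻¹ * (q * ya * q⁻¹) * (q * c.pg) := by rw [h, hp]
        _ = _ := by group
  have hcard := c.card_U_fix hQ hQn hya h3 hq hqy
  have hyH := (hQ.le hya).1
  -- the fixed vectors are orthogonal to those in `U`
  have key : ∀ v ∈ c.fix {ya}, ∀ u ∈ c.fix {ya} ⊓ c.U, c.Bf u v = 0 := by
    intro v hv u hu
    by_cases hvU : v ∈ c.U
    · exact c.Bf_U hu.2 hvU
    have hd : ∀ k ∈ c.L0, k * ya = ya * k → c.im k ≠ 1 →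
        c.act k v + v ∈ c.fix {ya} ⊓ c.U ∧ c.act k v + v ≠ 0 := by
      intro k hk hky hk1
      refine ⟨⟨c.mem_fix_singleton.2 ?_, ?_⟩, fun h0 => hvU ?_⟩
      · rw [map_add, ← c.act_apply_mul hyH (c.L0_le hk).1, ← hky, c.act_apply_mul (c.L0_le hk).1 hyH,
          c.mem_fix_singleton.1 hv]
      · rw [← c.perp_U, ← hall k hk hk1]
        exact c.displacement_mem (c.L0_le hk).1 v
      · rw [← hall k hk hk1, c.mem_fix_singleton]
        exact c.add_eq_zero_V h0
    obtain ⟨hx, hx0⟩ := hd l hl hly hl1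
    obtain ⟨hx', hx0'⟩ := hd m hm hmy hm1
    set x := c.act l v + v with hxdef
    have hpom : c.pg * ya = ya * c.pg := c.comm_P (hQ.le hya) c.pg_mem
    have hom : ∀ w ∈ c.fix {ya} ⊓ c.U, c.om w ∈ c.fix {ya} ⊓ c.U := fun w hw =>
      ⟨c.mem_fix_singleton.2 (by rw [c.om_C0 (hQ.le hya), c.mem_fix_singleton.1 hw.1]), c.U_om hw.2⟩
    have hne1 : c.om x ≠ x := fun h => hx0 (c.om_fixed h)
    have hne2 : c.om (c.om x) ≠ x := fun h => hne1 (by
      calc c.om x = c.om (c.om (c.om x)) := by rw [h]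
        _ = x := c.om_cube x)
    have hne3 : c.om (c.om x) ≠ c.om x := fun h => hne1 (c.om_injective h)
    have hz : ∀ w : c.Vs, w ≠ 0 → c.om w ≠ 0 := fun w hw h => hw (c.om_injective (by rw [h, map_zero]))
    have hlist : ({0, x, c.om x, c.om (c.om x)} : Set c.Vs) = ((c.fix {ya} ⊓ c.U : AddSubgroup c.Vs) : Set c.Vs) := by
      refine Set.eq_of_subset_of_ncard_le ?_ ?_ (Set.toFinite _)
      · rintro w (rfl | rfl | rfl | rfl)
        · exact zero_mem _
        · exact hx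
        · exact hom _ hx
        · exact hom _ (hom _ hx)
      · rw [← Nat.card_coe_set_eq]
        refine le_of_eq (hcard.trans ?_)
        rw [Set.ncard_insert_of_notMem ?_ (Set.toFinite _), Set.ncard_insert_of_notMem ?_ (Set.toFinite _),
          Set.ncard_pair hne3.symm]
        · simp only [Set.mem_insert_iff, Set.mem_singleton_iff, not_or]
          exact ⟨hne1.symm, hne2.symm⟩
        · simp only [Set.mem_insert_iff, Set.mem_singleton_iff, not_or]
          exact ⟨hx0.symm, (hz x hx0).symm, (hz _ (hz x hx0)).symm⟩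
    have hB : c.Bf x v = 0 ∧ c.Bf (c.om x) v = 0 ∧ c.Bf (c.om (c.om x)) v = 0 := by
      have hA := c.disp_perp hl v
      have hB := c.disp_perp hm v
      have hC := c.disp_om hl v
      rw [← hxdef] at hA hC
      have hmem : c.act m v + v ∈ ({0, x, c.om x, c.om (c.om x)} : Set c.Vs) := hlist ▸ hx'
      rcases hmem with h | h | h | h
      · exact absurd h hx0'
      · exfalso
        refine hvU ?_
        rw [← hall (l * m) (mul_mem hl hm) hlm, c.mem_fix_singleton, c.act_apply_mul (c.L0_le hl).1 (c.L0_le hm).1,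
          add_right_cancel h, c.act_L0_sq hl]
      · rw [h] at hB
        exact ⟨hA, hB, hC ▸ hB⟩
      · rw [Set.mem_singleton_iff] at h
        rw [h] at hB
        exact ⟨hA, hC.symm ▸ hB, hB⟩
    have humem : u ∈ ({0, x, c.om x, c.om (c.om x)} : Set c.Vs) := hlist ▸ hu
    rcases humem with rfl | rfl | rfl | rfl
    · exact c.Bf_zero_left v
    · exact hB.1
    · exact hB.2.1
    · exact hB.2.2
  obtain ⟨u, hu, hu0⟩ : ∃ u ∈ c.fix {ya} ⊓ c.U, u ≠ 0 := by
    by_contra hcon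
    push Not at hcon
    rw [(AddSubgroup.eq_bot_iff_forall _).2 hcon, AddSubgroup.card_bot] at hcard
    norm_num at hcard
  refine hu0 (c.Bf_nondeg fun a => ?_)
  have e : ∀ w, c.Bf u (c.act ya w) = c.Bf u w := fun w => by
    nth_rewrite 1 [← c.mem_fix_singleton.1 hu.1]
    exact c.Bf_act hyH u w
  have h := key _ (c.proj_fix hyH (h3 ya hya) a) u hu
  rw [c.proj_apply, c.Bf_add_right, c.Bf_add_right] at h
  simp only [e, CharTwo.add_self_eq_zero, zero_add] at h
  exact h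

theorem fix_L0_ne_ten {l₀ : G} (hl₀ : l₀ ∈ c.L0) (h₀ : c.im l₀ ≠ 1) : Nat.card ↥(c.fix {l₀}) ≠ 2 ^ 10 := by
  intro hten
  have hcard : ∀ l ∈ c.L0, c.im l ≠ 1 → Nat.card ↥(c.fix {l}) = 2 ^ 10 := fun l hl h => by
    rw [c.card_fix_L0_const hl hl₀ h h₀, hten]
  have hperp : ∀ l ∈ c.L0, c.im l ≠ 1 → Nat.card ↥(c.perp (c.fix {l})) = 4 := fun l hl h => by
    have := c.card_perp (c.fix {l})
    rw [hcard l hl h] at this
    omega
  have heq : ∀ l ∈ c.L0, c.im l ≠ 1 → c.fix {l} = c.fix {l₀} := by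
    intro l hl hl1
    by_cases him : c.im l = c.im l₀
    · exact c.fix_L0_eq hl hl₀ him
    have hprod : c.im (l * l₀) ≠ 1 := by
      rw [c.im_mul (c.L0_le hl).1 (c.L0_le hl₀).1]
      intro h
      refine him ?_
      rw [eq_inv_of_mul_eq_one_left h]
      exact inv_eq_of_mul_eq_one_right (by rw [← pow_two]; exact c.facts.ea_I.2 _ (c.mem_L0.1 hl₀).2.1)
    by_contra hne
    set D := c.perp (c.fix {l}) ⊓ c.perp (c.fix {l₀}) with hD
    have hinv : ∀ k ∈ c.L0, ∀ v ∈ c.perp (c.fix {k}), c.om v ∈ c.perp (c.fix {k}) := fun k hk v hv =>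
      c.perp_om (fun w hw => c.fix_om (Set.singleton_subset_iff.2 (c.C0_le_M (c.L0_le hk))) hw) hv
    have h3 := c.card_om_invariant D fun v hv => ⟨hinv l hl v hv.1, hinv l₀ hl₀ v hv.2⟩
    have hle : Nat.card ↥D ≤ 4 := hperp l hl hl1 ▸ AddSubgroup.card_le_of_le inf_le_left
    rcases (show Nat.card ↥D = 1 ∨ Nat.card ↥D = 4 by omega) with hD1 | hD4
    · have hbot := AddSubgroup.card_eq_one.1 hD1
      have hsub : c.fix {l * l₀} ≤ c.fix {l} ⊓ c.fix {l₀} := by
        intro v hv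
        rw [c.mem_fix_singleton, c.act_apply_mul (c.L0_le hl).1 (c.L0_le hl₀).1] at hv
        have hlv : c.act l v = c.act l₀ v := by
          nth_rewrite 1 [← hv]
          exact c.act_L0_sq hl _
        have hmem : c.act l v + v ∈ D :=
          ⟨c.displacement_mem (c.L0_le hl).1 v, by rw [hlv]; exact c.displacement_mem (c.L0_le hl₀).1 v⟩
        rw [hbot, AddSubgroup.mem_bot] at hmem
        have := c.add_eq_zero_V hmem
        exact ⟨c.mem_fix_singleton.2 this, c.mem_fix_singleton.2 (hlv ▸ this)⟩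
      have hge := hcard _ (mul_mem hl hl₀) hprod
      have e1 : c.fix {l * l₀} = c.fix {l} :=
        AddSubgroup.eq_of_le_of_card_ge (hsub.trans inf_le_left) (by rw [hge, hcard l hl hl1])
      have e2 : c.fix {l * l₀} = c.fix {l₀} :=
        AddSubgroup.eq_of_le_of_card_ge (hsub.trans inf_le_right) (by rw [hge, hten])
      exact hne (e1.symm.trans e2)
    · have e1 : D = c.perp (c.fix {l}) := AddSubgroup.eq_of_le_of_card_ge inf_le_left (by rw [hperp l hl hl1, hD4])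
      have e2 : D = c.perp (c.fix {l₀}) :=
        AddSubgroup.eq_of_le_of_card_ge inf_le_right (by rw [hperp l₀ hl₀ h₀, hD4])
      exact hne (by rw [← c.perp_perp (c.fix {l}), ← e1, e2, c.perp_perp])
  have hle : c.fix {l₀} ≤ c.U := fun v hv l hl => by
    by_cases h : c.im l = 1
    · rcases c.L0_ker hl h with rfl | rfl
      · rw [c.act_one]; rfl
      · rw [(c.act_eq_one c.z_mem_H).2 c.z_mem_E]; rfl
    · exact c.mem_fix_singleton.1 (heq l hl h ▸ hv)
  have := AddSubgroup.card_le_of_le hle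
  rw [hten, c.card_U] at this
  norm_num at this

/-- An involution of the hexad subgroup fixes `2 ^ 8` vectors. -/
theorem card_fix_L0 {l : G} (hl : l ∈ c.L0) (h : c.im l ≠ 1) : Nat.card ↥(c.fix {l}) = 2 ^ 8 := by
  obtain ⟨k, hk, e⟩ := c.card_addSubgroup (c.fix {l})
  have h3 := c.card_om_invariant (c.fix {l})
    (fun v hv => c.fix_om (Set.singleton_subset_iff.2 (c.C0_le_M (c.L0_le hl))) hv)
  have hge := AddSubgroup.card_le_of_le (c.U_le_fix hl)
  have h6 := c.fix_L0_ne_six hl h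
  have h10 := c.fix_L0_ne_ten hl h
  have h12 : Nat.card ↥(c.fix {l}) ≠ 2 ^ 12 := by
    intro h12
    have htop : c.fix {l} = ⊤ := AddSubgroup.eq_top_of_card_eq _ (by rw [h12, c.card_V])
    refine h (c.im_E ((c.act_eq_one (c.L0_le hl).1).1 (AddMonoidHom.ext fun v => ?_)))
    exact c.mem_fix_singleton.1 (htop ▸ AddSubgroup.mem_top v)
  rw [c.card_U] at hge
  rw [e] at h3 hge h6 h10 h12 ⊢
  interval_cases k <;> omega

/-- An inner element whose image is an involution fixes `2 ^ 8` vectors. -/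
theorem card_fix_inner {x : G} (hx : x ∈ c.M) (hi : orderOf (c.im x) = 2) {a : ℕ} (ha : x ^ 2 ^ a = 1) :
    Nat.card ↥(c.fix {x}) = 2 ^ 8 := by
  have hxH := c.H_of_M hx
  have hxJ : c.im x ∈ J := by rw [c.im_eq hxH]; exact (c.mem_M.1 hx).2
  obtain ⟨j, hj, hjI⟩ := c.facts.invol_I _ hxJ hi
  obtain ⟨g, hg, hgj⟩ := c.exists_C0_im hj
  obtain ⟨l, hl, hli⟩ := c.exists_L0 hjI
  have hgx : g * x * g⁻¹ ∈ c.M :=
    mul_mem (mul_mem (c.C0_le_M hg) hx) (inv_mem (c.C0_le_M hg))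
  have hgxH := c.H_of_M hgx
  have hlne : c.im l ≠ 1 := by
    rw [hli]
    intro h
    rw [conj_eq_one_iff.1 h, orderOf_one] at hi
    norm_num at hi
  rw [← c.card_fix_conj hg.1 hxH, c.fix_act_eq (c.act_eq_of_im hgx (c.C0_le_M (c.L0_le hl))
    (by rw [c.im_conj hg.1 hxH, hgj, hli]) (n := 2 ^ (a + 1)) ((by norm_num : Nat.Coprime 2 3).pow_left _)
    (by rw [← c.act_pow hgxH, conj_pow, pow_succ, pow_mul, ha, one_pow, mul_one, mul_inv_cancel, c.act_one])
    (by rw [← c.act_pow (c.L0_le hl).1, pow_succ', pow_mul, pow_two, c.L0_elementary hl, one_pow, c.act_one]))]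
  exact c.card_fix_L0 hl hlne

/-- An outer element and an inner involution fix at most `2 ^ 4` common vectors. -/
theorem card_fix_pair {s x : G} (hsH : s ∈ c.H) (hs : s ∉ c.M) (hx : x ∈ c.M) (hi : orderOf (c.im x) = 2)
    {a : ℕ} (ha : x ^ 2 ^ a = 1) : Nat.card ↥(c.fix {s, x}) ≤ 2 ^ 4 := by
  set K := c.fix {s, x} with hK
  have hsf : ∀ v ∈ K, c.act s v = v := fun v hv => hv s (Set.mem_insert _ _)
  have hxf : ∀ v ∈ K, v ∈ c.fix {x} := fun v hv => c.mem_fix_singleton.2 (hv x (Set.mem_insert_of_mem _ rfl))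
  let f : ↥K × ↥K → ↥(c.fix {x}) := fun w =>
    ⟨(w.1 : c.Vs) + c.om w.2, add_mem (hxf _ w.1.2) (c.fix_om (Set.singleton_subset_iff.2 hx) (hxf _ w.2.2))⟩
  have hf : Function.Injective f := by
    rintro ⟨v, w⟩ ⟨v', w'⟩ h
    have h' : (v : c.Vs) + c.om w = v' + c.om w' := congrArg Subtype.val h
    have hd : (v : c.Vs) + v' = c.om ((w : c.Vs) + w') := by
      rw [map_add]
      calc (v : c.Vs) + v' = (v : c.Vs) + c.om w + (c.om w + v') := by
            rw [add_assoc, ← add_assoc (c.om (w : c.Vs)), c.two_V, zero_add]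
        _ = v' + c.om w' + (c.om w + v') := by rw [h']
        _ = c.om w + c.om w' + (v' + v') := by abel
        _ = _ := by rw [c.two_V, add_zero]
    have hw : (w : c.Vs) + w' = 0 := by
      have h1 := hsf _ (add_mem v.2 v'.2)
      rw [hd, c.om_outer hsH hs, hsf _ (add_mem w.2 w'.2)] at h1
      exact c.om_fixed (c.om_injective h1)
    have hww : (w : c.Vs) = w' := c.add_eq_zero_V hw
    refine Prod.ext (Subtype.ext ?_) (Subtype.ext hww)
    rw [hww] at h'
    exact add_right_cancel h'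
  have h := Nat.card_le_card_of_injective f hf
  rw [Nat.card_prod, c.card_fix_inner hx hi ha] at h
  by_contra hcon
  push Not at hcon
  have := Nat.mul_le_mul (le_of_lt hcon) (le_of_lt hcon)
  have h2 : (2 ^ 4 + 1) * (2 ^ 4 + 1) ≤ Nat.card ↥K * Nat.card ↥K := Nat.mul_le_mul hcon hcon
  omega

end CfsgLib.Spor.JFourType.Ctx
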