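import Cfsg.Agent.Lib.Spor.JFourType.Fixed

/-!
# An inner involution fixes `2 ^ 8` vectors
-/

set_option autoImplicit false
set_option linter.style.haveILetI false

namespace CfsgLib.Spor.JFourType.Ctx

open Subgroup
open scoped commutatorElement

universe u

variable {G : Type u} [Group G] [Finite G] {A : Type} [Group A] {J I R : Subgroup A}
  {z : G} {P : Subgroup G} (c : Ctx J I R z P)
include c

/-- The facts about elements of order three, lifted to `C0`. -/
theorem exists_three_lift : ∃ (Q : Subgroup G) (ya : G), c.Three Q ∧ (∀ x ∈ Q, c.im x ∈ normalizer (I : Set A)) ∧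
    ya ∈ Q ∧ ya ^ 3 = 1 ∧ (∀ x ∈ Q, x ^ 3 = 1) ∧
    (∃ q ∈ Q, q * ya * q⁻¹ = ya * c.pg ∨ q * ya * q⁻¹ = ya * c.pg⁻¹) ∧
    ∃ l ∈ c.L0, ∃ m ∈ c.L0, c.im l ≠ 1 ∧ c.im m ≠ 1 ∧ c.im (l * m) ≠ 1 ∧ l * ya = ya * l ∧ m * ya = ya * m := by
  haveI : Finite A := Finite.of_surjective c.pr c.pr_surj
  obtain ⟨a, b, n, ha, hb, hn, haI, hbI, hao, hbo, hab, hnb, hna, hnb', ⟨i, hi, j, hj, hi1, hj1, hij, hia, hja⟩, -⟩ :=
    c.facts.three
  obtain ⟨Q, hQC, hQ27, hPQ, hQY, hYQ, hcomm⟩ := c.exists_three (closure {a, b})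
    ((Subgroup.closure_le _).2 (Set.insert_subset ha (Set.singleton_subset_iff.2 hb)))
    (card_closure_pair hao hbo hab hnb)
  have hQ : c.Three Q := ⟨hQC, hQ27, hPQ, hcomm⟩
  have hQn : ∀ x ∈ Q, c.im x ∈ normalizer (I : Set A) := fun x hx => by
    rw [c.im_eq (hQC hx).1]
    exact ((Subgroup.closure_le _).2 (Set.insert_subset (isConjugateBy_self_iff.1 haI)
      (Set.singleton_subset_iff.2 (isConjugateBy_self_iff.1 hbI)))) (hQY x (hQC hx) hx)
  obtain ⟨ya, hyaC, hyaQ, hya⟩ := hYQ a (subset_closure (Set.mem_insert _ _))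
  obtain ⟨yb, hybC, hybQ, hyb⟩ := hYQ b (subset_closure (Set.mem_insert_of_mem _ rfl))
  rw [← c.im_eq] at hya hyb
  have hcen : ∀ (q : G), q ∈ P → ∀ x ∈ Q, q * x = x * q := fun q hq x hx => c.comm_P (hQC hx) hq
  have hord : ∀ x ∈ Q, x ^ 9 = 1 := by
    intro x hx
    have h27 := pow_card_eq_one' (G := ↥Q) (x := ⟨x, hx⟩)
    rw [hQ27] at h27
    have h27' : x ^ 27 = 1 := congrArg Subtype.val h27
    have him : c.pr ⟨x ^ 3, (pow_mem (hQC hx) 3).1⟩ = 1 := by
      rw [← c.im_eq, c.im_pow (hQC hx).1]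
      have hmem := hQY x (hQC hx) hx
      rw [← c.im_eq] at hmem
      have h9 : ∀ w ∈ closure ({a, b} : Set A), w ^ 3 = 1 := by
        intro w hw
        induction hw using closure_induction with
        | mem w hw => rcases hw with rfl | rfl <;> [rw [← hao]; rw [← hbo]] <;> exact pow_orderOf_eq_one _
        | one => exact one_pow _
        | mul u v hu hv eu ev =>
          have hc : Commute u v := by
            haveI : Fact (Nat.Prime 3) := ⟨Nat.prime_three⟩
            exact congrArg Subtype.val ((IsPGroup.isMulCommutative_of_card_eq_prime_sq (p := 3)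
              (G := ↥(closure ({a, b} : Set A))) (by rw [card_closure_pair hao hbo hab hnb]; norm_num)).is_comm.comm
              ⟨u, hu⟩ ⟨v, hv⟩)
          rw [hc.mul_pow, eu, ev, one_mul]
        | inv u _ eu => rw [inv_pow, eu, inv_one]
      exact h9 _ hmem
    obtain ⟨q, hq, h | h⟩ := c.ker_C0 (pow_mem (hQC hx) 3) him
    · rw [show 9 = 3 * 3 from rfl, pow_mul, h]
      have := pow_card_eq_one' (G := ↥P) (x := ⟨q, hq⟩)
      rw [c.card_P] at this
      exact congrArg Subtype.val this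
    · exfalso
      have hzQ : z ∈ Q := by
        rw [show z = x ^ 3 * q⁻¹ by rw [h, mul_inv_cancel_right]]
        exact mul_mem (pow_mem hx 3) (inv_mem (hPQ hq))
      have := orderOf_dvd_natCard (⟨z, hzQ⟩ : ↥Q)
      rw [← Subgroup.orderOf_coe, c.ord, hQ27] at this
      norm_num at this
  -- cubes are fixed by the normalizing element
  obtain ⟨g, hg, hgn⟩ := c.exists_C0_im hn
  have hconj : ∀ u ∈ Q, ∀ v ∈ Q, c.im (g * u * g⁻¹) = c.im v → u ^ 3 = v ^ 3 := by
    intro u hu v hv he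
    have hCu : g * u * g⁻¹ ∈ c.C0 := mul_mem (mul_mem hg (hQC hu)) (inv_mem hg)
    have him : c.pr ⟨v⁻¹ * (g * u * g⁻¹), (mul_mem (inv_mem (hQC hv)) hCu).1⟩ = 1 := by
      rw [← c.im_eq, c.im_mul (inv_mem (hQC hv).1) hCu.1, c.im_inv (hQC hv).1, he, inv_mul_cancel]
    have hu3 : g * u ^ 3 * g⁻¹ = u ^ 3 := by
      have h1 : c.pr ⟨u ^ 3, (pow_mem (hQC hu) 3).1⟩ = 1 := by
        rw [← c.im_eq, c.im_pow (hQC hu).1]
        have hmem := hQY u (hQC hu) hu
        rw [← c.im_eq] at hmem
        have h9' := hord u hu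
        have hd := orderOf_dvd_natCard (⟨c.im u, hmem⟩ : ↥(closure ({a, b} : Set A)))
        rw [← Subgroup.orderOf_coe, card_closure_pair hao hbo hab hnb] at hd
        by_contra h3
        haveI : Fact (Nat.Prime 3) := ⟨Nat.prime_three⟩
        have hcyc : Nat.card ↥(zpowers (c.im u)) = 9 := by
          rw [Nat.card_zpowers]
          obtain ⟨k, hk, e⟩ := (Nat.dvd_prime_pow Nat.prime_three).1 (show orderOf (c.im u) ∣ 3 ^ 2 from hd)
          interval_cases k
          · exact absurd (by rw [orderOf_eq_one_iff.1 e, one_pow]) h3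
          · exact absurd (by rw [show 3 = orderOf (c.im u) by rw [e]; rfl, pow_orderOf_eq_one]) h3
          · exact e
        have heq : zpowers (c.im u) = closure ({a, b} : Set A) :=
          eq_of_le_of_card_ge (zpowers_le.2 hmem) (by rw [hcyc, card_closure_pair hao hbo hab hnb])
        obtain ⟨ka, hka⟩ := mem_zpowers_iff.1 (heq.symm ▸ subset_closure (Set.mem_insert a {b}) :
          a ∈ zpowers (c.im u))
        obtain ⟨kb, hkb⟩ := mem_zpowers_iff.1 (heq.symm ▸ subset_closure (Set.mem_insert_of_mem a rfl) :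
          b ∈ zpowers (c.im u))
        haveI : IsCyclic ↥(zpowers (c.im u)) := inferInstance
        have hu9 : c.im u ^ 9 = 1 := by rw [← hcyc, Nat.card_zpowers, pow_orderOf_eq_one]
        -- both generators are powers of the cube
        have hdvd : ∀ k : ℤ, (c.im u ^ k) ^ 3 = 1 → (3 : ℤ) ∣ k := by
          intro k hk
          rw [← zpow_natCast, ← zpow_mul, ← orderOf_dvd_iff_zpow_eq_one, ← Nat.card_zpowers, hcyc] at hk
          omega
        obtain ⟨ka', rfl⟩ := hdvd ka (by rw [hka, ← hao, pow_orderOf_eq_one])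
        obtain ⟨kb', rfl⟩ := hdvd kb (by rw [hkb, ← hbo, pow_orderOf_eq_one])
        have hle : closure ({a, b} : Set A) ≤ zpowers (c.im u ^ 3) := (Subgroup.closure_le _).2
          (Set.insert_subset (mem_zpowers_iff.2 ⟨ka', by rw [← hka, ← zpow_natCast, ← zpow_mul]; norm_num⟩)
            (Set.singleton_subset_iff.2 (mem_zpowers_iff.2 ⟨kb', by rw [← hkb, ← zpow_natCast, ← zpow_mul]; norm_num⟩)))
        have hc3 := card_le_of_le hle
        rw [card_closure_pair hao hbo hab hnb, Nat.card_zpowers] at hc3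
        have : orderOf (c.im u ^ 3) ≤ 3 :=
          orderOf_le_of_pow_eq_one (by norm_num) (by rw [← pow_mul]; exact hu9)
        omega
      obtain ⟨q, hq, h | h⟩ := c.ker_C0 (pow_mem (hQC hu) 3) h1
      · rw [h, ← c.comm_P hg hq, mul_inv_cancel_right]
      · rw [h, show g * (z * q) = z * q * g by
          rw [← mul_assoc, c.comm_z hg.1, mul_assoc, ← c.comm_P hg hq, ← mul_assoc], mul_inv_cancel_right]
    obtain ⟨q, hq, h | h⟩ := c.ker_C0 (mul_mem (inv_mem (hQC hv)) hCu) him
    · have e : g * u * g⁻¹ = v * q := inv_mul_eq_iff_eq_mul.1 h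
      have hq3 : q ^ 3 = 1 := by
        have := pow_card_eq_one' (G := ↥P) (x := ⟨q, hq⟩)
        rw [c.card_P] at this
        exact congrArg Subtype.val this
      rw [← hu3, ← conj_pow, e, (show Commute v q from (hcen q hq v hv).symm).mul_pow, hq3, mul_one]
    · exfalso
      have e : g * u * g⁻¹ = v * (z * q) := inv_mul_eq_iff_eq_mul.1 h
      have h9 : (g * u * g⁻¹) ^ 9 = 1 := by rw [conj_pow, hord u hu, mul_one, mul_inv_cancel]
      have hq9 : q ^ 9 = 1 := hord q (hPQ hq)
      rw [e, (show Commute v (z * q) from ((show Commute v z from c.comm_z (hQC hv).1).mul_right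
        (hcen q hq v hv).symm)).mul_pow, (show Commute z q from (c.comm_z (c.P_le_C0 hq).1).symm).mul_pow,
        hord v hv, hq9, one_mul, mul_one, show (9 : ℕ) = 2 * 4 + 1 from rfl, pow_succ, pow_mul, pow_two, c.zz,
        one_pow, one_mul] at h9
      exact c.z_ne h9
  have hyaH : ya ∈ c.H := (hQC hyaQ).1
  have hybH : yb ∈ c.H := (hQC hybQ).1
  have hAB : ya ^ 3 = yb ^ 3 := hconj ya hyaQ yb hybQ (by rw [c.im_conj hg.1 hyaH, hgn, hya, hna, hyb])
  have hBA : yb ^ 3 = (ya⁻¹) ^ 3 := hconj yb hybQ ya⁻¹ (inv_mem hyaQ) (by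
    rw [c.im_conj hg.1 hybH, hgn, hyb, hnb', c.im_inv hyaH, hya])
  have hya3 : ya ^ 3 = 1 := by
    have h6 : ya ^ 3 * ya ^ 3 = 1 := by
      nth_rewrite 1 [hAB, hBA]
      rw [inv_pow, inv_mul_cancel]
    calc ya ^ 3 = (ya ^ 3 * ya ^ 3) * (ya ^ 3 * ya ^ 3) * (ya ^ 9)⁻¹ := by group
      _ = 1 := by rw [h6, hord ya hyaQ, one_mul, one_mul, inv_one]
  have hne_ab : a ≠ 1 := fun h => by simp [h] at hao
  -- all elements of `Q` have order three
  have hexp : ∀ x ∈ Q, x ^ 3 = 1 := by
    obtain ⟨u, hu, v, hv, huv⟩ := hcomm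
    let S : Subgroup G :=
      { carrier := {x | x ∈ Q ∧ x ^ 3 = 1}
        one_mem' := ⟨one_mem _, one_pow _⟩
        mul_mem' := by
          rintro x y ⟨hx, ex⟩ ⟨hy, ey⟩
          refine ⟨mul_mem hx hy, ?_⟩
          obtain ⟨k, hk, hkk⟩ : ∃ k ∈ P, y * x = x * y * k := by
            refine ⟨(x * y)⁻¹ * (y * x), ?_, by group⟩
            have hm : (x * y)⁻¹ * (y * x) ∈ Q := mul_mem (inv_mem (mul_mem hx hy)) (mul_mem hy hx)
            have h1 : c.pr ⟨(x * y)⁻¹ * (y * x), (hQC hm).1⟩ = 1 := by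
              have hxH := (hQC hx).1
              have hyH := (hQC hy).1
              rw [← c.im_eq, c.im_mul (inv_mem (mul_mem hxH hyH)) (mul_mem hyH hxH), c.im_inv (mul_mem hxH hyH),
                c.im_mul hxH hyH, c.im_mul hyH hxH, inv_mul_eq_one]
              have mx := hQY x (hQC hx) hx
              have my := hQY y (hQC hy) hy
              rw [← c.im_eq] at mx my
              haveI : Fact (Nat.Prime 3) := ⟨Nat.prime_three⟩
              exact congrArg Subtype.val ((IsPGroup.isMulCommutative_of_card_eq_prime_sq (p := 3)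
                (G := ↥(closure ({a, b} : Set A))) (by rw [card_closure_pair hao hbo hab hnb]; norm_num)).is_comm.comm
                ⟨c.im x, mx⟩ ⟨c.im y, my⟩)
            obtain ⟨q, hq, h | h⟩ := c.ker_C0 (hQC hm) h1
            · exact h ▸ hq
            · exfalso
              have hzQ : z ∈ Q := by
                rw [show z = (x * y)⁻¹ * (y * x) * q⁻¹ by rw [h, mul_inv_cancel_right]]
                exact mul_mem hm (inv_mem (hPQ hq))
              have := orderOf_dvd_natCard (⟨z, hzQ⟩ : ↥Q)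
              rw [← Subgroup.orderOf_coe, c.ord, hQ27] at this
              norm_num at this
          have hk3 : k * k * k = 1 := by
            have := pow_card_eq_one' (G := ↥P) (x := ⟨k, hk⟩)
            rw [c.card_P, pow_succ, pow_two] at this
            exact congrArg Subtype.val this
          have ck : ∀ w ∈ Q, k * w = w * k := fun w hw => hcen k hk w hw
          have ex' : x * x * x = 1 := by rw [← ex, pow_succ, pow_two]
          have ey' : y * y * y = 1 := by rw [← ey, pow_succ, pow_two]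
          calc (x * y) ^ 3 = x * (y * x) * (y * x) * y := by rw [pow_succ, pow_two]; group
            _ = x * (x * y * k) * (x * y * k) * y := by rw [hkk]
            _ = x * x * y * (k * x) * (y * k) * y := by group
            _ = x * x * (y * x) * k * (y * k) * y := by rw [ck x hx]; group
            _ = x * x * (x * y * k) * k * (y * k) * y := by rw [hkk]
            _ = (x * x * x) * y * (k * k * y) * (k * y) := by group
            _ = (x * x * x) * y * (y * (k * k)) * (k * y) := by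
              rw [((show Commute k y from ck y hy).mul_left (ck y hy)).eq]
            _ = (x * x * x) * y * y * (k * k * k) * y := by group
            _ = 1 := by rw [ex', hk3, mul_one, one_mul, ey']
        inv_mem' := fun {x} hx => ⟨inv_mem hx.1, by rw [inv_pow, hx.2, inv_one]⟩ }
    have hle : S ≤ Q := fun x hx => hx.1
    have hyb3 : yb ^ 3 = 1 := by rw [← hAB, hya3]
    have hP3 : ∀ p ∈ P, p ∈ S := fun p hp => ⟨hPQ hp, by
      have := pow_card_eq_one' (G := ↥P) (x := ⟨p, hp⟩)
      rw [c.card_P] at this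
      exact congrArg Subtype.val this⟩
    intro x hx
    suffices h : x ∈ S from h.2
    have hmem := hQY x (hQC hx) hx
    rw [← c.im_eq] at hmem
    obtain ⟨y, hyS, hye⟩ : ∃ y ∈ S, c.im y = c.im x := by
      generalize c.im x = w at hmem
      induction hmem using closure_induction with
      | mem w hw =>
        rcases hw with rfl | rfl
        · exact ⟨ya, ⟨hyaQ, hya3⟩, hya⟩
        · exact ⟨yb, ⟨hybQ, hyb3⟩, hyb⟩
      | one => exact ⟨1, one_mem _, c.im_one⟩
      | mul u v _ _ eu ev =>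
        obtain ⟨p, hp, rfl⟩ := eu
        obtain ⟨q, hq, rfl⟩ := ev
        exact ⟨p * q, mul_mem hp hq, c.im_mul (hQC hp.1).1 (hQC hq.1).1⟩
      | inv u _ eu =>
        obtain ⟨p, hp, rfl⟩ := eu
        exact ⟨p⁻¹, inv_mem hp, c.im_inv (hQC hp.1).1⟩
    have hd : y⁻¹ * x ∈ Q := mul_mem (inv_mem hyS.1) hx
    obtain ⟨q, hq, h | h⟩ := c.ker_C0 (hQC hd) (by
      rw [← c.im_eq, c.im_mul (inv_mem (hQC hyS.1).1) (hQC hx).1, c.im_inv (hQC hyS.1).1, hye, inv_mul_cancel])
    · rw [inv_mul_eq_iff_eq_mul.1 h]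
      exact mul_mem hyS (hP3 q hq)
    · exfalso
      have hzQ : z ∈ Q := by
        rw [show z = y⁻¹ * x * q⁻¹ by rw [h, mul_inv_cancel_right]]
        exact mul_mem hd (inv_mem (hPQ hq))
      have := orderOf_dvd_natCard (⟨z, hzQ⟩ : ↥Q)
      rw [← Subgroup.orderOf_coe, c.ord, hQ27] at this
      norm_num at this
  -- a conjugate differing by the centre
  have hq : ∃ q ∈ Q, q * ya * q⁻¹ = ya * c.pg ∨ q * ya * q⁻¹ = ya * c.pg⁻¹ := by
    have hk : ∀ q ∈ Q, ya⁻¹ * (q * ya * q⁻¹) ∈ P := by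
      intro q hq
      have hm : ya⁻¹ * (q * ya * q⁻¹) ∈ Q := mul_mem (inv_mem hyaQ) (mul_mem (mul_mem hq hyaQ) (inv_mem hq))
      have h1 : c.pr ⟨_, (hQC hm).1⟩ = 1 := by
        rw [← c.im_eq, c.im_mul (inv_mem hyaH) (mul_mem (mul_mem (hQC hq).1 hyaH) (inv_mem (hQC hq).1)),
          c.im_inv hyaH, c.im_conj (hQC hq).1 hyaH]
        have mx := hQY q (hQC hq) hq
        rw [← c.im_eq] at mx
        haveI : Fact (Nat.Prime 3) := ⟨Nat.prime_three⟩
        have hcm : c.im q * c.im ya = c.im ya * c.im q := congrArg Subtype.val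
          ((IsPGroup.isMulCommutative_of_card_eq_prime_sq (p := 3)
            (G := ↥(closure ({a, b} : Set A))) (by rw [card_closure_pair hao hbo hab hnb]; norm_num)).is_comm.comm
            ⟨c.im q, mx⟩ ⟨c.im ya, by rw [hya]; exact subset_closure (Set.mem_insert a {b})⟩)
        rw [hcm, mul_inv_cancel_right, inv_mul_cancel]
      obtain ⟨p, hp, h | h⟩ := c.ker_C0 (hQC hm) h1
      · exact h ▸ hp
      · exfalso
        have hzQ : z ∈ Q := by
          rw [show z = ya⁻¹ * (q * ya * q⁻¹) * p⁻¹ by rw [h, mul_inv_cancel_right]]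
          exact mul_mem hm (inv_mem (hPQ hp))
        have := orderOf_dvd_natCard (⟨z, hzQ⟩ : ↥Q)
        rw [← Subgroup.orderOf_coe, c.ord, hQ27] at this
        norm_num at this
    by_contra hcon
    push Not at hcon
    have hcentral : ∀ q ∈ Q, q * ya = ya * q := by
      intro q hq
      rcases c.mem_P (hk q hq) with h | h | h
      · exact mul_inv_eq_iff_eq_mul.1 (inv_mul_eq_one.1 h).symm
      · exact absurd (inv_mul_eq_iff_eq_mul.1 h) (hcon q hq).1
      · exact absurd (inv_mul_eq_iff_eq_mul.1 h) (hcon q hq).2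
    obtain ⟨u, hu, v, hv, huv⟩ := hcomm
    -- everything would commute
    have hall : ∀ x ∈ Q, ∃ k : ℤ, ∃ m : ℤ, ∃ p ∈ P, x = ya ^ k * yb ^ m * p := by
      intro x hx
      have hmem := hQY x (hQC hx) hx
      rw [← c.im_eq] at hmem
      obtain ⟨k, m, hkm⟩ : ∃ k m : ℤ, c.im x = a ^ k * b ^ m := by
        generalize c.im x = w at hmem
        induction hmem using closure_induction with
        | mem w hw =>
          rcases hw with rfl | rfl
          · exact ⟨1, 0, by rw [zpow_one, zpow_zero, mul_one]⟩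
          · exact ⟨0, 1, by rw [zpow_one, zpow_zero, one_mul]⟩
        | one => exact ⟨0, 0, by rw [zpow_zero, zpow_zero, mul_one]⟩
        | mul u v _ _ eu ev =>
          obtain ⟨k, m, rfl⟩ := eu
          obtain ⟨k', m', rfl⟩ := ev
          exact ⟨k + k', m + m', by
            rw [zpow_add, zpow_add, ((show Commute a b from hab).zpow_zpow k' m).mul_mul_mul_comm]⟩
        | inv u _ eu =>
          obtain ⟨k, m, rfl⟩ := eu
          exact ⟨-k, -m, by
            rw [zpow_neg, zpow_neg, mul_inv_rev, ((show Commute a b from hab).zpow_zpow k m).inv_inv.eq]⟩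
      have hm : (ya ^ k * yb ^ m)⁻¹ * x ∈ Q := mul_mem (inv_mem (mul_mem (zpow_mem hyaQ k) (zpow_mem hybQ m))) hx
      have h1 : c.pr ⟨_, (hQC hm).1⟩ = 1 := by
        have e1 : ∀ (w : G) (hw : w ∈ c.H) (k : ℤ), c.im (w ^ k) = c.im w ^ k := fun w hw k => by
          rw [c.im_eq hw, c.im_eq (zpow_mem hw k), ← map_zpow]; rfl
        rw [← c.im_eq, c.im_mul (inv_mem (mul_mem (zpow_mem hyaH k) (zpow_mem hybH m))) (hQC hx).1,
          c.im_inv (mul_mem (zpow_mem hyaH k) (zpow_mem hybH m)), c.im_mul (zpow_mem hyaH k) (zpow_mem hybH m),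
          e1 ya hyaH, e1 yb hybH, hya, hyb, hkm, inv_mul_cancel]
      obtain ⟨p, hp, h | h⟩ := c.ker_C0 (hQC hm) h1
      · exact ⟨k, m, p, hp, inv_mul_eq_iff_eq_mul.1 h⟩
      · exfalso
        have hzQ : z ∈ Q := by
          rw [show z = (ya ^ k * yb ^ m)⁻¹ * x * p⁻¹ by rw [h, mul_inv_cancel_right]]
          exact mul_mem hm (inv_mem (hPQ hp))
        have := orderOf_dvd_natCard (⟨z, hzQ⟩ : ↥Q)
        rw [← Subgroup.orderOf_coe, c.ord, hQ27] at this
        norm_num at this
    obtain ⟨k, m, p, hp, rfl⟩ := hall u hu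
    obtain ⟨k', m', p', hp', rfl⟩ := hall v hv
    have c1 : Commute ya yb := (hcentral yb hybQ).symm
    have cp : ∀ p ∈ P, Commute p ya ∧ Commute p yb := fun p hp => ⟨hcen p hp ya hyaQ, hcen p hp yb hybQ⟩
    have hcc : Commute (ya ^ k * yb ^ m * p) (ya ^ k' * yb ^ m' * p') := by
      have A1 : ∀ k : ℤ, ∀ w, Commute ya w → Commute (ya ^ k) w := fun k w h => h.zpow_left k
      have hb1 : ∀ {w : G}, Commute w ya → Commute w yb → Commute w p' → Commute w (ya ^ k' * yb ^ m' * p') :=
        fun h1 h2 h3 => ((h1.zpow_right k').mul_right (h2.zpow_right m')).mul_right h3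
      refine ((hb1 (A1 k _ (Commute.refl ya)) (A1 k _ c1) (A1 k _ (cp p' hp').1.symm)).mul_left
        (hb1 (c1.symm.zpow_left m) ((Commute.refl yb).zpow_left m) ((cp p' hp').2.symm.zpow_left m))).mul_left
        (hb1 (cp p hp).1 (cp p hp).2 (hcen p hp p' (hPQ hp')))
    rw [commutatorElement_eq_one_iff_commute.2 hcc] at huv
    simpa [← huv] using c.ord_pg
  obtain ⟨l, hl, hli⟩ := c.exists_L0 hi
  obtain ⟨m, hm, hmj⟩ := c.exists_L0 hj
  have hfix : ∀ w ∈ c.L0, c.im w * a = a * c.im w → w * ya = ya * w := by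
    intro w hw hwa
    have hwH := (c.L0_le hw).1
    have hcw := c.L0_conj (hQC hyaQ) (hQn ya hyaQ) hw
    have he : c.im (w⁻¹ * (ya * w * ya⁻¹)) = 1 := by
      rw [c.im_mul (inv_mem hwH) (c.L0_le hcw).1, c.im_inv hwH, c.im_conj hyaH hwH, hya, ← hwa,
        mul_inv_cancel_right, inv_mul_cancel]
    rcases c.L0_ker (mul_mem (inv_mem hw) hcw) he with h | h
    · exact (mul_inv_eq_iff_eq_mul.1 (inv_mul_eq_one.1 h).symm).symm
    · exfalso
      have e : ya * w * ya⁻¹ = w * z := inv_mul_eq_iff_eq_mul.1 h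
      have hzc : ya * z * ya⁻¹ = z := by rw [c.comm_z hyaH, mul_inv_cancel_right]
      have e3 : ya ^ 3 * w * (ya ^ 3)⁻¹ = w * z := by
        calc ya ^ 3 * w * (ya ^ 3)⁻¹ = ya * (ya * (ya * w * ya⁻¹) * ya⁻¹) * ya⁻¹ := by
              rw [pow_succ, pow_two]; group
          _ = ya * (ya * (w * z) * ya⁻¹) * ya⁻¹ := by rw [e]
          _ = ya * ((ya * w * ya⁻¹) * (ya * z * ya⁻¹)) * ya⁻¹ := by group
          _ = ya * (w * (z * z)) * ya⁻¹ := by rw [e, hzc, mul_assoc w z z]
          _ = w * z := by rw [c.zz, mul_one, e]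
      rw [hya3, one_mul, inv_one, mul_one] at e3
      exact c.z_ne (mul_eq_left.1 e3.symm)
  refine ⟨Q, ya, hQ, hQn, hyaQ, hya3, hexp, hq, l, hl, m, hm, hli.symm ▸ hi1, hmj.symm ▸ hj1, ?_,
    hfix l hl (by rw [hli, hia]), hfix m hm (by rw [hmj, hja])⟩
  rw [c.im_mul (c.L0_le hl).1 (c.L0_le hm).1, hli, hmj]
  intro h
  apply hij
  calc i = i * (j * j) := by rw [show j * j = 1 by rw [← pow_two]; exact c.facts.ea_I.2 j hj, mul_one]
    _ = j := by rw [← mul_assoc, h, one_mul]

end CfsgLib.Spor.JFourType.Ctx
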