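import Cfsg.Agent.Lib.Spor.JFourType.WSub

/-!
# Fixed spaces of inner elements

The image in the quotient determines the action of an element of order prime to three.
-/

set_option autoImplicit false
set_option linter.style.haveILetI false

namespace CfsgLib.Spor.JFourType.Ctx

open Subgroup

universe u

variable {G : Type u} [Group G] [Finite G] {A : Type} [Group A] {J I R : Subgroup A}
  {z : G} {P : Subgroup G} (c : Ctx J I R z P)
include c

theorem act_pow {x : G} (hx : x ∈ c.H) (n : ℕ) : c.act (x ^ n) = c.act x ^ n := by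
  induction n with
  | zero => rw [pow_zero, pow_zero, c.act_one]
  | succ n ih => rw [pow_succ, pow_succ, c.act_mul (pow_mem hx n) hx, ih]

theorem act_P_of_pow {q : G} (hq : q ∈ P) {n : ℕ} (hn : n.Coprime 3) (h : c.act q ^ n = 1) : q = 1 := by
  have hqH := (c.P_le_C0 hq).1
  rw [← c.act_pow hqH, c.act_eq_one (pow_mem hqH n)] at h
  have h1 : q ^ n = 1 := c.E_inf_P h (pow_mem hq n)
  have h3 := orderOf_dvd_natCard (⟨q, hq⟩ : ↥P)
  rw [← Subgroup.orderOf_coe, c.card_P] at h3
  exact orderOf_eq_one_iff.1 (Nat.eq_one_of_dvd_coprimes hn (orderOf_dvd_of_pow_eq_one h1) h3)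

theorem act_of_im_eq_one {x : G} (hx : x ∈ c.H) (h : c.im x = 1) : ∃ q ∈ P, c.act x = c.act q := by
  rw [c.im_eq hx] at h
  obtain ⟨e, he, q, hq, rfl⟩ := c.ker_decomp hx h
  exact ⟨q, hq, by rw [c.act_mul (c.E_le he) (c.P_le_C0 hq).1, (c.act_eq_one (c.E_le he)).2 he, one_mul]⟩

/-- The action of an element of order prime to three is determined by the image. -/
theorem act_eq_of_im {x y : G} (hx : x ∈ c.M) (hy : y ∈ c.M) (h : c.im x = c.im y) {n : ℕ} (hn : n.Coprime 3)
    (hxn : c.act x ^ n = 1) (hyn : c.act y ^ n = 1) : c.act x = c.act y := by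
  have hxH := c.H_of_M hx
  have hyH := c.H_of_M hy
  obtain ⟨q, hq, hact⟩ := c.act_of_im_eq_one (mul_mem hxH (inv_mem hyH))
    (by rw [c.im_mul hxH (inv_mem hyH), c.im_inv hyH, h, mul_inv_cancel])
  have hqH := (c.P_le_C0 hq).1
  have he : c.act x = c.act q * c.act y := by
    rw [← hact, ← c.act_mul (mul_mem hxH (inv_mem hyH)) hyH, inv_mul_cancel_right]
  have hcomm : Commute (c.act q) (c.act y) := by
    refine AddMonoidHom.ext fun v => ?_
    show c.act q (c.act y v) = c.act y (c.act q v)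
    rcases c.mem_P hq with rfl | rfl | rfl
    · rw [c.act_one]; rfl
    · exact (c.om_M hy v).symm
    · refine (c.act_injective c.pg_H) ?_
      rw [c.act_apply_inv c.pg_H]
      refine (?_ : c.act y v = c.om (c.act y (c.act c.pg⁻¹ v)))
      rw [← c.om_M hy, om, c.act_apply_inv c.pg_H]
  rw [he, hcomm.mul_pow, hyn, mul_one] at hxn
  rw [he, c.act_P_of_pow hq hn hxn, c.act_one, one_mul]

theorem fix_conj {g x : G} (hg : g ∈ c.H) (hx : x ∈ c.H) {v : c.Vs} :
    v ∈ c.fix {g * x * g⁻¹} ↔ c.act g⁻¹ v ∈ c.fix {x} := by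
  rw [c.mem_fix_singleton, c.mem_fix_singleton, c.act_mul (mul_mem hg hx) (inv_mem hg), c.act_mul hg hx]
  refine ⟨fun h => c.act_injective hg ?_, fun h => ?_⟩
  · rw [c.act_apply_inv hg]; exact h
  · show c.act g (c.act x (c.act g⁻¹ v)) = v
    rw [h, c.act_apply_inv hg]

theorem card_fix_conj {g x : G} (hg : g ∈ c.H) (hx : x ∈ c.H) :
    Nat.card ↥(c.fix {g * x * g⁻¹}) = Nat.card ↥(c.fix {x}) :=
  Nat.card_congr
    { toFun := fun v => ⟨c.act g⁻¹ v, (c.fix_conj hg hx).1 v.2⟩
      invFun := fun v => ⟨c.act g v, (c.fix_conj hg hx).2 (by rw [c.act_inv_apply hg]; exact v.2)⟩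
      left_inv := fun v => Subtype.ext (c.act_apply_inv hg _)
      right_inv := fun v => Subtype.ext (c.act_inv_apply hg _) }

theorem fix_act_eq {x y : G} (h : c.act x = c.act y) : c.fix {x} = c.fix {y} := by
  ext v
  rw [c.mem_fix_singleton, c.mem_fix_singleton, h]

/-- An `om`-invariant subgroup has order congruent to one modulo three. -/
theorem card_om_invariant (W : AddSubgroup c.Vs) (hW : ∀ v ∈ W, c.om v ∈ W) : Nat.card ↥W % 3 = 1 := by
  haveI : Fact (Nat.Prime 3) := ⟨Nat.prime_three⟩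
  have hP : ∀ q ∈ P, ∀ v ∈ W, c.act q v ∈ W := by
    intro q hq v hv
    rcases c.mem_P hq with rfl | rfl | rfl
    · rw [c.act_one]; exact hv
    · exact hW v hv
    · have e : c.act c.pg⁻¹ v = c.om (c.om v) := by
        refine c.act_injective c.pg_H ?_
        rw [c.act_apply_inv c.pg_H]
        exact (c.om_cube v).symm
      rw [e]
      exact hW _ (hW v hv)
  letI : MulAction ↥P ↥W :=
    { smul := fun q v => ⟨c.act q v, hP q q.2 v v.2⟩
      one_smul := fun v => Subtype.ext (by
        show c.act ((1 : ↥P) : G) (v : c.Vs) = _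
        rw [OneMemClass.coe_one, c.act_one]; rfl)
      mul_smul := fun a b v => Subtype.ext (by
        show c.act ((a : G) * b) (v : c.Vs) = c.act (a : G) (c.act (b : G) v)
        rw [c.act_mul (c.P_le_C0 a.2).1 (c.P_le_C0 b.2).1]; rfl) }
  have h := (IsPGroup.of_card (n := 1) (by rw [pow_one]; exact c.card_P) : IsPGroup 3 ↥P).card_modEq_card_fixedPoints ↥W
  have hfix : MulAction.fixedPoints ↥P ↥W = {0} := by
    ext v
    refine ⟨fun hv => Subtype.ext (c.om_fixed (congrArg Subtype.val (hv ⟨c.pg, c.pg_mem⟩))), ?_⟩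
    intro hv q
    rw [Set.mem_singleton_iff] at hv
    subst hv
    exact Subtype.ext (map_zero (c.act (q : G)))
  rw [hfix, Nat.card_coe_set_eq, Set.ncard_singleton] at h
  exact h

theorem fix_om {L : Set G} (hL : L ⊆ c.M) {v : c.Vs} (hv : v ∈ c.fix L) : c.om v ∈ c.fix L := fun x hx => by
  rw [c.om_M (hL hx), hv x hx]

theorem perp_om {W : AddSubgroup c.Vs} (hW : ∀ v ∈ W, c.om v ∈ W) {v : c.Vs} (hv : v ∈ c.perp W) :
    c.om v ∈ c.perp W :=
  c.perp_invariant c.pg_H (fun u hu => by
    have e : c.act c.pg⁻¹ u = c.om (c.om u) := by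
      refine c.act_injective c.pg_H ?_
      rw [c.act_apply_inv c.pg_H]
      exact (c.om_cube u).symm
    rw [e]
    exact hW _ (hW u hu)) hv

theorem perp_perp (W : AddSubgroup c.Vs) : c.perp (c.perp W) = W := by
  refine (AddSubgroup.eq_of_le_of_card_ge (fun w hw u hu => by rw [c.Bf_symm]; exact hu w hw) ?_).symm
  have h1 := c.card_perp W
  have h2 := c.card_perp (c.perp W)
  have hpos : 0 < Nat.card ↥(c.perp W) := Nat.card_pos
  rw [← h1, mul_comm (Nat.card ↥W)] at h2
  exact (Nat.eq_of_mul_eq_mul_left hpos h2).le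

theorem perp_anti {W W' : AddSubgroup c.Vs} (h : W ≤ W') : c.perp W' ≤ c.perp W := fun _ hv u hu => hv u (h hu)

/-- The commutator space is orthogonal to the fixed space. -/
theorem displacement_mem {x : G} (hx : x ∈ c.H) (v : c.Vs) : c.act x v + v ∈ c.perp (c.fix {x}) := fun u hu => by
  rw [c.Bf_add_right]
  nth_rewrite 1 [← c.mem_fix_singleton.1 hu]
  rw [c.Bf_act hx]
  exact CharTwo.add_self_eq_zero _

theorem add_eq_zero_V {a b : c.Vs} (h : a + b = 0) : a = b := by
  calc a = a + (b + b) := by rw [c.two_V, add_zero]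
    _ = a + b + b := by abel
    _ = b := by rw [h, zero_add]

end CfsgLib.Spor.JFourType.Ctx
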