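import Cfsg.Agent.Lib.Spor.JFourType.ThinB

/-!
# A conjugate of `W` inside `H` and the normalizer

For `g` fixing `t`: the part of `W` conjugated by `g` in the normalizer of `W`, when it lies in `H`, has a subgroup
of index at most four over `I`, whose parts in the core are told apart modulo `U`.
-/

set_option autoImplicit false
set_option linter.style.haveILetI false

namespace CfsgLib.Spor.JFourType.Ctx

open Subgroup

universe u

variable {G : Type u} [Group G] [Finite G] {A : Type} [Group A] {J I R : Subgroup A}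
  {z : G} {P : Subgroup G} (c : Ctx J I R z P)
include c

omit c in
/-- Five letters carry no elementary abelian group of order eight. -/
theorem card_ea_perm_five (K : Subgroup (Equiv.Perm (Fin 5))) (h : ∀ x ∈ K, x * x = 1) : Nat.card ↥K ≤ 4 := by
  classical
  haveI : Fact (Nat.Prime 2) := ⟨Nat.prime_two⟩
  have hK : IsPGroup 2 ↥K := fun x => ⟨1, Subtype.ext (by rw [pow_one, pow_two]; exact h x x.2)⟩
  have h120 : Nat.card (Equiv.Perm (Fin 5)) = 120 := by rw [Nat.card_perm, Nat.card_fin]; rfl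
  have hle8 : ∀ {L : Subgroup (Equiv.Perm (Fin 5))}, IsPGroup 2 ↥L → Nat.card ↥L ≤ 8 := by
    intro L hL
    obtain ⟨k, hk⟩ := hL.exists_card_eq
    have hd := L.card_subgroup_dvd_card
    rw [h120, hk] at hd
    rw [hk]
    have hk7 : k < 7 := (Nat.pow_lt_pow_iff_right (by norm_num : 1 < 2)).1
      (lt_of_le_of_lt (Nat.le_of_dvd (by norm_num) hd) (by norm_num))
    interval_cases k <;> omega
  by_contra hcon
  push Not at hcon
  obtain ⟨k, hk⟩ := hK.exists_card_eq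
  have h8 : 8 ≤ Nat.card ↥K := by
    rw [hk] at hcon ⊢
    have : 3 ≤ k := by
      by_contra hk3
      push Not at hk3
      interval_cases k <;> omega
    exact le_trans (by norm_num) (Nat.pow_le_pow_right (by norm_num) this)
  obtain ⟨T, hT⟩ := hK.exists_le_sylow
  have hKT : K = (T : Subgroup _) := eq_of_le_of_card_ge hT ((hle8 T.2).trans h8)
  let σ : Equiv.Perm (Fin 5) := Equiv.swap 0 1 * Equiv.swap 1 2 * Equiv.swap 2 3
  have hσ4 : σ ^ 4 = 1 := by decide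
  have hσ2 : σ * σ ≠ 1 := by decide
  obtain ⟨T', hT'⟩ := (IsPGroup.iff_orderOf.2 fun x : ↥(zpowers σ) => by
    have hd : orderOf x ∣ 2 ^ 2 := by
      obtain ⟨k, hk⟩ := mem_zpowers_iff.1 x.2
      refine orderOf_dvd_of_pow_eq_one (Subtype.ext ?_)
      rw [SubmonoidClass.coe_pow, OneMemClass.coe_one, ← hk, ← zpow_natCast, ← zpow_mul, mul_comm, zpow_mul,
        zpow_natCast, show (2 : ℕ) ^ 2 = 4 from rfl, hσ4, one_zpow]
    obtain ⟨j, -, hj⟩ := (Nat.dvd_prime_pow Nat.prime_two).1 hd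
    exact ⟨j, hj⟩ : IsPGroup 2 ↥(zpowers σ)).exists_le_sylow
  obtain ⟨g, hg⟩ := MulAction.exists_smul_eq (Equiv.Perm (Fin 5)) T T'
  have hm : g⁻¹ * σ * g ∈ (T : Subgroup _) := by
    have h := hT' (mem_zpowers σ)
    rw [← hg, Sylow.coe_subgroup_smul, Subgroup.mem_pointwise_smul_iff_inv_smul_mem] at h
    simpa [MulAut.smul_def] using h
  have := h _ (hKT.ge hm)
  rw [show g⁻¹ * σ * g * (g⁻¹ * σ * g) = g⁻¹ * (σ * σ) * g by group] at this
  exact hσ2 (by
    calc σ * σ = g * (g⁻¹ * (σ * σ) * g) * g⁻¹ := by group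
      _ = 1 := by rw [this, mul_one, mul_inv_cancel])

/-- The part of the conjugate of `W` in the normalizer. -/
noncomputable def Wnorm (g : G) : Subgroup G := c.W.map (MulAut.conj g).toMonoidHom ⊓ normalizer (c.W : Set G)

/-- The common part of `W` and its conjugate. -/
noncomputable def Wint (g : G) : Subgroup G := c.W.map (MulAut.conj g).toMonoidHom ⊓ c.W

theorem mem_map_W {g x : G} : x ∈ c.W.map (MulAut.conj g).toMonoidHom ↔ g⁻¹ * x * g ∈ c.W := by
  constructor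
  · rintro ⟨w, hw, rfl⟩
    simpa [mul_assoc] using hw
  · intro h
    exact ⟨_, h, by simp [mul_assoc]⟩

theorem mem_Wnorm {g x : G} : x ∈ c.Wnorm g ↔ g⁻¹ * x * g ∈ c.W ∧ x ∈ normalizer (c.W : Set G) := by
  rw [Wnorm, mem_inf, c.mem_map_W]

theorem mem_Wint {g x : G} : x ∈ c.Wint g ↔ g⁻¹ * x * g ∈ c.W ∧ x ∈ c.W := by rw [Wint, mem_inf, c.mem_map_W]

theorem W_le_normalizer : c.W ≤ normalizer (c.W : Set G) := le_normalizer

omit [Finite G] c in
theorem inv_fix {g t : G} (h : g * t * g⁻¹ = t) : g⁻¹ * t * g = t := by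
  conv_lhs => rw [← h]
  group

theorem t_mem_Wint {g t : G} (ht : t ∈ c.W) (hgt : g * t * g⁻¹ = t) : t ∈ c.Wint g :=
  c.mem_Wint.2 ⟨by rwa [inv_fix hgt], ht⟩

theorem Wint_le_Wnorm (g : G) : c.Wint g ≤ c.Wnorm g := inf_le_inf_left _ c.W_le_normalizer

theorem Wnorm_comm {g a b : G} (ha : a ∈ c.Wnorm g) (hb : b ∈ c.Wnorm g) : a * b = b * a := by
  have h := c.W_comm (c.mem_Wnorm.1 ha).1 (c.mem_Wnorm.1 hb).1
  calc a * b = g * (g⁻¹ * a * g * (g⁻¹ * b * g)) * g⁻¹ := by group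
    _ = _ := by rw [h]; group

theorem Wnorm_sq {g a : G} (ha : a ∈ c.Wnorm g) : a * a = 1 := by
  have h := c.W_sq (c.mem_Wnorm.1 ha).1
  calc a * a = g * (g⁻¹ * a * g * (g⁻¹ * a * g)) * g⁻¹ := by group
    _ = 1 := by rw [h]; group

theorem Wnorm_fix {g a t : G} (ha : a ∈ c.Wnorm g) (ht : t ∈ c.W) (hgt : g * t * g⁻¹ = t) :
    a * t * a⁻¹ = t := by
  rw [c.Wnorm_comm ha (c.Wint_le_Wnorm g (c.t_mem_Wint ht hgt)), mul_inv_cancel_right]

/-- The common part is free of conjugates of `z`. -/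
theorem Wint_free (hs : c.Split) {g t : G} (htT : t ∈ c.Tset) (hgt : g * t * g⁻¹ = t)
    (hgN : g ∉ normalizer (c.W : Set G)) : ∀ x ∈ c.Wint g, ¬ IsConj z x := fun x hx hc =>
  hgN (inv_mem_iff.1 (c.normW_of_fusion hs htT (c.mem_Wint.1 hx).2 hc (by rw [inv_inv]; exact inv_fix hgt)
    (by rw [inv_inv]; exact (c.mem_Wint.1 hx).1)))

theorem card_Wint (hs : c.Split) {g t : G} (ht : t ∈ c.Ut) (htT : t ∈ c.Tset) (hgt : g * t * g⁻¹ = t)
    (hgN : g ∉ normalizer (c.W : Set G)) : Nat.card ↥(c.Wint g) = 2 ∨ Nat.card ↥(c.Wint g) = 4 := by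
  have h4 : Nat.card ↥(c.Wint g) ≤ 4 := c.card_free_le hs inf_le_right (c.Wint_free hs htT hgt hgN) (c.t_mem_Wint htT.1 hgt) ht htT
  obtain ⟨k, -, hk⟩ := (Nat.dvd_prime_pow Nat.prime_two).1 (c.card_W ▸ card_dvd_of_le (inf_le_right : c.Wint g ≤ c.W))
  have h1 : Nat.card ↥(c.Wint g) ≠ 1 := fun h => htT.2.1 (by
    have := c.t_mem_Wint htT.1 hgt
    rwa [eq_bot_of_card_eq _ h, mem_bot] at this)
  have hk' : Nat.card ↥(c.Wint g) = 2 ^ k := hk
  rw [hk'] at h4 h1 ⊢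
  have hk3 : k < 3 := (Nat.pow_lt_pow_iff_right (by norm_num : 1 < 2)).1 (lt_of_le_of_lt h4 (by norm_num))
  interval_cases k <;> omega

/-- Commutators of the two parts lie in the common part. -/
theorem comm_mem_Wint {g a w : G} (ha : a ∈ c.Wnorm g) (hw : w ∈ c.W) (hwn : g⁻¹ * w * g ∈ normalizer (c.W : Set G)) :
    a * w * a⁻¹ * w⁻¹ ∈ c.Wint g := by
  obtain ⟨ha1, ha2⟩ := c.mem_Wnorm.1 ha
  refine c.mem_Wint.2 ⟨?_, mul_mem ((mem_normalizer_iff.1 ha2 w).1 hw) (inv_mem hw)⟩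
  have e : g⁻¹ * (a * w * a⁻¹ * w⁻¹) * g =
      g⁻¹ * a * g * (g⁻¹ * w * g * (g⁻¹ * a * g)⁻¹ * (g⁻¹ * w * g)⁻¹) := by group
  rw [e]
  exact mul_mem ha1 ((mem_normalizer_iff.1 hwn _).1 (inv_mem ha1))

/-- A subgroup of `W` centralizing a conjugate of `z` lands in the other part. -/
theorem card_Wnorm_inv (hs : c.Split) {g t x : G} (htT : t ∈ c.Tset) (hgt : g * t * g⁻¹ = t) (hx : x ∈ c.Wnorm g)
    (hxc : IsConj z x) (K : Subgroup G) (hK : K ≤ c.W) (hKx : ∀ w ∈ K, w * x = x * w) :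
    Nat.card ↥K ≤ Nat.card ↥(c.Wnorm g⁻¹) := by
  have hmem : ∀ w ∈ K, g⁻¹ * w * g ∈ c.Wnorm g⁻¹ := by
    intro w hw
    refine c.mem_Wnorm.2 ⟨?_, c.normW_of_fix hs htT (c.mem_Wnorm.1 hx).1 ?_ ?_ ?_⟩
    · rw [inv_inv, show g * (g⁻¹ * w * g) * g⁻¹ = w by group]
      exact hK hw
    · have := (c.isConj_z_conj g⁻¹ x).2 hxc
      rwa [inv_inv] at this
    · calc g⁻¹ * w * g * t * (g⁻¹ * w * g)⁻¹ = g⁻¹ * (w * (g * t * g⁻¹) * w⁻¹) * g := by group
        _ = t := by rw [hgt, c.W_comm (hK hw) htT.1, mul_inv_cancel_right, inv_fix hgt]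
    · calc g⁻¹ * w * g * (g⁻¹ * x * g) * (g⁻¹ * w * g)⁻¹ = g⁻¹ * (w * x * w⁻¹) * g := by group
        _ = _ := by rw [hKx w hw, mul_inv_cancel_right]
  refine Nat.card_le_card_of_injective (fun w : ↥K => (⟨_, hmem w w.2⟩ : ↥(c.Wnorm g⁻¹))) fun a b h => ?_
  exact Subtype.ext (mul_left_cancel (mul_right_cancel (congrArg Subtype.val h)))

/-- An involution normalizing `W` centralizes at least `2 ^ 6` of it. -/
theorem card_cent_ge {x : G} (hx : x ∈ normalizer (c.W : Set G)) (hxx : x * x = 1) :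
    64 ≤ Nat.card ↥(c.W ⊓ centralizer ({x} : Set G) : Subgroup G) := by
  have hmem : ∀ w : ↥c.W, x * (w : G) * x⁻¹ * w ∈ c.W := fun w => mul_mem ((mem_normalizer_iff.1 hx _).1 w.2) w.2
  let φ : ↥c.W →* ↥c.W :=
    { toFun := fun w => ⟨_, hmem w⟩
      map_one' := Subtype.ext (by show x * (1 : G) * x⁻¹ * 1 = 1; group)
      map_mul' := fun v w => Subtype.ext (by
        show x * ((v : G) * w) * x⁻¹ * (v * w) = x * (v : G) * x⁻¹ * v * (x * (w : G) * x⁻¹ * w)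
        have hc := c.W_comm ((mem_normalizer_iff.1 hx _).1 w.2) v.2
        rw [← conj_mul, mul_assoc (x * (v : G) * x⁻¹), mul_assoc (x * (v : G) * x⁻¹) (v : G),
          ← mul_assoc (x * (w : G) * x⁻¹) (v : G), hc, mul_assoc (v : G)]) }
  have hxi : x⁻¹ = x := inv_eq_of_mul_eq_one_left hxx
  have hrk : φ.range ≤ φ.ker := by
    rintro _ ⟨w, rfl⟩
    refine MonoidHom.mem_ker.2 (Subtype.ext ?_)
    show x * (x * (w : G) * x⁻¹ * w) * x⁻¹ * (x * (w : G) * x⁻¹ * w) = 1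
    rw [← conj_mul, show x * (x * (w : G) * x⁻¹) * x⁻¹ = (x * x) * w * (x * x)⁻¹ by group, hxx, one_mul, inv_one,
      mul_one, c.W_comm w.2 ((mem_normalizer_iff.1 hx _).1 w.2), c.W_sq (hmem w)]
  have hker : Nat.card ↥φ.ker ≤ Nat.card ↥(c.W ⊓ centralizer ({x} : Set G) : Subgroup G) := by
    refine Nat.card_le_card_of_injective (fun w => (⟨((w : ↥c.W) : G), (w : ↥c.W).2,
      mem_centralizer_singleton_iff.2 ?_⟩ : ↥(c.W ⊓ centralizer ({x} : Set G) : Subgroup G)))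
      fun v w h => Subtype.ext (Subtype.ext (congrArg (fun y : ↥(c.W ⊓ centralizer ({x} : Set G) : Subgroup G) => (y : G)) h))
    have h : x * ((w : ↥c.W) : G) * x⁻¹ * (w : ↥c.W) = 1 := congrArg Subtype.val w.2
    have e : x * ((w : ↥c.W) : G) * x⁻¹ = (w : ↥c.W) :=
      (eq_inv_of_mul_eq_one_left h).trans (inv_eq_of_mul_eq_one_left (c.W_sq (w : ↥c.W).2))
    exact (mul_inv_eq_iff_eq_mul.1 e).symm
  have h := φ.ker.card_mul_index
  rw [Subgroup.index_ker, c.card_W] at h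
  have hle := card_le_of_le hrk
  by_contra hcon
  push Not at hcon
  have hk : Nat.card ↥φ.ker ≤ 32 := by
    obtain ⟨k, -, hk⟩ := (Nat.dvd_prime_pow Nat.prime_two).1 (c.card_W ▸ φ.ker.card_subgroup_dvd_card)
    have h63 : 2 ^ k < 64 := hk ▸ lt_of_le_of_lt hker hcon
    have : k < 6 := (Nat.pow_lt_pow_iff_right (by norm_num : 1 < 2)).1 (by norm_num; exact h63)
    rw [hk]
    exact le_trans (Nat.pow_le_pow_right (by norm_num) (Nat.le_of_lt_succ this)) (by norm_num)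
  have := Nat.mul_le_mul hk (le_trans hle hk)
  omega

/-- An element of the normalizer in `H` respects the points. -/
theorem act_Pt {h : G} (hh : h ∈ c.H) (v : c.Vs) : c.act h '' c.Pt v = c.Pt (c.act h v) := by
  simp only [Pt, Set.image_insert_eq, Set.image_singleton, map_zero]
  by_cases hM : h ∈ c.M
  · simp only [c.om_M hM]
  · rw [c.om_outer hh hM, c.om_outer hh hM, c.om_outer hh hM, c.om_cube, Set.pair_comm (c.om (c.om (c.act h v)))]

theorem isN_act_H (hs : c.Split) {h : G} (hh : h ∈ c.H) (hn : h ∈ normalizer (c.W : Set G)) {v : c.Vs}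
    (hv : c.IsN v) : c.IsN (c.act h v) := by
  obtain ⟨x, hx, rfl⟩ := c.pv_surj v
  have hxU : x ∈ c.Ut := ⟨hx, hv.1⟩
  rw [← c.pv_conj hh hx]
  exact (c.Tset_Ut_iff hs (c.conj_Ut hh hn hxU)).1 (c.conj_Tset hn ((c.Tset_Ut_iff hs hxU).2 hv))

/-- The elements over `I`. -/
noncomputable def Kin (g : G) (hH : c.Wnorm g ≤ c.H) : Subgroup G where
  carrier := {a | a ∈ c.Wnorm g ∧ c.im a ∈ I}
  one_mem' := ⟨one_mem _, by rw [c.im_one]; exact one_mem _⟩
  mul_mem' := fun {a b} ha hb => ⟨mul_mem ha.1 hb.1, by rw [c.im_mul (hH ha.1) (hH hb.1)]; exact mul_mem ha.2 hb.2⟩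
  inv_mem' := fun {a} ha => ⟨inv_mem ha.1, by rw [c.im_inv (hH ha.1)]; exact inv_mem ha.2⟩

theorem mem_Kin {g : G} {hH : c.Wnorm g ≤ c.H} {a : G} :
    a ∈ c.Kin g hH ↔ a ∈ c.Wnorm g ∧ c.im a ∈ I := Iff.rfl

/-- It has index at most four. -/
theorem card_Kin (hs : c.Split) {g t : G} (ht : t ∈ c.Ut) (htT : t ∈ c.Tset) (hgt : g * t * g⁻¹ = t)
    (hH : c.Wnorm g ≤ c.H) : Nat.card ↥(c.Wnorm g) ≤ 4 * Nat.card ↥(c.Kin g hH) := by
  classical
  haveI : Fintype c.Vs := Fintype.ofFinite _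
  set p := c.pv t with hp
  have hpN : c.IsN p := (c.Tset_Ut_iff hs ht).1 htT
  set X : Finset c.Vs := Finset.univ.filter fun v => c.IsN v ∧ v ∉ c.Pt p with hX
  set Q : Finset (Set c.Vs) := X.image c.Pt with hQ
  have hQ5 : Q.card ≤ 5 := by
    have hsum := Finset.card_eq_sum_card_image c.Pt X
    rw [← hQ, Finset.sum_congr rfl (g := fun _ => 3) fun S hS => ?_, Finset.sum_const, smul_eq_mul] at hsum
    · have hX15 : X.card = 15 := by
        rw [← Set.ncard_coe_finset, show (X : Set c.Vs) = {v | c.IsN v} \ (c.Pt p \ {0}) from ?_,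
          Set.ncard_sdiff (show c.Pt p \ {0} ⊆ {v | c.IsN v} from fun v hv => c.isN_of_Pt hpN hv.1 hv.2) (Set.toFinite _),
          Set.ncard_sdiff_singleton_of_mem (by simp [Pt]), c.ncard_Pt hpN.2.1, c.card_IsN]
        ext v
        simp only [hX, Finset.coe_filter, Finset.mem_univ, true_and, Set.mem_ofPred_eq, Set.mem_sdiff,
          Set.mem_singleton_iff, not_and, not_not]
        exact ⟨fun h => ⟨h.1, fun h' => absurd h' h.2⟩, fun h => ⟨h.1, fun h' => h.1.2.1 (h.2 h')⟩⟩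
      omega
    · obtain ⟨v, hv, rfl⟩ := Finset.mem_image.1 hS
      obtain ⟨hvN, hvp⟩ := (Finset.mem_filter.1 hv).2
      rw [← Set.ncard_coe_finset, show ((X.filter fun w => c.Pt w = c.Pt v) : Set c.Vs) = c.Pt v \ {0} from ?_,
        Set.ncard_sdiff_singleton_of_mem (by simp [Pt]), c.ncard_Pt hvN.2.1]
      ext w
      simp only [hX, Finset.coe_filter, Finset.mem_filter, Finset.mem_univ, true_and, Set.mem_ofPred_eq,
        Set.mem_sdiff, Set.mem_singleton_iff]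
      constructor
      · rintro ⟨⟨hwN, -⟩, e⟩
        exact ⟨e ▸ by simp [Pt], hwN.2.1⟩
      · rintro ⟨hw, hw0⟩
        refine ⟨⟨c.isN_of_Pt hvN hw hw0, fun h => hvp ?_⟩, c.Pt_eq hw hw0⟩
        rw [← c.Pt_eq h hw0, c.Pt_eq hw hw0]
        simp [Pt]
  have hmove : ∀ a ∈ c.Wnorm g, ∀ S ∈ Q, c.act a '' S ∈ Q := by
    intro a ha S hS
    obtain ⟨v, hv, rfl⟩ := Finset.mem_image.1 hS
    obtain ⟨hvN, hvp⟩ := (Finset.mem_filter.1 hv).2
    refine Finset.mem_image.2 ⟨c.act a v, Finset.mem_filter.2 ⟨Finset.mem_univ _,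
      c.isN_act_H hs (hH ha) (c.mem_Wnorm.1 ha).2 hvN, fun h => hvp ?_⟩, (c.act_Pt (hH ha) v).symm⟩
    have e : c.act a p = p := by rw [hp, ← c.pv_conj (hH ha) ht.1, c.Wnorm_fix ha htT.1 hgt]
    rw [← e, ← c.act_Pt (hH ha)] at h
    obtain ⟨w, hw, hwv⟩ := h
    rwa [c.act_injective (hH ha) hwv] at hw
  letI : MulAction ↥(c.Wnorm g) {S // S ∈ Q} :=
    { smul := fun a S => ⟨c.act a '' S.1, hmove a a.2 S.1 S.2⟩
      one_smul := fun S => Subtype.ext (by
        show c.act ((1 : ↥(c.Wnorm g)) : G) '' S.1 = S.1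
        rw [OneMemClass.coe_one, c.act_one]
        exact Set.image_id _)
      mul_smul := fun a b S => Subtype.ext (by
        show c.act ((a : G) * b) '' S.1 = c.act (a : G) '' (c.act (b : G) '' S.1)
        rw [Set.image_image]
        exact Set.image_congr fun v _ => c.act_apply_mul (hH a.2) (hH b.2) v) }
  obtain ⟨em⟩ : Nonempty ({S // S ∈ Q} ↪ Fin 5) :=
    Function.Embedding.nonempty_of_card_le (by rw [Fintype.card_coe, Fintype.card_fin]; exact hQ5)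
  let φ : ↥(c.Wnorm g) →* Equiv.Perm (Fin 5) :=
    (Equiv.Perm.viaEmbeddingHom em).comp (MulAction.toPermHom ↥(c.Wnorm g) {S // S ∈ Q})
  have hr : Nat.card ↥φ.range ≤ 4 := by
    refine card_ea_perm_five _ ?_
    rintro _ ⟨a, rfl⟩
    rw [← map_mul, show a * a = 1 from Subtype.ext (c.Wnorm_sq a.2), map_one]
  have hk : ∀ a : ↥φ.ker, (((a : ↥(c.Wnorm g)) : G)) ∈ c.Kin g hH := by
    intro a
    set b : G := ((a : ↥(c.Wnorm g)) : G)
    have hb : b ∈ c.Wnorm g := (a : ↥(c.Wnorm g)).2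
    refine ⟨hb, c.im_mem_of_fix_points (hH hb) (a := 1) (by rw [pow_one, pow_two]; exact c.Wnorm_sq hb) ?_⟩
    intro v hv
    by_cases hvp : v ∈ c.Pt p
    · have h : c.act b v ∈ c.act b '' c.Pt p := ⟨v, hvp, rfl⟩
      rw [c.act_Pt (hH hb), show c.act b p = p by rw [hp, ← c.pv_conj (hH hb) ht.1, c.Wnorm_fix hb htT.1 hgt]] at h
      rwa [c.Pt_eq hvp hv.2.1]
    · have hm : c.Pt v ∈ Q := Finset.mem_image.2 ⟨v, Finset.mem_filter.2 ⟨Finset.mem_univ _, hv, hvp⟩, rfl⟩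
      have e : MulAction.toPermHom ↥(c.Wnorm g) {S // S ∈ Q} (a : ↥(c.Wnorm g)) = 1 :=
        Equiv.Perm.viaEmbeddingHom_injective em ((MonoidHom.mem_ker.1 a.2).trans (map_one _).symm)
      have e' : c.act b '' c.Pt v = c.Pt v := congrArg Subtype.val (Equiv.congr_fun e ⟨_, hm⟩)
      have hmem : c.act b v ∈ c.act b '' c.Pt v := ⟨v, by simp [Pt], rfl⟩
      rwa [e'] at hmem
  have h := φ.ker.card_mul_index
  rw [Subgroup.index_ker] at h
  rw [← h, mul_comm]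
  refine Nat.mul_le_mul hr (Nat.card_le_card_of_injective (fun a => (⟨_, hk a⟩ : ↥(c.Kin g hH))) ?_)
  intro a b e
  exact Subtype.ext (Subtype.ext (congrArg (fun y : ↥(c.Kin g hH) => (y : G)) e))

end CfsgLib.Spor.JFourType.Ctx
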