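import Cfsg.Agent.Lib.Spor.JFourType.Module
import Cfsg.Agent.Lib.Spor.JFourType.FactsAux

/-!
# The elementary abelian subgroup of order `2 ^ 11`

`L0` is the two-part of the preimage of `I` in `C0`, `U` its fixed space, `Ut` the preimage of `U` in `E` and
`W` their product.
-/

set_option autoImplicit false
set_option linter.style.haveILetI false

namespace CfsgLib.Spor.JFourType.Ctx

open Subgroup
open scoped commutatorElement

universe u

variable {G : Type u} [Group G] [Finite G] {A : Type} [Group A] {J I R : Subgroup A}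
  {z : G} {P : Subgroup G} (c : Ctx J I R z P)
include c

/-- The image in the quotient, one outside `H`. -/
noncomputable def im (x : G) : A := by
  classical exact if h : x ∈ c.H then c.pr ⟨x, h⟩ else 1

omit [Finite G] in
theorem im_eq {x : G} (hx : x ∈ c.H) : c.im x = c.pr ⟨x, hx⟩ := dif_pos hx

omit [Finite G] in
theorem im_mul {x y : G} (hx : x ∈ c.H) (hy : y ∈ c.H) : c.im (x * y) = c.im x * c.im y := by
  rw [c.im_eq hx, c.im_eq hy, c.im_eq (mul_mem hx hy), ← map_mul]; rfl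

omit [Finite G] in
theorem im_one : c.im 1 = 1 := by rw [c.im_eq (one_mem _)]; exact map_one c.pr

omit [Finite G] in
theorem im_inv {x : G} (hx : x ∈ c.H) : c.im x⁻¹ = (c.im x)⁻¹ := by
  rw [c.im_eq hx, c.im_eq (inv_mem hx), ← map_inv]; rfl

omit [Finite G] in
theorem im_conj {g x : G} (hg : g ∈ c.H) (hx : x ∈ c.H) : c.im (g * x * g⁻¹) = c.im g * c.im x * (c.im g)⁻¹ := by
  rw [c.im_mul (mul_mem hg hx) (inv_mem hg), c.im_mul hg hx, c.im_inv hg]

omit [Finite G] in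
theorem im_pow {x : G} (hx : x ∈ c.H) (n : ℕ) : c.im (x ^ n) = c.im x ^ n := by
  rw [c.im_eq hx, c.im_eq (pow_mem hx n), ← map_pow]; rfl

omit [Finite G] in
theorem im_E {e : G} (he : e ∈ c.E) : c.im e = 1 := by rw [c.im_eq (c.E_le he)]; exact c.pr_E he

theorem im_C0 {x : G} (hx : x ∈ c.C0) : c.im x ∈ J := by rw [c.im_eq hx.1]; exact c.pr_C0 hx

theorem exists_C0_im {j : A} (hj : j ∈ J) : ∃ x ∈ c.C0, c.im x = j := by
  obtain ⟨x, hx, e⟩ := c.exists_C0 hj
  exact ⟨x, hx, by rw [c.im_eq hx.1, e]⟩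

/-- The preimage of a subgroup in `C0`. -/
noncomputable def KI (K : Subgroup A) : Subgroup ↥c.C0 := (K.subgroupOf J).comap c.sg

/-- An elementary abelian subgroup of order sixteen of the simple subgroup. -/
structure Sixteen (J K : Subgroup A) : Prop where
  le : K ≤ J
  card : Nat.card ↥K = 16
  ea : Cfsg.IsElementaryAbelian 2 K

variable {K : Subgroup A}

theorem mem_KI {x : ↥c.C0} : x ∈ (c.KI K) ↔ c.im (x : G) ∈ K := by
  rw [c.im_eq x.2.1]; rfl

theorem card_KI (hK : Sixteen J K) : Nat.card ↥(c.KI K) = 96 := by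
  rw [KI, c.card_preimage, Nat.card_congr (subgroupOfEquivOfLe hK.le).toEquiv, hK.card]

theorem sq_three (hK : Sixteen J K) {x : G} (hx : x ∈ c.C0) (hI : c.im x ∈ K) : (x ^ 2) ^ 6 = 1 := by
  obtain ⟨-, h2⟩ := hK.ea
  have h1 : c.pr ⟨x ^ 2, pow_mem hx.1 2⟩ = 1 := by
    rw [← c.im_eq, c.im_pow hx.1]; exact h2 _ hI
  obtain ⟨q, hq, h | h⟩ := c.ker_C0 (pow_mem hx 2) h1
  all_goals
    have hq3 : q ^ 3 = 1 := by
      have := pow_card_eq_one' (G := ↥P) (x := ⟨q, hq⟩)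
      rw [c.card_P] at this
      exact congrArg Subtype.val this
  · rw [h, show 6 = 3 * 2 from rfl, pow_mul, hq3, one_pow]
  · have hc : Commute z q := (c.comm_z (c.P_le_C0 hq).1).symm
    rw [h, hc.mul_pow, show q ^ 6 = 1 by rw [show 6 = 3 * 2 from rfl, pow_mul, hq3, one_pow], mul_one,
      show 6 = 2 * 3 from rfl, pow_mul, pow_two, c.zz, one_pow]

/-- A Sylow 2-subgroup of the preimage. -/
noncomputable def SI (K : Subgroup A) : Sylow 2 ↥(c.KI K) := Classical.arbitrary _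

theorem card_SI (hK : Sixteen J K) : Nat.card ↥((c.SI K) : Subgroup ↥(c.KI K)) = 32 := by
  haveI : Fact (Nat.Prime 2) := ⟨Nat.prime_two⟩
  rw [(c.SI K).card_eq_multiplicity, c.card_KI hK, show (96 : ℕ) = 2 ^ 5 * 3 by norm_num,
    Nat.factorization_mul (by norm_num) (by norm_num), Finsupp.add_apply,
    Nat.factorization_eq_zero_of_not_dvd (show ¬ 2 ∣ 3 by norm_num), Nat.factorization_pow, Finsupp.smul_apply,
    Nat.prime_two.factorization_self]
  norm_num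

theorem SI_normal (hK : Sixteen J K) : ((c.SI K) : Subgroup ↥(c.KI K)).Normal := by
  haveI : Fact (Nat.Prime 2) := ⟨Nat.prime_two⟩
  have hPK : ∀ p ∈ P, ∃ hp : p ∈ c.C0, (⟨p, hp⟩ : ↥c.C0) ∈ (c.KI K) := fun p hp => ⟨c.P_le_C0 hp, by
    rw [c.mem_KI, c.im_eq (c.P_le_C0 hp).1, c.pr_P hp]; exact one_mem _⟩
  let f : ↥((c.SI K) : Subgroup ↥(c.KI K)) × ↥P → ↥(c.KI K) := fun w =>
    (w.1 : ↥(c.KI K)) * ⟨⟨w.2, c.P_le_C0 w.2.2⟩, (hPK _ w.2.2).2⟩
  have hf : Function.Injective f := by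
    rintro ⟨s, p⟩ ⟨s', p'⟩ h
    have h' : ((s : ↥(c.KI K)) : ↥c.C0).1 * (p : G) = ((s' : ↥(c.KI K)) : ↥c.C0).1 * (p' : G) :=
      congrArg (fun w : ↥(c.KI K) => ((w : ↥c.C0) : G)) h
    set d := (((s' : ↥(c.KI K)))⁻¹ * (s : ↥(c.KI K))) with hd
    have hdP : ((d : ↥c.C0) : G) = (p' : G) * (p : G)⁻¹ := by
      show (((s' : ↥(c.KI K)) : ↥c.C0) : G)⁻¹ * _ = _
      rw [eq_mul_inv_iff_mul_eq, mul_assoc, h', inv_mul_cancel_left]
    have hdS : d ∈ ((c.SI K) : Subgroup ↥(c.KI K)) := mul_mem (inv_mem s'.2) s.2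
    have hd1 : d = 1 := by
      have h32 := orderOf_dvd_natCard (⟨d, hdS⟩ : ↥((c.SI K) : Subgroup ↥(c.KI K)))
      have h3 := orderOf_dvd_natCard (⟨(d : ↥c.C0).1, hdP ▸ mul_mem p'.2 (inv_mem p.2)⟩ : ↥P)
      rw [← Subgroup.orderOf_coe, c.card_SI hK] at h32
      rw [← Subgroup.orderOf_coe, c.card_P] at h3
      simp only [← Subgroup.orderOf_coe] at h32 h3
      exact orderOf_eq_one_iff.1 (by
        rw [← Subgroup.orderOf_coe, ← Subgroup.orderOf_coe]
        exact Nat.eq_one_of_dvd_coprimes (by norm_num) h32 h3)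
    have hs : s = s' := Subtype.ext (inv_mul_eq_one.1 hd1).symm
    subst hs
    exact Prod.ext rfl (Subtype.ext (mul_left_cancel h'))
  have hbij := (Nat.bijective_iff_injective_and_card f).2 ⟨hf, by
    rw [Nat.card_prod, c.card_SI hK, c.card_P, c.card_KI hK]⟩
  refine ⟨fun x hx g => ?_⟩
  obtain ⟨⟨s, p⟩, rfl⟩ := hbij.2 g
  set p' : ↥(c.KI K) := ⟨⟨p, c.P_le_C0 p.2⟩, (hPK _ p.2).2⟩
  have hcp : p' * x = x * p' := Subtype.ext (Subtype.ext (c.comm_P (x : ↥c.C0).2 p.2))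
  show (s : ↥(c.KI K)) * p' * x * ((s : ↥(c.KI K)) * p')⁻¹ ∈ ((c.SI K) : Subgroup ↥(c.KI K))
  rw [mul_assoc (s : ↥(c.KI K)), hcp, show (s : ↥(c.KI K)) * (x * p') * ((s : ↥(c.KI K)) * p')⁻¹ = s * x * (s : ↥(c.KI K))⁻¹ by group]
  exact mul_mem (mul_mem s.2 hx) (inv_mem s.2)

/-- The two-part of the preimage of a subgroup in `C0`. -/
noncomputable def L16 (K : Subgroup A) : Subgroup G := (((c.SI K) : Subgroup ↥(c.KI K)).map (c.KI K).subtype).map c.C0.subtype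

theorem card_L16 (hK : Sixteen J K) : Nat.card ↥(c.L16 K) = 32 := by
  rw [← c.card_SI hK]
  exact ((Nat.card_congr (equivMapOfInjective _ _ (c.KI K).subtype_injective).toEquiv).trans
    (Nat.card_congr (equivMapOfInjective _ _ c.C0.subtype_injective).toEquiv)).symm

theorem mem_L16 (hK : Sixteen J K) {x : G} : x ∈ (c.L16 K) ↔ x ∈ c.C0 ∧ c.im x ∈ K ∧ x ^ 32 = 1 := by
  constructor
  · rintro ⟨_, ⟨w, hw, rfl⟩, rfl⟩
    refine ⟨(w : ↥c.C0).2, c.mem_KI.1 w.2, ?_⟩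
    have := pow_card_eq_one' (G := ↥((c.SI K) : Subgroup ↥(c.KI K))) (x := ⟨w, hw⟩)
    rw [c.card_SI hK] at this
    exact congrArg (fun v : ↥((c.SI K) : Subgroup ↥(c.KI K)) => (((v : ↥(c.KI K)) : ↥c.C0) : G)) this
  · rintro ⟨hx, hI, h32⟩
    haveI : Fact (Nat.Prime 2) := ⟨Nat.prime_two⟩
    haveI := (c.SI_normal hK)
    let w : ↥(c.KI K) := ⟨⟨x, hx⟩, c.mem_KI.2 hI⟩
    obtain ⟨k, -, hk⟩ := (Nat.dvd_prime_pow Nat.prime_two).1
      (orderOf_dvd_of_pow_eq_one (show w ^ (2 ^ 5) = 1 from Subtype.ext (Subtype.ext h32)))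
    obtain ⟨T, hT⟩ := (IsPGroup.of_card (n := k) (by rw [Nat.card_zpowers, hk]) :
      IsPGroup 2 ↥(zpowers w)).exists_le_sylow
    obtain ⟨g, hg⟩ := MulAction.exists_smul_eq ↥(c.KI K) (c.SI K) T
    rw [Sylow.smul_eq_of_normal] at hg
    exact ⟨_, ⟨w, hg ▸ hT (mem_zpowers w), rfl⟩, rfl⟩

theorem L16_le : c.L16 K ≤ c.C0 := map_subtype_le _

theorem L16_isPGroup (hK : Sixteen J K) : IsPGroup 2 ↥(c.L16 K) := IsPGroup.of_card (n := 5) (by rw [(c.card_L16 hK)]; norm_num)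

theorem z_mem_L16 (hK : Sixteen J K) : z ∈ (c.L16 K) :=
  (c.mem_L16 hK).2 ⟨c.z_mem_C0, by rw [c.im_E c.z_mem_E]; exact one_mem _, by
    rw [show 32 = 2 * 16 from rfl, pow_mul, pow_two, c.zz, one_pow]⟩

theorem L16_ker (hK : Sixteen J K) {x : G} (hx : x ∈ (c.L16 K)) (h : c.im x = 1) : x = 1 ∨ x = z := by
  obtain ⟨hC, -, h32⟩ := (c.mem_L16 hK).1 hx
  rw [c.im_eq hC.1] at h
  obtain ⟨q, hq, h' | h'⟩ := c.ker_C0 hC h
  all_goals
    have hq3 := orderOf_dvd_natCard (⟨q, hq⟩ : ↥P)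
    rw [← Subgroup.orderOf_coe, c.card_P] at hq3
    change orderOf q ∣ 3 at hq3
  · have hq1 : q = 1 := orderOf_eq_one_iff.1 (Nat.eq_one_of_dvd_coprimes (by norm_num)
      (orderOf_dvd_of_pow_eq_one (show q ^ 32 = 1 by rw [← h', h32])) hq3)
    exact Or.inl (h'.trans hq1)
  · have hcz : Commute z q := (c.comm_z (c.P_le_C0 hq).1).symm
    have hq1 : q = 1 := orderOf_eq_one_iff.1 (Nat.eq_one_of_dvd_coprimes (by norm_num)
      (orderOf_dvd_of_pow_eq_one (show q ^ 32 = 1 by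
        rw [h', hcz.mul_pow, show z ^ 32 = 1 by rw [show 32 = 2 * 16 from rfl, pow_mul, pow_two, c.zz, one_pow],
          one_mul] at h32
        exact h32)) hq3)
    exact Or.inr (by rw [h', hq1, mul_one])

theorem exists_L16 (hK : Sixteen J K) {i : A} (hi : i ∈ K) : ∃ x ∈ (c.L16 K), c.im x = i := by
  obtain ⟨x, hx, hxi⟩ := c.exists_C0_im (hK.le hi)
  refine ⟨x ^ 3, (c.mem_L16 hK).2 ⟨pow_mem hx 3, ?_, ?_⟩, ?_⟩
  · rw [c.im_pow hx.1, hxi]; exact pow_mem hi 3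
  · rw [← pow_mul, show 3 * 32 = 2 * 6 * 8 from rfl, pow_mul, pow_mul, c.sq_three hK hx (hxi ▸ hi), one_pow]
  · rw [c.im_pow hx.1, hxi, pow_succ, hK.ea.2 i hi, one_mul]

/-- Elements normalizing a subgroup normalize its two-part. -/
theorem L16_conj (hK : Sixteen J K) {g x : G} (hg : g ∈ c.C0) (hn : c.im g ∈ normalizer (K : Set A)) (hx : x ∈ (c.L16 K)) :
    g * x * g⁻¹ ∈ (c.L16 K) := by
  obtain ⟨hC, hI, h32⟩ := (c.mem_L16 hK).1 hx
  refine (c.mem_L16 hK).2 ⟨mul_mem (mul_mem hg hC) (inv_mem hg), ?_, by rw [conj_pow, h32, mul_one, mul_inv_cancel]⟩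
  rw [c.im_conj hg.1 hC.1]
  exact (mem_normalizer_iff.1 hn _).1 hI

theorem L16_sq (hK : Sixteen J K) {x : G} (hx : x ∈ (c.L16 K)) : x * x = 1 ∨ x * x = z := by
  obtain ⟨hC, hI, -⟩ := (c.mem_L16 hK).1 hx
  refine c.L16_ker hK (mul_mem hx hx) ?_
  rw [c.im_mul hC.1 hC.1, ← pow_two]
  exact hK.ea.2 _ hI

theorem sixteen_I : Sixteen J I := ⟨c.facts.I_le, c.facts.card_I, c.facts.ea_I⟩

theorem sixteen_R : Sixteen J R := ⟨c.facts.R_le, c.facts.card_R, c.facts.ea_R⟩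

/-- The two-part of the preimage of `I` in `C0`. -/
noncomputable def L0 : Subgroup G := c.L16 I

theorem card_L0 : Nat.card ↥c.L0 = 32 := c.card_L16 c.sixteen_I

theorem mem_L0 {x : G} : x ∈ c.L0 ↔ x ∈ c.C0 ∧ c.im x ∈ I ∧ x ^ 32 = 1 := c.mem_L16 c.sixteen_I

theorem L0_le : c.L0 ≤ c.C0 := c.L16_le

theorem L0_isPGroup : IsPGroup 2 ↥c.L0 := c.L16_isPGroup c.sixteen_I

theorem z_mem_L0 : z ∈ c.L0 := c.z_mem_L16 c.sixteen_I

theorem L0_ker {x : G} (hx : x ∈ c.L0) (h : c.im x = 1) : x = 1 ∨ x = z := c.L16_ker c.sixteen_I hx h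

theorem exists_L0 {i : A} (hi : i ∈ I) : ∃ x ∈ c.L0, c.im x = i := c.exists_L16 c.sixteen_I hi

theorem L0_conj {g x : G} (hg : g ∈ c.C0) (hn : c.im g ∈ normalizer (I : Set A)) (hx : x ∈ c.L0) :
    g * x * g⁻¹ ∈ c.L0 := c.L16_conj c.sixteen_I hg hn hx

theorem L0_sq {x : G} (hx : x ∈ c.L0) : x * x = 1 ∨ x * x = z := c.L16_sq c.sixteen_I hx

theorem L0_sq_const {x y : G} (hx : x ∈ c.L0) (hy : y ∈ c.L0) (h1 : c.im x ≠ 1) (h2 : c.im y ≠ 1) :
    x * x = y * y := by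
  obtain ⟨j, hj, hn, hjy⟩ := c.facts.I_trans _ (c.mem_L0.1 hx).2.1 _ (c.mem_L0.1 hy).2.1 h1 h2
  obtain ⟨g, hg, hgj⟩ := c.exists_C0_im hj
  have hgn : c.im g ∈ normalizer (I : Set A) := hgj.symm ▸ isConjugateBy_self_iff.1 hn
  have hx' := c.L0_conj hg hgn hx
  have h3 : c.im (y⁻¹ * (g * x * g⁻¹)) = 1 := by
    rw [c.im_mul (inv_mem (c.L0_le hy).1) (c.L0_le hx').1, c.im_inv (c.L0_le hy).1, c.im_conj hg.1 (c.L0_le hx).1,
      hgj, hjy, inv_mul_cancel]
  have hsq : g * x * g⁻¹ * (g * x * g⁻¹) = x * x := by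
    calc g * x * g⁻¹ * (g * x * g⁻¹) = g * (x * x) * g⁻¹ := by group
      _ = x * x := by
        rcases c.L0_sq hx with h | h <;> rw [h]
        · group
        · rw [c.comm_z hg.1, mul_inv_cancel_right]
  rcases c.L0_ker (mul_mem (inv_mem hy) hx') h3 with h | h
  · rw [← hsq, inv_mul_eq_one.1 h]
  · have e : g * x * g⁻¹ = y * z := inv_mul_eq_iff_eq_mul.1 h
    rw [← hsq, e, mul_assoc, ← mul_assoc z, ← c.comm_z (c.L0_le hy).1, mul_assoc y z z, c.zz, mul_one]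

theorem L0_elementary {x : G} (hx : x ∈ c.L0) : x * x = 1 := by
  by_contra hne
  have hxz := (c.L0_sq hx).resolve_left hne
  have hi : c.im x ≠ 1 := fun h => by
    rcases c.L0_ker hx h with rfl | rfl
    · exact hne (one_mul 1)
    · exact hne c.zz
  have hall : ∀ y ∈ c.L0, c.im y ≠ 1 → y * y = z := fun y hy h => (c.L0_sq_const hx hy hi h).symm.trans hxz
  have hac : ∀ a ∈ c.L0, ∀ b ∈ c.L0, c.im a ≠ 1 → c.im b ≠ 1 → c.im (a * b) ≠ 1 → b * a = z * (a * b) := by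
    intro a ha b hb h1 h2 h3
    have e1 : a⁻¹ = a * z := inv_eq_of_mul_eq_one_right (by rw [← mul_assoc, hall a ha h1, c.zz])
    have e2 : b⁻¹ = b * z := inv_eq_of_mul_eq_one_right (by rw [← mul_assoc, hall b hb h2, c.zz])
    have hza : z * b = b * z := (c.comm_z (c.L0_le hb).1).symm
    calc b * a = a⁻¹ * (a * b * (a * b)) * b⁻¹ := by group
      _ = a * z * z * (b * z) := by rw [hall _ (mul_mem ha hb) h3, e1, e2]
      _ = a * (b * z) := by rw [mul_assoc a z z, c.zz, mul_one]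
      _ = _ := by rw [← mul_assoc, c.comm_z (mul_mem (c.L0_le ha).1 (c.L0_le hb).1)]
  classical
  have hI2 : ∀ i ∈ I, i * i = 1 := fun i hi => by rw [← pow_two]; exact c.facts.ea_I.2 i hi
  obtain ⟨j, hj, hj1, hjx⟩ : ∃ j ∈ I, j ≠ 1 ∧ j ≠ c.im x := by
    by_contra hcon
    push Not at hcon
    have hsub : (I : Set A) ⊆ ({1, c.im x} : Set A) := fun j hj => by
      by_cases h : j = 1
      · exact Or.inl h
      · exact Or.inr (hcon j hj h)
    have := Set.ncard_le_ncard hsub (Set.toFinite _)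
    rw [← Nat.card_coe_set_eq] at this
    have h2 := Set.ncard_insert_le (1 : A) {c.im x}
    rw [Set.ncard_singleton] at h2
    have h16 : Nat.card ↥(I : Set A) = 16 := c.facts.card_I
    omega
  obtain ⟨k, hk, hk1, hkx, hkj, hkxj⟩ : ∃ k ∈ I, k ≠ 1 ∧ k ≠ c.im x ∧ k ≠ j ∧ k ≠ c.im x * j := by
    by_contra hcon
    push Not at hcon
    have hsub : (I : Set A) ⊆ ({1, c.im x, j, c.im x * j} : Set A) := fun k hk => by
      by_cases h1 : k = 1
      · exact Or.inl h1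
      by_cases h2 : k = c.im x
      · exact Or.inr (Or.inl h2)
      by_cases h3 : k = j
      · exact Or.inr (Or.inr (Or.inl h3))
      exact Or.inr (Or.inr (Or.inr (hcon k hk h1 h2 h3)))
    have := Set.ncard_le_ncard hsub (Set.toFinite _)
    rw [← Nat.card_coe_set_eq] at this
    have a1 := Set.ncard_insert_le (1 : A) {c.im x, j, c.im x * j}
    have a2 := Set.ncard_insert_le (c.im x) {j, c.im x * j}
    have a3 := Set.ncard_insert_le j {c.im x * j}
    rw [Set.ncard_singleton] at a3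
    have h16 : Nat.card ↥(I : Set A) = 16 := c.facts.card_I
    omega
  obtain ⟨b, hb, hbj⟩ := c.exists_L0 hj
  obtain ⟨d, hd, hdk⟩ := c.exists_L0 hk
  have hxH := (c.L0_le hx).1
  have hbH := (c.L0_le hb).1
  have hdH := (c.L0_le hd).1
  have ne_mul : ∀ u v : A, v * v = 1 → u ≠ v → u * v ≠ 1 := fun u v hv h he => h (by
    calc u = u * (v * v) := by rw [hv, mul_one]
      _ = v := by rw [← mul_assoc, he, one_mul])
  have hb1 : c.im b ≠ 1 := hbj.symm ▸ hj1
  have hd1 : c.im d ≠ 1 := hdk.symm ▸ hk1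
  have hxb : c.im (x * b) ≠ 1 := by rw [c.im_mul hxH hbH, hbj]; exact ne_mul _ _ (hI2 j hj) hjx.symm
  have hxd : c.im (x * d) ≠ 1 := by rw [c.im_mul hxH hdH, hdk]; exact ne_mul _ _ (hI2 k hk) hkx.symm
  have hbd : c.im (b * d) ≠ 1 := by rw [c.im_mul hbH hdH, hbj, hdk]; exact ne_mul _ _ (hI2 k hk) hkj.symm
  have hxbd : c.im (x * (b * d)) ≠ 1 := by
    rw [c.im_mul hxH (mul_mem hbH hdH), c.im_mul hbH hdH, hbj, hdk, ← mul_assoc]
    exact ne_mul _ _ (hI2 k hk) hkxj.symm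
  have p1 := hac x hx b hb hi hb1 hxb
  have p2 := hac x hx d hd hi hd1 hxd
  have p3 := hac x hx (b * d) (mul_mem hb hd) hi hbd hxbd
  have hbz : b * z = z * b := c.comm_z hbH
  refine c.z_ne ?_
  have e : z * (x * (b * d)) = x * (b * d) := by
    calc z * (x * (b * d)) = b * d * x := p3.symm
      _ = b * (z * (x * d)) := by rw [mul_assoc, p2]
      _ = z * (b * x) * d := by rw [← mul_assoc, hbz]; group
      _ = z * (z * (x * b)) * d := by rw [p1]
      _ = _ := by rw [← mul_assoc z z, c.zz, one_mul]; group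
  exact mul_eq_right.1 e

theorem L0_comm {x y : G} (hx : x ∈ c.L0) (hy : y ∈ c.L0) : x * y = y * x := by
  have h1 := c.L0_elementary (mul_mem hx hy)
  calc x * y = (x * y)⁻¹ := (inv_eq_of_mul_eq_one_right h1).symm
    _ = y * x := by
      rw [mul_inv_rev, inv_eq_of_mul_eq_one_right (c.L0_elementary hx),
        inv_eq_of_mul_eq_one_right (c.L0_elementary hy)]

/-- A subgroup of order 27 normalizing `L0`. -/
theorem exists_Q : ∃ Q : Subgroup G, c.Three Q ∧ ∀ x ∈ Q, c.im x ∈ normalizer (I : Set A) := by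
  obtain ⟨a, b, n, ha, hb, -, haI, hbI, hao, hbo, hab, hnb, -⟩ := c.facts.three
  haveI : Finite A := Finite.of_surjective c.pr c.pr_surj
  obtain ⟨Q, h1, h2, h3, h4, -, h5⟩ := c.exists_three (closure {a, b})
    ((Subgroup.closure_le _).2 (Set.insert_subset ha (Set.singleton_subset_iff.2 hb)))
    (card_closure_pair hao hbo hab hnb)
  refine ⟨Q, ⟨h1, h2, h3, h5⟩, fun x hx => ?_⟩
  rw [c.im_eq (h1 hx).1]
  exact ((Subgroup.closure_le _).2 (Set.insert_subset (isConjugateBy_self_iff.1 haI)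
    (Set.singleton_subset_iff.2 (isConjugateBy_self_iff.1 hbI)))) (h4 x (h1 hx) hx)

/-- The chosen subgroup of order 27. -/
noncomputable def Q0 : Subgroup G := c.exists_Q.choose

theorem Q0_three : c.Three c.Q0 := c.exists_Q.choose_spec.1

theorem Q0_norm {x : G} (hx : x ∈ c.Q0) : c.im x ∈ normalizer (I : Set A) := c.exists_Q.choose_spec.2 x hx

/-- The fixed space of `L0`. -/
noncomputable def U : AddSubgroup c.Vs := c.fix (c.L0 : Set G)

theorem U_conj {g : G} (hg : g ∈ c.C0) (hn : c.im g ∈ normalizer (I : Set A)) {v : c.Vs} (hv : v ∈ c.U) :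
    c.act g v ∈ c.U := fun l hl => by
  have hn' : c.im g⁻¹ ∈ normalizer (I : Set A) := by rw [c.im_inv hg.1]; exact inv_mem hn
  have hl' : g⁻¹ * l * g ∈ c.L0 := by
    have := c.L0_conj (inv_mem hg) hn' hl
    rwa [inv_inv] at this
  have hlH := (c.L0_le hl).1
  show (c.act l * c.act g) v = _
  rw [← c.act_mul hlH hg.1, show l * g = g * (g⁻¹ * l * g) by group, c.act_mul hg.1 (c.L0_le hl').1]
  exact congrArg (c.act g) (hv _ hl')

theorem U_invariant : ∀ x ∈ c.Q0, ∀ v ∈ c.U, c.act x v ∈ c.U := fun _ hx _ hv =>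
  c.U_conj (c.Q0_three.le hx) (c.Q0_norm hx) hv

theorem card_U : Nat.card ↥c.U = 2 ^ 6 := by
  rcases c.card_invariant_cases c.Q0_three c.U c.U_invariant with h | h | h
  · exfalso
    have htop : (⊤ : AddSubgroup c.Vs) ≠ ⊥ := fun e => by
      have := congrArg (fun W : AddSubgroup c.Vs => Nat.card ↥W) e
      simp [c.card_V] at this
    obtain ⟨v, -, hne, hv⟩ := c.exists_fixed (fun _ hx => (c.L0_le hx).1) c.L0_isPGroup ⊤
      (fun _ _ _ _ => AddSubgroup.mem_top _) htop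
    rw [AddSubgroup.card_eq_one] at h
    exact hne ((AddSubgroup.eq_bot_iff_forall _).1 h v hv)
  · exact h
  · exfalso
    have hall : c.U = ⊤ := AddSubgroup.eq_top_of_card_eq _ (by rw [h, c.card_V])
    have hsub : (c.L0 : Set G) ⊆ {1, z} := by
      intro l hl
      have h1 : c.act l = 1 := AddMonoidHom.ext fun v =>
        (show v ∈ c.U from hall ▸ AddSubgroup.mem_top v) l hl
      have hle : l ∈ c.E := (c.act_eq_one (c.L0_le hl).1).1 h1
      exact c.L0_ker hl (c.im_E hle)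
    have := Set.ncard_le_ncard hsub (Set.toFinite _)
    have h2 := Set.ncard_insert_le (1 : G) {z}
    rw [Set.ncard_singleton] at h2
    have h32 : Set.ncard (c.L0 : Set G) = 32 := by rw [← Nat.card_coe_set_eq]; exact c.card_L0
    omega

theorem perp_U_invariant_L0 : ∀ x ∈ c.L0, ∀ v ∈ c.perp c.U, c.act x v ∈ c.perp c.U := fun x hx v hv =>
  c.perp_invariant (c.L0_le hx).1 (fun u hu => by
    rw [hu x⁻¹ (inv_mem hx)]; exact hu) hv

theorem perp_U : c.perp c.U = c.U := by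
  have hcp := c.card_perp c.U
  rw [c.card_U] at hcp
  have hne : c.perp c.U ≠ ⊥ := fun h => by rw [h, AddSubgroup.card_bot] at hcp; norm_num at hcp
  obtain ⟨v, hv, hv0, hvU⟩ := c.exists_fixed (fun _ hx => (c.L0_le hx).1) c.L0_isPGroup (c.perp c.U)
    c.perp_U_invariant_L0 hne
  have hinv : ∀ x ∈ c.Q0, ∀ w ∈ c.U ⊓ c.perp c.U, c.act x w ∈ c.U ⊓ c.perp c.U := fun x hx w hw =>
    ⟨c.U_invariant x hx w hw.1, c.perp_invariant (c.Q0_three.le hx).1
      (fun u hu => c.U_invariant x⁻¹ (inv_mem hx) u hu) hw.2⟩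
  rcases c.card_invariant_cases c.Q0_three _ hinv with h | h | h
  · exact absurd ((AddSubgroup.eq_bot_iff_forall _).1 (AddSubgroup.card_eq_one.1 h) v ⟨hvU, hv⟩) hv0
  · have e1 : c.U ⊓ c.perp c.U = c.U := AddSubgroup.eq_of_le_of_card_ge inf_le_left (by rw [h, c.card_U])
    exact (AddSubgroup.eq_of_le_of_card_ge (inf_eq_left.1 e1) (by rw [c.card_U]; omega)).symm
  · have := AddSubgroup.card_le_of_le (inf_le_left : c.U ⊓ c.perp c.U ≤ c.U)
    rw [h, c.card_U] at this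
    norm_num at this

theorem Bf_U {u v : c.Vs} (hu : u ∈ c.U) (hv : v ∈ c.U) : c.Bf u v = 0 :=
  c.mem_perp.1 (c.perp_U.symm ▸ hv) u hu

theorem Sf_act {x : G} (hx : x ∈ c.H) (v : c.Vs) : c.Sf (c.act x v) = c.Sf v := by
  rw [Sf, c.act_eq hx, c.qs.S_inv]

theorem Sf_U {u : c.Vs} (hu : u ∈ c.U) : c.Sf u = 0 := by
  let f : ↥c.U →+ ZMod 2 :=
    { toFun := fun v => c.Sf v
      map_zero' := by
        show c.Sf 0 = 0
        rw [← c.pv_one, c.Sf_sq (one_mem _), one_mul]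
      map_add' := fun v w => by
        show c.Sf ((v : c.Vs) + w) = _
        rw [c.Sf_add, c.Bf_U v.2 w.2, add_zero] }
  let K : AddSubgroup c.Vs := f.ker.map c.U.subtype
  have hK : ∀ x ∈ c.Q0, ∀ v ∈ K, c.act x v ∈ K := by
    rintro x hx _ ⟨v, hv, rfl⟩
    refine ⟨⟨c.act x v, c.U_invariant x hx v v.2⟩, ?_, rfl⟩
    show c.Sf (c.act x v) = 0
    rw [c.Sf_act (c.Q0_three.le hx).1]
    exact hv
  have hcK : Nat.card ↥K = Nat.card ↥f.ker :=
    (Nat.card_congr (AddSubgroup.equivMapOfInjective _ _ c.U.subtype_injective).toEquiv).symm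
  have hmul := f.ker.card_mul_index
  rw [AddSubgroup.index_ker, c.card_U] at hmul
  have hle : Nat.card ↥f.range ≤ 2 := (Nat.card_le_card_of_injective _ Subtype.val_injective).trans (le_of_eq (Nat.card_zmod 2))
  have hle2 : Nat.card ↥f.ker ≤ 2 ^ 6 := by rw [← c.card_U]; exact Nat.card_le_card_of_injective _ Subtype.val_injective
  rcases c.card_invariant_cases c.Q0_three K hK with h | h | h <;> rw [hcK] at h
  · rw [h, one_mul] at hmul; rw [hmul] at hle; norm_num at hle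
  · have hker : f.ker = ⊤ := AddSubgroup.eq_top_of_card_eq _ (by rw [h, c.card_U])
    exact AddMonoidHom.mem_ker.1 (hker ▸ AddSubgroup.mem_top (⟨u, hu⟩ : ↥c.U))
  · omega

end CfsgLib.Spor.JFourType.Ctx
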