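import Cfsg.Agent.Lib.Spor.JFourType.Stab
import Cfsg.Agent.Lib.Spor.JFourType.FixDuad

/-!
# An involution of `I` determines `I`, a vector on five lines determines `U`

The images of `U` containing a given line number at most four, so the centralizer of an involution of `I`
would otherwise contain a subgroup of order nine; for a vector on five lines the involutions of another conjugate
of `I` whose lines pass through it all normalize `I`.
-/

set_option autoImplicit false
set_option linter.style.haveILetI false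

namespace CfsgLib.Spor.JFourType.Ctx

open Subgroup

universe u

variable {G : Type u} [Group G] [Finite G] {A : Type} [Group A] {J I R : Subgroup A}
  {z : G} {P : Subgroup G} (c : Ctx J I R z P)
include c

theorem exists_H_im (g : A) : ∃ h ∈ c.H, c.im h = g := by
  obtain ⟨⟨h, hh⟩, e⟩ := c.pr_surj g
  exact ⟨h, hh, by rw [c.im_eq hh, e]⟩

theorem J_normal : J.Normal := normal_of_index_eq_two c.facts.index_J

theorem conj_mem_M {h x : G} (hh : h ∈ c.H) (hx : x ∈ c.M) : h * x * h⁻¹ ∈ c.M := by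
  have hxH := c.H_of_M hx
  refine (c.mem_M_iff_im (mul_mem (mul_mem hh hxH) (inv_mem hh))).2 ?_
  rw [c.im_conj hh hxH]
  haveI := c.J_normal
  exact Normal.conj_mem inferInstance _ ((c.mem_M_iff_im hxH).1 hx) _

/-- The action of a conjugated lift. -/
theorem act_conj_lv {h : G} (hh : h ∈ c.H) {a b : ↥I} (he : c.im h * b * (c.im h)⁻¹ = a) :
    c.act (c.lv a) = c.act (h * c.lv b * h⁻¹) := by
  have hb := c.L0_elementary (c.lv_mem b)
  refine c.act_eq_of_im (c.C0_le_M (c.L0_le (c.lv_mem a))) (c.conj_mem_M hh (c.C0_le_M (c.L0_le (c.lv_mem b))))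
    (by rw [c.im_conj hh (c.lv_H b), c.im_lv, c.im_lv, he]) (n := 2) (by norm_num) ?_ ?_
  · rw [← c.act_pow (c.lv_H a), pow_two, c.L0_elementary (c.lv_mem a), c.act_one]
  · rw [← c.act_pow (mul_mem (mul_mem hh (c.lv_H b)) (inv_mem hh)), pow_two, conj_mul, hb, mul_one, mul_inv_cancel,
      c.act_one]

/-- The image of `U`. -/
noncomputable def Uh (h : G) : AddSubgroup c.Vs where
  carrier := {v | ∃ u ∈ c.U, c.act h u = v}
  zero_mem' := ⟨0, zero_mem _, map_zero _⟩
  add_mem' := by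
    rintro _ _ ⟨u, hu, rfl⟩ ⟨w, hw, rfl⟩
    exact ⟨u + w, add_mem hu hw, map_add _ _ _⟩
  neg_mem' := by
    rintro _ ⟨u, hu, rfl⟩
    exact ⟨-u, neg_mem hu, map_neg _ _⟩

theorem mem_Uh {h : G} (hh : h ∈ c.H) {v : c.Vs} : v ∈ c.Uh h ↔ c.act h⁻¹ v ∈ c.U := by
  constructor
  · rintro ⟨u, hu, rfl⟩
    rw [c.act_inv_apply hh]
    exact hu
  · exact fun hv => ⟨_, hv, c.act_apply_inv hh v⟩

theorem card_Uh {h : G} (hh : h ∈ c.H) : Nat.card ↥(c.Uh h) = 2 ^ 6 := by
  rw [← c.card_U]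
  refine (Nat.card_congr (Equiv.ofBijective (fun u : ↥c.U => (⟨c.act h u, u, u.2, rfl⟩ : ↥(c.Uh h)))
    ⟨fun u w e => Subtype.ext (c.act_injective hh (congrArg Subtype.val e)), fun v => ?_⟩)).symm
  obtain ⟨u, hu, e⟩ := v.2
  exact ⟨⟨u, hu⟩, Subtype.ext e⟩

theorem perp_Uh {h : G} (hh : h ∈ c.H) : c.perp (c.Uh h) = c.Uh h := by
  refine (AddSubgroup.eq_of_le_of_card_ge (fun v hv => c.mem_perp.2 fun u hu => ?_) ?_).symm
  · obtain ⟨a, ha, rfl⟩ := hu
    obtain ⟨b, hb, rfl⟩ := hv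
    rw [c.Bf_act hh]
    exact c.Bf_U ha hb
  · have h1 := c.card_perp (c.Uh h)
    rw [c.card_Uh hh] at h1 ⊢
    omega

theorem om_act_U {h : G} (hh : h ∈ c.H) {v : c.Vs} (hv : v ∈ c.Uh h) : c.om v ∈ c.Uh h := by
  obtain ⟨u, hu, rfl⟩ := hv
  by_cases hM : h ∈ c.M
  · exact ⟨c.om u, c.U_om hu, c.om_M hM u⟩
  · refine ⟨c.om (c.om u), c.U_om (c.U_om hu), ?_⟩
    rw [c.om_outer hh hM, c.om_outer hh hM, c.om_cube]

/-- A lift of an involution fixes every image of `U` belonging to it. -/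
theorem Uh_le_Fx {h : G} (hh : h ∈ c.H) {a b : ↥I} (he : c.im h * b * (c.im h)⁻¹ = a) : c.Uh h ≤ c.Fx a := by
  rintro _ ⟨u, hu, rfl⟩
  rw [Fx, c.fix_act_eq (c.act_conj_lv hh he), c.fix_conj hh (c.lv_H b), c.act_inv_apply hh]
  exact c.U_le_Fx b hu

theorem Li_le_Uh {h : G} (hh : h ∈ c.H) {a b : ↥I} (he : c.im h * b * (c.im h)⁻¹ = a) : c.Li a ≤ c.Uh h := by
  rw [← c.perp_Uh hh]
  exact c.perp_anti (c.Uh_le_Fx hh he)

/-- An image of `U` fixed by a lift. -/
theorem mem_conj_of_fix {h : G} (hh : h ∈ c.H) (a : ↥I) (hfix : ∀ v ∈ c.Uh h, v ∈ c.Fx a) :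
    (c.im h)⁻¹ * a * c.im h ∈ I := by
  have hxH : h⁻¹ * c.lv a * h ∈ c.H := mul_mem (mul_mem (inv_mem hh) (c.lv_H a)) hh
  have hm := c.im_mem_of_fix_U hxH (a := 1) (by
    rw [pow_one, pow_two, show h⁻¹ * c.lv a * h * (h⁻¹ * c.lv a * h) = h⁻¹ * (c.lv a * c.lv a) * h by group,
      c.L0_elementary (c.lv_mem a), mul_one, inv_mul_cancel]) fun v hv => by
    rw [c.act_apply_mul (mul_mem (inv_mem hh) (c.lv_H a)) hh, c.act_apply_mul (inv_mem hh) (c.lv_H a),
      c.mem_fix_singleton.1 (hfix _ ⟨v, hv, rfl⟩), c.act_inv_apply hh]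
  rwa [c.im_mul (mul_mem (inv_mem hh) (c.lv_H a)) hh, c.im_mul (inv_mem hh) (c.lv_H a), c.im_inv hh, c.im_lv] at hm

/-- An element moving `U` to itself normalizes `I`. -/
theorem im_normalizer_of_Uh {h : G} (hh : h ∈ c.H) (he : c.Uh h = c.U) : c.im h ∈ normalizer (I : Set A) := by
  haveI := c.finite_A
  have h1 : ∀ i ∈ I, (c.im h)⁻¹ * i * c.im h ∈ I := fun i hi =>
    c.mem_conj_of_fix hh ⟨i, hi⟩ fun v hv => c.U_le_Fx _ (he ▸ hv)
  refine mem_normalizer_iff.2 fun i => ⟨fun hi => ?_, fun hi => ?_⟩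
  · -- the map is onto by finiteness
    let f : ↥I → ↥I := fun i => ⟨_, h1 i i.2⟩
    have hf : Function.Injective f := fun i j hij => Subtype.ext
      (mul_left_cancel (mul_right_cancel (congrArg Subtype.val hij)))
    obtain ⟨j, hj⟩ := (Finite.injective_iff_surjective.1 hf) ⟨i, hi⟩
    have e : (c.im h)⁻¹ * j * c.im h = i := congrArg Subtype.val hj
    rw [← e, show c.im h * ((c.im h)⁻¹ * j * c.im h) * (c.im h)⁻¹ = j by group]
    exact j.2
  · have := h1 _ hi
    rwa [show (c.im h)⁻¹ * (c.im h * i * (c.im h)⁻¹) * c.im h = i by group] at this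

theorem Uh_inf {h h' : G} (hh : h ∈ c.H) (hh' : h' ∈ c.H) {a : ↥I} (ha : a ≠ 1) (hle : c.Li a ≤ c.Uh h)
    (hle' : c.Li a ≤ c.Uh h') (hne : c.Uh h ≠ c.Uh h') : c.Uh h ⊓ c.Uh h' = c.Li a := by
  refine (AddSubgroup.eq_of_le_of_card_ge (le_inf hle hle') ?_).symm
  rw [c.card_Li ha]
  obtain ⟨k, hk, hck⟩ := c.card_addSubgroup (c.Uh h ⊓ c.Uh h')
  have h3 := c.card_om_invariant (c.Uh h ⊓ c.Uh h') fun v hv => ⟨c.om_act_U hh hv.1, c.om_act_U hh' hv.2⟩
  have hl : Nat.card ↥(c.Uh h ⊓ c.Uh h') ≤ 2 ^ 6 := c.card_Uh hh ▸ AddSubgroup.card_le_of_le inf_le_left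
  have hn : Nat.card ↥(c.Uh h ⊓ c.Uh h') ≠ 2 ^ 6 := fun e => hne (le_antisymm
    ((AddSubgroup.eq_of_le_of_card_ge (inf_le_left : c.Uh h ⊓ c.Uh h' ≤ c.Uh h) (by rw [e, c.card_Uh hh])).ge.trans
      inf_le_right)
    ((AddSubgroup.eq_of_le_of_card_ge (inf_le_right : c.Uh h ⊓ c.Uh h' ≤ c.Uh h') (by rw [e, c.card_Uh hh'])).ge.trans
      inf_le_left))
  rw [hck] at h3 hl hn ⊢
  interval_cases k <;> omega

/-- At most four images of `U` contain a given line. -/
theorem card_Uh_le {a : ↥I} (ha : a ≠ 1) (S : Finset (AddSubgroup c.Vs))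
    (hS : ∀ W ∈ S, ∃ h ∈ c.H, c.Uh h = W ∧ c.Li a ≤ W ∧ W ≤ c.Fx a) : S.card ≤ 4 := by
  classical
  haveI : Fintype c.Vs := Fintype.ofFinite _
  set L : Finset c.Vs := Finset.univ.filter fun v => v ∈ c.Li a with hL
  set f : AddSubgroup c.Vs → Finset c.Vs := fun W => (Finset.univ.filter fun v => v ∈ W) \ L with hf
  have hL16 : L.card = 16 := by
    rw [hL, ← Fintype.card_subtype, ← Nat.card_eq_fintype_card]; exact c.card_Li ha
  have h48 : ∀ W ∈ S, (f W).card = 48 := by
    intro W hW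
    obtain ⟨h, hh, rfl, hle, -⟩ := hS W hW
    simp only [hf]
    rw [Finset.card_sdiff_of_subset (by
      intro v hv
      simp only [hL, Finset.mem_filter, Finset.mem_univ, true_and] at hv ⊢
      exact hle hv), hL16, show (Finset.univ.filter fun v => v ∈ c.Uh h).card = 64 by
        rw [← Fintype.card_subtype, ← Nat.card_eq_fintype_card]; exact c.card_Uh hh]
  have hdis : (S : Set (AddSubgroup c.Vs)).PairwiseDisjoint f := by
    intro W hW W' hW' hne
    obtain ⟨h, hh, rfl, hle, -⟩ := hS W hW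
    obtain ⟨h', hh', rfl, hle', -⟩ := hS W' hW'
    refine Finset.disjoint_left.2 fun v h1 h2 => ?_
    simp only [hf, hL, Finset.mem_sdiff, Finset.mem_filter, Finset.mem_univ, true_and] at h1 h2
    exact h1.2 ((c.Uh_inf hh hh' ha hle hle' hne).le ⟨h1.1, h2.1⟩)
  have hsub : S.biUnion f ⊆ (Finset.univ.filter fun v => v ∈ c.Fx a) \ L := by
    intro v hv
    obtain ⟨W, hW, hvW⟩ := Finset.mem_biUnion.1 hv
    obtain ⟨h, hh, rfl, -, hle⟩ := hS W hW
    simp only [hf, Finset.mem_sdiff, Finset.mem_filter, Finset.mem_univ, true_and] at hvW ⊢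
    exact ⟨hle hvW.1, hvW.2⟩
  have hLF : c.Li a ≤ c.Fx a := (c.Li_le_U a).trans (c.U_le_Fx a)
  have h240 : ((Finset.univ.filter fun v => v ∈ c.Fx a) \ L).card = 240 := by
    rw [Finset.card_sdiff_of_subset (by
      intro v hv
      simp only [hL, Finset.mem_filter, Finset.mem_univ, true_and] at hv ⊢
      exact hLF hv), hL16, show (Finset.univ.filter fun v => v ∈ c.Fx a).card = 256 by
        rw [← Fintype.card_subtype, ← Nat.card_eq_fintype_card]; exact c.card_Fx ha]
  have h := Finset.card_le_card hsub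
  rw [Finset.card_biUnion hdis, Finset.sum_congr rfl h48, Finset.sum_const, smul_eq_mul, h240] at h
  by_contra hcon
  have h5 : S.card = 5 := by omega
  -- five would cover everything
  have heq := Finset.eq_of_subset_of_card_le hsub (by
    rw [Finset.card_biUnion hdis, Finset.sum_congr rfl h48, Finset.sum_const, smul_eq_mul, h240, h5])
  have hzero : ∀ v ∈ c.Fx a, c.Bf v (c.om v) = 0 := by
    intro v hv
    by_cases hvL : v ∈ c.Li a
    · exact c.Bf_U (c.Li_le_U a hvL) (c.U_om (c.Li_le_U a hvL))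
    have hm : v ∈ S.biUnion f := heq ▸ (by simp [hL, hv, hvL])
    obtain ⟨W, hW, hvW⟩ := Finset.mem_biUnion.1 hm
    obtain ⟨h, hh, rfl, -, -⟩ := hS W hW
    simp only [hf, Finset.mem_sdiff, Finset.mem_filter, Finset.mem_univ, true_and] at hvW
    exact c.mem_perp.1 ((c.perp_Uh hh).ge (c.om_act_U hh hvW.1)) v hvW.1
  have hsub2 : c.Fx a ≤ c.perp (c.Fx a) := by
    intro v hv
    refine c.mem_perp.2 fun u hu => ?_
    have h1 := hzero _ (add_mem hu hv)
    rw [map_add, c.Bf_add_left, c.Bf_add_right, c.Bf_add_right, hzero u hu, hzero v hv, zero_add, add_zero] at h1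
    have e : c.Bf v (c.om u) = c.Bf u (c.om (c.om v)) := by
      rw [c.Bf_symm]
      nth_rewrite 1 [← c.om_cube v]
      exact c.Bf_act c.pg_H _ _
    rw [e, c.om_two, c.Bf_add_right] at h1
    calc c.Bf u v = c.Bf u v + (c.Bf u (c.om v) + c.Bf u (c.om v)) := by rw [CharTwo.add_self_eq_zero, add_zero]
      _ = c.Bf u (c.om v) + (c.Bf u v + c.Bf u (c.om v)) := by abel
      _ = 0 := h1
  have h8 := AddSubgroup.card_le_of_le hsub2
  rw [c.card_Fx ha, show c.perp (c.Fx a) = c.Li a from rfl, c.card_Li ha] at h8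
  norm_num at h8

/-- A conjugate of `I` is conjugate by an element of the simple subgroup. -/
theorem exists_J_conj (g : A) : ∃ j ∈ J, ∀ x, (g⁻¹ * x * g ∈ I ↔ j⁻¹ * x * j ∈ I) := by
  haveI := c.finite_A
  haveI := c.J_normal
  set K : Subgroup A := I.map (MulAut.conj g).toMonoidHom with hK
  have hmem : ∀ x, x ∈ K ↔ g⁻¹ * x * g ∈ I := by
    intro x
    rw [hK, Subgroup.mem_map]
    constructor
    · rintro ⟨i, hi, rfl⟩
      rwa [MulEquiv.coe_toMonoidHom, MulAut.conj_apply, show g⁻¹ * (g * i * g⁻¹) * g = i by group]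
    · exact fun h => ⟨_, h, by rw [MulEquiv.coe_toMonoidHom, MulAut.conj_apply]; group⟩
  have hKJ : K ≤ J := fun x hx => by
    have := Normal.conj_mem (H := J) inferInstance _ (c.facts.I_le ((hmem x).1 hx)) g
    rwa [show g * (g⁻¹ * x * g) * g⁻¹ = x by group] at this
  have hKc : IsConjugateBy g I K := hmem
  have hKea : Cfsg.IsElementaryAbelian 2 K := by
    refine ⟨⟨⟨fun p q => Subtype.ext ?_⟩⟩, fun x hx => ?_⟩
    · have e : g⁻¹ * p * g * (g⁻¹ * q * g) = g⁻¹ * q * g * (g⁻¹ * p * g) :=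
        congrArg Subtype.val (c.comm_I ⟨_, (hmem p).1 p.2⟩ ⟨_, (hmem q).1 q.2⟩)
      show (p : A) * q = q * p
      calc (p : A) * q = g * (g⁻¹ * p * g * (g⁻¹ * q * g)) * g⁻¹ := by group
        _ = g * (g⁻¹ * q * g * (g⁻¹ * p * g)) * g⁻¹ := by rw [e]
        _ = _ := by group
    · have e := c.facts.ea_I.2 _ ((hmem x).1 hx)
      rw [pow_two, show g⁻¹ * x * g * (g⁻¹ * x * g) = g⁻¹ * (x * x) * g by group] at e
      rw [pow_two]
      calc x * x = g * (g⁻¹ * (x * x) * g) * g⁻¹ := by group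
        _ = 1 := by rw [e, mul_one, mul_inv_cancel]
  obtain ⟨j, hj, h | h⟩ := c.facts.ea_cases K hKJ hKea (by rw [hKc.card_eq, c.facts.card_I])
  · exact ⟨j, hj, fun x => (hmem x).symm.trans (h x)⟩
  · exfalso
    -- the fixed space of the two-part over `R` would be too large
    have hgI : IsConjugateBy (j⁻¹ * g) I R := hKc.trans h.symm'
    obtain ⟨k, hk, hkg⟩ := c.exists_H_im (j⁻¹ * g)
    have hle : c.Uh k ≤ c.fix (c.L16 R : Set G) := by
      rintro v ⟨u, hu, rfl⟩ l hl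
      obtain ⟨hlC, hlR, -⟩ := (c.mem_L16 c.sixteen_R).1 hl
      have hi : (j⁻¹ * g)⁻¹ * c.im l * (j⁻¹ * g) ∈ I := (hgI _).1 hlR
      have hlb : c.act l = c.act (k * c.lv ⟨_, hi⟩ * k⁻¹) := by
        refine c.act_eq_of_im (c.C0_le_M hlC) (c.conj_mem_M hk (c.C0_le_M (c.L0_le (c.lv_mem _))))
          (by rw [c.im_conj hk (c.lv_H _), c.im_lv, hkg]; group) (n := 2 ^ 5) (by norm_num) ?_ ?_
        · rw [← c.act_pow hlC.1, show (2 : ℕ) ^ 5 = 32 by norm_num, ((c.mem_L16 c.sixteen_R).1 hl).2.2, c.act_one]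
        · rw [← c.act_pow (mul_mem (mul_mem hk (c.lv_H _)) (inv_mem hk)), pow_succ', pow_mul, pow_two, conj_mul,
            c.L0_elementary (c.lv_mem _), mul_one, mul_inv_cancel, one_pow, c.act_one]
      rw [hlb]
      refine c.mem_fix_singleton.1 ((c.fix_conj hk (c.lv_H _)).2 ?_)
      rw [c.act_inv_apply hk]
      exact c.U_le_Fx _ hu
    have h4 := AddSubgroup.card_le_of_le hle
    rw [c.card_Uh hk, c.card_fix_R] at h4
    norm_num at h4

/-- An involution of `I` lies in no other conjugate of `I`. -/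
theorem normalizer_of_inv {a : ↥I} (ha : a ≠ 1) {g : A} (hg : g⁻¹ * a * g ∈ I) :
    g ∈ normalizer (I : Set A) := by
  classical
  haveI := c.finite_A
  haveI : Fact (Nat.Prime 2) := ⟨Nat.prime_two⟩
  haveI : Fact (Nat.Prime 3) := ⟨Nat.prime_three⟩
  by_contra hgN
  set C : Subgroup A := centralizer ({(a : A)} : Set A) with hC
  have memC : ∀ x, x ∈ C ↔ x * a = a * x := fun x => mem_centralizer_singleton_iff
  set conjI : A → Subgroup A := fun g => I.map (MulAut.conj g).toMonoidHom with hconjI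
  have hmem : ∀ g x, x ∈ conjI g ↔ g⁻¹ * x * g ∈ I := by
    intro g x
    rw [hconjI, Subgroup.mem_map]
    constructor
    · rintro ⟨i, hi, rfl⟩
      rwa [MulEquiv.coe_toMonoidHom, MulAut.conj_apply, show g⁻¹ * (g * i * g⁻¹) * g = i by group]
    · exact fun h => ⟨_, h, by rw [MulEquiv.coe_toMonoidHom, MulAut.conj_apply]; group⟩
  have hconj_mul : ∀ x g, (conjI g).map (MulAut.conj x).toMonoidHom = conjI (x * g) := by
    intro x g
    ext y
    rw [Subgroup.mem_map, hmem]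
    constructor
    · rintro ⟨w, hw, rfl⟩
      rw [hmem] at hw
      rwa [MulEquiv.coe_toMonoidHom, MulAut.conj_apply,
        show (x * g)⁻¹ * (x * w * x⁻¹) * (x * g) = g⁻¹ * w * g by group]
    · intro h
      refine ⟨x⁻¹ * y * x, (hmem g _).2 ?_, by rw [MulEquiv.coe_toMonoidHom, MulAut.conj_apply]; group⟩
      rwa [show g⁻¹ * (x⁻¹ * y * x) * g = (x * g)⁻¹ * y * (x * g) by group]
  have h1 : conjI 1 = I := by ext x; rw [hmem]; simp
  have hnorm : ∀ g, conjI g = I → g ∈ normalizer (I : Set A) := fun g hg => mem_normalizer_iff.2 fun i => by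
    have h := hmem g (g * i * g⁻¹)
    rw [hg, show g⁻¹ * (g * i * g⁻¹) * g = i by group] at h
    exact h.symm
  -- the conjugates containing `a`
  let X := {K : Subgroup A // ∃ g, K = conjI g ∧ (a : A) ∈ K}
  have hxC : ∀ (x : ↥C) (K : Subgroup A), (∃ g, K = conjI g ∧ (a : A) ∈ K) →
      ∃ g, K.map (MulAut.conj (x : A)).toMonoidHom = conjI g ∧ (a : A) ∈ K.map (MulAut.conj (x : A)).toMonoidHom := by
    rintro x K ⟨g, rfl, hK⟩
    refine ⟨(x : A) * g, hconj_mul _ _, a, hK, ?_⟩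
    rw [MulEquiv.coe_toMonoidHom, MulAut.conj_apply, (memC x).1 x.2, mul_inv_cancel_right]
  letI act' : MulAction ↥C X :=
    { smul := fun x K => ⟨K.1.map (MulAut.conj (x : A)).toMonoidHom, hxC x K.1 K.2⟩
      one_smul := fun K => Subtype.ext (by
        show K.1.map (MulAut.conj ((1 : ↥C) : A)).toMonoidHom = K.1
        rw [OneMemClass.coe_one, map_one]
        exact Subgroup.map_id _)
      mul_smul := fun x y K => Subtype.ext (by
        show K.1.map (MulAut.conj ((x : A) * y)).toMonoidHom =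
          (K.1.map (MulAut.conj (y : A)).toMonoidHom).map (MulAut.conj (x : A)).toMonoidHom
        rw [Subgroup.map_map, map_mul]
        rfl) }
  have hsmul : ∀ (x : ↥C) (K : X), ((x • K : X) : Subgroup A) = K.1.map (MulAut.conj (x : A)).toMonoidHom :=
    fun _ _ => rfl
  let K0 : X := ⟨I, 1, h1.symm, a.2⟩
  -- facts on the members
  have hJconj : ∀ g, ∃ j ∈ J, IsConjugateBy j I (conjI g) := by
    intro g
    obtain ⟨j, hj, h⟩ := c.exists_J_conj g
    exact ⟨j, hj, fun x => (hmem g x).trans (h x)⟩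
  have hcomm : ∀ g, ∀ x ∈ conjI g, ∀ y ∈ conjI g, x * y = y * x := by
    intro g x hx y hy
    rw [hmem] at hx hy
    have e : g⁻¹ * x * g * (g⁻¹ * y * g) = g⁻¹ * y * g * (g⁻¹ * x * g) :=
      congrArg Subtype.val (c.comm_I ⟨_, hx⟩ ⟨_, hy⟩)
    calc x * y = g * (g⁻¹ * x * g * (g⁻¹ * y * g)) * g⁻¹ := by group
      _ = g * (g⁻¹ * y * g * (g⁻¹ * x * g)) * g⁻¹ := by rw [e]
      _ = _ := by group
  have hp2 : ∀ g, IsPGroup 2 ↥(conjI g) := fun g =>
    (IsPGroup.of_card (n := 4) (by rw [c.facts.card_I]; norm_num) : IsPGroup 2 ↥I).map _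
  have hIC : I ≤ C := fun i hi => (memC i).2 (congrArg Subtype.val (c.comm_I ⟨i, hi⟩ a))
  -- one orbit
  have htrans : ∀ K : X, K ∈ MulAction.orbit ↥C K0 := by
    rintro ⟨K, g, rfl, hK⟩
    have hKC : conjI g ≤ C := fun x hx => (memC x).2 (hcomm g x hx a hK)
    obtain ⟨S, hS⟩ := ((hp2 g).comap_subtype (K := C)).exists_le_sylow
    obtain ⟨T, hT⟩ :=
      ((IsPGroup.of_card (n := 4) (by rw [c.facts.card_I]; norm_num) : IsPGroup 2 ↥I).comap_subtype
        (K := C)).exists_le_sylow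
    obtain ⟨x, hx⟩ := MulAction.exists_smul_eq ↥C T S
    refine ⟨x, Subtype.ext ?_⟩
    rw [hsmul]
    show I.map (MulAut.conj (x : A)).toMonoidHom = conjI g
    rw [← h1, hconj_mul, mul_one]
    refine c.facts.I_unique ((S : Subgroup ↥C).map C.subtype) (S.2.map _) _ _ ?_ ?_ (hJconj _) (hJconj g)
    · intro y hy
      rw [hmem] at hy
      have hyC : (x : A)⁻¹ * y * x ∈ C := hIC hy
      have hm : (⟨(x : A)⁻¹ * y * x, hyC⟩ : ↥C) ∈ (T : Subgroup ↥C) := hT hy
      have hm' : x * ⟨(x : A)⁻¹ * y * x, hyC⟩ * x⁻¹ ∈ (S : Subgroup ↥C) := by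
        rw [← hx, Sylow.coe_subgroup_smul]
        exact ⟨_, hm, rfl⟩
      exact ⟨_, hm', by simp [mul_assoc]⟩
    · exact fun y hy => ⟨⟨y, hKC hy⟩, hS hy, rfl⟩
  -- at most four
  have hX4 : Nat.card X ≤ 4 := by
    have hch : ∀ K : X, ∃ h ∈ c.H, conjI (c.im h) = K.1 := by
      rintro ⟨K, g, rfl, hK⟩
      obtain ⟨h, hh, e⟩ := c.exists_H_im g
      exact ⟨h, hh, by rw [e]⟩
    choose f hf hfK using hch
    have hfm : ∀ K : X, (c.im (f K))⁻¹ * a * c.im (f K) ∈ I := by
      intro K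
      rw [← hmem, hfK]
      obtain ⟨g, -, hK⟩ := K.2
      exact hK
    have hinj : Function.Injective fun K : X => c.Uh (f K) := by
      intro K L hKL
      have hKL' : c.Uh (f K) = c.Uh (f L) := hKL
      have hm : (f L)⁻¹ * f K ∈ c.H := mul_mem (inv_mem (hf L)) (hf K)
      have hU : c.Uh ((f L)⁻¹ * f K) = c.U := by
        ext v
        rw [c.mem_Uh hm, mul_inv_rev, inv_inv, c.act_apply_mul (inv_mem (hf K)) (hf L)]
        rw [← c.mem_Uh (hf K), hKL', c.mem_Uh (hf L), c.act_inv_apply (hf L)]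
      have hN := c.im_normalizer_of_Uh hm hU
      rw [c.im_mul (inv_mem (hf L)) (hf K), c.im_inv (hf L)] at hN
      refine Subtype.ext ?_
      rw [← hfK K, ← hfK L]
      ext y
      rw [hmem, hmem, mem_normalizer_iff.1 hN ((c.im (f K))⁻¹ * y * c.im (f K))]
      rw [show (c.im (f L))⁻¹ * c.im (f K) * ((c.im (f K))⁻¹ * y * c.im (f K)) * ((c.im (f L))⁻¹ * c.im (f K))⁻¹ =
        (c.im (f L))⁻¹ * y * c.im (f L) by group]
    haveI : Fintype X := Fintype.ofFinite _
    have h := c.card_Uh_le ha (Finset.univ.image fun K : X => c.Uh (f K)) (by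
      intro W hW
      obtain ⟨K, -, rfl⟩ := Finset.mem_image.1 hW
      have e : c.im (f K) * (⟨_, hfm K⟩ : ↥I) * (c.im (f K))⁻¹ = a := by simp [mul_assoc]
      exact ⟨f K, hf K, rfl, c.Li_le_Uh (hf K) e, c.Uh_le_Fx (hf K) e⟩)
    rwa [Finset.card_image_of_injective _ hinj, Finset.card_univ, ← Nat.card_eq_fintype_card] at h
  -- `I` fixes only itself
  have hI2 : IsPGroup 2 ↥(I.subgroupOf C) :=
    (IsPGroup.of_card (n := 4) (by rw [c.facts.card_I]; norm_num) : IsPGroup 2 ↥I).comap_subtype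
  have hfixed : ∀ K : X, K ∈ MulAction.fixedPoints ↥(I.subgroupOf C) X → K = K0 := by
    rintro ⟨K, g, rfl, hK⟩ hfix
    refine Subtype.ext ?_
    show conjI g = I
    have hIN : I ≤ normalizer (conjI g : Set A) := by
      intro i hi
      have e := congrArg Subtype.val (hfix ⟨⟨i, hIC hi⟩, hi⟩)
      rw [Subgroup.smul_def, hsmul] at e
      change (conjI g).map (MulAut.conj i).toMonoidHom = conjI g at e
      refine mem_normalizer_iff.2 fun y => ⟨fun hy => ?_, fun hy => ?_⟩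
      · rw [← e]
        exact ⟨y, hy, by rw [MulEquiv.coe_toMonoidHom, MulAut.conj_apply]⟩
      · rw [← e] at hy
        obtain ⟨w, hw, hwe⟩ := hy
        rw [MulEquiv.coe_toMonoidHom, MulAut.conj_apply] at hwe
        rwa [← mul_left_cancel (mul_right_cancel hwe)]
    have h2 : IsPGroup 2 ↥(I ⊔ conjI g) :=
      (IsPGroup.of_card (n := 4) (by rw [c.facts.card_I]; norm_num) : IsPGroup 2 ↥I).to_sup_of_normal_right' (hp2 g) hIN
    exact (c.facts.I_unique (I ⊔ conjI g) h2 I (conjI g) le_sup_left le_sup_right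
      ⟨1, one_mem _, fun x => by simp⟩ (hJconj g)).symm
  -- exactly three
  have hmod := hI2.card_modEq_card_fixedPoints X
  have hfp : MulAction.fixedPoints ↥(I.subgroupOf C) X = {K0} := by
    refine Set.eq_singleton_iff_unique_mem.2 ⟨fun i => Subtype.ext ?_, hfixed⟩
    rw [Subgroup.smul_def, hsmul]
    show I.map (MulAut.conj ((i : ↥C) : A)).toMonoidHom = I
    refine ((congrArg (fun L : Subgroup A => L.map (MulAut.conj ((i : ↥C) : A)).toMonoidHom) h1).symm.trans
      ((hconj_mul _ _).trans ?_))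
    rw [mul_one]
    ext y
    rw [hmem]
    have hi : ((i : ↥C) : A) ∈ I := i.2
    exact ⟨fun h => by
      have := mul_mem (mul_mem hi h) (inv_mem hi)
      rwa [show ((i : ↥C) : A) * (((i : ↥C) : A)⁻¹ * y * ((i : ↥C) : A)) * ((i : ↥C) : A)⁻¹ = y by group] at this,
      fun h => mul_mem (mul_mem (inv_mem hi) h) hi⟩
  rw [hfp, Nat.card_coe_set_eq, Set.ncard_singleton, Nat.ModEq] at hmod
  have hX2 : 2 ≤ Nat.card X := by
    haveI : Nontrivial X := ⟨⟨K0, ⟨⟨_, g, rfl, (hmem g a).2 hg⟩, fun h => hgN (hnorm g (congrArg Subtype.val h).symm)⟩⟩⟩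
    exact Finite.one_lt_card
  have hX3 : Nat.card X = 3 := by omega
  have horb : (MulAction.stabilizer ↥C K0).index = 3 := by
    rw [MulAction.index_stabilizer, Set.eq_univ_of_forall htrans, Set.ncard_univ, hX3]
  -- an element of order three in the stabilizer
  obtain ⟨pa, pb, n, hpa, hpb, hn, haI, hbI, hao, hbo, hab, hnb, hna, hnb', ⟨i0, hi0, -, -, hi01, -, -, hia, -⟩,
    -, -, -⟩ := c.facts.three
  obtain ⟨k, hk, hkI, hki⟩ := c.facts.I_trans _ hi0 _ a.2 hi01 (fun h => ha (Subtype.ext h))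
  have hyC : k * pa * k⁻¹ ∈ C := (memC _).2 (by
    rw [← hki]
    calc k * pa * k⁻¹ * (k * i0 * k⁻¹) = k * (pa * i0) * k⁻¹ := by group
      _ = k * (i0 * pa) * k⁻¹ := by rw [hia]
      _ = _ := by group)
  have hyN : k * pa * k⁻¹ ∈ normalizer (I : Set A) :=
    mul_mem (mul_mem (isConjugateBy_self_iff.1 hkI) (isConjugateBy_self_iff.1 haI))
      (inv_mem (isConjugateBy_self_iff.1 hkI))
  have hystab : (⟨k * pa * k⁻¹, hyC⟩ : ↥C) ∈ MulAction.stabilizer ↥C K0 := by
    rw [MulAction.mem_stabilizer_iff]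
    refine Subtype.ext ?_
    rw [hsmul]
    show I.map (MulAut.conj (k * pa * k⁻¹)).toMonoidHom = I
    rw [← h1, hconj_mul, mul_one]
    ext y
    rw [hmem, hmem, inv_one, one_mul, mul_one]
    have := mem_normalizer_iff.1 (inv_mem hyN) y
    rw [inv_inv] at this
    exact this.symm
  have h3s : 3 ∣ Nat.card ↥(MulAction.stabilizer ↥C K0) := by
    have hd := orderOf_dvd_natCard (⟨⟨k * pa * k⁻¹, hyC⟩, hystab⟩ : ↥(MulAction.stabilizer ↥C K0))
    rw [← Subgroup.orderOf_coe, ← Subgroup.orderOf_coe] at hd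
    have e : orderOf (k * pa * k⁻¹) = 3 := by rw [← MulAut.conj_apply, MulEquiv.orderOf_eq, hao]
    exact e ▸ hd
  have h9 : 3 ^ 2 ∣ Nat.card ↥C := by
    rw [← (MulAction.stabilizer ↥C K0).card_mul_index, horb, pow_two]
    exact Nat.mul_dvd_mul_right h3s 3
  obtain ⟨S9, hS9⟩ := Sylow.exists_subgroup_card_pow_prime 3 h9
  set Y : Subgroup A := closure {pa, pb} with hYdef
  have hY9 : Nat.card ↥Y = 3 ^ 2 := by rw [hYdef, card_closure_pair hao hbo hab hnb]; norm_num
  have hYJ : Y ≤ J := (closure_le _).2 (Set.insert_subset hpa (Set.singleton_subset_iff.2 hpb))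
  have hS9J : S9.map C.subtype ≤ J := by
    rintro _ ⟨w, hw, rfl⟩
    have hd := orderOf_dvd_natCard (⟨w, hw⟩ : ↥S9)
    rw [← Subgroup.orderOf_coe, hS9] at hd
    have hodd : (w : A) ^ 9 = 1 := orderOf_dvd_iff_pow_eq_one.1 (by rw [Subgroup.orderOf_coe]; exact hd)
    have h8 : (w : A) ^ 8 ∈ J := by
      have := Subgroup.sq_mem_of_index_two c.facts.index_J ((w : A) ^ 4)
      rwa [← pow_mul] at this
    show (w : A) ∈ J
    rw [show (w : A) = ((w : A) ^ 8)⁻¹ by
      refine eq_inv_of_mul_eq_one_right ?_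
      rw [← pow_succ, hodd]]
    exact inv_mem h8
  -- conjugate to the group of order nine
  have hsy : ∀ K : Subgroup A, K ≤ J → Nat.card ↥K = 3 ^ 2 →
      Nat.card ↥(K.subgroupOf J) = 3 ^ (Nat.card ↥J).factorization 3 := by
    intro K hKJ hK
    rw [Nat.card_congr (subgroupOfEquivOfLe hKJ).toEquiv, hK, c.facts.card_J,
      show (443520 : ℕ) = 3 ^ 2 * 49280 by norm_num, Nat.factorization_mul (by norm_num) (by norm_num),
      Finsupp.add_apply, Nat.factorization_pow, Finsupp.smul_apply, Nat.prime_three.factorization_self,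
      Nat.factorization_eq_zero_of_not_dvd (show ¬ 3 ∣ 49280 by norm_num)]
    norm_num
  have hS9c : Nat.card ↥(S9.map C.subtype) = 3 ^ 2 := by
    rw [← Nat.card_congr (equivMapOfInjective S9 C.subtype C.subtype_injective).toEquiv, hS9]
  let T9 : Sylow 3 ↥J := Sylow.ofCard _ (hsy _ hS9J hS9c)
  let TY : Sylow 3 ↥J := Sylow.ofCard _ (hsy _ hYJ hY9)
  obtain ⟨j, hj⟩ := MulAction.exists_smul_eq ↥J T9 TY
  set s : A := (j : A) * a * (j : A)⁻¹ with hs
  have hsY : ∀ y ∈ Y, y * s = s * y := by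
    intro y hy
    have hyT : (⟨y, hYJ hy⟩ : ↥J) ∈ (TY : Subgroup ↥J) := hy
    rw [← hj, Sylow.coe_subgroup_smul] at hyT
    obtain ⟨w, hw, hwe⟩ := hyT
    obtain ⟨u, hu, huw⟩ : ∃ u : ↥C, u ∈ S9 ∧ (u : A) = (w : A) := by
      obtain ⟨u, hu, he⟩ := (hw : (w : A) ∈ S9.map C.subtype)
      exact ⟨u, hu, he⟩
    have hya : (w : A) * a = a * (w : A) := by rw [← huw]; exact (memC u).1 u.2
    have hye : y = (j : A) * w * (j : A)⁻¹ := (congrArg Subtype.val hwe).symm
    rw [hye, hs]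
    calc (j : A) * w * (j : A)⁻¹ * ((j : A) * a * (j : A)⁻¹) = (j : A) * ((w : A) * a) * (j : A)⁻¹ := by group
      _ = (j : A) * (a * (w : A)) * (j : A)⁻¹ := by rw [hya]
      _ = _ := by group
  obtain ⟨Q, hQC, hQ27, hPQ, hQY, -, hQc⟩ := c.exists_three Y hYJ (by rw [hY9]; norm_num)
  have hQ : c.Three Q := ⟨hQC, hQ27, hPQ, hQc⟩
  obtain ⟨h, hhC, hhj⟩ := c.exists_C0_im j.2
  set x : G := h * c.lv a * h⁻¹ with hx
  have hxH : x ∈ c.H := mul_mem (mul_mem hhC.1 (c.lv_H a)) (inv_mem hhC.1)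
  have hxim : c.im x = s := by rw [hx, c.im_conj hhC.1 (c.lv_H a), hhj, c.im_lv]
  have hxM : x ∈ c.M := c.conj_mem_M hhC.1 (c.C0_le_M (c.L0_le (c.lv_mem a)))
  have hx2 : c.act x ^ 2 = 1 := by
    rw [← c.act_pow hxH, hx, conj_pow, pow_two, c.L0_elementary (c.lv_mem a), mul_one, mul_inv_cancel, c.act_one]
  have hinv : ∀ q ∈ Q, ∀ v ∈ c.fix {x}, c.act q v ∈ c.fix {x} := by
    intro q hq v hv
    have hqC := hQC hq
    have hqY : c.im q ∈ Y := by rw [c.im_eq hqC.1]; exact hQY q hqC hq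
    have hqx : q * x * q⁻¹ ∈ c.H := mul_mem (mul_mem hqC.1 hxH) (inv_mem hqC.1)
    have e : c.act x = c.act (q * x * q⁻¹) := by
      refine c.act_eq_of_im hxM (c.conj_mem_M hqC.1 hxM) ?_ (n := 2) (by norm_num) hx2 ?_
      · rw [c.im_conj hqC.1 hxH, hxim, hsY _ hqY, mul_inv_cancel_right]
      · rw [← c.act_pow hqx, conj_pow, c.act_mul (mul_mem hqC.1 (pow_mem hxH 2)) (inv_mem hqC.1),
          c.act_mul hqC.1 (pow_mem hxH 2), c.act_pow hxH, hx2, mul_one, ← c.act_mul hqC.1 (inv_mem hqC.1),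
          mul_inv_cancel, c.act_one]
    rw [c.fix_act_eq e, c.fix_conj hqC.1 hxH, c.act_inv_apply hqC.1]
    exact hv
  have h256 : Nat.card ↥(c.fix {x}) = 2 ^ 8 := by
    rw [hx, c.card_fix_conj hhC.1 (c.lv_H a)]
    exact c.card_Fx ha
  rcases c.card_invariant_cases hQ _ hinv with h' | h' | h' <;> rw [h256] at h' <;> norm_num at h'

/-- A vector on five lines of two images of `U` determines the image. -/
theorem normalizer_of_isN {v : c.Vs} (hv : c.IsN v) {h : G} (hh : h ∈ c.H) (hw : c.IsN (c.act h v)) :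
    c.im h ∈ normalizer (I : Set A) := by
  classical
  haveI := c.finite_A
  by_contra hgN
  set g := h⁻¹ with hg
  have hgH : g ∈ c.H := inv_mem hh
  have hgm : ∀ y, y ∈ c.Uh g ↔ c.act h y ∈ c.U := fun y => by rw [c.mem_Uh hgH, hg, inv_inv]
  have hvU' : v ∈ c.Uh g := (hgm v).2 hw.1
  -- a line of `U` in an image forces the normalizer
  have hline : ∀ k ∈ c.H, ∀ a : ↥I, a ≠ 1 → c.Li a ≤ c.Uh k → c.im k ∈ normalizer (I : Set A) := by
    intro k hk a ha hle
    have hfix : ∀ y ∈ c.Uh k, y ∈ c.Fx a := fun y hy => by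
      rw [← c.perp_perp (c.Fx a)]
      exact c.perp_anti hle (show y ∈ c.perp (c.Uh k) by rwa [c.perp_Uh hk])
    exact c.normalizer_of_inv ha (c.mem_conj_of_fix hk a hfix)
  have hsmall : Nat.card ↥(c.U ⊓ c.Uh g) ≤ 4 := by
    by_contra hcon
    push Not at hcon
    obtain ⟨w, hw', hwv⟩ : ∃ w ∈ c.U ⊓ c.Uh g, w ∉ c.Pt v := by
      by_contra hc
      push Not at hc
      have hsub : ((c.U ⊓ c.Uh g : AddSubgroup c.Vs) : Set c.Vs) ⊆ c.Pt v := fun w hw => hc w hw
      have := Set.ncard_le_ncard hsub (Set.toFinite _)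
      rw [c.ncard_Pt hv.2.1, ← Nat.card_coe_set_eq] at this
      have h' : 4 < Nat.card ↥((c.U ⊓ c.Uh g : AddSubgroup c.Vs) : Set c.Vs) := hcon
      omega
    obtain ⟨a, ha, hva, hwa⟩ := c.isN_cover hv hw'.1
    refine hgN ?_
    have := hline g hgH a ha (by
      set K := c.Li a ⊓ c.Uh g
      have hK : ∀ y ∈ K, c.om y ∈ K := fun y hy => AddSubgroup.mem_inf.2 ⟨c.Li_om hy.1, c.om_act_U hgH hy.2⟩
      have hbig : 4 < Nat.card ↥K := by
        by_contra hc
        push Not at hc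
        exact hwv (by simpa [Pt] using c.eq_or_of_card_four hK hc ⟨hva, hvU'⟩ hv.2.1 ⟨hwa, hw'.2⟩)
      have h3 := c.card_om_invariant K hK
      obtain ⟨k, hk, hck⟩ := c.card_addSubgroup K
      have hle : Nat.card ↥K ≤ 16 := (AddSubgroup.card_le_of_le inf_le_left).trans (le_of_eq (c.card_Li ha))
      have h16 : Nat.card ↥K = 16 := by
        rw [hck] at hbig h3 hle ⊢
        interval_cases k <;> omega
      exact (AddSubgroup.eq_of_le_of_card_ge (inf_le_left : K ≤ c.Li a) (by rw [h16, c.card_Li ha]; norm_num)).ge.trans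
        inf_le_right)
    rw [hg, c.im_inv hh] at this
    simpa using inv_mem this
  have hsupc : Nat.card ↥(c.U ⊔ c.Uh g) = 2 ^ 10 ∧ c.U ⊔ c.Uh g = c.perp (AddSubgroup.closure {v}) ⊓
      c.perp (AddSubgroup.closure {c.om v}) := by
    have hmul := c.card_sup_inf c.U (c.Uh g)
    rw [c.card_U, c.card_Uh hgH] at hmul
    have hge : 4 ≤ Nat.card ↥(c.U ⊓ c.Uh g) := by
      have hsub : c.Pt v ⊆ ((c.U ⊓ c.Uh g : AddSubgroup c.Vs) : Set c.Vs) :=
        c.Pt_subset (K := c.U ⊓ c.Uh g) (fun y hy => ⟨c.U_om hy.1, c.om_act_U hgH hy.2⟩) ⟨hv.1, hvU'⟩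
      have := Set.ncard_le_ncard hsub (Set.toFinite _)
      rwa [c.ncard_Pt hv.2.1, ← Nat.card_coe_set_eq] at this
    rw [le_antisymm hsmall hge] at hmul
    refine ⟨by omega, ?_⟩
    have hone : ∀ u : c.Vs, ∀ w, w ∈ c.perp (AddSubgroup.closure {u}) ↔ c.Bf u w = 0 := by
      intro u w
      refine ⟨fun h => c.mem_perp.1 h u (AddSubgroup.subset_closure rfl), fun h => c.mem_perp.2 fun p hp => ?_⟩
      induction hp using AddSubgroup.closure_induction with
      | mem p hp => rw [Set.mem_singleton_iff] at hp; subst hp; exact h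
      | zero => exact c.Bf_zero_left w
      | add p q _ _ ep eq' => rw [c.Bf_add_left, ep, eq', add_zero]
      | neg p _ ep => rw [neg_eq_of_add_eq_zero_left (c.two_V p)]; exact ep
    set P2 := c.perp (AddSubgroup.closure {v}) ⊓ c.perp (AddSubgroup.closure {c.om v}) with hP2
    refine AddSubgroup.eq_of_le_of_card_ge (sup_le ?_ ?_) ?_
    · exact fun y hy => ⟨(hone _ y).2 (c.Bf_U hv.1 hy), (hone _ y).2 (c.Bf_U (c.U_om hv.1) hy)⟩
    · intro y hy
      have hperp := (c.perp_Uh hgH).ge hy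
      exact ⟨(hone _ y).2 (c.mem_perp.1 hperp _ hvU'),
        (hone _ y).2 (c.mem_perp.1 hperp _ (c.om_act_U hgH hvU'))⟩
    · -- the two functionals are independent
      let f : c.Vs →+ ZMod 2 × ZMod 2 := AddMonoidHom.mk' (fun w => (c.Bf v w, c.Bf (c.om v) w)) fun p q => by
        rw [c.Bf_add_right, c.Bf_add_right]; rfl
      have hker : f.ker = P2 := by
        ext w
        rw [AddMonoidHom.mem_ker, hP2, AddSubgroup.mem_inf, hone, hone]
        exact ⟨fun h => ⟨congrArg Prod.fst h, congrArg Prod.snd h⟩, fun h => Prod.ext h.1 h.2⟩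
      have hr : f.range = ⊤ := by
        by_contra hne
        -- otherwise a nonzero combination is orthogonal to everything
        have h := f.ker.card_mul_index
        rw [AddSubgroup.index_ker, hker, c.card_V] at h
        have hlt : Nat.card ↥f.range ≤ 2 := by
          have hd := f.range.card_addSubgroup_dvd_card
          rw [Nat.card_prod, Nat.card_zmod] at hd
          have hne4 : Nat.card ↥f.range ≠ 4 := fun e => hne (AddSubgroup.eq_top_of_card_eq _ (by
            rw [e, Nat.card_prod, Nat.card_zmod]))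
          have := Nat.le_of_dvd (by norm_num) hd
          interval_cases hc : Nat.card ↥f.range <;> omega
        have hdec : ∀ S : AddSubgroup (ZMod 2 × ZMod 2), Nat.card ↥S ≤ 2 →
            (∀ x ∈ S, x.1 = 0) ∨ (∀ x ∈ S, x.2 = 0) ∨ (∀ x ∈ S, x.1 + x.2 = 0) := by
          intro S hS
          by_cases hbot : ∀ x ∈ S, x = 0
          · exact Or.inl fun x hx => by rw [hbot x hx]; rfl
          push Not at hbot
          obtain ⟨x, hx, hx0⟩ := hbot
          have hall : ∀ y ∈ S, y = 0 ∨ y = x := by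
            intro y hy
            by_contra hcon'
            push Not at hcon'
            have h3 : ({0, x, y} : Finset (ZMod 2 × ZMod 2)).card = 3 :=
              Finset.card_eq_three.2 ⟨_, _, _, fun e => hx0 e.symm, fun e => hcon'.1 e.symm,
                fun e => hcon'.2 e.symm, rfl⟩
            have hsub : (({0, x, y} : Finset (ZMod 2 × ZMod 2)) : Set (ZMod 2 × ZMod 2)) ⊆ S := by
              intro w hw
              simp only [Finset.coe_insert, Finset.coe_singleton, Set.mem_insert_iff, Set.mem_singleton_iff] at hw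
              rcases hw with rfl | rfl | rfl
              exacts [zero_mem _, hx, hy]
            have hle := Set.ncard_le_ncard hsub (Set.toFinite _)
            rw [Set.ncard_coe_finset, h3, ← Nat.card_coe_set_eq] at hle
            have : Nat.card ↥(S : Set (ZMod 2 × ZMod 2)) ≤ 2 := hS
            omega
          rcases (by decide : ∀ x : ZMod 2 × ZMod 2, x.1 = 0 ∨ x.2 = 0 ∨ x.1 + x.2 = 0) x with h | h | h
          · exact Or.inl fun y hy => by rcases hall y hy with rfl | rfl; exacts [rfl, h]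
          · exact Or.inr (Or.inl fun y hy => by rcases hall y hy with rfl | rfl; exacts [rfl, h])
          · exact Or.inr (Or.inr fun y hy => by rcases hall y hy with rfl | rfl; exacts [by decide, h])
        rcases hdec f.range hlt with h0 | h0 | h0
        · exact hv.2.1 (c.Bf_nondeg fun w => h0 (f w) ⟨w, rfl⟩)
        · exact c.om_ne_zero hv.2.1 (c.Bf_nondeg fun w => h0 (f w) ⟨w, rfl⟩)
        · refine c.om_ne_zero (c.om_ne_zero hv.2.1) (c.Bf_nondeg fun w => ?_)
          rw [c.om_two, c.Bf_add_left]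
          exact h0 (f w) ⟨w, rfl⟩
      have h := f.ker.card_mul_index
      rw [AddSubgroup.index_ker, hker, hr, AddSubgroup.card_top, Nat.card_prod, Nat.card_zmod, c.card_V] at h
      omega
  obtain ⟨hsup10, hsupeq⟩ := hsupc
  set gi := c.im g with hgi
  -- the involutions of the other conjugate through the vector normalize `I`
  have hfive : ∀ b : ↥I, b ∈ c.thru (c.act h v) → gi * b * gi⁻¹ ∈ normalizer (I : Set A) := by
    rintro b ⟨hb1, hvb⟩
    set l := g * c.lv b * g⁻¹ with hl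
    have hlH : l ∈ c.H := mul_mem (mul_mem hgH (c.lv_H b)) (inv_mem hgH)
    have hfl : ∀ y, y ∈ c.fix {l} ↔ c.act h y ∈ c.Fx b := fun y => by
      rw [hl, c.fix_conj hgH (c.lv_H b), hg, inv_inv]; exact Iff.rfl
    have hU'f : c.Uh g ≤ c.fix {l} := fun y hy => (hfl y).2 (c.U_le_Fx b ((hgm y).1 hy))
    have hfsup : c.fix {l} ≤ c.U ⊔ c.Uh g := by
      rw [hsupeq]
      intro y hy
      have hyb := (hfl y).1 hy
      have hone : ∀ u : c.Vs, c.Bf u y = 0 → y ∈ c.perp (AddSubgroup.closure {u}) := by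
        intro u h0
        refine c.mem_perp.2 fun p hp => ?_
        induction hp using AddSubgroup.closure_induction with
        | mem p hp => rw [Set.mem_singleton_iff] at hp; subst hp; exact h0
        | zero => exact c.Bf_zero_left y
        | add p q _ _ ep eq' => rw [c.Bf_add_left, ep, eq', add_zero]
        | neg p _ ep => rw [neg_eq_of_add_eq_zero_left (c.two_V p)]; exact ep
      refine ⟨hone _ ?_, hone _ ?_⟩
      · rw [← c.Bf_act hh, c.Bf_symm]
        exact c.mem_perp.1 hvb _ hyb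
      · rw [← c.Bf_act hh, c.Bf_symm]
        by_cases hM : h ∈ c.M
        · rw [c.om_M hM]; exact c.mem_perp.1 (c.Li_om hvb) _ hyb
        · rw [c.om_outer hh hM]; exact c.mem_perp.1 (c.Li_om (c.Li_om hvb)) _ hyb
    have h16 : 16 ≤ Nat.card ↥(c.fix {l} ⊓ c.U) := by
      have hm := c.card_sup_inf (c.fix {l}) c.U
      rw [c.card_U, hl, c.card_fix_conj hgH (c.lv_H b), show Nat.card ↥(c.fix {c.lv b}) = 2 ^ 8 from c.card_Fx hb1,
        ← hl] at hm
      have hle : Nat.card ↥(c.fix {l} ⊔ c.U) ≤ 2 ^ 10 := hsup10 ▸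
        AddSubgroup.card_le_of_le (sup_le hfsup le_sup_left)
      by_contra hcon
      push Not at hcon
      have := Nat.mul_le_mul hle (Nat.le_of_lt_succ hcon)
      omega
    have hlM : l ∈ c.M := c.conj_mem_M hgH (c.C0_le_M (c.L0_le (c.lv_mem b)))
    obtain ⟨w, hw', hwv⟩ : ∃ w ∈ c.fix {l} ⊓ c.U, w ∉ c.Pt v := by
      by_contra hc
      push Not at hc
      have hsub : ((c.fix {l} ⊓ c.U : AddSubgroup c.Vs) : Set c.Vs) ⊆ c.Pt v := fun w hw => hc w hw
      have := Set.ncard_le_ncard hsub (Set.toFinite _)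
      rw [c.ncard_Pt hv.2.1, ← Nat.card_coe_set_eq] at this
      have h' : 16 ≤ Nat.card ↥((c.fix {l} ⊓ c.U : AddSubgroup c.Vs) : Set c.Vs) := h16
      omega
    obtain ⟨a, ha, hva, hwa⟩ := c.isN_cover hv hw'.2
    have hvl : v ∈ c.fix {l} := hU'f hvU'
    have hLa : c.Li a ≤ c.fix {l} := by
      set K := c.fix {l} ⊓ c.Li a
      have hK : ∀ y ∈ K, c.om y ∈ K := fun y hy => ⟨c.fix_om (Set.singleton_subset_iff.2 hlM) hy.1, c.Li_om hy.2⟩
      have hbig : 4 < Nat.card ↥K := by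
        by_contra hc
        push Not at hc
        exact hwv (by simpa [Pt] using c.eq_or_of_card_four hK hc ⟨hvl, hva⟩ hv.2.1 ⟨hw'.1, hwa⟩)
      have h3 := c.card_om_invariant K hK
      obtain ⟨k, hk, hck⟩ := c.card_addSubgroup K
      have hle : Nat.card ↥K ≤ 16 := (AddSubgroup.card_le_of_le inf_le_right).trans (le_of_eq (c.card_Li ha))
      have h16' : Nat.card ↥K = 16 := by
        rw [hck] at hbig h3 hle ⊢
        interval_cases k <;> omega
      exact (AddSubgroup.eq_of_le_of_card_ge (inf_le_right : K ≤ c.Li a) (by rw [h16', c.card_Li ha]; norm_num)).ge.trans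
        inf_le_left
    have hN := hline l hlH a ha fun y hy => ⟨y, c.Li_le_U a hy, c.mem_fix_singleton.1 (hLa hy)⟩
    rwa [hl, c.im_conj hgH (c.lv_H b), c.im_lv] at hN
  -- so the whole conjugate does
  let T : Subgroup ↥I := (normalizer (I : Set A)).comap ((MulAut.conj gi).toMonoidHom.comp I.subtype)
  have hsubT : c.thru (c.act h v) ⊆ T := fun b hb => hfive b hb
  have hTtop : T = ⊤ := by
    refine Subgroup.eq_top_of_card_eq _ ?_
    have hd := T.card_subgroup_dvd_card
    rw [c.facts.card_I] at hd ⊢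
    have hle := Nat.le_of_dvd (by norm_num) hd
    obtain ⟨p, q, r, hp, hq, hr, hpq, hpr, hqr⟩ : ∃ p q r, p ∈ c.thru (c.act h v) ∧ q ∈ c.thru (c.act h v) ∧
        r ∈ c.thru (c.act h v) ∧ p ≠ q ∧ p ≠ r ∧ q ≠ r := by
      have h5 := hw.2.2
      obtain ⟨p, hp⟩ := Set.nonempty_of_ncard_ne_zero (s := c.thru (c.act h v)) (by omega)
      obtain ⟨q, hq, hqp⟩ := Set.exists_ne_of_one_lt_ncard (s := c.thru (c.act h v)) (by omega) p
      obtain ⟨r, hr⟩ := Set.nonempty_of_ncard_ne_zero (s := c.thru (c.act h v) \ {p, q}) (by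
        have := Set.le_ncard_sdiff {p, q} (c.thru (c.act h v)) (Set.toFinite _)
        have h2 := Set.ncard_insert_le p ({q} : Set ↥I)
        rw [Set.ncard_singleton] at h2
        omega)
      exact ⟨p, q, r, hp, hq, hr.1, Ne.symm hqp, fun e => hr.2 (Or.inl e.symm), fun e => hr.2 (Or.inr e.symm)⟩
    have hout : ∀ x y, x ∈ c.thru (c.act h v) → y ∈ c.thru (c.act h v) → x ≠ y →
        x * y ∉ c.thru (c.act h v) := fun x y hx hy hne hm =>
      c.isN_no_triple hw hx.1 hy.1 hne hx.2 hy.2 hm.2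
    have hsub : c.thru (c.act h v) ∪ {1, p * q, p * r, q * r} ⊆ (T : Set ↥I) := by
      refine Set.union_subset hsubT ?_
      intro x hx
      simp only [Set.mem_insert_iff, Set.mem_singleton_iff] at hx
      rcases hx with rfl | rfl | rfl | rfl
      exacts [one_mem _, mul_mem (hsubT hp) (hsubT hq), mul_mem (hsubT hp) (hsubT hr),
        mul_mem (hsubT hq) (hsubT hr)]
    have h9 : 9 ≤ Nat.card ↥T := by
      refine le_trans (le_of_eq ?_) ((Set.ncard_le_ncard hsub (Set.toFinite _)).trans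
        (le_of_eq (Nat.card_coe_set_eq _).symm))
      have e1 : p * q ≠ 1 := c.mul_ne_one_I hpq
      have e2 : p * r ≠ 1 := c.mul_ne_one_I hpr
      have e3 : q * r ≠ 1 := c.mul_ne_one_I hqr
      have e4 : p * q ≠ p * r := fun e => hqr (mul_left_cancel e)
      have e5 : p * q ≠ q * r := fun e => hpr (by rw [c.comm_I p q] at e; exact mul_left_cancel e)
      have e6 : p * r ≠ q * r := fun e => hpq (mul_right_cancel e)
      rw [Set.ncard_union_eq (by
        rw [Set.disjoint_left]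
        intro x hx hx'
        simp only [Set.mem_insert_iff, Set.mem_singleton_iff] at hx'
        rcases hx' with rfl | rfl | rfl | rfl
        exacts [hx.1 rfl, hout p q hp hq hpq hx, hout p r hp hr hpr hx, hout q r hq hr hqr hx])
        (Set.toFinite _) (Set.toFinite _), hw.2.2,
        Set.ncard_insert_of_notMem (by simp [e1.symm, e2.symm, e3.symm]) (Set.toFinite _),
        Set.ncard_insert_of_notMem (by simp [e4, e5]) (Set.toFinite _),
        Set.ncard_insert_of_notMem (by simp [e6]) (Set.toFinite _), Set.ncard_singleton]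
    interval_cases hc : Nat.card ↥T <;> omega
  have hall : ∀ i ∈ I, gi * i * gi⁻¹ ∈ normalizer (I : Set A) := fun i hi =>
    (show (⟨i, hi⟩ : ↥I) ∈ T from hTtop ▸ mem_top _)
  set K : Subgroup A := I.map (MulAut.conj gi).toMonoidHom with hK
  have hKN : K ≤ normalizer (I : Set A) := by
    rintro _ ⟨i, hi, rfl⟩
    exact hall i hi
  have hI4 : IsPGroup 2 ↥I := IsPGroup.of_card (n := 4) (by rw [c.facts.card_I]; norm_num)
  have h2 : IsPGroup 2 ↥(K ⊔ I) := (hI4.map _).to_sup_of_normal_right' hI4 hKN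
  obtain ⟨j, hj, hjc⟩ := c.exists_J_conj gi
  have hKI : K = I := c.facts.I_unique (K ⊔ I) h2 K I le_sup_left le_sup_right
    ⟨j, hj, fun x => by
      rw [← hjc, hK, Subgroup.mem_map]
      constructor
      · rintro ⟨i, hi, rfl⟩
        rwa [MulEquiv.coe_toMonoidHom, MulAut.conj_apply, show gi⁻¹ * (gi * i * gi⁻¹) * gi = i by group]
      · exact fun hx => ⟨_, hx, by rw [MulEquiv.coe_toMonoidHom, MulAut.conj_apply]; group⟩⟩
    ⟨1, one_mem _, fun x => by simp⟩
  refine hgN ?_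
  have hgiN : gi ∈ normalizer (I : Set A) := mem_normalizer_iff.2 fun i => by
    constructor
    · exact fun hi => hKI.le ⟨i, hi, rfl⟩
    · intro hi
      rw [← hKI] at hi
      obtain ⟨w, hw', hwe⟩ := hi
      rw [MulEquiv.coe_toMonoidHom, MulAut.conj_apply] at hwe
      rwa [← mul_left_cancel (mul_right_cancel hwe)]
  rw [hgi, hg, c.im_inv hh] at hgiN
  simpa using inv_mem hgiN

end CfsgLib.Spor.JFourType.Ctx
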