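import Cfsg.Agent.Lib.Spor.JFourType.Frame

/-!
# The kernel on the six points

`W` contains its centralizer, an element of `H` fixing the six points maps into `I`, and the normalizer of `I` has
order at most `16 * 6!`.
-/

set_option autoImplicit false
set_option linter.style.haveILetI false

namespace CfsgLib.Spor.JFourType.Ctx

open Subgroup

universe u

variable {G : Type u} [Group G] [Finite G] {A : Type} [Group A] {J I R : Subgroup A}
  {z : G} {P : Subgroup G} (c : Ctx J I R z P)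
include c

/-- An element fixing `U` maps into `I`, whatever its order. -/
theorem im_mem_of_fix_U_any {x : G} (hxH : x ∈ c.H) (hfix : ∀ v ∈ c.U, c.act x v = v) : c.im x ∈ I := by
  have hdisp : ∀ w, c.act x w + w ∈ c.U := fun w =>
    c.perp_U.le (c.perp_anti (fun u hu => c.mem_fix_singleton.2 (hfix u hu)) (c.displacement_mem hxH w))
  have hsq : c.act (x * x) = 1 := AddMonoidHom.ext fun w => by
    refine (c.act_apply_mul hxH hxH w).trans ?_
    have h := hfix _ (hdisp w)
    rw [map_add] at h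
    show c.act x (c.act x w) = w
    calc c.act x (c.act x w) = c.act x (c.act x w) + c.act x w + c.act x w := by
          rw [add_assoc, c.two_V, add_zero]
      _ = w := by rw [h, add_comm (c.act x w) w, add_assoc, c.two_V, add_zero]
  have hE := (c.act_eq_one (mul_mem hxH hxH)).1 hsq
  obtain ⟨a, ha⟩ := c.exists_two_pow c.E_isPGroup hE
  exact c.im_mem_of_fix_U hxH (a := a + 1) (by rw [pow_succ', pow_mul, pow_two]; exact ha) hfix

/-- `W` contains its centralizer. -/
theorem centralizer_W : centralizer (c.W : Set G) = c.W := by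
  refine le_antisymm (fun g hg => ?_) fun w hw x hx => c.W_comm hx hw
  have hgH : g ∈ c.H := mem_centralizer_singleton_iff.2 (hg z c.z_mem_W').symm
  have hfix : ∀ v ∈ c.U, c.act g v = v := fun v hv => by
    obtain ⟨e, he, rfl⟩ := c.pv_surj v
    rw [← c.pv_conj hgH he, ← hg e (c.Ut_sub_W ⟨he, hv⟩), mul_inv_cancel_right]
  have hI := c.im_mem_of_fix_U_any hgH hfix
  refine c.mem_W_of ((c.mem_M_iff_im hgH).2 (c.facts.I_le hI)) hI fun u hu => ?_
  exact (hg u (c.Ut_sub_W hu)).symm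

/-- A subgroup of order at most sixteen closed under `om` meets at most six vectors of the first kind. -/
theorem ncard_isN_small {K : AddSubgroup c.Vs} (hK : ∀ v ∈ K, c.om v ∈ K) (hKU : K ≤ c.U)
    (h16 : Nat.card ↥K ≤ 16) : {v | c.IsN v ∧ v ∈ K}.ncard ≤ 6 := by
  classical
  by_cases hne : ∃ v, c.IsN v ∧ v ∈ K
  · obtain ⟨v, hv, hvK⟩ := hne
    by_cases hall : ∀ w, c.IsN w → w ∈ K → w ∈ c.Pt v
    · refine le_trans (Set.ncard_le_ncard (t := c.Pt v) (fun w hw => hall w hw.1 hw.2) (Set.toFinite _)) ?_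
      rw [c.ncard_Pt hv.2.1]; norm_num
    · push Not at hall
      obtain ⟨w, hw, hwK, hwv⟩ := hall
      obtain ⟨i, hi, hvi, hwi⟩ := c.isN_cover hv (hKU hwK)
      set L := K ⊓ c.Li i with hL
      have hLom : ∀ y ∈ L, c.om y ∈ L := fun y hy => ⟨hK y hy.1, c.Li_om hy.2⟩
      have hbig : 4 < Nat.card ↥L := by
        by_contra hcon
        push Not at hcon
        exact hwv (by simpa [Pt] using c.eq_or_of_card_four hLom hcon (x := v) ⟨hvK, hvi⟩ hv.2.1 (y := w) ⟨hwK, hwi⟩)
      have h3 := c.card_om_invariant L hLom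
      obtain ⟨k, hk, hck⟩ := c.card_addSubgroup L
      have hle : Nat.card ↥L ≤ 16 := (AddSubgroup.card_le_of_le inf_le_left).trans h16
      have hL16 : Nat.card ↥L = 16 := by
        rw [hck] at hbig h3 hle ⊢
        interval_cases k <;> omega
      have e1 : L = K := AddSubgroup.eq_of_le_of_card_ge inf_le_left (by rw [hL16]; exact h16)
      have e2 : L = c.Li i := AddSubgroup.eq_of_le_of_card_ge inf_le_right (by rw [hL16, c.card_Li hi]; norm_num)
      rw [← (c.line_profile hi).2]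
      refine Set.ncard_le_ncard (fun y hy => ?_) (Set.toFinite _)
      have hyi : y ∈ c.Li i := by rw [← e2, e1]; exact hy.2
      exact ⟨hyi, hy.1.2.1, (c.isN_iff hi hyi hy.1.2.1).1 hy.1⟩
  · rw [Set.eq_empty_of_forall_notMem (s := {v | c.IsN v ∧ v ∈ K}) fun v hv => hne ⟨v, hv⟩, Set.ncard_empty]
    norm_num

/-- An element of odd order fixing the points is a scalar on `U`. -/
theorem fix_U_of_points {y : G} (hy : y ∈ c.M) (hpt : ∀ v, c.IsN v → c.act y v ∈ c.Pt v) :
    ∃ q ∈ P, ∀ v ∈ c.U, c.act (y * q) v = v := by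
  classical
  have hyH := c.H_of_M hy
  let S : AddMonoid.End c.Vs → AddSubgroup c.Vs := fun f =>
    { carrier := {v | v ∈ c.U ∧ c.act y v = f v}
      zero_mem' := ⟨zero_mem _, by rw [map_zero, map_zero]⟩
      add_mem' := fun {a b} ha hb => ⟨add_mem ha.1 hb.1, by rw [map_add, map_add, ha.2, hb.2]⟩
      neg_mem' := fun {a} ha => ⟨neg_mem ha.1, by rw [map_neg, map_neg, ha.2]⟩ }
  set F0 := S 1
  set F1 := S c.om
  set F2 := S (c.om * c.om)
  have hom : ∀ n : ℕ, ∀ v ∈ S (c.om ^ n), c.om v ∈ S (c.om ^ n) := fun n v hv => ⟨c.U_om hv.1, by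
    rw [c.om_M hy, hv.2]
    show (c.om * c.om ^ n) v = (c.om ^ n * c.om) v
    rw [← pow_succ', pow_succ]⟩
  have h0om : ∀ v ∈ F0, c.om v ∈ F0 := fun v hv => by simpa using hom 0 v (by simpa [F0] using hv)
  have h1om : ∀ v ∈ F1, c.om v ∈ F1 := fun v hv => by simpa using hom 1 v (by simpa [F1] using hv)
  have h2om : ∀ v ∈ F2, c.om v ∈ F2 := fun v hv => by
    simpa [pow_two] using hom 2 v (by simpa [F2, pow_two] using hv)
  have hU0 : F0 ≤ c.U := fun v hv => hv.1
  have hU1 : F1 ≤ c.U := fun v hv => hv.1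
  have hU2 : F2 ≤ c.U := fun v hv => hv.1
  -- two of them have trivial intersection
  have hpair : ∀ (Ka Kb : AddSubgroup c.Vs), Ka ≤ c.U → Kb ≤ c.U → Ka ⊓ Kb = ⊥ →
      Nat.card ↥Ka * Nat.card ↥Kb ≤ 64 := by
    intro Ka Kb ha hb hab
    let f : ↥Ka × ↥Kb → ↥c.U := fun w => ⟨(w.1 : c.Vs) + w.2, add_mem (ha w.1.2) (hb w.2.2)⟩
    have hf : Function.Injective f := by
      rintro ⟨p, q⟩ ⟨p', q'⟩ h
      have h' : (p : c.Vs) + q = p' + q' := congrArg Subtype.val h
      have hd : (p : c.Vs) + p' = q + q' := by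
        calc (p : c.Vs) + p' = ((p : c.Vs) + q) + (p' + q) := by rw [add_add_add_comm, c.two_V, add_zero]
          _ = (p' + q') + (p' + q) := by rw [h']
          _ = _ := by rw [add_add_add_comm, c.two_V, zero_add, add_comm]
      have hz : (p : c.Vs) + p' ∈ Ka ⊓ Kb := ⟨add_mem p.2 p'.2, hd ▸ add_mem q.2 q'.2⟩
      rw [hab, AddSubgroup.mem_bot] at hz
      rw [hz] at hd
      exact Prod.ext (Subtype.ext (c.add_eq_zero_V hz)) (Subtype.ext (c.add_eq_zero_V hd.symm))
    have h := Nat.card_le_card_of_injective f hf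
    rwa [Nat.card_prod, c.card_U, show (2 : ℕ) ^ 6 = 64 by norm_num] at h
  have h01 : F0 ⊓ F1 = ⊥ := (AddSubgroup.eq_bot_iff_forall _).2 fun v hv =>
    c.om_fixed (hv.2.2.symm.trans hv.1.2)
  have h02 : F0 ⊓ F2 = ⊥ := (AddSubgroup.eq_bot_iff_forall _).2 fun v hv => by
    have e : c.om (c.om v) = v := hv.2.2.symm.trans hv.1.2
    refine c.om_fixed ?_
    have e' := congrArg c.om e
    rw [c.om_cube] at e'
    exact e'.symm
  have h12 : F1 ⊓ F2 = ⊥ := (AddSubgroup.eq_bot_iff_forall _).2 fun v hv =>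
    c.om_fixed (c.om_injective (hv.2.2.symm.trans hv.1.2))
  have hsub : {v | c.IsN v} ⊆ {v | c.IsN v ∧ v ∈ F0} ∪ {v | c.IsN v ∧ v ∈ F1} ∪ {v | c.IsN v ∧ v ∈ F2} := by
    intro v hv
    have h := hpt v hv
    simp only [Pt, Set.mem_insert_iff, Set.mem_singleton_iff] at h
    rcases h with h | h | h | h
    · exact absurd (c.act_injective hyH (h.trans (map_zero _).symm)) hv.2.1
    · exact Or.inl (Or.inl ⟨hv, hv.1, h⟩)
    · exact Or.inl (Or.inr ⟨hv, hv.1, h⟩)
    · exact Or.inr ⟨hv, hv.1, h⟩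
  have hsum := (Set.ncard_le_ncard hsub (Set.toFinite _)).trans
    ((Set.ncard_union_le _ _).trans (Nat.add_le_add_right (Set.ncard_union_le _ _) _))
  rw [c.card_IsN] at hsum
  -- a part is all of `U`
  have hall : ∀ K : AddSubgroup c.Vs, K ≤ c.U → (∀ v ∈ K, c.om v ∈ K) → 16 < Nat.card ↥K → K = c.U := by
    intro K hKU hKom hbig
    have h3 := c.card_om_invariant K hKom
    obtain ⟨k, hk, hck⟩ := c.card_addSubgroup K
    have hle := AddSubgroup.card_le_of_le hKU
    rw [c.card_U] at hle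
    refine AddSubgroup.eq_of_le_of_card_ge hKU ?_
    rw [c.card_U, hck]
    rw [hck] at hbig h3 hle
    interval_cases k <;> omega
  have hsix := fun (K : AddSubgroup c.Vs) (hKU : K ≤ c.U) (hKom : ∀ v ∈ K, c.om v ∈ K) =>
    c.ncard_isN_small hKom hKU
  have hpow : ∀ K : AddSubgroup c.Vs, (∀ v ∈ K, c.om v ∈ K) → Nat.card ↥K ≤ 16 →
      Nat.card ↥K = 16 ∨ {v | c.IsN v ∧ v ∈ K}.ncard ≤ 3 := by
    intro K hKom hle
    by_cases h16 : Nat.card ↥K = 16
    · exact Or.inl h16
    right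
    have h4 : Nat.card ↥K ≤ 4 := by
      have h3 := c.card_om_invariant K hKom
      obtain ⟨k, hk, hck⟩ := c.card_addSubgroup K
      rw [hck] at h3 hle h16 ⊢
      have : k ≤ 4 := (Nat.pow_le_pow_iff_right (by norm_num)).1 (hle.trans (by norm_num : 16 ≤ 2 ^ 4))
      interval_cases k <;> omega
    refine le_trans (Set.ncard_le_ncard (t := (K : Set c.Vs) \ {0}) (fun v hv => ⟨hv.2, hv.1.2.1⟩) (Set.toFinite _)) ?_
    rw [Set.ncard_sdiff_singleton_of_mem (show (0 : c.Vs) ∈ (K : Set c.Vs) from zero_mem K), ← Nat.card_coe_set_eq]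
    exact Nat.sub_le_of_le_add h4
  by_cases hb : 16 < Nat.card ↥F0 ∨ 16 < Nat.card ↥F1 ∨ 16 < Nat.card ↥F2
  · rcases hb with h | h | h
    · exact ⟨1, one_mem _, fun v hv => by
        rw [mul_one]
        exact ((hall F0 hU0 h0om h).ge hv).2⟩
    · refine ⟨c.pg⁻¹, inv_mem c.pg_mem, fun v hv => ?_⟩
      have hy' : c.act y v = c.om v := ((hall F1 hU1 h1om h).ge hv).2
      rw [c.act_apply_mul hyH (inv_mem c.pg_H), c.act_pg_inv, c.om_M hy, c.om_M hy, hy', c.om_cube]
    · refine ⟨c.pg, c.pg_mem, fun v hv => ?_⟩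
      have hy' : c.act y v = c.om (c.om v) := ((hall F2 hU2 h2om h).ge hv).2
      rw [c.act_apply_mul hyH c.pg_H]
      show c.act y (c.om v) = v
      rw [c.om_M hy, hy', c.om_cube]
  · exfalso
    push Not at hb
    obtain ⟨b0, b1, b2⟩ := hb
    have p01 := hpair F0 F1 hU0 hU1 h01
    have p02 := hpair F0 F2 hU0 hU2 h02
    have p12 := hpair F1 F2 hU1 hU2 h12
    have s0 := hsix F0 hU0 h0om b0
    have s1 := hsix F1 hU1 h1om b1
    have s2 := hsix F2 hU2 h2om b2
    rcases hpow F0 h0om b0 with t0 | t0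
    · rw [t0] at p01 p02
      rcases hpow F1 h1om b1 with t1 | t1
      · omega
      rcases hpow F2 h2om b2 with t2 | t2
      · omega
      omega
    · rcases hpow F1 h1om b1 with t1 | t1
      · rw [t1] at p12
        rcases hpow F2 h2om b2 with t2 | t2
        · omega
        omega
      · omega

/-- An element of `H` fixing the six points maps into `I`. -/
theorem im_mem_of_fix_six {x : G} (hxH : x ∈ c.H) (hpt : ∀ v, c.IsN v → c.act x v ∈ c.Pt v) : c.im x ∈ I := by
  classical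
  haveI := c.finite_A
  have hiter : ∀ n : ℕ, ∀ v, c.IsN v → c.act (x ^ n) v ∈ c.Pt v := by
    intro n
    induction n with
    | zero => intro v _; rw [pow_zero, c.act_one]; simp [Pt]
    | succ n ih =>
      intro v hv
      rw [pow_succ', c.act_apply_mul hxH (pow_mem hxH n)]
      have hw := ih v hv
      have hw0 : c.act (x ^ n) v ≠ 0 := fun h =>
        hv.2.1 (c.act_injective (pow_mem hxH n) (h.trans (map_zero _).symm))
      have := hpt _ (c.isN_of_Pt hv hw hw0)
      rwa [c.Pt_eq hw hw0] at this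
  obtain ⟨a, m, hm, hn⟩ : ∃ a m : ℕ, Odd m ∧ orderOf x = 2 ^ a * m := by
    obtain ⟨a, m, hm, hn⟩ := Nat.exists_eq_pow_mul_and_not_dvd (orderOf_pos x).ne' 2 (by norm_num)
    exact ⟨a, m, Nat.not_even_iff_odd.1 (fun h => hm h.two_dvd), hn⟩
  have h1 : c.im x ^ m ∈ I := by
    rw [← c.im_pow hxH]
    exact c.im_mem_of_fix_points (pow_mem hxH m) (a := a) (by rw [← pow_mul, mul_comm, ← hn, pow_orderOf_eq_one])
      (hiter m)
  have h2 : c.im x ^ 2 ^ a ∈ I := by
    rw [← c.im_pow hxH]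
    set y := x ^ 2 ^ a with hy
    have hyH : y ∈ c.H := pow_mem hxH _
    have hym : y ^ m = 1 := by rw [hy, ← pow_mul, ← hn, pow_orderOf_eq_one]
    have hyM : y ∈ c.M := by
      rw [c.mem_M_iff_im hyH]
      obtain ⟨k, hk⟩ := hm
      have e : c.im y * (c.im y ^ k) ^ 2 = 1 := by
        rw [← pow_mul, ← pow_succ', show k * 2 + 1 = m by omega, ← c.im_pow hyH, hym, c.im_one]
      have hJ : (c.im y ^ k) ^ 2 ∈ J := pow_two (c.im y ^ k) ▸ mul_self_mem_of_index_two c.facts.index_J _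
      exact (mul_mem_cancel_right hJ).1 (e ▸ one_mem J)
    obtain ⟨q, hq, hqf⟩ := c.fix_U_of_points hyM (hiter _)
    have hqH : q ∈ c.H := (c.P_le_C0 hq).1
    have := c.im_mem_of_fix_U_any (mul_mem hyH hqH) hqf
    rwa [c.im_mul hyH hqH, c.im_eq hqH, c.pr_P hq, mul_one] at this
  obtain ⟨r, s, hrs⟩ : IsCoprime (m : ℤ) ((2 ^ a : ℕ) : ℤ) :=
    Int.isCoprime_iff_nat_coprime.2 (by simpa using Nat.Coprime.pow_right a (Nat.coprime_two_right.2 hm))
  have e : c.im x = (c.im x ^ m) ^ r * (c.im x ^ 2 ^ a) ^ s := by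
    rw [← zpow_natCast, ← zpow_natCast (c.im x) (2 ^ a), ← zpow_mul, ← zpow_mul, ← zpow_add, mul_comm (m : ℤ),
      mul_comm ((2 ^ a : ℕ) : ℤ), hrs, zpow_one]
  rw [e]
  exact mul_mem (zpow_mem h1 r) (zpow_mem h2 s)

/-- The six points. -/
def Six : Type u := {S : Set c.Vs // ∃ v, c.IsN v ∧ c.Pt v = S}

noncomputable instance instFiniteSix : Finite c.Six :=
  inferInstanceAs (Finite {S : Set c.Vs // ∃ v, c.IsN v ∧ c.Pt v = S})

theorem card_Six : Nat.card c.Six = 6 := by
  classical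
  haveI : Fintype c.Six := Fintype.ofFinite _
  haveI : Fintype c.Vs := Fintype.ofFinite _
  let S : Finset c.Vs := Finset.univ.filter fun v => c.IsN v
  let f : c.Vs → Set c.Vs := fun v => c.Pt v
  have hcard : S.card = 18 := by
    rw [← c.card_IsN, Set.ncard_eq_toFinset_card']
    congr 1
    ext v
    simp [S]
  have hfib : ∀ b ∈ S.image f, (S.filter fun v => f v = b).card = 3 := by
    intro b hb
    obtain ⟨v, hv, rfl⟩ := Finset.mem_image.1 hb
    have hvN : c.IsN v := (Finset.mem_filter.1 hv).2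
    rw [show 3 = (c.Pt v \ {0}).ncard by
      rw [Set.ncard_sdiff (Set.singleton_subset_iff.2 (show (0 : c.Vs) ∈ c.Pt v by simp [Pt])) (Set.toFinite _),
        Set.ncard_singleton, c.ncard_Pt hvN.2.1], Set.ncard_eq_toFinset_card']
    congr 1
    ext w
    simp only [S, f, Finset.mem_filter, Finset.mem_univ, true_and, Set.mem_toFinset, Set.mem_sdiff,
      Set.mem_singleton_iff]
    constructor
    · rintro ⟨hw, he⟩
      exact ⟨he ▸ (by simp [Pt]), hw.2.1⟩
    · rintro ⟨hw, hw0⟩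
      exact ⟨c.isN_of_Pt hvN hw hw0, c.Pt_eq hw hw0⟩
  have hsum := Finset.card_eq_sum_card_image f S
  rw [Finset.sum_congr rfl hfib, Finset.sum_const, smul_eq_mul, hcard] at hsum
  let e : c.Six ≃ ↥(S.image f) :=
    { toFun := fun p => ⟨p.1, by
        obtain ⟨v, hv, he⟩ := p.2
        exact Finset.mem_image.2 ⟨v, by simp [S, hv], he⟩⟩
      invFun := fun b => ⟨b.1, by
        obtain ⟨v, hv, he⟩ := Finset.mem_image.1 b.2
        exact ⟨v, (Finset.mem_filter.1 hv).2, he⟩⟩
      left_inv := fun p => rfl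
      right_inv := fun b => rfl }
  rw [Nat.card_congr e, Nat.card_eq_finsetCard]
  omega

theorem exists_lift_A (a : A) : ∃ h ∈ c.H, c.im h = a := by
  obtain ⟨⟨h, hh⟩, rfl⟩ := c.pr_surj a
  exact ⟨h, hh, c.im_eq hh⟩

theorem act_image_Six (hs : c.Split) {h : G} (hh : h ∈ c.H) (hn : c.im h ∈ normalizer (I : Set A)) (p : c.Six) :
    ∃ v, c.IsN v ∧ c.Pt v = c.act h '' p.1 := by
  obtain ⟨v, hv, he⟩ := p.2
  exact ⟨_, c.isN_act_H hs hh (c.normW_of_im hh hn) hv, by rw [← he, c.act_Pt hh]⟩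

/-- Two lifts act alike on the points. -/
theorem act_image_congr (hs : c.Split) {g h : G} (hg : g ∈ c.H) (hh : h ∈ c.H) (he : c.im g = c.im h)
    (p : c.Six) : c.act g '' p.1 = c.act h '' p.1 := by
  obtain ⟨v, hv, hp⟩ := p.2
  have hk : h⁻¹ * g ∈ c.H := mul_mem (inv_mem hh) hg
  have hk1 : c.pr ⟨h⁻¹ * g, hk⟩ = 1 := by
    rw [← c.im_eq hk, c.im_mul (inv_mem hh) hg, c.im_inv hh, he, inv_mul_cancel]
  obtain ⟨e, hE, q, hq, hkq⟩ := c.ker_decomp hk hk1
  have hqH : q ∈ c.H := (c.P_le_C0 hq).1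
  have key : c.act (h⁻¹ * g) v ∈ c.Pt v := by
    rw [hkq, c.act_apply_mul (c.E_le hE) hqH, (c.act_eq_one (c.E_le hE)).2 hE]
    show c.act q v ∈ c.Pt v
    rcases c.mem_P hq with rfl | rfl | rfl
    · rw [c.act_one]; simp [Pt]
    · show c.om v ∈ c.Pt v
      simp [Pt]
    · rw [c.act_pg_inv]; simp [Pt]
  have hne : c.act (h⁻¹ * g) v ≠ 0 := fun h' => hv.2.1 (c.act_injective hk (h'.trans (map_zero _).symm))
  have hP : c.Pt (c.act (h⁻¹ * g) v) = c.Pt v := c.Pt_eq key hne
  rw [← hp, c.act_Pt hg, c.act_Pt hh, ← c.act_Pt hh v, ← hP, c.act_Pt hh, ← c.act_apply_mul hh hk,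
    mul_inv_cancel_left]

/-- The action of the normalizer of `I` on the points. -/
noncomputable def sixPerm (hs : c.Split) (a : ↥(normalizer (I : Set A))) : Equiv.Perm c.Six :=
  Equiv.ofBijective
    (fun p => ⟨c.act (c.exists_lift_A a).choose '' p.1,
      c.act_image_Six hs (c.exists_lift_A a).choose_spec.1 ((c.exists_lift_A a).choose_spec.2.symm ▸ a.2) p⟩)
    (Finite.injective_iff_bijective.1 fun p q h => Subtype.ext
      ((Set.image_injective.2 (c.act_injective (c.exists_lift_A (a : A)).choose_spec.1)) (congrArg Subtype.val h)))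

theorem sixPerm_val (hs : c.Split) (a : ↥(normalizer (I : Set A))) {h : G} (hh : h ∈ c.H) (hi : c.im h = a)
    (p : c.Six) : (c.sixPerm hs a p).1 = c.act h '' p.1 :=
  c.act_image_congr hs (c.exists_lift_A (a : A)).choose_spec.1 hh ((c.exists_lift_A (a : A)).choose_spec.2.trans hi.symm) p

/-- It is a homomorphism. -/
noncomputable def sixHom (hs : c.Split) : ↥(normalizer (I : Set A)) →* Equiv.Perm c.Six :=
  MonoidHom.mk' (c.sixPerm hs) fun a b => by
    obtain ⟨g, hg, hga⟩ := c.exists_lift_A (a : A)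
    obtain ⟨h, hh, hhb⟩ := c.exists_lift_A (b : A)
    refine Equiv.ext fun p => Subtype.ext ?_
    rw [c.sixPerm_val hs (a * b) (mul_mem hg hh) (by rw [c.im_mul hg hh, hga, hhb, Subgroup.coe_mul]),
      Equiv.Perm.mul_apply, c.sixPerm_val hs a hg hga, c.sixPerm_val hs b hh hhb, Set.image_image]
    exact Set.image_congr' fun v => c.act_apply_mul hg hh v

theorem sixHom_val (hs : c.Split) (a : ↥(normalizer (I : Set A))) {h : G} (hh : h ∈ c.H) (hi : c.im h = a)
    (p : c.Six) : (c.sixHom hs a p).1 = c.act h '' p.1 := c.sixPerm_val hs a hh hi p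

/-- The kernel on the points lies in `I`. -/
theorem sixHom_ker (hs : c.Split) : (c.sixHom hs).ker ≤ I.subgroupOf (normalizer (I : Set A)) := by
  intro a ha
  obtain ⟨h, hh, hi⟩ := c.exists_lift_A (a : A)
  refine mem_subgroupOf.2 ?_
  rw [← hi]
  refine c.im_mem_of_fix_six hh fun v hv => ?_
  have e := c.sixHom_val hs a hh hi ⟨c.Pt v, v, hv, rfl⟩
  rw [MonoidHom.mem_ker.1 ha] at e
  change c.Pt v = c.act h '' c.Pt v at e
  rw [show c.Pt v = c.act h '' c.Pt v from e]
  exact ⟨v, by simp [Pt], rfl⟩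

theorem card_normalizer_I_le (hs : c.Split) : Nat.card ↥(normalizer (I : Set A)) ≤ 11520 := by
  haveI := c.finite_A
  rw [← (c.sixHom hs).ker.card_mul_index, Subgroup.index_ker]
  calc Nat.card ↥(c.sixHom hs).ker * Nat.card ↥(c.sixHom hs).range
      ≤ Nat.card ↥(I.subgroupOf (normalizer (I : Set A))) * Nat.card (Equiv.Perm c.Six) :=
        Nat.mul_le_mul (Subgroup.card_le_of_le (c.sixHom_ker hs)) (card_le_card_group _)
    _ = 16 * 720 := by
        rw [Nat.card_congr (subgroupOfEquivOfLe le_normalizer).toEquiv, c.facts.card_I, Nat.card_perm, c.card_Six]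
        rfl
    _ = _ := by norm_num

theorem card_normalizer_I (hs : c.Split) (hNI : 11520 ≤ Nat.card ↥(normalizer (I : Set A))) :
    Nat.card ↥(normalizer (I : Set A)) = 11520 :=
  le_antisymm (c.card_normalizer_I_le hs) hNI

/-- All permutations of the points occur. -/
theorem sixHom_surjective (hs : c.Split) (hNI : 11520 ≤ Nat.card ↥(normalizer (I : Set A))) :
    Function.Surjective (c.sixHom hs) := by
  haveI := c.finite_A
  rw [← MonoidHom.range_eq_top]
  refine eq_of_le_of_card_ge le_top ?_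
  have hk := Subgroup.card_le_of_le (c.sixHom_ker hs)
  rw [Nat.card_congr (subgroupOfEquivOfLe le_normalizer).toEquiv, c.facts.card_I] at hk
  have he := (c.sixHom hs).ker.card_mul_index
  rw [Subgroup.index_ker] at he
  rw [Subgroup.card_top, Nat.card_perm, c.card_Six, show Nat.factorial 6 = 720 from rfl]
  have := Nat.mul_le_mul_right (Nat.card ↥(c.sixHom hs).range) hk
  omega

end CfsgLib.Spor.JFourType.Ctx
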