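import Cfsg.Agent.Lib.Spor.JFourType.StarPair
import Cfsg.Agent.Lib.Spor.JFourType.PointKernel
import Cfsg.Agent.Lib.Spor.JFourType.ExtraDef
import Cfsg.Agent.Lib.Spor.JFourType.ConjPair

/-!
# The involutions of the core

The vectors of square zero are 2079 besides zero: at least 693 come from conjugates of `z` and at least 1386 from
the images of the vectors on five lines, so each involution of the core is conjugate to `z` or into `W`.
-/

set_option autoImplicit false
set_option linter.style.haveILetI false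

namespace CfsgLib.Spor.JFourType.Ctx

open Subgroup

universe u

variable {G : Type u} [Group G] [Finite G] {A : Type} [Group A] {J I R : Subgroup A}
  {z : G} {P : Subgroup G} (c : Ctx J I R z P)
include c

/-- Conjugate into `W` or to `z`. -/
def Tame (t : G) : Prop := IsConj z t ∨ ∃ g : G, g * t * g⁻¹ ∈ c.W

theorem tame_conj {t : G} {g : G} (h : c.Tame (g * t * g⁻¹)) : c.Tame t := by
  rcases h with h | ⟨k, hk⟩
  · exact Or.inl ((c.isConj_z_conj g t).1 h)
  · exact Or.inr ⟨k * g, by rwa [show k * g * t * (k * g)⁻¹ = k * (g * t * g⁻¹) * k⁻¹ by group]⟩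

/-- There are 2080 vectors of square zero. -/
theorem card_singular_le : {v : c.Vs | c.Sf v = 0 ∧ v ≠ 0}.ncard ≤ 2079 := by
  classical
  haveI : Fintype c.Vs := Fintype.ofFinite _
  let S : Finset c.Vs := Finset.univ.filter fun v => c.Sf v = 0
  let f : c.Vs → c.Vs ⧸ c.U := QuotientAddGroup.mk
  have hcard : Fintype.card (c.Vs ⧸ c.U) = 64 := by
    have h := c.U.card_eq_card_quotient_mul_card_addSubgroup
    rw [c.card_V, c.card_U, Nat.card_eq_fintype_card] at h
    omega
  -- half of every other coset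
  have hhalf : ∀ b : c.Vs ⧸ c.U, b ≠ 0 → (S.filter fun v => f v = b).card ≤ 32 := by
    intro b hb
    obtain ⟨v, rfl⟩ := QuotientAddGroup.mk_surjective b
    have hvU : v ∉ c.U := fun h => hb ((QuotientAddGroup.eq_zero_iff v).2 h)
    obtain ⟨u, hu, hvu⟩ : ∃ u ∈ c.U, c.Bf v u ≠ 0 := by
      by_contra hcon
      push Not at hcon
      exact hvU (c.perp_U.le (c.mem_perp.2 fun u hu => by rw [c.Bf_symm]; exact hcon u hu))
    set T := S.filter fun w => f w = f v with hT
    have hfib : ∀ w, f w = f v ↔ w + v ∈ c.U := fun w => by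
      rw [QuotientAddGroup.eq, show -w = w from neg_eq_of_add_eq_zero_left (c.two_V w)]
    have hUc : (Finset.univ.filter fun w => f w = f v).card = 64 := by
      rw [← show (Finset.univ.filter fun w : c.Vs => w ∈ c.U).card = 64 by
        rw [← Fintype.card_subtype, ← Nat.card_eq_fintype_card]; exact c.card_U.trans (by norm_num)]
      refine Finset.card_bij (fun w _ => w + v) (fun w hw => ?_) (fun a _ a' _ h => add_right_cancel h) fun w hw => ?_
      · simpa [hfib] using (Finset.mem_filter.1 hw).2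
      · exact ⟨w + v, by simpa [hfib, add_assoc, c.two_V] using (Finset.mem_filter.1 hw).2,
          by rw [add_assoc, c.two_V, add_zero]⟩
    have hdis : Disjoint T (T.image fun w => w + u) := by
      rw [Finset.disjoint_left]
      intro w hw hw'
      obtain ⟨x, hx, rfl⟩ := Finset.mem_image.1 hw'
      simp only [hT, S, Finset.mem_filter, Finset.mem_univ, true_and] at hw hx
      have e : c.Bf x u = 0 := by
        have := hw.1
        rwa [c.Sf_add, hx.1, c.Sf_U hu, zero_add, zero_add] at this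
      have hxv : x + v ∈ c.U := (hfib x).1 hx.2
      have h0 := c.Bf_U hxv hu
      rw [c.Bf_add_left, e, zero_add] at h0
      exact hvu h0
    have hle : T ∪ T.image (fun w => w + u) ⊆ Finset.univ.filter fun w => f w = f v := by
      intro w hw
      simp only [Finset.mem_union, hT, S, Finset.mem_image, Finset.mem_filter, Finset.mem_univ, true_and] at hw ⊢
      rcases hw with hw | ⟨x, hx, rfl⟩
      · exact hw.2
      · rw [hfib, add_right_comm]
        exact add_mem ((hfib x).1 hx.2) hu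
    have := Finset.card_le_card hle
    rw [Finset.card_union_of_disjoint hdis, Finset.card_image_of_injective _ (add_left_injective u), hUc] at this
    show T.card ≤ 32
    omega
  have h0 : (S.filter fun v => f v = 0).card ≤ 64 := by
    refine (Finset.card_le_card (t := Finset.univ.filter fun v : c.Vs => v ∈ c.U) fun v hv => ?_).trans ?_
    · exact Finset.mem_filter.2 ⟨Finset.mem_univ v, (QuotientAddGroup.eq_zero_iff v).1 (Finset.mem_filter.1 hv).2⟩
    · rw [← Fintype.card_subtype, ← Nat.card_eq_fintype_card]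
      exact le_of_eq (c.card_U.trans (by norm_num))
  have hS : S.card ≤ 2080 := by
    rw [Finset.card_eq_sum_card_fiberwise (t := Finset.univ) (f := f) fun v _ => Finset.mem_univ _,
      ← Finset.add_sum_erase _ _ (Finset.mem_univ (0 : c.Vs ⧸ c.U))]
    have h := Finset.sum_le_card_nsmul ((Finset.univ : Finset (c.Vs ⧸ c.U)).erase 0) _ 32
      fun b hb => hhalf b (Finset.ne_of_mem_erase hb)
    rw [Finset.card_erase_of_mem (Finset.mem_univ _), Finset.card_univ, hcard, smul_eq_mul] at h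
    omega
  have hz : (0 : c.Vs) ∈ S := by
    simp only [S, Finset.mem_filter, Finset.mem_univ, true_and]
    exact c.Sf_U (zero_mem _)
  rw [Set.ncard_eq_toFinset_card']
  refine (Finset.card_le_card (t := S.erase 0) fun v hv => ?_).trans ?_
  · simp only [Set.mem_toFinset, Set.mem_setOf_eq] at hv
    exact Finset.mem_erase.2 ⟨hv.2, by simp [S, hv.1]⟩
  · rw [Finset.card_erase_of_mem hz]
    omega

/-- The vectors of conjugates of `z`. -/
def Zvec : Set c.Vs := {v | ∃ u ∈ c.E, u ≠ z ∧ IsConj z u ∧ c.pv u = v}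

/-- The images of the vectors on five lines. -/
def Nvec : Set c.Vs := {v | ∃ h ∈ c.H, ∃ w, c.IsN w ∧ c.act h w = v}

theorem card_Nvec (hs : c.Split) : 1386 ≤ c.Nvec.ncard := by
  classical
  haveI := c.finite_A
  set N := normalizer (I : Set A) with hN
  have hidx : 77 ≤ Nat.card (A ⧸ N) := by
    have h := N.card_eq_card_quotient_mul_card_subgroup
    rw [c.card_A] at h
    have hle := c.card_normalizer_I_le hs
    have h2 := Nat.mul_le_mul_left (Nat.card (A ⧸ N)) hle
    rw [← hN] at h2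
    omega
  choose h hhH hhi using fun q : A ⧸ N => c.exists_H_im q.out
  let f : (A ⧸ N) × {w : c.Vs | c.IsN w} → ↥c.Nvec := fun p => ⟨c.act (h p.1) p.2.1, h p.1, hhH _, p.2.1, p.2.2, rfl⟩
  have hf : Function.Injective f := by
    rintro ⟨q, w, hw⟩ ⟨q', w', hw'⟩ e
    have e1 : c.act (h q) w = c.act (h q') w' := congrArg Subtype.val e
    have hk : (h q')⁻¹ * h q ∈ c.H := mul_mem (inv_mem (hhH q')) (hhH q)
    have e2 : c.act ((h q')⁻¹ * h q) w = w' := by
      rw [c.act_apply_mul (inv_mem (hhH q')) (hhH q), e1, c.act_inv_apply (hhH q')]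
    have hn := c.normalizer_of_isN hw hk (e2.symm ▸ hw')
    rw [c.im_mul (inv_mem (hhH q')) (hhH q), c.im_inv (hhH q'), hhi, hhi] at hn
    have hq : q = q' := by
      rw [← q.out_eq', ← q'.out_eq']
      exact (QuotientGroup.eq.2 hn).symm
    subst hq
    have e3 : w = w' := c.act_injective (hhH q) e1
    subst e3
    rfl
  have := Nat.card_le_card_of_injective f hf
  rw [Nat.card_prod, Nat.card_coe_set_eq, Nat.card_coe_set_eq, c.card_IsN] at this
  omega

theorem card_normalizer_R_le (he : Extra J I R) : Nat.card ↥(normalizer (R : Set A)) ≤ 3840 := by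
  classical
  haveI := c.finite_A
  set N := normalizer (R : Set A)
  have h := (J.subgroupOf N).card_mul_index
  have e : Nat.card ↥(J.subgroupOf N) = Nat.card ↥(N ⊓ J : Subgroup A) :=
    Nat.card_congr
      { toFun := fun x => ⟨x.1.1, x.1.2, x.2⟩
        invFun := fun x => ⟨⟨x.1, x.2.1⟩, x.2.2⟩
        left_inv := fun x => rfl
        right_inv := fun x => rfl }
  have hi : (J.subgroupOf N).index ≤ 2 := by
    refine Nat.le_of_dvd (by norm_num) ?_
    rw [← c.facts.index_J]
    haveI := c.J_normal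
    exact Subgroup.relIndex_dvd_index_of_normal J N
  rw [← h, e]
  exact Nat.mul_le_mul he.card_NR hi

theorem card_Zvec (hs : c.Split) (he : Extra J I R) : 693 ≤ c.Zvec.ncard := by
  classical
  haveI := c.finite_A
  obtain ⟨x, ⟨hxU, hxc⟩, hxne⟩ := Set.exists_ne_of_one_lt_ncard (s := {x : G | x ∈ c.Ut ∧ IsConj z x})
    (by rw [hs.card_Ut_conj]; norm_num) z
  obtain ⟨g, rfl⟩ := isConj_iff.1 hxc
  obtain ⟨j, hj, -, hmove⟩ := c.exists_rPoint rfl hxU.1 hxne
  obtain ⟨h, hh, hhj⟩ := c.exists_C0_im (inv_mem hj)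
  have hR := hmove h hh hhj
  set u := h * (g * z * g⁻¹) * h⁻¹
  obtain ⟨huE, huz, g0, hg0, -⟩ := id hR
  have huc : IsConj z u := isConj_iff.2 ⟨g0, hg0⟩
  have hu1 : u ≠ 1 := fun e => c.not_isConj_z_one (e ▸ huc)
  -- the centralizer in `H`
  set C := c.H ⊓ centralizer ({u} : Set G) with hC
  have hfix : ∀ x ∈ C, c.act x (c.pv u) = c.pv u := fun x hx => by
    rw [← c.pv_conj hx.1 huE, mem_centralizer_singleton_iff.1 hx.2, mul_inv_cancel_right]
  let f : ↥C →* A :=
    { toFun := fun x => c.im x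
      map_one' := c.im_one
      map_mul' := fun a b => c.im_mul a.2.1 b.2.1 }
  have hrange : f.range ≤ normalizer (R : Set A) := by
    rintro _ ⟨x, rfl⟩
    exact RPoint.normalizes c hR x.2.1 (hfix x x.2)
  have hker : Nat.card ↥f.ker ≤ 2 ^ 12 := by
    rw [← c.card_centralizer_E huE hu1 huz]
    refine Nat.card_le_card_of_injective (fun x => ⟨x.1.1, ?_, x.1.2.2⟩) fun a b e => ?_
    · obtain ⟨⟨y, hy⟩, hy1⟩ := x
      show y ∈ c.E
      have h1 : c.im y = 1 := MonoidHom.mem_ker.1 hy1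
      rw [c.im_eq hy.1] at h1
      obtain ⟨e, hee, q, hq, rfl⟩ := c.ker_decomp hy.1 h1
      have hqH : q ∈ c.H := (c.P_le_C0 hq).1
      have hf := hfix _ hy
      rw [c.act_apply_mul (c.E_le hee) hqH, (c.act_eq_one (c.E_le hee)).2 hee] at hf
      change c.act q (c.pv u) = c.pv u at hf
      have hne : c.pv u ≠ 0 := fun e => ((c.pv_eq_zero huE).1 e).elim hu1 huz
      rcases c.mem_P hq with rfl | rfl | rfl
      · rwa [mul_one]
      · exact absurd (c.om_fixed hf) hne
      · refine absurd (c.om_fixed ?_) hne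
        rw [c.act_pg_inv] at hf
        have := congrArg c.om hf
        rw [c.om_cube] at this
        exact this.symm
    · exact Subtype.ext (Subtype.ext (congrArg (fun w : ↥(c.E ⊓ centralizer ({u} : Set G)) => (w : G)) e))
  have hCle : Nat.card ↥C ≤ 2 ^ 12 * 3840 := by
    rw [← f.ker.card_mul_index, Subgroup.index_ker]
    exact Nat.mul_le_mul hker ((Subgroup.card_le_of_le hrange).trans (c.card_normalizer_R_le he))
  have horb := ncard_orbit_mul c.H u
  have hH : Nat.card ↥c.H = 3 * 2 ^ 13 * Nat.card A := by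
    rw [← c.pr.ker.card_mul_index, Subgroup.index_ker, c.card_ker, MonoidHom.range_eq_top.2 c.pr_surj,
      Subgroup.card_top]
  rw [hH, c.card_A] at horb
  have h1386 : 1386 ≤ {y | ∃ k ∈ c.H, k * u * k⁻¹ = y}.ncard := by
    have h' := Nat.mul_le_mul_left {y | ∃ k ∈ c.H, k * u * k⁻¹ = y}.ncard hCle
    rw [horb] at h'
    omega
  -- at most two over a vector
  haveI : Fintype c.Vs := Fintype.ofFinite _
  set O := {y | ∃ k ∈ c.H, k * u * k⁻¹ = y} with hO
  haveI : Fintype ↥O := Fintype.ofFinite _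
  have hOE : ∀ y ∈ O, y ∈ c.E ∧ y ≠ z ∧ IsConj z y := by
    rintro _ ⟨k, hk, rfl⟩
    refine ⟨c.conj_E hk huE, fun e => huz ?_, (c.isConj_z_conj k u).2 huc⟩
    rw [show u = k⁻¹ * (k * u * k⁻¹) * k by group, e, mul_assoc, ← c.comm_z hk, inv_mul_cancel_left]
  have h2 : O.toFinset.card ≤ 2 * (O.toFinset.image c.pv).card := by
    refine Finset.card_le_mul_card_image _ 2 fun b hb => ?_
    obtain ⟨y, hy, rfl⟩ := Finset.mem_image.1 hb
    refine (Finset.card_le_card (t := {y, z * y}) fun w hw => ?_).trans Finset.card_le_two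
    obtain ⟨hw1, hw2⟩ := Finset.mem_filter.1 hw
    simp only [Finset.mem_insert, Finset.mem_singleton]
    exact (c.pv_eq_iff (hOE w (Set.mem_toFinset.1 hw1)).1 (hOE y (Set.mem_toFinset.1 hy)).1).1 hw2
  have hsub : ((O.toFinset.image c.pv : Finset c.Vs) : Set c.Vs) ⊆ c.Zvec := by
    intro v hv
    obtain ⟨y, hy, rfl⟩ := Finset.mem_image.1 (Finset.mem_coe.1 hv)
    obtain ⟨h1, h2', h3⟩ := hOE y (Set.mem_toFinset.1 hy)
    exact ⟨y, h1, h2', h3, rfl⟩
  have h3 := Set.ncard_le_ncard hsub (Set.toFinite _)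
  rw [Set.ncard_coe_finset] at h3
  rw [Set.ncard_eq_toFinset_card'] at h1386
  omega

/-- Both elements over a noncentral vector are conjugate. -/
theorem isConj_mul_z {u : G} (hu : u ∈ c.E) (h1 : u ≠ 1) (hz : u ≠ z) : IsConj u (z * u) := by
  obtain ⟨e, he, hne⟩ : ∃ e ∈ c.E, e * u ≠ u * e := by
    by_contra hcon
    push Not at hcon
    rcases c.eq_of_E_center hu hcon with h | h
    · exact h1 h
    · exact hz h
  refine isConj_iff.2 ⟨e, ?_⟩
  rw [(c.comm_E he hu).resolve_left hne, mul_assoc, mul_assoc, mul_inv_cancel, mul_one]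

/-- An involution of the core is conjugate to `z` or into `W`. -/
theorem tame_E (hs : c.Split) (he : Extra J I R) {e : G} (heE : e ∈ c.E) (he2 : e * e = 1) : c.Tame e := by
  by_cases h1 : e = 1
  · exact Or.inr ⟨1, by rw [h1]; simp⟩
  by_cases hz : e = z
  · exact Or.inl (hz ▸ IsConj.refl z)
  have hdis : Disjoint c.Zvec c.Nvec := by
    rw [Set.disjoint_left]
    rintro _ ⟨u, hu, -, huc, rfl⟩ ⟨h, hh, w, hw, hw'⟩
    have hu' : h⁻¹ * u * h ∈ c.E := c.conj_E' hh hu
    have hp : c.pv (h⁻¹ * u * h) = w := by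
      have := c.pv_conj (inv_mem hh) hu
      rw [inv_inv, ← hw', c.act_inv_apply hh] at this
      exact this
    have hT := c.mem_TU hs (t := h⁻¹ * u * h) ⟨hu', hp.symm ▸ hw.1⟩ (hp.symm ▸ hw)
    refine hT.1.2.2 ?_
    have := (c.isConj_z_conj h⁻¹ u).2 huc
    rwa [inv_inv] at this
  have hsub : c.Zvec ∪ c.Nvec ⊆ {v : c.Vs | c.Sf v = 0 ∧ v ≠ 0} := by
    rintro v (⟨u, hu, huz, huc, rfl⟩ | ⟨h, hh, w, hw, rfl⟩)
    · obtain ⟨g, rfl⟩ := isConj_iff.1 huc
      refine ⟨(c.Sf_sq hu).2 ?_, fun h => ((c.pv_eq_zero hu).1 h).elim (fun h => c.not_isConj_z_one (h ▸ huc)) huz⟩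
      rw [conj_mul, c.zz, mul_one, mul_inv_cancel]
    · exact ⟨(c.Sf_act hh w).trans (c.Sf_U hw.1),
        fun h0 => hw.2.1 (c.act_injective hh (h0.trans (map_zero _).symm))⟩
  have heq : c.Zvec ∪ c.Nvec = {v : c.Vs | c.Sf v = 0 ∧ v ≠ 0} := by
    refine Set.eq_of_subset_of_ncard_le hsub ?_ (Set.toFinite _)
    rw [Set.ncard_union_eq hdis (Set.toFinite _) (Set.toFinite _)]
    have := c.card_singular_le
    have := c.card_Zvec hs he
    have := c.card_Nvec hs
    omega
  rcases heq.ge (show c.pv e ∈ {v : c.Vs | c.Sf v = 0 ∧ v ≠ 0} from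
    ⟨(c.Sf_sq heE).2 he2, fun h => ((c.pv_eq_zero heE).1 h).elim h1 hz⟩) with ⟨u, hu, huz, huc, hpu⟩ | ⟨h, hh, w, hw, hwe⟩
  · left
    rcases (c.pv_eq_iff heE hu).1 hpu.symm with h | h
    · exact h ▸ huc
    · exact h ▸ huc.trans (c.isConj_mul_z hu (fun e => c.not_isConj_z_one (e ▸ huc)) huz)
  · right
    refine ⟨h⁻¹, ?_⟩
    rw [inv_inv]
    refine c.Ut_sub_W ⟨c.conj_E' hh heE, ?_⟩
    have := c.pv_conj (inv_mem hh) heE
    rw [inv_inv, ← hwe, c.act_inv_apply hh] at this
    exact this.symm ▸ hw.1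

/-- Every involution is conjugate into `H`. -/
theorem exists_conj_H {t : G} (ht : t * t = 1) : ∃ g : G, g * t * g⁻¹ ∈ c.H := by
  haveI : Fact (Nat.Prime 2) := ⟨Nat.prime_two⟩
  obtain ⟨S, hSH, -, -⟩ := c.exists_sylow_ge c.W_le_H c.W_isPGroup
  have hp : IsPGroup 2 ↥(zpowers t) := by
    refine IsPGroup.iff_orderOf.2 fun ⟨x, hx⟩ => ?_
    obtain ⟨n, rfl⟩ := mem_zpowers_iff.1 hx
    have h2 : (⟨t ^ n, hx⟩ : ↥(zpowers t)) ^ 2 = 1 := Subtype.ext (by
      show (t ^ n) ^ 2 = 1
      rw [pow_two, ← zpow_add, ← two_mul, zpow_mul, show t ^ (2 : ℤ) = 1 by rw [zpow_two, ht], one_zpow])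
    rcases (Nat.dvd_prime Nat.prime_two).1 (orderOf_dvd_of_pow_eq_one h2) with h | h
    · exact ⟨0, h⟩
    · exact ⟨1, h⟩
  obtain ⟨T, hT⟩ := hp.exists_le_sylow
  obtain ⟨g, hg⟩ := MulAction.exists_smul_eq G T S
  refine ⟨g, hSH ?_⟩
  rw [← hg, Sylow.coe_subgroup_smul, Subgroup.mem_pointwise_smul_iff_inv_smul_mem]
  simpa [MulAut.smul_def, mul_assoc] using hT (mem_zpowers t)

end CfsgLib.Spor.JFourType.Ctx
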