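import Cfsg.Agent.Lib.Spor.JFourType.InvolLift

/-!
# Inner involutions

An involution over `i` in `I` is the lift times an involution of the core fixed by it.  If that lies in `U` the
involution is in `W`; the others form one class, and one of them lies in a conjugate of the core.
-/

set_option autoImplicit false
set_option linter.style.haveILetI false

namespace CfsgLib.Spor.JFourType.Ctx

open Subgroup

universe u

variable {G : Type u} [Group G] [Finite G] {A : Type} [Group A] {J I R : Subgroup A}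
  {z : G} {P : Subgroup G} (c : Ctx J I R z P)
include c

/-- An element of the core over the fixed space commutes with the lift. -/
theorem lift_comm_of_Fx {i : ↥I} {e : G} (he : e ∈ c.E) (hq : c.pv e ∈ c.Fx i) :
    c.lv i * e = e * c.lv i := by
  have hl := c.lv_H i
  have hlp : c.lv i * c.pg = c.pg * c.lv i := (c.comm_P (c.L0_le (c.lv_mem i)) c.pg_mem).symm
  have hcases : c.lv i * e * (c.lv i)⁻¹ = e ∨ c.lv i * e * (c.lv i)⁻¹ = z * e :=
    (c.pv_eq_iff (c.conj_E hl he) he).1 (by rw [c.pv_conj hl he, c.mem_fix_singleton.1 hq])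
  rcases hcases with h | h
  · exact mul_inv_eq_iff_eq_mul.1 h
  exfalso
  have hzpg := c.comm_z c.pg_H
  have hstep : ∀ x, c.lv i * x * (c.lv i)⁻¹ = z * x →
      c.lv i * (c.pg * x * c.pg⁻¹) * (c.lv i)⁻¹ = z * (c.pg * x * c.pg⁻¹) := by
    intro x hx
    calc c.lv i * (c.pg * x * c.pg⁻¹) * (c.lv i)⁻¹
        = (c.lv i * c.pg) * x * (c.lv i * c.pg)⁻¹ := by group
      _ = c.pg * (c.lv i * x * (c.lv i)⁻¹) * c.pg⁻¹ := by rw [hlp]; group
      _ = (c.pg * z) * x * c.pg⁻¹ := by rw [hx]; group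
      _ = _ := by rw [hzpg]; group
  set e2 := c.pg * e * c.pg⁻¹ with he2
  set e3 := c.pg * e2 * c.pg⁻¹ with he3
  have h2 := hstep e h
  have h3 := hstep e2 h2
  have hE2 : e2 ∈ c.E := c.conj_E c.pg_H he
  have hE3 : e3 ∈ c.E := c.conj_E c.pg_H hE2
  have hw : e * e2 * e3 = 1 ∨ e * e2 * e3 = z := (c.pv_eq_zero (mul_mem (mul_mem he hE2) hE3)).1 (by
    rw [c.pv_mul (mul_mem he hE2) hE3, c.pv_mul he hE2, he3, c.pv_conj c.pg_H hE2, he2, c.pv_conj c.pg_H he]
    exact c.om_sum _)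
  have hfix : c.lv i * (e * e2 * e3) * (c.lv i)⁻¹ = e * e2 * e3 := by
    rcases hw with w | w <;> rw [w]
    · rw [mul_one, mul_inv_cancel]
    · rw [c.comm_z hl, mul_inv_cancel_right]
  rw [← conj_mul, ← conj_mul, h, h2, h3] at hfix
  refine c.z_ne ?_
  have e' : z * e * (z * e2) * (z * e3) = z * z * z * (e * e2 * e3) := by
    rw [show z * e * (z * e2) = z * (e * z) * e2 by group, c.comm_z (c.E_le he),
      show z * (z * e) * e2 * (z * e3) = z * z * (e * e2 * z) * e3 by group,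
      c.comm_z (c.E_le (mul_mem he hE2))]
    group
  rw [e', c.zz, one_mul] at hfix
  exact mul_eq_right.1 hfix

/-- An involution over `i`. -/
theorem inner_decomp {t : G} (ht : t ∈ c.H) (ht2 : t * t = 1) {i : ↥I} (hi : c.im t = i) :
    ∃ e ∈ c.E, t = e * c.lv i ∧ c.pv e ∈ c.Fx i ∧ e * e = 1 := by
  have htM : t ∈ c.M := (c.mem_M_iff_im ht).2 (hi ▸ c.facts.I_le i.2)
  obtain ⟨e, he, hx⟩ := c.M_decomp htM
  set x := e⁻¹ * t with hxdef
  have hxH : x ∈ c.H := hx.1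
  have hxi : c.im x = i := by
    rw [hxdef, c.im_mul (inv_mem (c.E_le he)) ht, c.im_inv (c.E_le he), c.im_E he, inv_one, one_mul, hi]
  have htx : t = e * x := by rw [hxdef, mul_inv_cancel_left]
  have hxxE : x * x ∈ c.E := by
    have e1 : x * x = (e * (x * e * x⁻¹))⁻¹ := eq_inv_of_mul_eq_one_right (by
      rw [show e * (x * e * x⁻¹) * (x * x) = (e * x) * (e * x) by group, ← htx, ht2])
    rw [e1]
    exact inv_mem (mul_mem he (c.conj_E hxH he))
  have hxx : x * x = 1 ∨ x * x = z := by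
    have hmem : x * x ∈ zpowers z := c.E_inf_centralizer ▸ mem_inf.2 ⟨hxxE, (mul_mem hx hx : x * x ∈ c.C0).2⟩
    obtain ⟨n, hn⟩ := mem_zpowers_iff.1 hmem
    rcases Int.even_or_odd n with ⟨k, rfl⟩ | ⟨k, rfl⟩
    · left
      rw [← hn, zpow_add, ← (Commute.refl z).mul_zpow, c.zz, one_zpow]
    · right
      rw [← hn, zpow_add, two_mul, zpow_add, zpow_one, ← (Commute.refl z).mul_zpow, c.zz, one_zpow, one_mul]
  have hxL : x ∈ c.L0 := c.mem_L0.2 ⟨hx, hxi ▸ i.2, by
    rw [show 32 = 2 * 16 by norm_num, pow_mul, pow_two]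
    rcases hxx with h | h <;> rw [h]
    · exact one_pow _
    · rw [show 16 = 2 * 8 by norm_num, pow_mul, pow_two, c.zz, one_pow]⟩
  have hker := c.L0_ker (mul_mem hxL (c.lv_mem i)) (by
    rw [c.im_mul hxH (c.lv_H i), hxi, c.im_lv, ← Subgroup.coe_mul, c.mul_self_I, coe_one])
  set e' := e * (x * c.lv i) with he'def
  have hll := c.L0_elementary (c.lv_mem i)
  have he' : e' ∈ c.E := mul_mem he (by rcases hker with h | h <;> rw [h]; exacts [one_mem _, c.z_mem_E])
  have ht' : t = e' * c.lv i := by rw [he'def, htx, mul_assoc, mul_assoc, hll, mul_one]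
  have hFx : c.pv e' ∈ c.Fx i := by
    refine c.mem_fix_singleton.2 ?_
    rw [ht'] at ht2
    have h : c.lv i * e' * (c.lv i)⁻¹ = e'⁻¹ := by
      rw [inv_eq_of_mul_eq_one_left hll]
      refine eq_inv_of_mul_eq_one_right ?_
      rw [← ht2]; group
    rw [← c.pv_conj (c.lv_H i) he', h, c.pv_inv he']
  refine ⟨e', he', ht', hFx, ?_⟩
  rw [ht'] at ht2
  calc e' * e' = e' * e' * (c.lv i * c.lv i) := by rw [hll, mul_one]
    _ = e' * (e' * c.lv i) * c.lv i := by group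
    _ = e' * (c.lv i * e') * c.lv i := by rw [c.lift_comm_of_Fx he' hFx]
    _ = 1 := by rw [← ht2]; group

/-- A displacement leaving the line. -/
theorem exists_move {i : ↥I} (hi : i ≠ 1) :
    ∃ k : ↥I, ∀ q, q ∈ c.Fx i → q ∉ c.U → c.D k q ∉ c.Li i := by
  classical
  obtain ⟨v, hvi, hv0, hniso⟩ := Set.nonempty_of_ncard_ne_zero
    (s := {x | x ∈ c.Li i ∧ x ≠ 0 ∧ ¬ c.Iso i x}) (by rw [(c.line_profile hi).2]; norm_num)
  have hv := (c.isN_iff hi hvi hv0).2 hniso
  obtain ⟨k, ⟨hk1, hvk⟩, hki⟩ := Set.exists_ne_of_one_lt_ncard (s := c.thru v) (by rw [hv.2.2]; norm_num) i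
  refine ⟨k, fun q hq hqU hw => ?_⟩
  set w := c.D k q with hwdef
  have hwk : w ∈ c.Li k := c.D_mem k q
  have hwik : w ∈ c.Li (i * k) := by
    have := c.D_mem (i * k) q
    rwa [c.D_mul, c.D_eq_zero.2 hq, zero_add] at this
  have hw0 : w ≠ 0 := fun h0 => hqU (by
    rw [← c.Fx_inf hi hk1 (Ne.symm hki)]
    exact ⟨hq, c.D_eq_zero.1 h0⟩)
  have hwN := c.isN_of_Pt hv (c.mem_Pt_of_lines hi hk1 (Ne.symm hki) hvi hvk hv0 hw hwk) hw0
  exact c.isN_no_triple hwN hi hk1 (Ne.symm hki) hw hwk hwik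

/-- Over `i` the vectors outside `U` form one class. -/
theorem inner_class {i : ↥I} (hi : i ≠ 1) {e e' : G} (he : e ∈ c.E) (he' : e' ∈ c.E)
    (hq : c.pv e ∈ c.Fx i) (hq' : c.pv e' ∈ c.Fx i) (hS : c.Sf (c.pv e) = 0) (hS' : c.Sf (c.pv e') = 0)
    (hU : c.pv e ∉ c.U) (hU' : c.pv e' ∉ c.U) :
    ∃ h ∈ c.H, h * (e * c.lv i) * h⁻¹ = e' * c.lv i := by
  classical
  set q := c.pv e with hqdef
  set q' := c.pv e' with hq'def
  -- moves commuting with the lift
  have hmove : ∀ h ∈ c.H, h * c.lv i = c.lv i * h → ∀ e1 ∈ c.E,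
      h * (e1 * c.lv i) * h⁻¹ = (h * e1 * h⁻¹) * c.lv i ∧ c.pv (h * e1 * h⁻¹) = c.act h (c.pv e1) := by
    intro h hh hc e1 he1
    refine ⟨?_, c.pv_conj hh he1⟩
    rw [← conj_mul, hc, mul_inv_cancel_right]
  -- the four cosets of `U` in the fixed space
  have hgroup : ∀ a ∈ c.Pt q, ∀ b ∈ c.Pt q, a + b ∈ c.Pt q := fun a ha b hb => c.Pt_add ha hb
  have hPt : ∀ a ∈ c.Pt q, a ≠ 0 → a ∉ c.U := fun a ha ha0 h =>
    hU ((c.Pt_mem_of (fun _ hy => c.U_om hy) ha ha0).1 h)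
  have hPF : ∀ a ∈ c.Pt q, a ∈ c.Fx i := c.Pt_subset (fun _ hy => c.Fx_om hy) hq
  have hdec : ∃ a ∈ c.Pt q, ∃ w ∈ c.U, q' = a + w := by
    have hinj : Set.InjOn (fun p : c.Vs × c.Vs => p.1 + p.2) (c.Pt q ×ˢ (c.U : Set c.Vs)) := by
      rintro ⟨a, w⟩ ⟨ha, hw⟩ ⟨b, x⟩ ⟨hb, hx⟩ (h : a + w = b + x)
      have e1 : a + b = w + x := c.add_eq_zero_V (by rw [show a + b + (w + x) = (a + w) + (b + x) by abel, h, c.two_V])
      have h0 : a + b = 0 := by
        by_contra h0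
        exact hPt _ (hgroup a ha b hb) h0 (e1.symm ▸ add_mem hw hx)
      exact Prod.ext (c.add_eq_zero_V h0) (c.add_eq_zero_V (e1.symm.trans h0))
    have heq : (fun p : c.Vs × c.Vs => p.1 + p.2) '' (c.Pt q ×ˢ (c.U : Set c.Vs)) = (c.Fx i : Set c.Vs) := by
      refine Set.eq_of_subset_of_ncard_le ?_ ?_ (Set.toFinite _)
      · rintro _ ⟨⟨a, w⟩, ⟨ha, hw⟩, rfl⟩
        exact add_mem (hPF a ha) (c.U_le_Fx i hw)
      · rw [hinj.ncard_image, Set.ncard_prod, c.ncard_Pt (fun h0 : q = 0 => hU (h0 ▸ zero_mem _)),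
          ← Nat.card_coe_set_eq, ← Nat.card_coe_set_eq, SetLike.coe_sort_coe, SetLike.coe_sort_coe, c.card_U,
          c.card_Fx hi]
        norm_num
    obtain ⟨⟨a, w⟩, ⟨ha, hw⟩, e1⟩ := heq.ge hq'
    exact ⟨a, ha, w, hw, e1.symm⟩
  obtain ⟨a, ha, w, hw, hqa⟩ := hdec
  have ha0 : a ≠ 0 := fun h => hU' (by rw [hqa, h, zero_add]; exact hw)
  have haU := hPt a ha ha0
  have haF := hPF a ha
  -- a power of `pg` reaches `a`
  obtain ⟨h1, hh1, hc1, ha1⟩ : ∃ h ∈ c.H, h * c.lv i = c.lv i * h ∧ c.act h q = a := by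
    have hlp : c.pg * c.lv i = c.lv i * c.pg := c.comm_P (c.L0_le (c.lv_mem i)) c.pg_mem
    simp only [Pt, Set.mem_insert_iff, Set.mem_singleton_iff] at ha
    rcases ha with h | h | h | h
    · exact absurd h ha0
    · exact ⟨1, one_mem _, by rw [one_mul, mul_one], by rw [c.act_one]; exact h.symm⟩
    · exact ⟨c.pg, c.pg_H, hlp, h.symm⟩
    · exact ⟨c.pg * c.pg, mul_mem c.pg_H c.pg_H, by rw [mul_assoc, hlp, ← mul_assoc, hlp, mul_assoc],
        by rw [c.act_apply_mul c.pg_H c.pg_H]; exact h.symm⟩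
  have haS : c.Sf a = 0 := by rw [← ha1, c.Sf_act hh1]; exact hS
  have hBw : c.Bf a w = 0 := by
    rw [hqa, c.Sf_add, haS, c.Sf_U hw, zero_add, zero_add] at hS'
    exact hS'
  -- either the line or its translate
  obtain ⟨k, hk⟩ := c.exists_move hi
  set w0 := c.D k a with hw0def
  have hw0 : w0 ∉ c.Li i := hk a haF haU
  have hchoice : w ∈ c.Li i ∨ w + w0 ∈ c.Li i := by
    by_contra hcon
    push Not at hcon
    let K : AddSubgroup c.Vs :=
      { carrier := {x | x ∈ c.U ∧ c.Bf a x = 0}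
        zero_mem' := ⟨zero_mem _, c.Bf_zero_right a⟩
        add_mem' := fun {x y} hx hy => ⟨add_mem hx.1 hy.1, by rw [c.Bf_add_right, hx.2, hy.2, add_zero]⟩
        neg_mem' := fun {x} hx => by
          rw [show -x = x from neg_eq_of_add_eq_zero_left (c.two_V x)]; exact hx }
    have hK32 : Nat.card ↥K ≤ 32 := by
      have hKU : K ≤ c.U := fun x hx => hx.1
      have hd := AddSubgroup.card_dvd_of_le hKU
      rw [c.card_U] at hd
      obtain ⟨n, hn, hn'⟩ := (Nat.dvd_prime_pow Nat.prime_two).1 hd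
      rw [hn']
      rcases Nat.lt_or_ge n 6 with h | h
      · exact le_trans (Nat.pow_le_pow_right (by norm_num) (Nat.le_of_lt_succ h)) (by norm_num)
      · exfalso
        have e1 : K = c.U := AddSubgroup.eq_of_le_of_card_ge hKU (by
          rw [c.card_U, hn']; exact Nat.pow_le_pow_right (by norm_num) h)
        exact haU (c.perp_U.le (c.mem_perp.2 fun u hu => by rw [c.Bf_symm]; exact (e1.ge hu).2))
    have hLK : c.Li i ≤ K := fun x hx => ⟨c.Li_le_U i hx, by
      exact c.mem_perp.1 hx a haF⟩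
    have hwK : w ∈ K := ⟨hw, hBw⟩
    have hw0K : w0 ∈ K := ⟨c.D_mem_U k a, c.D_orth k a⟩
    have hadd : ∀ {x y : c.Vs}, x + y ∈ c.Li i → y ∈ c.Li i → x ∈ c.Li i := fun {x y} h1 h2 => by
      have := add_mem h1 h2
      rwa [add_assoc, c.two_V, add_zero] at this
    have hd1 : Disjoint (c.Li i : Set c.Vs) ((fun x => w + x) '' (c.Li i : Set c.Vs)) := by
      rw [Set.disjoint_left]
      rintro _ hx ⟨y, hy, rfl⟩
      exact hcon.1 (hadd hx hy)
    have hd2 : Disjoint ((c.Li i : Set c.Vs) ∪ (fun x => w + x) '' (c.Li i : Set c.Vs))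
        ((fun x => w0 + x) '' (c.Li i : Set c.Vs)) := by
      rw [Set.disjoint_left]
      rintro v (hv | ⟨x, hx, rfl⟩) ⟨y, hy, e1⟩
      · subst e1
        exact hw0 (hadd hv hy)
      · refine hcon.2 ?_
        have e2 : w + w0 = x + y := c.add_eq_zero_V (by
          rw [show w + w0 + (x + y) = (w + x) + (w0 + y) by abel,
            show w0 + y = w + x from e1, c.two_V])
        rw [e2]
        exact add_mem hx hy
    have hsub : (c.Li i : Set c.Vs) ∪ (fun x => w + x) '' (c.Li i : Set c.Vs) ∪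
        (fun x => w0 + x) '' (c.Li i : Set c.Vs) ⊆ (K : Set c.Vs) := by
      rintro v ((hv | ⟨x, hx, rfl⟩) | ⟨x, hx, rfl⟩)
      · exact hLK hv
      · exact add_mem hwK (hLK hx)
      · exact add_mem hw0K (hLK hx)
    have h := Set.ncard_le_ncard hsub (Set.toFinite _)
    rw [Set.ncard_union_eq hd2 (Set.toFinite _) (Set.toFinite _), Set.ncard_union_eq hd1 (Set.toFinite _) (Set.toFinite _),
      Set.ncard_image_of_injective _ (add_right_injective w), Set.ncard_image_of_injective _ (add_right_injective w0),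
      ← Nat.card_coe_set_eq, ← Nat.card_coe_set_eq (K : Set c.Vs), SetLike.coe_sort_coe, SetLike.coe_sort_coe,
      c.card_Li hi] at h
    omega
  -- reach the coset
  obtain ⟨h2, hh2, hc2, x, hx, hqx⟩ : ∃ h ∈ c.H, h * c.lv i = c.lv i * h ∧
      ∃ x ∈ c.Li i, q' = c.act h q + x := by
    rcases hchoice with h | h
    · exact ⟨h1, hh1, hc1, w, h, by rw [ha1]; exact hqa⟩
    · refine ⟨c.lv k * h1, mul_mem (c.lv_H k) hh1, ?_, w + w0, h, ?_⟩
      · rw [mul_assoc, hc1, ← mul_assoc, c.L0_comm (c.lv_mem k) (c.lv_mem i), mul_assoc]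
      · rw [c.act_apply_mul (c.lv_H k) hh1, ha1]
        have hk1 : c.act (c.lv k) a = w0 + a := by rw [hw0def, c.D_apply, add_assoc, c.two_V, add_zero]
        rw [hk1, hqa, show w0 + a + (w + w0) = a + w + (w0 + w0) by abel, c.two_V, add_zero]
  obtain ⟨e1eq, e1pv⟩ := hmove h2 hh2 hc2 e he
  set e1 := h2 * e * h2⁻¹ with he1def
  have he1 : e1 ∈ c.E := c.conj_E hh2 he
  obtain ⟨y, hy⟩ := c.D_surj hi hx
  obtain ⟨f, hf, rfl⟩ := c.pv_surj y
  obtain ⟨hcE, hcpv⟩ := c.pv_E_lift hf i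
  set e2 := (f * e1 * f⁻¹) * (f * c.lv i * f⁻¹ * c.lv i) with he2def
  have he2 : e2 ∈ c.E := mul_mem (c.conj_E (c.E_le hf) he1) hcE
  have hfe : f * (e1 * c.lv i) * f⁻¹ = e2 * c.lv i := by
    rw [he2def, mul_assoc (f * e1 * f⁻¹), mul_assoc (f * c.lv i * f⁻¹), c.L0_elementary (c.lv_mem i), mul_one,
      conj_mul]
  have he2pv : c.pv e2 = q' := by
    rw [he2def, c.pv_mul (c.conj_E (c.E_le hf) he1) hcE, hcpv, hy, c.pv_conj (c.E_le hf) he1,
      (c.act_eq_one (c.E_le hf)).2 hf, e1pv, hqx]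
    rfl
  have hbase : f * h2 * (e * c.lv i) * (f * h2)⁻¹ = e2 * c.lv i := by
    rw [show f * h2 * (e * c.lv i) * (f * h2)⁻¹ = f * (h2 * (e * c.lv i) * h2⁻¹) * f⁻¹ by group, e1eq, hfe]
  rcases (c.pv_eq_iff he' he2).1 he2pv.symm with h | h
  · exact ⟨f * h2, mul_mem (c.E_le hf) hh2, by rw [hbase, h]⟩
  -- flip the sign by an element of `Ut`
  obtain ⟨u, hu, hqu⟩ : ∃ u ∈ c.U, c.Bf q' u ≠ 0 := by
    by_contra hcon
    push Not at hcon
    exact hU' (c.perp_U.le (c.mem_perp.2 fun u hu => by rw [c.Bf_symm]; exact hcon u hu))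
  obtain ⟨g, hg, rfl⟩ := c.pv_surj u
  have hflip : g * e2 * g⁻¹ = e2 * z := (c.E_conj_eq hg he2).2 (by rw [c.Bf_symm, he2pv]; exact hqu)
  have hgl : g * c.lv i = c.lv i * g := (c.L0_comm_Ut (c.lv_mem i) ⟨hg, hu⟩).symm
  refine ⟨g * (f * h2), mul_mem (c.E_le hg) (mul_mem (c.E_le hf) hh2), ?_⟩
  rw [show g * (f * h2) * (e * c.lv i) * (g * (f * h2))⁻¹ = g * (f * h2 * (e * c.lv i) * (f * h2)⁻¹) * g⁻¹ by group,
    hbase, (hmove g (c.E_le hg) hgl e2 he2).1, hflip, h, c.comm_z (c.E_le he2)]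

/-- `R` is not conjugate to `I`. -/
theorem not_conj_R_I {k : A} (hk : k ∈ J) (h : ∀ r ∈ R, k * r * k⁻¹ ∈ I) : False := by
  classical
  obtain ⟨g, hg, hgk⟩ := c.exists_C0_im hk
  have hmem : ∀ v ∈ c.U, c.act g⁻¹ v ∈ c.fix (c.L16 R : Set G) := by
    intro v hv
    refine c.mem_fix.2 fun l hl => ?_
    obtain ⟨hl0, hlR, hl32⟩ := (c.mem_L16 c.sixteen_R).1 hl
    have hm : g * l * g⁻¹ ∈ c.L0 := c.mem_L0.2 ⟨mul_mem (mul_mem hg hl0) (inv_mem hg),
      by rw [c.im_conj hg.1 hl0.1, hgk]; exact h _ hlR, by rw [conj_pow, hl32, mul_one, mul_inv_cancel]⟩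
    have e := c.mem_fix_singleton.1 (c.U_le_fix hm hv)
    rw [c.act_apply_mul (mul_mem hg.1 hl0.1) (inv_mem hg.1), c.act_apply_mul hg.1 hl0.1] at e
    have e' := congrArg (c.act g⁻¹) e
    rwa [c.act_inv_apply hg.1] at e'
  let f : ↥c.U → ↥(c.fix (c.L16 R : Set G)) := fun v => ⟨c.act g⁻¹ v, hmem v v.2⟩
  have := Nat.card_le_card_of_injective f fun a b e =>
    Subtype.ext (c.act_injective (inv_mem hg.1) (congrArg Subtype.val e))
  rw [c.card_U, c.card_fix_R] at this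
  norm_num at this

/-- Some involution of this class lies in a conjugate of the core. -/
theorem exists_inner_in_core (hs : c.Split) :
    ∃ (i : ↥I) (g t : G), i ≠ 1 ∧ t ∈ (c.conj g).E ∧ t ∈ c.H ∧ t * t = 1 ∧ c.im t = i ∧
      c.pv (t * c.lv i) ∉ c.U := by
  classical
  haveI := c.finite_A
  by_contra hcon
  push Not at hcon
  obtain ⟨x, ⟨hxU, hxc⟩, hxne⟩ := Set.exists_ne_of_one_lt_ncard (s := {x : G | x ∈ c.Ut ∧ IsConj z x})
    (by rw [hs.card_Ut_conj]; norm_num) z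
  obtain ⟨g, rfl⟩ := isConj_iff.1 hxc
  have hu : g * z * g⁻¹ ∈ c.E := hxU.1
  obtain ⟨⟨jR, hjR, hR⟩, -, hpufix⟩ := c.pair_R hu hxne
  set T := (c.conj g).E ⊓ c.H with hT
  set R' := c.imS T ⊓ J with hR'
  set pu := c.pv (g * z * g⁻¹) with hpu
  have hR'16 : Nat.card ↥R' = 16 := hR.card_eq.trans c.facts.card_R
  have hR'2 : ∀ a ∈ R', a * a = 1 := by
    intro a ha
    have h1 := c.facts.ea_R.2 _ ((hR a).1 ha)
    rw [pow_two, show jR⁻¹ * a * jR * (jR⁻¹ * a * jR) = jR⁻¹ * (a * a) * jR by group] at h1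
    calc a * a = jR * (jR⁻¹ * (a * a) * jR) * jR⁻¹ := by group
      _ = 1 := by rw [h1, mul_one, mul_inv_cancel]
  -- the hexad of each element
  have hhex : ∀ r ∈ R', r ≠ 1 → ∃ j ∈ J, j * r * j⁻¹ ∈ I ∧ ∀ a ∈ R', ∀ b ∈ R',
      j * a * j⁻¹ ∉ I → j * b * j⁻¹ ∉ I → j * (a * b) * j⁻¹ ∈ I := by
    intro r hr hr1
    obtain ⟨y, hy, hy2, hyr⟩ := c.exists_pair_invol hu hxne hr.1 hr1
    obtain ⟨j, hj, hjr⟩ := c.facts.invol_I r hr.2 (orderOf_eq_prime (by rw [pow_two, hR'2 r hr]) hr1)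
    refine ⟨j, hj, hjr, ?_⟩
    obtain ⟨h, hh, hhj⟩ := c.exists_C0_im hj
    set V := c.Uh h⁻¹ with hV
    have hVmem : ∀ v, v ∈ V ↔ c.act h v ∈ c.U := fun v => by rw [hV, c.mem_Uh (inv_mem hh.1), inv_inv]
    set C := (c.conj g).E ⊓ c.E ⊓ centralizer ({y} : Set G) with hC
    set i : ↥I := ⟨j * r * j⁻¹, hjr⟩
    have hi1 : i ≠ 1 := fun e => hr1 (conj_eq_one_iff.1 (congrArg Subtype.val e))
    -- translate into `U`
    have hkey : ∀ k ∈ C, c.pv (h * k * h⁻¹ * (h * y * h⁻¹ * c.lv i)) ∈ c.U := by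
      intro k hk
      have hyk : k * y = y * k := mem_centralizer_singleton_iff.1 hk.2
      have := hcon i (h * g) (h * (k * y) * h⁻¹) hi1 ((c.E_conj_iff (h * g)).2 (by
        rw [show (h * g)⁻¹ * (h * (k * y) * h⁻¹) * (h * g) = g⁻¹ * (k * y) * g by group]
        exact (c.E_conj_iff g).1 (mul_mem hk.1.1 hy.1)))
        (mul_mem (mul_mem hh.1 (mul_mem (c.E_le hk.1.2) hy.2)) (inv_mem hh.1))
        (by rw [conj_mul, show k * y * (k * y) = k * (y * k) * y by group, ← hyk,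
          show k * (k * y) * y = (k * k) * (y * y) by group, c.pair_inf_sq hxne hk.1.2 hk.1.1, hy2, one_mul,
          mul_one, mul_inv_cancel])
        (by rw [c.im_conj hh.1 (mul_mem (c.E_le hk.1.2) hy.2), hhj, c.im_mul (c.E_le hk.1.2) hy.2,
          c.im_E hk.1.2, one_mul, hyr])
      rwa [← conj_mul, mul_assoc] at this
    have hy' : h * y * h⁻¹ * c.lv i ∈ c.E := by
      obtain ⟨e, he, het, -⟩ := c.inner_decomp (t := h * y * h⁻¹) (mul_mem (mul_mem hh.1 hy.2) (inv_mem hh.1))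
        (by rw [conj_mul, hy2, mul_one, mul_inv_cancel]) (i := i) (by rw [c.im_conj hh.1 hy.2, hhj, hyr])
      rw [het, mul_assoc, c.L0_elementary (c.lv_mem i), mul_one]
      exact he
    set S := c.pvS C with hS
    have hSV : ∀ v ∈ S, v ∈ V := by
      rintro _ ⟨k, hk, hkE, rfl⟩
      rw [hVmem, ← c.pv_conj hh.1 hkE]
      have h1 := hkey k hk
      rw [c.pv_mul (c.conj_E hh.1 hkE) hy'] at h1
      have h0 := hkey 1 (one_mem _)
      rw [mul_one, mul_inv_cancel, one_mul] at h0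
      have := add_mem h1 h0
      rwa [add_assoc, c.two_V, add_zero] at this
    have hS32 : 32 ≤ Nat.card ↥S := by
      have h1 : Nat.card ↥C ≤ Nat.card ↥(c.lift (c.pvS C)) :=
        Subgroup.card_le_of_le ((le_inf le_rfl (inf_le_left.trans inf_le_right)).trans (c.inf_E_le_lift C))
      rw [c.card_lift] at h1
      have : 2 ^ 6 ≤ Nat.card ↥C := c.card_pair_centralizer hu hxne hy.1
      rw [← hS] at h1
      omega
    have hVom : ∀ v ∈ V, c.om v ∈ V := fun v hv => c.om_act_U (inv_mem hh.1) hv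
    have hV64 : Nat.card ↥V = 64 := (c.card_Uh (inv_mem hh.1)).trans (by norm_num)
    have htwo : ∀ a ∈ V, ∀ b ∈ V, a ∉ S → b ∉ S → a + b ∈ S := by
      intro a ha b hb haS hbS
      by_contra hab
      have hadd : ∀ {p q : c.Vs}, p + q ∈ S → q ∈ S → p ∈ S := fun {p q} h1 h2 => by
        have := add_mem h1 h2
        rwa [add_assoc, c.two_V, add_zero] at this
      have hd1 : Disjoint (S : Set c.Vs) ((fun v => a + v) '' (S : Set c.Vs)) := by
        rw [Set.disjoint_left]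
        rintro _ hv ⟨w, hw, rfl⟩
        exact haS (hadd hv hw)
      have hd2 : Disjoint ((S : Set c.Vs) ∪ (fun v => a + v) '' (S : Set c.Vs)) ((fun v => b + v) '' (S : Set c.Vs)) := by
        rw [Set.disjoint_left]
        rintro v (hv | ⟨x, hx, rfl⟩) ⟨w, hw, e1⟩
        · subst e1
          exact hbS (hadd hv hw)
        · refine hab ?_
          have e2 : a + b = x + w := c.add_eq_zero_V (by
            rw [show a + b + (x + w) = (a + x) + (b + w) by abel, show b + w = a + x from e1, c.two_V])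
          rw [e2]
          exact add_mem hx hw
      have hsub : (S : Set c.Vs) ∪ (fun v => a + v) '' (S : Set c.Vs) ∪ (fun v => b + v) '' (S : Set c.Vs) ⊆
          (V : Set c.Vs) := by
        rintro v ((hv | ⟨x, hx, rfl⟩) | ⟨x, hx, rfl⟩)
        · exact hSV v hv
        · exact add_mem ha (hSV x hx)
        · exact add_mem hb (hSV x hx)
      have h1 := Set.ncard_le_ncard hsub (Set.toFinite _)
      rw [Set.ncard_union_eq hd2 (Set.toFinite _) (Set.toFinite _),
        Set.ncard_union_eq hd1 (Set.toFinite _) (Set.toFinite _),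
        Set.ncard_image_of_injective _ (add_right_injective a), Set.ncard_image_of_injective _ (add_right_injective b),
        ← Nat.card_coe_set_eq, ← Nat.card_coe_set_eq (V : Set c.Vs), SetLike.coe_sort_coe, SetLike.coe_sort_coe,
        hV64] at h1
      omega
    -- displacements on that subgroup
    have hdis : ∀ x ∈ T, x ∈ c.M → ∀ v ∈ S, (c.act x v + v = 0 ∨ c.act x v + v = pu) ∧
        (c.om v ∈ S → c.act x v + v = 0) := by
      intro x hx hxM v hv
      have hd : ∀ w ∈ S, c.act x w + w = 0 ∨ c.act x w + w = pu := by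
        rintro _ ⟨k, hk, hkE, rfl⟩
        rcases (c.conj g).comm_E hx.1 hk.1.1 with e | e
        · left
          rw [← c.pv_conj hx.2 hkE, e, mul_inv_cancel_right, c.two_V]
        · right
          rw [← c.pv_conj hx.2 hkE, e, show g * z * g⁻¹ * (k * x) * x⁻¹ = g * z * g⁻¹ * k by group,
            c.pv_mul hu hkE, add_assoc, c.two_V, add_zero]
      refine ⟨hd v hv, fun hov => ?_⟩
      rcases hd v hv with e | e
      · exact e
      · rcases hd _ hov with e' | e'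
        · rw [c.om_M hxM, ← map_add, e] at e'
          rw [e, c.om_injective (e'.trans (map_zero c.om).symm)]
        · rw [c.om_M hxM, ← map_add, e] at e'
          rw [e, c.om_fixed e']
    have hfixV : ∀ x ∈ c.H, x ∈ c.M → (∀ v ∈ S, c.act x v = v) → j * c.im x * j⁻¹ ∈ I := by
      intro x hxH hxM hfix
      have hall : ∀ v ∈ V, c.act x v = v := by
        intro v hv
        by_cases hvS : v ∈ S
        · exact hfix v hvS
        obtain ⟨s, hs', hos⟩ : ∃ s ∈ S, c.om s ∉ S := by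
          by_contra hc
          push Not at hc
          have h3 := c.card_om_invariant S hc
          have h2 := AddSubgroup.card_dvd_of_le (show S ≤ V from hSV)
          rw [hV64] at h2
          have hS64 : Nat.card ↥S = 64 := by
            have hle := Nat.le_of_dvd (by norm_num) h2
            interval_cases hn : Nat.card ↥S <;> omega
          exact hvS ((AddSubgroup.eq_of_le_of_card_ge (show S ≤ V from hSV) (by rw [hS64, hV64])).ge hv)
        have h1 := hfix _ (htwo v hv _ (hVom s (hSV s hs')) hvS hos)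
        rw [map_add, c.om_M hxM, hfix s hs'] at h1
        exact add_right_cancel h1
      have := c.im_mem_of_fix_U_any (x := h * x * h⁻¹) (mul_mem (mul_mem hh.1 hxH) (inv_mem hh.1)) fun v hv => by
        rw [c.act_apply_mul (mul_mem hh.1 hxH) (inv_mem hh.1), c.act_apply_mul hh.1 hxH,
          hall _ ((hVmem _).2 (by rwa [c.act_apply_inv hh.1])), c.act_apply_inv hh.1]
      rwa [c.im_conj hh.1 hxH, hhj] at this
    intro a ha b hb haI hbI
    obtain ⟨xa, hxa, hxai⟩ := (c.mem_imS inf_le_right).1 ha.1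
    obtain ⟨xb, hxb, hxbi⟩ := (c.mem_imS inf_le_right).1 hb.1
    have haM : xa ∈ c.M := (c.mem_M_iff_im hxa.2).2 (hxai.symm ▸ ha.2)
    have hbM : xb ∈ c.M := (c.mem_M_iff_im hxb.2).2 (hxbi.symm ▸ hb.2)
    have hmoves : ∀ x ∈ T, x ∈ c.M → j * c.im x * j⁻¹ ∉ I → ∀ v ∈ S, c.om v ∉ S → c.act x v + v = pu := by
      intro x hx hxM hxI v hv hov
      refine (hdis x hx hxM v hv).1.resolve_left fun e0 => hxI (hfixV x hx.2 hxM fun w hw => ?_)
      by_cases how : c.om w ∈ S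
      · exact c.add_eq_zero_V ((hdis x hx hxM w hw).2 how)
      · have hom : c.om (v + w) ∈ S := by
          rw [map_add]; exact htwo _ (hVom v (hSV v hv)) _ (hVom w (hSV w hw)) hov how
        have e1 := (hdis x hx hxM _ (add_mem hv hw)).2 hom
        rw [map_add, add_add_add_comm, e0, zero_add] at e1
        exact c.add_eq_zero_V e1
    have := hfixV (xa * xb) (mul_mem hxa.2 hxb.2) (mul_mem haM hbM) fun v hv => by
      rw [c.act_apply_mul hxa.2 hxb.2]
      by_cases hov : c.om v ∈ S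
      · rw [c.add_eq_zero_V ((hdis xb hxb hbM v hv).2 hov), c.add_eq_zero_V ((hdis xa hxa haM v hv).2 hov)]
      · have ea := hmoves xa hxa haM (hxai.symm ▸ haI) v hv hov
        have eb := hmoves xb hxb hbM (hxbi.symm ▸ hbI) v hv hov
        have eb' : c.act xb v = pu + v := by rw [← eb, add_assoc, c.two_V, add_zero]
        have ea' : c.act xa v = pu + v := by rw [← ea, add_assoc, c.two_V, add_zero]
        rw [eb', map_add, c.mem_fix.1 hpufix xa hxa, ea', ← add_assoc, c.two_V, zero_add]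
    rwa [c.im_mul hxa.2 hxb.2, hxai, hxbi] at this
  -- all hexads coincide
  obtain ⟨r0, hr0, hr01⟩ : ∃ r ∈ R', r ≠ 1 := by
    by_contra hc
    push Not at hc
    rw [(Subgroup.eq_bot_iff_forall R').2 hc, Subgroup.card_bot] at hR'16
    norm_num at hR'16
  obtain ⟨j0, hj0, hj0r, hpair0⟩ := hhex r0 hr0 hr01
  refine c.not_conj_R_I (k := j0 * jR) (mul_mem hj0 hjR) fun r hr => ?_
  have hr' : jR * r * jR⁻¹ ∈ R' := (hR _).2 (by rwa [show jR⁻¹ * (jR * r * jR⁻¹) * jR = r by group])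
  rw [show j0 * jR * r * (j0 * jR)⁻¹ = j0 * (jR * r * jR⁻¹) * j0⁻¹ by group]
  set a := jR * r * jR⁻¹
  by_cases ha1 : a = 1
  · rw [ha1, mul_one, mul_inv_cancel]; exact one_mem _
  obtain ⟨j, hj, hja, hpair⟩ := hhex a hr' ha1
  by_contra haI
  -- a common element
  haveI : Fintype ↥R' := Fintype.ofFinite _
  let cl : ↥R' → Bool × Bool := fun x => (decide (j0 * (x : A) * j0⁻¹ ∈ I), decide (j * (x : A) * j⁻¹ ∈ I))
  obtain ⟨x, y, hxy, hcl⟩ := Fintype.exists_ne_map_eq_of_card_lt cl (by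
    rw [← Nat.card_eq_fintype_card (α := ↥R'), hR'16, Fintype.card_prod, Fintype.card_bool]; norm_num)
  have hboth : ∀ k : A, (∀ p ∈ R', ∀ q ∈ R', k * p * k⁻¹ ∉ I → k * q * k⁻¹ ∉ I → k * (p * q) * k⁻¹ ∈ I) →
      decide (k * (x : A) * k⁻¹ ∈ I) = decide (k * (y : A) * k⁻¹ ∈ I) → k * ((x : A) * y) * k⁻¹ ∈ I := by
    intro k hk hkxy
    by_cases hx : k * (x : A) * k⁻¹ ∈ I
    · have hy : k * (y : A) * k⁻¹ ∈ I := by simpa [hx] using hkxy.symm
      have := mul_mem hx hy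
      rwa [conj_mul] at this
    · have hy : k * (y : A) * k⁻¹ ∉ I := fun h => hx (by simpa [h] using hkxy)
      exact hk x x.2 y y.2 hx hy
  have h0 := hboth j0 hpair0 (congrArg Prod.fst hcl)
  have h1 := hboth j hpair (congrArg Prod.snd hcl)
  have hb1 : (x : A) * y ≠ 1 := fun e => hxy (Subtype.ext (by
    calc (x : A) = x * (y * y) := by rw [hR'2 y y.2, mul_one]
      _ = x * y * y := (mul_assoc _ _ _).symm
      _ = y := by rw [e, one_mul]))
  have hn := c.normalizer_of_inv (a := ⟨_, h0⟩) (fun e => hb1 (conj_eq_one_iff.1 (congrArg Subtype.val e)))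
    (g := j0 * j⁻¹) (by
      show (j0 * j⁻¹)⁻¹ * (j0 * ((x : A) * y) * j0⁻¹) * (j0 * j⁻¹) ∈ I
      rwa [show (j0 * j⁻¹)⁻¹ * (j0 * ((x : A) * y) * j0⁻¹) * (j0 * j⁻¹) = j * ((x : A) * y) * j⁻¹ by group])
  refine haI ?_
  have := (mem_normalizer_iff.1 hn (j * a * j⁻¹)).1 hja
  rwa [show j0 * j⁻¹ * (j * a * j⁻¹) * (j0 * j⁻¹)⁻¹ = j0 * a * j0⁻¹ by group] at this

/-- Inner involutions are tame. -/
theorem tame_inner (hs : c.Split) (he : Extra J I R) {t : G} (ht : t ∈ c.H) (ht2 : t * t = 1)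
    (hJ : c.im t ∈ J) (h1 : c.im t ≠ 1) : c.Tame t := by
  haveI := c.finite_A
  obtain ⟨i, g, t0, hi, ht0E, ht0, ht02, ht0i, ht0U⟩ := c.exists_inner_in_core hs
  have hta : c.im t * c.im t = 1 := by rw [← c.im_mul ht ht, ht2, c.im_one]
  obtain ⟨j, hj, hjt⟩ := c.facts.invol_I _ hJ (orderOf_eq_prime (by rw [pow_two, hta]) h1)
  obtain ⟨k, hk, -, hkij⟩ := c.facts.I_trans _ hjt _ i.2 (fun e => h1 (conj_eq_one_iff.1 e))
    (fun e => hi (Subtype.ext e))
  obtain ⟨h, hh, hhi⟩ := c.exists_C0_im (mul_mem hk hj)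
  refine c.tame_conj (g := h) ?_
  set t1 := h * t * h⁻¹
  have ht1 : t1 ∈ c.H := mul_mem (mul_mem hh.1 ht) (inv_mem hh.1)
  have ht12 : t1 * t1 = 1 := by rw [conj_mul, ht2, mul_one, mul_inv_cancel]
  have ht1i : c.im t1 = i := by
    rw [c.im_conj hh.1 ht, hhi, ← hkij]; group
  obtain ⟨e, hee, het, heF, he2⟩ := c.inner_decomp ht1 ht12 ht1i
  by_cases hU : c.pv e ∈ c.U
  · exact Or.inr ⟨1, by rw [one_mul, inv_one, mul_one, het]; exact mul_mem (c.Ut_sub_W ⟨hee, hU⟩) (c.lv_mem_W' i)⟩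
  obtain ⟨e0, he0, het0, heF0, he02⟩ := c.inner_decomp ht0 ht02 ht0i
  have hU0 : c.pv e0 ∉ c.U := by
    rwa [het0, mul_assoc, c.L0_elementary (c.lv_mem i), mul_one] at ht0U
  obtain ⟨m, -, hm⟩ := c.inner_class hi hee he0 heF heF0 ((c.Sf_sq hee).2 he2) ((c.Sf_sq he0).2 he02) hU hU0
  refine c.tame_conj (g := m) ?_
  rw [het, hm, ← het0]
  exact c.tame_conj_E hs he ht0E ht02

end CfsgLib.Spor.JFourType.Ctx
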