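import Cfsg.Agent.Lib.Spor.JFourType.InvolCore

/-!
# Involutions in a conjugate of the core

For a conjugate `u = g z g⁻¹` in the core, the part in `H` of the core at `u` has an involution over each of its
images; multiplied by `z`, or by the elements of the common part commuting with it, it stays there.
-/

set_option autoImplicit false
set_option linter.style.haveILetI false

namespace CfsgLib.Spor.JFourType.Ctx

open Subgroup

universe u

variable {G : Type u} [Group G] [Finite G] {A : Type} [Group A] {J I R : Subgroup A}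
  {z : G} {P : Subgroup G} (c : Ctx J I R z P)
include c

/-- The common part of the two cores has square one. -/
theorem pair_inf_sq {g : G} (hne : g * z * g⁻¹ ≠ z) {e : G} (he : e ∈ c.E) (he' : e ∈ (c.conj g).E) : e * e = 1 := by
  rcases c.sq_E he with h | h
  · exact h
  rcases (c.conj g).sq_E he' with h' | h'
  · exact h'
  · exact absurd (h'.symm.trans h) hne

/-- An element of the core at `u` commutes with `u` and has square `1` or `u`. -/
theorem pair_elem {g : G} {t : G} (ht : t ∈ (c.conj g).E) :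
    t * (g * z * g⁻¹) = g * z * g⁻¹ * t ∧ (t * t = 1 ∨ t * t = g * z * g⁻¹) :=
  ⟨(c.conj g).comm_z ((c.conj g).E_le ht), (c.conj g).sq_E ht⟩

/-- Over each image there is an involution. -/
theorem exists_pair_invol {g : G} (hu : g * z * g⁻¹ ∈ c.E) (hne : g * z * g⁻¹ ≠ z) {a : A}
    (ha : a ∈ c.imS ((c.conj g).E ⊓ c.H)) (ha1 : a ≠ 1) :
    ∃ y, y ∈ (c.conj g).E ⊓ c.H ∧ y * y = 1 ∧ c.im y = a := by
  haveI := c.finite_A
  obtain ⟨t, ht, hti⟩ := (c.mem_imS inf_le_right).1 ha
  obtain ⟨htu, h | h⟩ := c.pair_elem ht.1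
  · exact ⟨t, ht, h, hti⟩
  set B : Subgroup G := (c.conj g).E ⊓ c.E with hB
  obtain ⟨e, heB, hne'⟩ : ∃ e ∈ B, t * e ≠ e * t := by
    by_contra hcon
    push Not at hcon
    set S := closure ((B : Set G) ∪ {t}) with hS
    have hgen : (B : Set G) ∪ {t} ⊆ (c.conj g).E := by
      rintro y (hy | rfl)
      exacts [hy.1, ht.1]
    have hcomm : ∀ a ∈ S, ∀ b ∈ S, a * b = b * a := by
      haveI : IsMulCommutative ↥S := Subgroup.isMulCommutative_closure (by
        rintro a (ha | rfl) b (hb | rfl)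
        · exact c.pair_comm hne ha.2 ha.1 hb.2 hb.1
        · exact (hcon a ha).symm
        · exact hcon b hb
        · rfl)
      exact fun a ha b hb => congrArg Subtype.val (IsMulCommutative.is_comm.comm (⟨a, ha⟩ : ↥S) ⟨b, hb⟩)
    have hlt : B < S := by
      refine lt_of_le_of_ne (fun y hy => subset_closure (Or.inl hy)) fun e => ha1 ?_
      have htE : t ∈ B := e ▸ subset_closure (Or.inr rfl)
      rw [← hti, c.im_E htE.2]
    have hS7 : Nat.card ↥S ≤ 2 ^ 7 := (c.conj g).card_abelian_E ((closure_le _).2 hgen) hcomm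
    have hB7 := c.card_pair_inf hu hne
    rw [← hB] at hB7
    exact hlt.ne (eq_of_le_of_card_ge hlt.le (by rw [hB7]; exact hS7))
  have heq : t * e = g * z * g⁻¹ * (e * t) := ((c.conj g).comm_E ht.1 heB.1).resolve_left hne'
  have he2 := c.pair_inf_sq hne heB.2 heB.1
  have huu : (g * z * g⁻¹) * (g * z * g⁻¹) = 1 := by
    rw [show g * z * g⁻¹ * (g * z * g⁻¹) = g * (z * z) * g⁻¹ by group, c.zz, mul_one, mul_inv_cancel]
  refine ⟨t * e, ⟨mul_mem ht.1 heB.1, mul_mem ht.2 (c.E_le heB.2)⟩, ?_,
    by rw [c.im_mul ht.2 (c.E_le heB.2), c.im_E heB.2, mul_one, hti]⟩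
  have het : e * t = g * z * g⁻¹ * (t * e) := by rw [heq, ← mul_assoc, huu, one_mul]
  calc t * e * (t * e) = t * (e * t) * e := by group
    _ = t * (g * z * g⁻¹ * (t * e)) * e := by rw [het]
    _ = (t * (g * z * g⁻¹)) * t * (e * e) := by group
    _ = g * z * g⁻¹ * (t * t) * (e * e) := by rw [htu]; group
    _ = 1 := by rw [h, he2, huu, mul_one]

/-- The common part commuting with a given element has index at most two. -/
theorem card_pair_centralizer {g : G} (hu : g * z * g⁻¹ ∈ c.E) (hne : g * z * g⁻¹ ≠ z) {y : G}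
    (hy : y ∈ (c.conj g).E) :
    2 ^ 6 ≤ Nat.card ↥((c.conj g).E ⊓ c.E ⊓ centralizer ({y} : Set G) : Subgroup G) := by
  classical
  set B : Subgroup G := (c.conj g).E ⊓ c.E
  by_cases hall : ∀ e ∈ B, e * y = y * e
  · have hle : B ≤ B ⊓ centralizer ({y} : Set G) := fun e he => ⟨he, mem_centralizer_singleton_iff.2 (hall e he)⟩
    have := Subgroup.card_le_of_le hle
    rw [c.card_pair_inf hu hne] at this
    exact le_trans (by norm_num) this
  push Not at hall
  obtain ⟨f, hf, hfy⟩ := hall
  have hflip : ∀ e ∈ B, e * y ≠ y * e → e * y * e⁻¹ = g * z * g⁻¹ * y := fun e he h => by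
    rw [((c.conj g).comm_E he.1 hy).resolve_left h]; group
  have hmem : ∀ e : ↥B, (e : G) * y ≠ y * e → f⁻¹ * (e : G) ∈ B ⊓ centralizer ({y} : Set G) := fun e h => by
    refine ⟨(show f⁻¹ * (e : G) ∈ B from mul_mem (inv_mem hf) e.2), mem_centralizer_singleton_iff.2 (mul_inv_eq_iff_eq_mul.1 ?_)⟩
    calc f⁻¹ * e * y * (f⁻¹ * (e : G))⁻¹ = f⁻¹ * ((e : G) * y * (e : G)⁻¹) * f := by group
      _ = y := by rw [hflip e e.2 h, ← hflip f hf hfy]; group
  let Φ : ↥B → Fin 2 × ↥(B ⊓ centralizer ({y} : Set G) : Subgroup G) := fun e =>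
    if h : (e : G) * y = y * e then (0, ⟨e, e.2, mem_centralizer_singleton_iff.2 h⟩) else (1, ⟨f⁻¹ * e, hmem e h⟩)
  have hΦ : Function.Injective Φ := by
    intro x x' h
    by_cases hx : (x : G) * y = y * x <;> by_cases hy' : (x' : G) * y = y * x' <;>
      simp only [Φ, hx, hy', dite_true, dite_false, Prod.mk.injEq, zero_ne_one, one_ne_zero, false_and, true_and] at h
    · exact Subtype.ext (congrArg Subtype.val h :)
    · exact Subtype.ext (mul_left_cancel (congrArg Subtype.val h :))
  have := Nat.card_le_card_of_injective Φ hΦ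
  rw [Nat.card_prod, Nat.card_fin, c.card_pair_inf hu hne] at this
  omega

/-- An involution of a conjugate of the core is tame. -/
theorem tame_conj_E (hs : c.Split) (he : Extra J I R) {g t : G} (ht : t ∈ (c.conj g).E) (ht2 : t * t = 1) :
    c.Tame t := by
  refine c.tame_conj (g := g⁻¹) (c.tame_E hs he ?_ ?_)
  · rw [inv_inv]; exact (c.E_conj_iff g).1 ht
  · rw [conj_mul, ht2, mul_one, mul_inv_cancel]

end CfsgLib.Spor.JFourType.Ctx
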