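import Cfsg.Agent.Lib.Spor.JFourType.SplitDef

/-!
# No invariant complement to `z` in `L0`

Such a complement gives a hyperplane of `W` missing `z`; double counting the pairs formed by a conjugate of this
hyperplane and a conjugate of `z` outside it is impossible. The consequences are `z ∈ [C0, C0]`, three conjugates
of `z` forming a four group in `L0`, and the perfectness of `C0`.
-/

set_option autoImplicit false
set_option linter.style.haveILetI false

namespace CfsgLib.Spor.JFourType.Ctx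

open Subgroup

universe u

variable {G : Type u} [Group G] [Finite G] {A : Type} [Group A] {J I R : Subgroup A}
  {z : G} {P : Subgroup G} (c : Ctx J I R z P)
include c

theorem Ut_conj {g : G} (hg : g ∈ c.C0) (hn : c.im g ∈ normalizer (I : Set A)) {u : G} (hu : u ∈ c.Ut) :
    g * u * g⁻¹ ∈ c.Ut :=
  ⟨c.conj_E hg.1 hu.1, by rw [c.pv_conj hg.1 hu.1]; exact c.U_conj hg hn hu.2⟩

theorem normalizes_W {g : G} (hg : g ∈ c.C0) (hn : c.im g ∈ normalizer (I : Set A)) :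
    g ∈ normalizer (c.W : Set G) := by
  refine mem_normalizer_fintype fun x hx => ?_
  obtain ⟨u, hu, l, hl, rfl⟩ := c.mem_W.1 hx
  show g * (u * l) * g⁻¹ ∈ c.W
  rw [show g * (u * l) * g⁻¹ = g * u * g⁻¹ * (g * l * g⁻¹) by group]
  exact c.mem_W.2 ⟨_, c.Ut_conj hg hn hu, _, c.L0_conj hg hn hl, rfl⟩

theorem E_normalizes_W {e : G} (he : e ∈ c.E) : e ∈ normalizer (c.W : Set G) := by
  refine mem_normalizer_fintype fun x hx => ?_
  obtain ⟨u, hu, l, hl, rfl⟩ := c.mem_W.1 hx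
  show e * (u * l) * e⁻¹ ∈ c.W
  have h1 : e * u * e⁻¹ ∈ c.Ut := by
    refine ⟨c.conj_E (c.E_le he) hu.1, ?_⟩
    rw [c.pv_conj (c.E_le he) hu.1, (c.act_eq_one (c.E_le he)).2 he]
    exact hu.2
  have hlH := (c.L0_le hl).1
  have h2 : e * l * e⁻¹ * l⁻¹ ∈ c.Ut := by
    have hm : l * e⁻¹ * l⁻¹ ∈ c.E := c.conj_E hlH (inv_mem he)
    rw [show e * l * e⁻¹ * l⁻¹ = e * (l * e⁻¹ * l⁻¹) by group]
    refine ⟨mul_mem he hm, c.perp_U.le (c.perp_anti (c.U_le_fix hl) ?_)⟩
    rw [c.pv_mul he hm, c.pv_conj hlH (inv_mem he), c.pv_inv he, add_comm]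
    exact c.displacement_mem hlH _
  rw [show e * (u * l) * e⁻¹ = e * u * e⁻¹ * (e * l * e⁻¹ * l⁻¹) * l by group]
  exact c.mem_W.2 ⟨_, mul_mem h1 h2, l, hl, rfl⟩

theorem z_mem_W : z ∈ c.W := mem_sup_right c.z_mem_L0

theorem z_mem_Ut : z ∈ c.Ut := c.z_mem_lift _

theorem im_of_W {x : G} (hx : x ∈ c.W) : c.im x ∈ I := by
  obtain ⟨u, hu, l, hl, rfl⟩ := c.mem_W.1 hx
  rw [c.im_mul (c.E_le hu.1) (c.L0_le hl).1, c.im_E hu.1, one_mul]
  exact (c.mem_L0.1 hl).2.1

theorem mem_Ut_of_im {x : G} (hx : x ∈ c.W) (h : c.im x = 1) : x ∈ c.Ut := by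
  obtain ⟨u, hu, l, hl, rfl⟩ := c.mem_W.1 hx
  rw [c.im_mul (c.E_le hu.1) (c.L0_le hl).1, c.im_E hu.1, one_mul] at h
  rcases c.L0_ker hl h with rfl | rfl
  · rwa [mul_one]
  · exact mul_mem hu c.z_mem_Ut

/-- The commutators of the generator of `P` with `Ut`. -/
noncomputable def Tc : Subgroup G where
  carrier := {x | ∃ u ∈ c.Ut, x = c.pg * u * c.pg⁻¹ * u⁻¹}
  one_mem' := ⟨1, one_mem _, by group⟩
  mul_mem' := by
    rintro _ _ ⟨u, hu, rfl⟩ ⟨v, hv, rfl⟩
    refine ⟨u * v, mul_mem hu hv, ?_⟩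
    have hv' : c.pg * v * c.pg⁻¹ ∈ c.Ut :=
      c.Ut_conj c.pg_C0 (by rw [c.im_eq c.pg_H, c.pr_P c.pg_mem]; exact one_mem _) hv
    calc c.pg * u * c.pg⁻¹ * u⁻¹ * (c.pg * v * c.pg⁻¹ * v⁻¹)
        = c.pg * u * c.pg⁻¹ * (u⁻¹ * (c.pg * v * c.pg⁻¹)) * v⁻¹ := by group
      _ = c.pg * (u * v) * c.pg⁻¹ * (u⁻¹ * v⁻¹) := by rw [c.Ut_comm (inv_mem hu) hv']; group
      _ = _ := by rw [c.Ut_comm (inv_mem hu) (inv_mem hv), mul_inv_rev]
  inv_mem' := by
    rintro _ ⟨u, hu, rfl⟩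
    refine ⟨u⁻¹, inv_mem hu, ?_⟩
    have hu' : c.pg * u * c.pg⁻¹ ∈ c.Ut :=
      c.Ut_conj c.pg_C0 (by rw [c.im_eq c.pg_H, c.pr_P c.pg_mem]; exact one_mem _) hu
    rw [mul_inv_rev, c.Ut_comm (inv_mem (inv_mem hu)) (inv_mem hu')]
    group

theorem Tc_le : c.Tc ≤ c.Ut := by
  rintro _ ⟨u, hu, rfl⟩
  exact mul_mem (c.Ut_conj c.pg_C0 (by rw [c.im_eq c.pg_H, c.pr_P c.pg_mem]; exact one_mem _) hu) (inv_mem hu)

theorem z_notMem_Tc : z ∉ c.Tc := by
  rintro ⟨u, hu, h⟩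
  have h1 : c.pg * u * c.pg⁻¹ = z * u := (eq_mul_inv_iff_mul_eq.1 h).symm
  have h2 : c.om (c.pv u) = c.pv u := by
    show c.act c.pg (c.pv u) = _
    rw [← c.pv_conj c.pg_H hu.1, h1, c.pv_mul c.z_mem_E hu.1, c.pv_z, zero_add]
  have h3 : c.pg * u = u * c.pg := by
    rcases (c.pv_eq_zero hu.1).1 (c.om_fixed h2) with h4 | h4 <;> rw [h4]
    · group
    · exact c.comm_z c.pg_H
  rw [h3, mul_inv_cancel_right, mul_inv_cancel] at h
  exact c.z_ne h

theorem Ut_split {u : G} (hu : u ∈ c.Ut) : u ∈ c.Tc ∨ u * z ∈ c.Tc := by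
  obtain ⟨f, hf, hfv⟩ := c.pv_surj (c.om (c.pv u))
  have hfU : f ∈ c.Ut := ⟨hf, hfv ▸ c.U_om hu.2⟩
  have hT : c.pg * f * c.pg⁻¹ * f⁻¹ ∈ c.Tc := ⟨f, hfU, rfl⟩
  have hgv : c.pv (c.pg * f * c.pg⁻¹ * f⁻¹) = c.pv u := by
    rw [c.pv_mul (c.conj_E c.pg_H hf) (inv_mem hf), c.pv_inv hf, c.pv_conj c.pg_H hf, hfv]
    show c.om (c.om (c.pv u)) + c.om (c.pv u) = c.pv u
    rw [c.om_two, add_assoc, c.two_V, add_zero]
  rcases (c.pv_eq_iff hu.1 (c.Tc_le hT).1).1 hgv.symm with h | h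
  · exact Or.inl (h ▸ hT)
  · refine Or.inr ?_
    rwa [c.comm_z (c.E_le hu.1), h, ← mul_assoc, c.zz, one_mul]

theorem Tc_conj {g : G} (hg : g ∈ c.C0) (hn : c.im g ∈ normalizer (I : Set A)) {t : G} (ht : t ∈ c.Tc) :
    g * t * g⁻¹ ∈ c.Tc := by
  obtain ⟨u, hu, rfl⟩ := ht
  refine ⟨g * u * g⁻¹, c.Ut_conj hg hn hu, ?_⟩
  have h : g * c.pg = c.pg * g := (c.comm_P hg c.pg_mem).symm
  have h1 : g * c.pg * g⁻¹ = c.pg := mul_inv_eq_iff_eq_mul.2 h
  calc g * (c.pg * u * c.pg⁻¹ * u⁻¹) * g⁻¹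
      = (g * c.pg * g⁻¹) * (g * u * g⁻¹) * (g * c.pg * g⁻¹)⁻¹ * (g * u * g⁻¹)⁻¹ := by group
    _ = _ := by rw [h1]

/-- A subgroup of index at most two in `W`. -/
def Half (_ : Ctx J I R z P) (K W : Subgroup G) : Prop :=
  K ≤ W ∧ ∀ x ∈ W, ∀ y ∈ W, x ∉ K → y ∉ K → x * y ∈ K

/-- The number of halves of `W` is at most `2 ^ 11`. -/
theorem card_half (S : Finset (Subgroup G)) (hS : ∀ K ∈ S, c.Half K c.W) : S.card ≤ 2 ^ 11 := by
  classical
  haveI : IsMulCommutative ↥c.W := c.W_elementary.1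
  letI : CommGroup ↥c.W := { (inferInstance : Group ↥c.W) with mul_comm := fun a b => mul_comm' a b }
  letI : Module (ZMod 2) (Additive ↥c.W) := AddCommGroup.zmodModule fun v => by
    rw [two_nsmul]
    apply Additive.toMul.injective
    exact Subtype.ext (c.W_sq (Additive.toMul v).2)
  let f : ↥S → (Additive ↥c.W →+ ZMod 2) := fun K =>
    AddMonoidHom.mk' (fun x => if ((Additive.toMul x : ↥c.W) : G) ∈ (K : Subgroup G) then 0 else 1) fun x y => by
      obtain ⟨hKW, hK⟩ := hS K K.2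
      set a := ((Additive.toMul x : ↥c.W) : G)
      set b := ((Additive.toMul y : ↥c.W) : G)
      change (if a * b ∈ (K : Subgroup G) then (0 : ZMod 2) else 1) =
        (if a ∈ (K : Subgroup G) then 0 else 1) + (if b ∈ (K : Subgroup G) then 0 else 1)
      by_cases ha : a ∈ (K : Subgroup G) <;> by_cases hb : b ∈ (K : Subgroup G)
      · rw [if_pos ha, if_pos hb, if_pos (mul_mem ha hb), add_zero]
      · rw [if_pos ha, if_neg hb, if_neg (fun h => hb ((mul_mem_cancel_left ha).1 h)), zero_add]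
      · rw [if_neg ha, if_pos hb, if_neg (fun h => ha ((mul_mem_cancel_right hb).1 h)), add_zero]
      · rw [if_neg ha, if_neg hb, if_pos (hK a (Additive.toMul x).2 b (Additive.toMul y).2 ha hb)]
        decide
  have hf : Function.Injective f := by
    rintro ⟨K, hK⟩ ⟨K', hK'⟩ h
    refine Subtype.ext (Subgroup.ext fun x => ?_)
    constructor <;> intro hx
    · have e := DFunLike.congr_fun h (Additive.ofMul ⟨x, (hS K hK).1 hx⟩)
      by_contra hx'
      simp [f, hx, hx'] at e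
    · have e := DFunLike.congr_fun h (Additive.ofMul ⟨x, (hS K' hK').1 hx⟩)
      by_contra hx'
      simp [f, hx, hx'] at e
  let g : (Additive ↥c.W →+ ZMod 2) → (Additive ↥c.W →ₗ[ZMod 2] ZMod 2) := fun φ => φ.toZModLinearMap 2
  have hg : Function.Injective g := fun φ ψ h => AddMonoidHom.ext fun x => DFunLike.congr_fun h x
  haveI : Finite (Additive ↥c.W →ₗ[ZMod 2] ZMod 2) := DFunLike.finite _
  have h := Nat.card_le_card_of_injective (g ∘ f) (hg.comp hf)
  rw [Nat.card_eq_fintype_card, Fintype.card_coe, Module.natCard_eq_pow_finrank (K := ZMod 2), Nat.card_zmod,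
    Module.finrank_linearMap, Module.finrank_self, mul_one] at h
  have hW : Nat.card (Additive ↥c.W) = 2 ^ Module.finrank (ZMod 2) (Additive ↥c.W) := by
    rw [Module.natCard_eq_pow_finrank (K := ZMod 2), Nat.card_zmod]
  rwa [← hW, show Nat.card (Additive ↥c.W) = Nat.card ↥c.W from Nat.card_congr Additive.toMul, c.card_W] at h

/-- The elements of `W` outside a subgroup meeting each pair `x, x * z` once are half of an invariant set. -/
theorem two_mul_outside (S : Finset G) (K : Subgroup G) [DecidablePred (· ∈ K)]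
    (hz : ∀ x ∈ S, x * z ∈ S) (hxor : ∀ x ∈ S, x ∈ K ↔ x * z ∉ K) :
    2 * (S.filter fun x => x ∉ K).card = S.card := by
  have h := S.card_filter_add_card_filter_not (fun x => x ∈ K)
  have e : (S.filter fun x => x ∈ K).card = (S.filter fun x => x ∉ K).card := by
    refine Finset.card_bij' (fun x _ => x * z) (fun x _ => x * z) ?_ ?_ ?_ ?_
    · intro x hx
      rw [Finset.mem_filter] at hx ⊢
      exact ⟨hz x hx.1, (hxor x hx.1).1 hx.2⟩
    · intro x hx
      rw [Finset.mem_filter] at hx ⊢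
      refine ⟨hz x hx.1, (hxor _ (hz x hx.1)).2 ?_⟩
      rw [mul_assoc, c.zz, mul_one]
      exact hx.2
    · intro x _
      rw [mul_assoc, c.zz, mul_one]
    · intro x _
      rw [mul_assoc, c.zz, mul_one]
  omega

/-- The conjugate of a subgroup under an element. -/
def conjSub (_ : Ctx J I R z P) (n : G) (K : Subgroup G) : Subgroup G := K.comap (MulAut.conj n⁻¹).toMonoidHom

omit [Finite G] in
theorem mem_conjSub {n x : G} {K : Subgroup G} : x ∈ c.conjSub n K ↔ n⁻¹ * x * n ∈ K := by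
  show n⁻¹ * x * n⁻¹⁻¹ ∈ K ↔ _
  rw [inv_inv]

omit [Finite G] in
theorem conjSub_one (K : Subgroup G) : c.conjSub 1 K = K := by
  ext x; rw [c.mem_conjSub, inv_one, one_mul, mul_one]

omit [Finite G] in
theorem conjSub_mul (m n : G) (K : Subgroup G) : c.conjSub m (c.conjSub n K) = c.conjSub (m * n) K := by
  ext x; simp only [c.mem_conjSub]; rw [show (m * n)⁻¹ * x * (m * n) = n⁻¹ * (m⁻¹ * x * m) * n by group]

omit [Finite G] in
theorem half_conjSub {K W : Subgroup G} {n : G} (hn : n ∈ normalizer (W : Set G)) (h : c.Half K W) :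
    c.Half (c.conjSub n K) W := by
  have hW : ∀ x, x ∈ W ↔ n⁻¹ * x * n ∈ W := fun x => by
    rw [mem_normalizer_iff.1 hn (n⁻¹ * x * n), show n * (n⁻¹ * x * n) * n⁻¹ = x by group]
  refine ⟨fun x hx => (hW x).2 (h.1 (c.mem_conjSub.1 hx)), fun x hx y hy hx' hy' => ?_⟩
  rw [c.mem_conjSub] at hx' hy' ⊢
  rw [show n⁻¹ * (x * y) * n = n⁻¹ * x * n * (n⁻¹ * y * n) by group]
  exact h.2 _ ((hW x).1 hx) _ ((hW y).1 hy) hx' hy'

/-- The stabilizer in `E` of a half missing `z` is `Ut`. -/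
theorem half_stab {K : Subgroup G} (hK : c.Half K c.W) (hz : z ∉ K) {e : G} (he : e ∈ c.E) :
    c.conjSub e K = K ↔ e ∈ c.Ut := by
  constructor
  · intro h
    refine c.Ut_selfcent he fun u hu => ?_
    have key : ∀ v ∈ c.Ut, v ∈ K → e * v = v * e := by
      intro v hv hvK
      rcases c.comm_E he hv.1 with h' | h'
      · exact h'
      · exfalso
        have h2 : e * v * e⁻¹ ∈ K := by
          rw [← h, c.mem_conjSub, show e⁻¹ * (e * v * e⁻¹) * e = v by group]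
          exact hvK
        rw [h', show z * (v * e) * e⁻¹ = z * v by group] at h2
        exact hz ((mul_mem_cancel_right hvK).1 h2)
    by_cases huK : u ∈ K
    · exact key u hu huK
    · have h2 := key _ (mul_mem hu c.z_mem_Ut)
        (hK.2 u (mem_sup_left hu) z c.z_mem_W huK hz)
      apply mul_right_cancel (b := z)
      rw [mul_assoc, h2, mul_assoc, mul_assoc, c.comm_z (c.E_le he)]
  · intro hu
    ext x
    rw [c.mem_conjSub]
    constructor <;> intro hx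
    · have hxW : x ∈ c.W := by
        rw [show x = e * (e⁻¹ * x * e) * e⁻¹ by group]
        exact mul_mem (mul_mem (mem_sup_left hu) (hK.1 hx)) (inv_mem (mem_sup_left hu))
      rwa [mul_assoc, c.W_comm hxW (mem_sup_left hu), inv_mul_cancel_left] at hx
    · rwa [mul_assoc, c.W_comm (hK.1 hx) (mem_sup_left hu), inv_mul_cancel_left]

/-- `E` permutes the halves missing `z` in orbits of length 64. -/
theorem dvd_card_half (S : Finset (Subgroup G)) (hS : ∀ K ∈ S, c.Half K c.W) (hz : ∀ K ∈ S, z ∉ K)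
    (hE : ∀ K ∈ S, ∀ e ∈ c.E, c.conjSub e K ∈ S) : 64 ∣ S.card := by
  classical
  letI act' : MulAction ↥c.E ↥S :=
    { smul := fun e K => ⟨c.conjSub e K, hE K K.2 e e.2⟩
      one_smul := fun K => Subtype.ext (c.conjSub_one K)
      mul_smul := fun d e K => Subtype.ext (c.conjSub_mul d e K).symm }
  have horb : ∀ K : ↥S, Nat.card (MulAction.orbit ↥c.E K) = 64 := by
    intro K
    have hst : MulAction.stabilizer ↥c.E K = c.Ut.subgroupOf c.E := by
      ext e
      rw [MulAction.mem_stabilizer_iff, mem_subgroupOf, Subtype.ext_iff]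
      exact c.half_stab (hS K K.2) (hz K K.2) e.2
    have hle : c.Ut ≤ c.E := c.lift_le _
    have h := (MulAction.stabilizer ↥c.E K).card_mul_index
    rw [MulAction.index_stabilizer, ← Nat.card_coe_set_eq, hst,
      Nat.card_congr (subgroupOfEquivOfLe hle).toEquiv, c.card_Ut, c.card_E] at h
    omega
  haveI := Fintype.ofFinite (MulAction.orbitRel.Quotient ↥c.E ↥S)
  rw [← Fintype.card_coe, ← Nat.card_eq_fintype_card, Nat.card_congr (MulAction.selfEquivSigmaOrbits ↥c.E ↥S),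
    Nat.card_sigma]
  exact Finset.dvd_sum fun i _ => dvd_of_eq (horb _).symm

/-- An invariant complement to `z` in `L0`. -/
structure Compl (L : Subgroup G) : Prop where
  le : L ≤ c.L0
  notMem : z ∉ L
  cover : ∀ l ∈ c.L0, l ∈ L ∨ l * z ∈ L
  invariant : ∀ g ∈ c.C0, c.im g ∈ normalizer (I : Set A) → ∀ l ∈ L, g * l * g⁻¹ ∈ L

/-- The hyperplane of a complement. -/
noncomputable def Kphi (L : Subgroup G) : Subgroup G := c.Tc ⊔ L

theorem mem_Kphi {L : Subgroup G} (hL : L ≤ c.L0) {x : G} :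
    x ∈ c.Kphi L ↔ ∃ t ∈ c.Tc, ∃ l ∈ L, x = t * l := by
  constructor
  · intro hx
    let S : Subgroup G :=
      { carrier := {x | ∃ t ∈ c.Tc, ∃ l ∈ L, x = t * l}
        one_mem' := ⟨1, one_mem _, 1, one_mem _, (one_mul 1).symm⟩
        mul_mem' := by
          rintro _ _ ⟨t, ht, l, hl, rfl⟩ ⟨t', ht', l', hl', rfl⟩
          refine ⟨t * t', mul_mem ht ht', l * l', mul_mem hl hl', ?_⟩
          calc t * l * (t' * l') = t * (l * t') * l' := by group
            _ = _ := by rw [c.L0_comm_Ut (hL hl) (c.Tc_le ht')]; group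
        inv_mem' := by
          rintro _ ⟨t, ht, l, hl, rfl⟩
          refine ⟨t⁻¹, inv_mem ht, l⁻¹, inv_mem hl, ?_⟩
          rw [mul_inv_rev, c.L0_comm_Ut (inv_mem (hL hl)) (inv_mem (c.Tc_le ht))] }
    have hle : c.Kphi L ≤ S := sup_le (fun t ht => ⟨t, ht, 1, one_mem _, (mul_one t).symm⟩)
      (fun l hl => ⟨1, one_mem _, l, hl, (one_mul l).symm⟩)
    exact hle hx
  · rintro ⟨t, ht, l, hl, rfl⟩
    exact mul_mem (mem_sup_left ht) (mem_sup_right hl)

variable {L : Subgroup G} (hL : c.Compl L)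
include hL

theorem Kphi_le : c.Kphi L ≤ c.W :=
  sup_le (fun _ h => mem_sup_left (c.Tc_le h)) (fun _ h => mem_sup_right (hL.le h))

theorem z_notMem_Kphi : z ∉ c.Kphi L := by
  intro h
  obtain ⟨t, ht, l, hl, e⟩ := (c.mem_Kphi hL.le).1 h
  have hle : l ∈ c.E := by
    rw [show l = t⁻¹ * z by rw [e]; group]
    exact mul_mem (inv_mem (c.Tc_le ht).1) c.z_mem_E
  rcases c.L0_ker (hL.le hl) (c.im_E hle) with rfl | rfl
  · rw [mul_one] at e
    exact c.z_notMem_Tc (e ▸ ht)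
  · exact hL.notMem hl

theorem Kphi_cover {x : G} (hx : x ∈ c.W) : x ∈ c.Kphi L ∨ x * z ∈ c.Kphi L := by
  obtain ⟨u, hu, l, hl, rfl⟩ := c.mem_W.1 hx
  have hlz : l * z = z * l := c.comm_z (c.L0_le hl).1
  rcases c.Ut_split hu with h | h <;> rcases hL.cover l hl with h' | h'
  · exact Or.inl ((c.mem_Kphi hL.le).2 ⟨u, h, l, h', rfl⟩)
  · exact Or.inr ((c.mem_Kphi hL.le).2 ⟨u, h, _, h', mul_assoc _ _ _⟩)
  · exact Or.inr ((c.mem_Kphi hL.le).2 ⟨_, h, l, h', by rw [mul_assoc, hlz, ← mul_assoc]⟩)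
  · refine Or.inl ((c.mem_Kphi hL.le).2 ⟨_, h, _, h', ?_⟩)
    rw [show u * z * (l * z) = u * (z * (l * z)) by group, hlz, ← mul_assoc z z, c.zz, one_mul]

theorem Kphi_xor {x : G} (hx : x ∈ c.W) : x ∈ c.Kphi L ↔ x * z ∉ c.Kphi L :=
  ⟨fun h h' => c.z_notMem_Kphi hL ((mul_mem_cancel_left h).1 h'), fun h => (c.Kphi_cover hL hx).resolve_right h⟩

theorem Kphi_half : c.Half (c.Kphi L) c.W := by
  refine ⟨c.Kphi_le hL, fun x hx y hy h1 h2 => ?_⟩
  have a := (c.Kphi_cover hL hx).resolve_left h1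
  have b := (c.Kphi_cover hL hy).resolve_left h2
  have h := mul_mem a b
  rwa [show x * z * (y * z) = x * y * (z * z) by
    calc x * z * (y * z) = x * (z * y) * z := by group
      _ = x * (y * z) * z := by rw [c.W_comm c.z_mem_W hy]
      _ = _ := by group, c.zz, mul_one] at h

theorem Kphi_conj {g : G} (hg : g ∈ c.C0) (hn : c.im g ∈ normalizer (I : Set A)) {x : G} (hx : x ∈ c.Kphi L) :
    g * x * g⁻¹ ∈ c.Kphi L := by
  obtain ⟨t, ht, l, hl, rfl⟩ := (c.mem_Kphi hL.le).1 hx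
  exact (c.mem_Kphi hL.le).2 ⟨_, c.Tc_conj hg hn ht, _, hL.invariant g hg hn l hl, by group⟩

end CfsgLib.Spor.JFourType.Ctx
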