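import Cfsg.Agent.Lib.Spor.JFourType.FixInner
import Cfsg.Agent.Lib.Invol.InvertedOdd

/-!
# Sylow 3-subgroups of the centralizer of `z`
-/

set_option autoImplicit false
set_option linter.style.haveILetI false

namespace CfsgLib.Spor.JFourType.Ctx

open Subgroup
open scoped commutatorElement

universe u

variable {G : Type u} [Group G] [Finite G] {A : Type} [Group A] {J I R : Subgroup A}
  {z : G} {P : Subgroup G} (c : Ctx J I R z P)
include c

theorem finite_A_local : Finite A := Finite.of_surjective c.pr c.pr_surj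

omit [Finite G] in
theorem card_A_local : Nat.card A = 2 * 443520 := by
  rw [← J.card_mul_index, c.facts.card_J, c.facts.index_J]

omit [Finite G] in
theorem card_H_local : Nat.card ↥c.H = 3 * 2 ^ 13 * (2 * 443520) := by
  rw [card_eq_card_quotient_mul_card_subgroup c.pr.ker, c.card_ker,
    Nat.card_congr (QuotientGroup.quotientKerEquivOfSurjective _ c.pr_surj).toEquiv, c.card_A_local, mul_comm]

omit [Finite G] in
theorem mem_J_of_odd {a : A} (h : Odd (orderOf a)) : a ∈ J := by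
  obtain ⟨r, -, hr⟩ := CfsgLib.Invol.exists_sqrt_of_odd h
  exact hr ▸ mul_self_mem_of_index_two c.facts.index_J r

/-- The part over the identity of a subgroup of order 27. -/
theorem three_ker {Q : Subgroup G} (hQ : c.Three Q) {x : G} (hx : x ∈ Q) (h : c.im x = 1) : x ∈ P := by
  rw [c.im_eq (hQ.le hx).1] at h
  obtain ⟨q, hq, e | e⟩ := c.ker_C0 (hQ.le hx) h
  · exact e ▸ hq
  · exfalso
    have hzQ : z ∈ Q := by
      rw [show z = x * q⁻¹ by rw [e, mul_inv_cancel_right]]
      exact mul_mem hx (inv_mem (hQ.P_le hq))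
    have := orderOf_dvd_natCard (⟨z, hzQ⟩ : ↥Q)
    rw [← Subgroup.orderOf_coe, c.ord, hQ.card] at this
    norm_num at this

/-- The center of a subgroup of order 27 is `P`. -/
theorem three_center {Q : Subgroup G} (hQ : c.Three Q) {x : G} (hx : x ∈ Q) (h : ∀ y ∈ Q, y * x = x * y) :
    x ∈ P := by
  have hne : center ↥Q ≠ ⊤ := by
    intro e
    obtain ⟨a, ha, b, hb, hab⟩ := hQ.comm
    have h1 : ⁅a, b⁆ = 1 := commutatorElement_eq_one_iff_mul_comm.2
      (congrArg Subtype.val (mem_center_iff.1 (e.symm ▸ mem_top (⟨b, hb⟩ : ↥Q)) ⟨a, ha⟩))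
    rw [hab] at h1
    simpa [h1] using c.ord_pg
  have hle : P.subgroupOf Q ≤ center ↥Q := fun p hp => mem_center_iff.2 fun y =>
    Subtype.ext (c.comm_P (hQ.le y.2) hp).symm
  have hP : Nat.card ↥(P.subgroupOf Q) = 3 := by
    rw [Nat.card_congr (subgroupOfEquivOfLe hQ.P_le).toEquiv, c.card_P]
  have h27 : Nat.card ↥(center ↥Q) ∣ 3 ^ 3 := by
    have h' := (center ↥Q).card_subgroup_dvd_card
    rwa [hQ.card] at h'
  obtain ⟨k, hk, e⟩ := (Nat.dvd_prime_pow Nat.prime_three).1 h27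
  have h3 := card_le_of_le hle
  rw [hP, e] at h3
  have hk1 : k = 1 := by
    interval_cases k
    · norm_num at h3
    · rfl
    · exfalso
      have hq : Nat.card (↥Q ⧸ center ↥Q) = 3 := by
        have h' := card_eq_card_quotient_mul_card_subgroup (center ↥Q)
        rw [hQ.card, e] at h'
        omega
      haveI : Fact (Nat.Prime 3) := ⟨Nat.prime_three⟩
      haveI : IsCyclic (↥Q ⧸ center ↥Q) := isCyclic_of_prime_card hq
      refine hne (eq_top_iff.2 fun y _ => mem_center_iff.2 fun w => ?_)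
      exact commutative_of_cyclic_center_quotient (QuotientGroup.mk' (center ↥Q))
        (by rw [QuotientGroup.ker_mk']) w y
    · exact absurd (eq_top_of_card_eq _ (by rw [e, hQ.card]; norm_num)) hne
  have heq : P.subgroupOf Q = center ↥Q := eq_of_le_of_card_ge hle (by rw [hP, e, hk1]; norm_num)
  have hxc : (⟨x, hx⟩ : ↥Q) ∈ center ↥Q := mem_center_iff.2 fun y => Subtype.ext (h y y.2)
  rw [← heq] at hxc
  exact hxc

/-- A 3-subgroup of `H` is conjugate into a given subgroup of order 27. -/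
theorem exists_conj_three {Q : Subgroup G} (hQ : c.Three Q) {S : Subgroup G} (hS : S ≤ c.H) (h3 : IsPGroup 3 ↥S) :
    ∃ h ∈ c.H, ∀ x ∈ S, h * x * h⁻¹ ∈ Q := by
  haveI : Fact (Nat.Prime 3) := ⟨Nat.prime_three⟩
  have hQH : Q ≤ c.H := fun x hx => (hQ.le hx).1
  let T : Sylow 3 ↥c.H := Sylow.ofCard (Q.subgroupOf c.H) (by
    rw [Nat.card_congr (subgroupOfEquivOfLe hQH).toEquiv, hQ.card, c.card_H_local,
      show 3 * 2 ^ 13 * (2 * 443520) = 3 ^ 3 * 807403520 by norm_num,
      Nat.factorization_mul (by norm_num) (by norm_num), Finsupp.add_apply,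
      Nat.factorization_eq_zero_of_not_dvd (show ¬ 3 ∣ 807403520 by norm_num), Nat.factorization_pow,
      Finsupp.smul_apply, Nat.prime_three.factorization_self]
    norm_num)
  obtain ⟨h, hh⟩ := CfsgLib.Invol.exists_conj_le_sylow (Q := S.subgroupOf c.H) h3.comap_subtype T
  exact ⟨h, h.2, fun x hx => hh ⟨x, hS hx⟩ hx⟩

/-- An element of order three over the identity is conjugate into `P`. -/
theorem exists_conj_P {x : G} (hx : x ∈ c.H) (ho : orderOf x = 3) (hi : c.im x = 1) :
    ∃ h ∈ c.H, h * x * h⁻¹ ∈ P := by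
  obtain ⟨Q, hQ, -⟩ := c.exists_Q
  obtain ⟨h, hh, hm⟩ := c.exists_conj_three hQ (S := zpowers x) (zpowers_le.2 hx)
    (IsPGroup.of_card (n := 1) (by rw [Nat.card_zpowers, ho, pow_one]))
  refine ⟨h, hh, c.three_ker hQ (hm x (mem_zpowers x)) ?_⟩
  rw [c.im_conj hh hx, hi, mul_one, mul_inv_cancel]

/-- The center of a subgroup of order 27 of `H` lies over the identity. -/
theorem im_of_central {S : Subgroup G} (hS : S ≤ c.H) (h27 : Nat.card ↥S = 27) {x : G} (hx : x ∈ S)
    (h : ∀ y ∈ S, y * x = x * y) : c.im x = 1 := by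
  obtain ⟨Q, hQ, -⟩ := c.exists_Q
  obtain ⟨g, hg, hm⟩ := c.exists_conj_three hQ hS (IsPGroup.of_card (n := 3) (by rw [h27]; norm_num))
  have heq : S.map (MulAut.conj g).toMonoidHom = Q := by
    refine eq_of_le_of_card_ge ?_ ?_
    · rintro _ ⟨y, hy, rfl⟩
      exact hm y hy
    · rw [← Nat.card_congr (equivMapOfInjective S (MulAut.conj g).toMonoidHom (MulAut.conj g).injective).toEquiv,
        h27, hQ.card]
  have hP := c.three_center hQ (hm x hx) fun y hy => by
    rw [← heq] at hy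
    obtain ⟨w, hw, rfl⟩ := hy
    show g * w * g⁻¹ * (g * x * g⁻¹) = g * x * g⁻¹ * (g * w * g⁻¹)
    calc g * w * g⁻¹ * (g * x * g⁻¹) = g * (w * x) * g⁻¹ := by group
      _ = g * (x * w) * g⁻¹ := by rw [h w hw]
      _ = _ := by group
  have h1 : c.im (g * x * g⁻¹) = 1 := by rw [c.im_eq (c.P_le_C0 hP).1, c.pr_P hP]
  rw [c.im_conj hg (hS hx)] at h1
  exact conj_eq_one_iff.1 h1

/-- Every element of order three of `J` has centralizer of order 36 in `J`. -/
theorem card_centralizer_three {x : A} (hx : x ∈ J) (ho : orderOf x = 3) :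
    Nat.card ↥(centralizer ({x} : Set A) ⊓ J) = 36 := by
  haveI := c.finite_A_local
  haveI : Fact (Nat.Prime 3) := ⟨Nat.prime_three⟩
  obtain ⟨a, b, n, ha, hb, -, -, -, hao, hbo, hab, hnb, -, -, -, htr, hcard, -⟩ := c.facts.three
  set Y := closure ({a, b} : Set A) with hY
  have hYJ : Y ≤ J := (Subgroup.closure_le _).2 (Set.insert_subset ha (Set.singleton_subset_iff.2 hb))
  let T : Sylow 3 ↥J := Sylow.ofCard (Y.subgroupOf J) (by
    rw [Nat.card_congr (subgroupOfEquivOfLe hYJ).toEquiv, hY, card_closure_pair hao hbo hab hnb, c.facts.card_J,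
      show (443520 : ℕ) = 3 ^ 2 * 49280 by norm_num,
      Nat.factorization_mul (by norm_num) (by norm_num), Finsupp.add_apply,
      Nat.factorization_eq_zero_of_not_dvd (show ¬ 3 ∣ 49280 by norm_num), Nat.factorization_pow,
      Finsupp.smul_apply, Nat.prime_three.factorization_self]
    norm_num)
  obtain ⟨h, hh⟩ := CfsgLib.Invol.exists_conj_le_sylow (Q := zpowers (⟨x, hx⟩ : ↥J))
    (IsPGroup.of_card (n := 1) (by rw [Nat.card_zpowers, Subgroup.orderOf_mk, ho, pow_one])) T
  have hv : (h : A) * x * (h : A)⁻¹ ∈ Y := hh _ (mem_zpowers _)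
  obtain ⟨g, hg, -, hga⟩ := htr _ hv (by
    rw [ne_eq, conj_eq_one_iff]
    intro e
    simp [e] at ho)
  set k := (h : A)⁻¹ * g with hk
  have hkJ : k ∈ J := mul_mem (inv_mem h.2) hg
  have hka : k * a * k⁻¹ = x := by
    rw [hk, show (h : A)⁻¹ * g * a * ((h : A)⁻¹ * g)⁻¹ = (h : A)⁻¹ * (g * a * g⁻¹) * (h : A) by group, hga]
    group
  rw [← hcard]
  have hJ1 : ∀ y : A, y ∈ J → k⁻¹ * y * k ∈ J := fun y hy => mul_mem (mul_mem (inv_mem hkJ) hy) hkJ
  have hJ2 : ∀ y : A, y ∈ J → k * y * k⁻¹ ∈ J := fun y hy => mul_mem (mul_mem hkJ hy) (inv_mem hkJ)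
  refine Nat.card_congr
    { toFun := fun y => ⟨k⁻¹ * y * k, mem_centralizer_singleton_iff.2 ?_, hJ1 y y.2.2⟩
      invFun := fun y => ⟨k * y * k⁻¹, mem_centralizer_singleton_iff.2 ?_, hJ2 y y.2.2⟩
      left_inv := fun y => Subtype.ext (by show k * (k⁻¹ * (y : A) * k) * k⁻¹ = y; group)
      right_inv := fun y => Subtype.ext (by show k⁻¹ * (k * (y : A) * k⁻¹) * k = y; group) }
  · calc k⁻¹ * (y : A) * k * a = k⁻¹ * ((y : A) * (k * a * k⁻¹)) * k := by group
      _ = k⁻¹ * (k * a * k⁻¹ * (y : A)) * k := by rw [hka, mem_centralizer_singleton_iff.1 y.2.1]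
      _ = _ := by group
  · rw [← hka]
    calc k * (y : A) * k⁻¹ * (k * a * k⁻¹) = k * ((y : A) * a) * k⁻¹ := by group
      _ = k * (a * (y : A)) * k⁻¹ := by rw [mem_centralizer_singleton_iff.1 y.2.1]
      _ = _ := by group

end CfsgLib.Spor.JFourType.Ctx
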