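import Cfsg.Agent.Lib.Spor.JFourType.LocalPerfect
import Cfsg.Agent.Lib.Spor.JFourType.LocalSylow
import Cfsg.Agent.Lib.Spor.JFourType.LocalFour
import Cfsg.Agent.Lib.Invol.ZStar

/-!
# The normalizer of `P` lies in the centralizer of `z`

`z` is isolated in the centralizer of `P`; its odd core is bounded by the centralizers of a four group of
conjugates of `z`, so an element of order eleven, and then `C0`, centralizes it.
-/

set_option autoImplicit false
set_option linter.style.haveILetI false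

namespace CfsgLib.Spor.JFourType.Ctx

open Subgroup
open scoped commutatorElement

universe u

variable {G : Type u} [Group G] [Finite G] {A : Type} [Group A] {J I R : Subgroup A}
  {z : G} {P : Subgroup G} (c : Ctx J I R z P)
include c

theorem C0_ker_invol {x : G} (hx : x ∈ c.C0) (hi : c.im x = 1) (ho : orderOf x = 2) : x = z := by
  rw [c.im_eq hx.1] at hi
  obtain ⟨q, hq, h⟩ := c.ker_C0 hx hi
  have h2 : x * x = 1 := by rw [← pow_two, ← ho, pow_orderOf_eq_one]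
  have h3 : q * q = 1 := by
    rcases h with h | h <;> rw [h] at h2
    · exact h2
    · rwa [show z * q * (z * q) = z * (q * z) * q by group, c.comm_z (c.P_le_C0 hq).1,
        show z * (z * q) * q = z * z * (q * q) by group, c.zz, one_mul] at h2
  have hq1 : q = 1 := by
    have hd := orderOf_dvd_natCard (⟨q, hq⟩ : ↥P)
    rw [← Subgroup.orderOf_coe, c.card_P] at hd
    exact orderOf_eq_one_iff.1 (Nat.eq_one_of_dvd_coprimes (by norm_num : Nat.Coprime 2 3)
      (orderOf_dvd_of_pow_eq_one (by rwa [pow_two])) hd)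
  rcases h with h | h
  · rw [h, hq1, orderOf_one] at ho
    norm_num at ho
  · rw [h, hq1, mul_one]

/-- `z` is isolated in the centralizer of `P`. -/
theorem isolated_CP {g : G} (hg : g ∈ centralizer (P : Set G)) (hcomm : g * z * g⁻¹ * z = z * (g * z * g⁻¹)) :
    g * z * g⁻¹ = z := by
  set t := g * z * g⁻¹ with ht
  have hto : orderOf t = 2 := CfsgLib.Invol.invol_conj c.ord g
  have hgp : g * c.pg = c.pg * g := ((mem_centralizer_iff.1 hg) c.pg c.pg_mem).symm
  have htC : t ∈ c.C0 := by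
    have hmem : t ∈ centralizer (P : Set G) := mul_mem (mul_mem hg c.z_mem_C0.2) (inv_mem hg)
    exact ⟨mem_centralizer_singleton_iff.2 hcomm, hmem⟩
  by_contra hne
  have hi : c.im t ≠ 1 := fun h => hne (c.C0_ker_invol htC h hto)
  have htH : t ∈ c.H := htC.1
  have ht2 : t ^ 2 ^ 1 = 1 := by rw [pow_one, ← hto, pow_orderOf_eq_one]
  have hio : orderOf (c.im t) = 2 := orderOf_eq_prime (by
    rw [← c.im_pow htH, show t ^ 2 = 1 by rw [pow_two]; exact CfsgLib.Invol.invol_mul_self hto, c.im_one]) hi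
  have h8 := c.card_fix_inner (c.C0_le_M htC) hio ht2
  set F := c.fix {t} with hF
  have hFom : ∀ v ∈ F, c.om v ∈ F := fun v hv => c.fix_om (Set.singleton_subset_iff.2 (c.C0_le_M htC)) hv
  -- commutators with `P` of fixed elements
  have key : ∀ v ∈ F, ∃ x ∈ c.E, c.pv x = v ∧ g⁻¹ * x * g ∈ c.E := by
    intro v hv
    obtain ⟨e, he, hev⟩ := c.pv_surj (c.om v)
    have hel : e ∈ c.lift F := ⟨he, hev ▸ hFom v hv⟩
    have hte : t * e = e * t :=
      c.comm_of_fixed hFom htC (fun w hw => c.mem_fix_singleton.1 hw) hel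
    set x := c.pg * e * c.pg⁻¹ * e⁻¹ with hx
    have hxE : x ∈ c.E := mul_mem (c.conj_E c.pg_H he) (inv_mem he)
    refine ⟨x, hxE, ?_, ?_⟩
    · rw [hx, c.pv_mul (c.conj_E c.pg_H he) (inv_mem he), c.pv_inv he, c.pv_conj c.pg_H he, hev]
      show c.om (c.om v) + c.om v = v
      rw [c.om_two, add_assoc, c.two_V, add_zero]
    · set e' := g⁻¹ * e * g with he'
      have he'H : e' ∈ c.H := mem_centralizer_singleton_iff.2 (by
        rw [he']
        calc g⁻¹ * e * g * z = g⁻¹ * (e * (g * z * g⁻¹)) * g := by group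
          _ = g⁻¹ * (g * z * g⁻¹ * e) * g := by rw [← ht, hte]
          _ = _ := by group)
      have hgpg : g⁻¹ * c.pg * g = c.pg := by rw [mul_assoc, ← hgp, inv_mul_cancel_left]
      have hx' : g⁻¹ * x * g = c.pg * e' * c.pg⁻¹ * e'⁻¹ := by
        rw [hx, he', show g⁻¹ * (c.pg * e * c.pg⁻¹ * e⁻¹) * g =
          (g⁻¹ * c.pg * g) * (g⁻¹ * e * g) * (g⁻¹ * c.pg * g)⁻¹ * (g⁻¹ * e * g)⁻¹ by group, hgpg]
      rw [hx']
      have hm : c.pg * e' * c.pg⁻¹ * e'⁻¹ ∈ c.H :=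
        mul_mem (mul_mem (mul_mem c.pg_H he'H) (inv_mem c.pg_H)) (inv_mem he'H)
      have him : c.im (c.pg * e' * c.pg⁻¹ * e'⁻¹) = 1 := by
        rw [c.im_mul (mul_mem (mul_mem c.pg_H he'H) (inv_mem c.pg_H)) (inv_mem he'H), c.im_conj c.pg_H he'H,
          c.im_inv he'H, c.im_eq c.pg_H, c.pr_P c.pg_mem]
        group
      rw [c.im_eq hm] at him
      obtain ⟨a, ha, q, hq, hd⟩ := c.ker_decomp hm him
      rw [hd]
      refine mul_mem ha ?_
      have hx4 : (c.pg * e' * c.pg⁻¹ * e'⁻¹) ^ 4 = 1 := by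
        rw [← hx', show g⁻¹ * x * g = g⁻¹ * x * g⁻¹⁻¹ by rw [inv_inv], conj_pow,
          show x ^ 4 = (x * x) ^ 2 by rw [← pow_two, ← pow_mul]]
        rcases c.sq_E hxE with h | h <;> rw [h]
        · group
        · rw [pow_two, c.zz]; group
      have hqH := (c.P_le_C0 hq).1
      have hact : c.act q ^ 4 = 1 := by
        rw [hd] at hx4
        have h1 : c.act ((a * q) ^ 4) = 1 :=
          (c.act_eq_one (pow_mem (mul_mem (c.E_le ha) hqH) 4)).2 (by rw [hx4]; exact one_mem _)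
        rwa [c.act_pow (mul_mem (c.E_le ha) hqH), c.act_mul (c.E_le ha) hqH, (c.act_eq_one (c.E_le ha)).2 ha,
          one_mul] at h1
      rw [c.act_P_of_pow hq (by norm_num) hact]
      exact one_mem _
  -- two of them do not commute
  have hnot : ¬ F ≤ c.perp F := fun h => by
    have h1 := c.card_perp F
    have h2 := AddSubgroup.card_le_of_le h
    rw [h8] at h1 h2
    omega
  obtain ⟨w, hw, hwn⟩ := SetLike.not_le_iff_exists.1 hnot
  rw [c.mem_perp] at hwn
  push Not at hwn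
  obtain ⟨v, hv, hvw⟩ := hwn
  obtain ⟨x, hx, hxv, hx'⟩ := key v hv
  obtain ⟨y, hy, hyw, hy'⟩ := key w hw
  have hxy : x * y ≠ y * x := fun h => hvw (hxv ▸ hyw ▸ (c.Bf_comm hx hy).2 h)
  have h1 := (c.comm_E hx hy).resolve_left hxy
  have h2 := (c.comm_E hx' hy').resolve_left fun h => hxy (by
    calc x * y = g * (g⁻¹ * x * g * (g⁻¹ * y * g)) * g⁻¹ := by group
      _ = g * (g⁻¹ * y * g * (g⁻¹ * x * g)) * g⁻¹ := by rw [h]
      _ = _ := by group)
  apply hne
  apply mul_right_cancel (b := y * x)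
  rw [ht, ← h1]
  calc g * z * g⁻¹ * (y * x) = g * (z * (g⁻¹ * y * g * (g⁻¹ * x * g))) * g⁻¹ := by group
    _ = g * (g⁻¹ * x * g * (g⁻¹ * y * g)) * g⁻¹ := by rw [h2]
    _ = _ := by group

/-- The odd core of the centralizer of `P`, in `G`. -/
noncomputable def OP (_ : Ctx J I R z P) : Subgroup G :=
  (Cfsg.pPrimeCore 2 ↥(centralizer (P : Set G))).map (centralizer (P : Set G)).subtype

theorem OP_le : c.OP ≤ centralizer (P : Set G) := map_subtype_le _

theorem OP_conj {h x : G} (hh : h ∈ centralizer (P : Set G)) (hx : x ∈ c.OP) : h * x * h⁻¹ ∈ c.OP := by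
  obtain ⟨w, hw, rfl⟩ := hx
  haveI := CfsgLib.Coprime.pPrimeCore_characteristic (G := ↥(centralizer (P : Set G))) 2
  exact ⟨⟨h, hh⟩ * w * ⟨h, hh⟩⁻¹, Normal.conj_mem inferInstance w hw _, rfl⟩

theorem OP_odd : Odd (Nat.card ↥c.OP) := by
  rw [OP, ← Nat.card_congr (equivMapOfInjective _ _ (centralizer (P : Set G)).subtype_injective).toEquiv,
    Nat.odd_iff]
  have := CfsgLib.Coprime.pPrimeCore_not_dvd (G := ↥(centralizer (P : Set G))) Nat.prime_two
  omega

theorem P_le_centralizer : P ≤ centralizer (P : Set G) := fun _ hp => (c.P_le_C0 hp).2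

theorem P_le_OP : P ≤ c.OP := by
  intro p hp
  haveI : (P.subgroupOf (centralizer (P : Set G))).Normal := ⟨fun w hw g => by
    simp only [mem_subgroupOf, Subgroup.coe_mul, InvMemClass.coe_inv] at hw ⊢
    rw [← mem_centralizer_iff.1 g.2 _ hw, mul_inv_cancel_right]
    exact hw⟩
  have h := CfsgLib.Coprime.le_pPrimeCore_of_not_dvd Nat.prime_two (N := P.subgroupOf (centralizer (P : Set G)))
    (by rw [Nat.card_congr (subgroupOfEquivOfLe c.P_le_centralizer).toEquiv, c.card_P]; norm_num)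
  exact ⟨⟨p, c.P_le_centralizer hp⟩, h hp, rfl⟩

/-- The centralizer of `P` is the odd core times `C0`. -/
theorem CP_decomp {h : G} (hh : h ∈ centralizer (P : Set G)) : ∃ o ∈ c.OP, o * h ∈ c.C0 := by
  have hzC : z ∈ centralizer (P : Set G) := c.z_mem_C0.2
  have hiso : Cfsg.IsIsolatedInvolution (⟨z, hzC⟩ : ↥(centralizer (P : Set G))) :=
    ⟨by rw [Subgroup.orderOf_mk]; exact c.ord,
      fun g hg => Subtype.ext (c.isolated_CP g.2 (congrArg Subtype.val hg.eq).symm)⟩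
  have hmem := CfsgLib.Invol.zstar hiso ⟨h, hh⟩
  set o : G := z * h * z⁻¹ * h⁻¹ with ho
  have hoO : o ∈ c.OP := ⟨_, hmem, rfl⟩
  have hzi : z⁻¹ = z := inv_eq_of_mul_eq_one_right c.zz
  have hflip : z * o * z⁻¹ = o⁻¹ := by
    rw [ho]
    calc z * (z * h * z⁻¹ * h⁻¹) * z⁻¹ = (z * z) * h * z⁻¹ * h⁻¹ * z⁻¹ := by group
      _ = h * z * h⁻¹ * z⁻¹ := by rw [c.zz, one_mul, hzi]
      _ = _ := by group
  obtain ⟨r, hr, hrr⟩ := CfsgLib.Invol.exists_sqrt_of_odd (odd_orderOf_mem c.OP_odd hoO)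
  obtain ⟨k, rfl⟩ := mem_zpowers_iff.1 hr
  have hra : z * o ^ k * z⁻¹ = (o ^ k)⁻¹ := by rw [← conj_zpow, hflip, inv_zpow]
  have hrO : o ^ k ∈ c.OP := zpow_mem hoO k
  refine ⟨o ^ k, hrO, mem_centralizer_singleton_iff.2 ?_, mul_mem (c.OP_le hrO) hh⟩
  have e : z * (o ^ k * h) * z⁻¹ = o ^ k * h := by
    calc z * (o ^ k * h) * z⁻¹ = z * o ^ k * z⁻¹ * o * h := by rw [ho]; group
      _ = _ := by
        rw [hra]
        nth_rewrite 2 [← hrr]
        group
  exact (mul_inv_eq_iff_eq_mul.1 e).symm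

theorem OP_inf_H {x : G} (hx : x ∈ c.OP) (hxH : x ∈ c.H) : x ∈ P := by
  let K : Subgroup ↥c.C0 := c.OP.subgroupOf c.C0
  haveI hKn : K.Normal := ⟨fun w hw g => c.OP_conj g.2.2 hw⟩
  haveI := c.facts.simple_J
  haveI : (K.map c.sg).Normal := hKn.map _ c.sg_surj
  have hodd : Odd (Nat.card ↥(K.map c.sg)) := by
    refine Odd.of_dvd_nat ?_ (card_map_dvd K c.sg)
    refine c.OP_odd.of_dvd_nat ?_
    rw [Nat.card_congr (equivMapOfInjective K c.C0.subtype c.C0.subtype_injective).toEquiv]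
    exact card_dvd_of_le (by rintro _ ⟨w, hw, rfl⟩; exact hw)
  rcases (inferInstance : IsSimpleGroup ↥J).eq_bot_or_eq_top_of_normal (K.map c.sg) inferInstance with h | h
  · have hxC : x ∈ c.C0 := ⟨hxH, c.OP_le hx⟩
    have h1 : c.sg ⟨x, hxC⟩ = 1 := by
      rw [← mem_bot, ← h]
      exact ⟨⟨x, hxC⟩, hx, rfl⟩
    have him : c.pr ⟨x, hxH⟩ = 1 := congrArg Subtype.val h1
    obtain ⟨q, hq, e | e⟩ := c.ker_C0 hxC him
    · exact e ▸ hq
    · exfalso
      have hzO : z ∈ c.OP := by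
        have hm := mul_mem hx (inv_mem (c.P_le_OP hq))
        rwa [e, mul_inv_cancel_right] at hm
      have := odd_orderOf_mem c.OP_odd hzO
      rw [c.ord] at this
      exact absurd this (by decide)
  · rw [h, card_top, c.facts.card_J] at hodd
    exact absurd hodd (by decide)

/-- `P` moves off the identity in the centralizer of another conjugate of `z`. -/
theorem im_conj_pg {t g : G} (hg : g * z * g⁻¹ = t) (htC : t ∈ c.C0) (hne : t ≠ z) :
    g⁻¹ * c.pg * g ∈ c.H ∧ c.im (g⁻¹ * c.pg * g) ≠ 1 := by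
  have hyH : g⁻¹ * c.pg * g ∈ c.H := mem_centralizer_singleton_iff.2 (by
    calc g⁻¹ * c.pg * g * z = g⁻¹ * (c.pg * (g * z * g⁻¹)) * g := by group
      _ = g⁻¹ * (g * z * g⁻¹ * c.pg) * g := by rw [hg, c.comm_P htC c.pg_mem]
      _ = _ := by group)
  refine ⟨hyH, fun hi => hne ?_⟩
  obtain ⟨k, hk, hkP⟩ := c.exists_conj_P hyH
    (by rw [show g⁻¹ * c.pg * g = MulAut.conj g⁻¹ c.pg by simp, MulEquiv.orderOf_eq, c.ord_pg]) hi
  have htz : t * z = z * t := (mem_centralizer_singleton_iff.1 htC.1)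
  have finish : ∀ h : G, h * z * h⁻¹ = t → h * c.pg * h⁻¹ = c.pg → t = z := by
    intro h h1 h2
    have := c.isolated_CP (c.centralizes_iff.2 h2) (by rw [h1]; exact htz)
    rwa [h1] at this
  set h := g * k⁻¹ with hh
  have hhz : h * z * h⁻¹ = t := by
    rw [hh, show g * k⁻¹ * z * (g * k⁻¹)⁻¹ = g * (k⁻¹ * z * k) * g⁻¹ by group, c.comm_z (inv_mem hk),
      inv_mul_cancel_right, hg]
  have hhp : h⁻¹ * c.pg * h ∈ P := by
    rwa [hh, show (g * k⁻¹)⁻¹ * c.pg * (g * k⁻¹) = k * (g⁻¹ * c.pg * g) * k⁻¹ by group]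
  rcases c.mem_P hhp with h' | h' | h'
  · exfalso
    have e : c.pg = 1 := by
      calc c.pg = h * (h⁻¹ * c.pg * h) * h⁻¹ := by group
        _ = 1 := by rw [h', mul_one, mul_inv_cancel]
    simpa [e] using c.ord_pg
  · refine finish h hhz ?_
    nth_rewrite 1 [← h']
    group
  · obtain ⟨n, hn, hni⟩ := c.exists_inverting
    refine finish (h * n) ?_ ?_
    · rw [show h * n * z * (h * n)⁻¹ = h * (n * z * n⁻¹) * h⁻¹ by group, c.comm_z hn.1, mul_inv_cancel_right, hhz]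
    · rw [show h * n * c.pg * (h * n)⁻¹ = h * (n * c.pg * n⁻¹) * h⁻¹ by group, hni, ← h']
      group

/-- The part of the odd core centralizing another conjugate of `z`. -/
theorem card_OP_centralizer {t : G} (htC : t ∈ c.C0) (hne : t ≠ z) (hc : IsConj z t) :
    Nat.card ↥(c.OP ⊓ centralizer ({t} : Set G)) ∣ 9 := by
  haveI := c.finite_A_local
  obtain ⟨g, hg⟩ := isConj_iff.1 hc
  obtain ⟨hyH, hy1⟩ := c.im_conj_pg hg htC hne
  set y := g⁻¹ * c.pg * g with hy
  let S := c.OP ⊓ centralizer ({t} : Set G)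
  let K : Subgroup G := S.map (MulAut.conj g⁻¹).toMonoidHom
  have hKS : Nat.card ↥K = Nat.card ↥S :=
    (Nat.card_congr (equivMapOfInjective S _ (MulAut.conj g⁻¹).injective).toEquiv).symm
  have hKodd : Odd (Nat.card ↥K) := hKS ▸ c.OP_odd.of_dvd_nat (card_dvd_of_le inf_le_left)
  have hKH : K ≤ c.H := by
    rintro _ ⟨x, hx, rfl⟩
    refine mem_centralizer_singleton_iff.2 ?_
    show g⁻¹ * x * g⁻¹⁻¹ * z = z * (g⁻¹ * x * g⁻¹⁻¹)
    rw [inv_inv]
    calc g⁻¹ * x * g * z = g⁻¹ * (x * (g * z * g⁻¹)) * g := by group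
      _ = g⁻¹ * (g * z * g⁻¹ * x) * g := by rw [hg, mem_centralizer_singleton_iff.1 hx.2]
      _ = _ := by group
  have hKy : ∀ x ∈ K, x * y = y * x := by
    rintro _ ⟨x, hx, rfl⟩
    show g⁻¹ * x * g⁻¹⁻¹ * y = y * (g⁻¹ * x * g⁻¹⁻¹)
    rw [hy, inv_inv]
    calc g⁻¹ * x * g * (g⁻¹ * c.pg * g) = g⁻¹ * (x * c.pg) * g := by group
      _ = g⁻¹ * (c.pg * x) * g := by rw [mem_centralizer_iff.1 (c.OP_le hx.1) c.pg c.pg_mem]
      _ = _ := by group
  have hyK : y ∈ K := ⟨c.pg, ⟨c.P_le_OP c.pg_mem, mem_centralizer_singleton_iff.2 (c.comm_P htC c.pg_mem)⟩, by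
    show g⁻¹ * c.pg * g⁻¹⁻¹ = y
    rw [inv_inv, hy]⟩
  -- the image
  let f : ↥K →* A := c.pr.comp (inclusion hKH)
  have hrange : f.range ≤ centralizer ({c.im y} : Set A) ⊓ J := by
    rintro _ ⟨x, rfl⟩
    have hfx : f x = c.im x := (c.im_eq (hKH x.2)).symm
    refine ⟨mem_centralizer_singleton_iff.2 ?_, ?_⟩
    · rw [hfx, ← c.im_mul (hKH x.2) hyH, hKy x x.2, c.im_mul hyH (hKH x.2)]
    · exact c.mem_J_of_odd ((hKodd.of_dvd_nat (orderOf_dvd_natCard x)).of_dvd_nat (orderOf_map_dvd f x))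
  have hr9 : Nat.card ↥f.range ∣ 9 := by
    have hyJ : c.im y ∈ J := by
      refine c.mem_J_of_odd ((odd_orderOf_mem hKodd hyK).of_dvd_nat ?_)
      rw [c.im_eq hyH]
      exact (orderOf_map_dvd c.pr ⟨y, hyH⟩).trans (by rw [Subgroup.orderOf_mk])
    have hy3 : orderOf (c.im y) = 3 := orderOf_eq_prime (by
      rw [← c.im_pow hyH, hy, show g⁻¹ * c.pg * g = g⁻¹ * c.pg * g⁻¹⁻¹ by rw [inv_inv], conj_pow, ← c.ord_pg,
        pow_orderOf_eq_one, mul_one, mul_inv_cancel, c.im_one]) hy1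
    have h36 := card_dvd_of_le hrange
    rw [c.card_centralizer_three hyJ hy3] at h36
    refine (Nat.Coprime.dvd_of_dvd_mul_left (m := 4) ?_ h36)
    exact Nat.Coprime.pow_right 2 (Nat.coprime_two_right.2 (hKodd.of_dvd_nat (card_range_dvd f)))
  have hk3 : Nat.card ↥f.ker ∣ 3 := by
    have hinj : Nat.card ↥f.ker ∣ Nat.card ↥c.pr.ker := by
      rw [Nat.card_congr (equivMapOfInjective f.ker (inclusion hKH) (inclusion_injective hKH)).toEquiv]
      exact card_dvd_of_le (by rintro _ ⟨x, hx, rfl⟩; exact hx)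
    rw [c.card_ker] at hinj
    exact (Nat.Coprime.pow_right 13 (Nat.coprime_two_right.2
      (hKodd.of_dvd_nat f.ker.card_subgroup_dvd_card))).dvd_of_dvd_mul_right hinj
  have h27 : Nat.card ↥K ∣ 3 ^ 3 := by
    rw [card_eq_card_quotient_mul_card_subgroup f.ker,
      Nat.card_congr (QuotientGroup.quotientKerEquivRange f).toEquiv]
    exact (Nat.mul_dvd_mul hr9 hk3).trans (by norm_num)
  obtain ⟨j, hj, e⟩ := (Nat.dvd_prime_pow Nat.prime_three).1 h27
  show Nat.card ↥S ∣ 9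
  rw [← hKS, e]
  interval_cases j
  · norm_num
  · norm_num
  · norm_num
  · exact absurd (c.im_of_central hKH (by rw [e]; norm_num) hyK fun w hw => hKy w hw) hy1

theorem exists_eleven : ∃ w ∈ c.C0, w ^ 11 = 1 ∧ c.im w ≠ 1 := by
  haveI := c.finite_A_local
  haveI : Fact (Nat.Prime 11) := ⟨by norm_num⟩
  obtain ⟨j, hj⟩ := exists_prime_orderOf_dvd_card' (G := ↥J) 11 (by rw [c.facts.card_J]; norm_num)
  rw [← Subgroup.orderOf_coe] at hj
  obtain ⟨x, hx, hxj⟩ := c.exists_C0_im j.2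
  refine ⟨x ^ 6, pow_mem hx 6, ?_, ?_⟩
  · have h1 : c.pr ⟨x ^ 11, (pow_mem hx 11 : _ ∈ c.C0).1⟩ = 1 := by
      rw [← c.im_eq, c.im_pow hx.1, hxj, ← hj, pow_orderOf_eq_one]
    obtain ⟨q, hq, h⟩ := c.ker_C0 (pow_mem hx 11) h1
    have hq6 : q ^ 6 = 1 := by
      have h3 := pow_card_eq_one' (G := ↥P) (x := ⟨q, hq⟩)
      rw [c.card_P] at h3
      have h3' : q ^ 3 = 1 := congrArg Subtype.val h3
      rw [show 6 = 3 * 2 from rfl, pow_mul, h3', one_pow]
    rw [← pow_mul, show 6 * 11 = 11 * 6 from rfl, pow_mul]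
    rcases h with h | h <;> rw [h]
    · exact hq6
    · rw [(show Commute z q from (c.comm_z (c.P_le_C0 hq).1).symm).mul_pow, hq6, mul_one,
        show 6 = 2 * 3 from rfl, pow_mul, pow_two, c.zz, one_pow]
  · rw [c.im_pow hx.1, hxj]
    intro h
    have := orderOf_dvd_of_pow_eq_one h
    rw [hj] at this
    norm_num at this

/-- A normal subgroup of a perfect `C0` which is not over the identity is everything. -/
theorem C0_normal_eq (hsp : c.Split) {K : Subgroup ↥c.C0} [K.Normal] {w : ↥c.C0} (hw : w ∈ K)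
    (hw1 : c.im (w : G) ≠ 1) : K = ⊤ := by
  haveI := c.facts.simple_J
  have hKn : (K.map c.sg).Normal := Normal.map inferInstance _ c.sg_surj
  rcases (inferInstance : IsSimpleGroup ↥J).eq_bot_or_eq_top_of_normal (K.map c.sg) hKn with h | h
  · refine absurd ?_ hw1
    have hm : c.sg w ∈ (⊥ : Subgroup ↥J) := h ▸ mem_map_of_mem c.sg hw
    rw [c.im_eq w.2.1]
    exact congrArg Subtype.val (mem_bot.1 hm)
  · have hcen : c.sg.ker ≤ center ↥c.C0 := by
      rintro ⟨x, hx⟩ hk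
      refine mem_center_iff.2 fun y => Subtype.ext ?_
      show (y : G) * x = x * y
      obtain ⟨q, hq, e | e⟩ := c.ker_C0 hx (congrArg Subtype.val (MonoidHom.mem_ker.1 hk))
      · rw [e, c.comm_P y.2 hq]
      · rw [e, ← mul_assoc, c.comm_z y.2.1, mul_assoc, ← c.comm_P y.2 hq, mul_assoc]
    have hdec : ∀ x : ↥c.C0, ∃ k ∈ K, ∃ q ∈ center ↥c.C0, x = k * q := by
      intro x
      obtain ⟨k, hk, hkx⟩ := h.symm ▸ mem_top (c.sg x)
      exact ⟨k, hk, k⁻¹ * x, hcen (by rw [MonoidHom.mem_ker, map_mul, map_inv, hkx, inv_mul_cancel]), by group⟩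
    have hle : commutator ↥c.C0 ≤ K := by
      rw [commutator_def, commutator_le]
      intro a _ b _
      obtain ⟨k, hk, q, hq, rfl⟩ := hdec a
      obtain ⟨k', hk', q', hq', rfl⟩ := hdec b
      have h1 : ∀ w, Commute q w := fun w => (mem_center_iff.1 hq w).symm
      have h2 : ∀ w, Commute q' w := fun w => (mem_center_iff.1 hq' w).symm
      have e : ⁅k * q, k' * q'⁆ = ⁅k, k'⁆ := by
        rw [commutatorElement_def, commutatorElement_def]
        calc k * q * (k' * q') * (k * q)⁻¹ * (k' * q')⁻¹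
            = k * (q * k') * (q' * (q⁻¹ * k⁻¹)) * (q'⁻¹ * k'⁻¹) := by group
          _ = k * (k' * q) * ((q⁻¹ * k⁻¹) * q') * (q'⁻¹ * k'⁻¹) := by rw [(h1 k').eq, (h2 (q⁻¹ * k⁻¹)).eq]
          _ = _ := by group
      rw [e]
      exact mul_mem (mul_mem (mul_mem hk hk') (inv_mem hk)) (inv_mem hk')
    refine eq_top_iff.2 fun x _ => hle ?_
    have hx : (x : G) ∈ (commutator ↥c.C0).map c.C0.subtype := by
      rw [c.C0.map_subtype_commutator, c.C0_perfect hsp]
      exact x.2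
    obtain ⟨y, hy, hyx⟩ := hx
    exact Subtype.ext hyx ▸ hy

theorem card_OP (hsp : c.Split) :
    ∃ i, Nat.card ↥c.OP = 3 * i ∧ Odd i ∧ (i ≤ 9 ∨ (3 ∣ i ∧ i ≤ 27)) := by
  obtain ⟨l, hl, m, hm, hl1, hm1, hlm, hlc, hmc, hlmc⟩ := c.exists_four hsp
  have hne : ∀ t, c.im t ≠ 1 → t ≠ z := fun t ht e => ht (e ▸ c.im_E c.z_mem_E)
  have h1 := c.card_OP_centralizer (c.L0_le hl) (hne l hl1) hlc
  have h2 := c.card_OP_centralizer (c.L0_le hm) (hne m hm1) hmc
  have h3 := c.card_OP_centralizer (c.L0_le (mul_mem hl hm)) (hne _ hlm) hlmc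
  obtain ⟨i, he, hi⟩ := four_bound c.OP_odd (c.L0_elementary hl) (c.L0_elementary hm) (c.L0_comm hl hm)
    (fun x hx => c.OP_conj (c.L0_le hl).2 hx) (fun x hx => c.OP_conj (c.L0_le hm).2 hx) P fun p hp =>
    ⟨c.P_le_OP hp, (c.comm_P (c.L0_le hl) hp).symm, (c.comm_P (c.L0_le hm) hp).symm⟩
  rw [c.card_P] at hi
  have hi9 : i * 9 ≤ 9 * 9 :=
    hi.trans (Nat.mul_le_mul (Nat.le_of_dvd (by norm_num) h2) (Nat.le_of_dvd (by norm_num) h3))
  have hP : 3 ∣ Nat.card ↥c.OP := c.card_P ▸ card_dvd_of_le c.P_le_OP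
  obtain ⟨k, hk⟩ := hP
  refine ⟨k, hk, ?_, ?_⟩
  · have := hk ▸ c.OP_odd
    exact (Nat.odd_mul.1 this).2
  · have hi' : i ≤ 9 := Nat.le_of_mul_le_mul_right hi9 (by norm_num)
    have hPl : 3 ∣ Nat.card ↥(c.OP ⊓ centralizer ({l} : Set G)) := c.card_P ▸ card_dvd_of_le
      (le_inf c.P_le_OP fun p hp => mem_centralizer_singleton_iff.2 (c.comm_P (c.L0_le hl) hp))
    obtain ⟨a, ha⟩ := hPl
    rw [ha] at he h1
    have ha3 : a ∣ 3 := Nat.dvd_of_mul_dvd_mul_left (by norm_num) (h1.trans (by norm_num : 9 ∣ 3 * 3))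
    rcases (Nat.dvd_prime Nat.prime_three).1 ha3 with rfl | rfl <;> omega

theorem OP_eq_P (hsp : c.Split) : c.OP = P := by
  haveI : Fact (Nat.Prime 11) := ⟨by norm_num⟩
  obtain ⟨w, hw, hw11, hw1⟩ := c.exists_eleven
  letI act' : MulAction ↥c.C0 ↥c.OP :=
    { smul := fun g x => ⟨(g : G) * x * (g : G)⁻¹, c.OP_conj g.2.2 x.2⟩
      one_smul := fun x => Subtype.ext (show (1 : G) * x * (1 : G)⁻¹ = x by group)
      mul_smul := fun g h x => Subtype.ext (show (g : G) * h * x * ((g : G) * h)⁻¹ =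
        g * ((h : G) * x * (h : G)⁻¹) * (g : G)⁻¹ by group) }
  let W : Subgroup ↥c.C0 := zpowers ⟨w, hw⟩
  have hW : IsPGroup 11 ↥W := by
    rintro ⟨x, hx⟩
    obtain ⟨k, rfl⟩ := mem_zpowers_iff.1 hx
    refine ⟨1, Subtype.ext ?_⟩
    rw [pow_one, SubgroupClass.coe_pow]
    show ((⟨w, hw⟩ : ↥c.C0) ^ k) ^ 11 = 1
    rw [← zpow_natCast, ← zpow_mul, mul_comm, zpow_mul, zpow_natCast,
      show (⟨w, hw⟩ : ↥c.C0) ^ 11 = 1 from Subtype.ext hw11, one_zpow]
  let F : Subgroup ↥c.OP := (centralizer ({w} : Set G)).subgroupOf c.OP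
  have hfix : MulAction.fixedPoints ↥W ↥c.OP = (F : Set ↥c.OP) := by
    ext x
    refine ⟨fun hx => ?_, fun hx g => ?_⟩
    · have h : w * (x : G) * w⁻¹ = x := congrArg Subtype.val (hx ⟨_, mem_zpowers _⟩)
      exact mem_centralizer_singleton_iff.2 (mul_inv_eq_iff_eq_mul.1 h).symm
    · have hmem : (g : ↥c.C0) ∈ MulAction.stabilizer ↥c.C0 x :=
        zpowers_le.2 (MulAction.mem_stabilizer_iff.2 (Subtype.ext (show w * (x : G) * w⁻¹ = x by
          rw [← (mem_centralizer_singleton_iff.1 hx : (x : G) * w = w * x), mul_inv_cancel_right]))) g.2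
      exact MulAction.mem_stabilizer_iff.1 hmem
  have hmod := hW.card_modEq_card_fixedPoints ↥c.OP
  rw [hfix] at hmod
  change Nat.card ↥c.OP % 11 = Nat.card ↥F % 11 at hmod
  have h3F : 3 ∣ Nat.card ↥F := by
    have hle : P.subgroupOf c.OP ≤ F := fun p hp => mem_centralizer_singleton_iff.2 (c.comm_P hw hp)
    have := card_dvd_of_le hle
    rwa [Nat.card_congr (subgroupOfEquivOfLe c.P_le_OP).toEquiv, c.card_P] at this
  have hFd := F.card_subgroup_dvd_card
  obtain ⟨d, hd⟩ := h3F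
  obtain ⟨i, hi, hiodd, hi27⟩ := c.card_OP hsp
  rw [hd, hi] at hFd
  have hdi : d ∣ i := Nat.dvd_of_mul_dvd_mul_left (by norm_num) hFd
  have hdeq : d = i := by
    rw [hd, hi] at hmod
    obtain ⟨e, rfl⟩ := hdi
    obtain ⟨hd1, he1⟩ := Nat.odd_mul.1 hiodd
    rw [Nat.odd_iff] at hd1 he1
    have hd27 : d ≤ 27 := le_trans (Nat.le_mul_of_pos_right d (show 0 < e by omega)) (show d * e ≤ 27 by omega)
    interval_cases d <;> omega
  have hFtop : F = ⊤ := eq_top_of_card_eq _ (by rw [hd, hi, hdeq])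
  let K : Subgroup ↥c.C0 := (MulAction.toPermHom ↥c.C0 ↥c.OP).ker
  have hwK : (⟨w, hw⟩ : ↥c.C0) ∈ K := by
    rw [MonoidHom.mem_ker]
    refine Equiv.ext fun x => ?_
    have hx : x ∈ F := hFtop ▸ mem_top x
    exact Subtype.ext (show w * (x : G) * w⁻¹ = x by
      rw [← (mem_centralizer_singleton_iff.1 hx : (x : G) * w = w * x), mul_inv_cancel_right])
  have hKtop := c.C0_normal_eq hsp hwK hw1
  refine le_antisymm (fun x hx => ?_) c.P_le_OP
  have hz : (⟨z, c.z_mem_C0⟩ : ↥c.C0) ∈ K := hKtop ▸ mem_top _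
  have h := congrArg Subtype.val (DFunLike.congr_fun (MonoidHom.mem_ker.1 hz) (⟨x, hx⟩ : ↥c.OP))
  change z * x * z⁻¹ = x at h
  exact c.OP_inf_H hx (mem_centralizer_singleton_iff.2 (mul_inv_eq_iff_eq_mul.1 h).symm)

theorem centralizer_P_eq (hsp : c.Split) : centralizer (P : Set G) = c.C0 := by
  refine le_antisymm (fun h hh => ?_) inf_le_right
  obtain ⟨o, ho, hoh⟩ := c.CP_decomp hh
  rw [c.OP_eq_P hsp] at ho
  exact (mul_mem_cancel_left (c.P_le_C0 ho)).1 hoh

theorem im_center_C0 {x : G} (hx : x ∈ c.C0) (h : ∀ y ∈ c.C0, y * x = x * y) : c.im x = 1 := by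
  haveI := c.facts.simple_J
  have hmem : (⟨c.im x, c.im_C0 hx⟩ : ↥J) ∈ center ↥J := mem_center_iff.2 fun j => by
    obtain ⟨y, hy, hyj⟩ := c.exists_C0_im j.2
    exact Subtype.ext (show (j : A) * c.im x = c.im x * j by
      rw [← hyj, ← c.im_mul hy.1 hx.1, h y hy, c.im_mul hx.1 hy.1])
  rcases (inferInstance : IsSimpleGroup ↥J).eq_bot_or_eq_top_of_normal (center ↥J) inferInstance with hc | hc
  · have hm : (⟨c.im x, c.im_C0 hx⟩ : ↥J) ∈ (⊥ : Subgroup ↥J) := hc ▸ hmem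
    exact congrArg Subtype.val (mem_bot.1 hm)
  · exfalso
    have hbot : commutator ↥J = ⊥ := by
      rw [commutator_def, commutator_eq_bot_iff_le_centralizer]
      exact fun a _ => mem_centralizer_iff.2 fun b _ => mem_center_iff.1 (hc ▸ mem_top a) b
    have h2 := congrArg (fun S : Subgroup ↥J => Nat.card ↥S) (c.commutator_J.symm.trans hbot)
    simp [c.facts.card_J] at h2

/-- The normalizer of `P` lies in the centralizer of `z`. -/
theorem normalizer_P_le (hsp : c.Split) : normalizer (P : Set G) ≤ c.H := by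
  intro h hh
  have hconj : ∀ x, x ∈ c.C0 → h * x * h⁻¹ ∈ c.C0 ∧ h⁻¹ * x * h ∈ c.C0 := by
    intro x hx
    rw [← c.centralizer_P_eq hsp] at hx ⊢
    constructor <;> refine mem_centralizer_iff.2 fun p hp => ?_
    · have hp' : h⁻¹ * p * h ∈ P := (mem_normalizer_iff.1 hh _).2 (by rwa [show h * (h⁻¹ * p * h) * h⁻¹ = p by group])
      calc p * (h * x * h⁻¹) = h * (h⁻¹ * p * h * x) * h⁻¹ := by group
        _ = h * (x * (h⁻¹ * p * h)) * h⁻¹ := by rw [mem_centralizer_iff.1 hx _ hp']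
        _ = _ := by group
    · have hp' : h * p * h⁻¹ ∈ P := (mem_normalizer_iff.1 hh p).1 hp
      calc p * (h⁻¹ * x * h) = h⁻¹ * (h * p * h⁻¹ * x) * h := by group
        _ = h⁻¹ * (x * (h * p * h⁻¹)) * h := by rw [mem_centralizer_iff.1 hx _ hp']
        _ = _ := by group
  obtain ⟨hz, -⟩ := hconj z c.z_mem_C0
  have hcen : ∀ y ∈ c.C0, y * (h * z * h⁻¹) = h * z * h⁻¹ * y := fun y hy => by
    calc y * (h * z * h⁻¹) = h * ((h⁻¹ * y * h) * z) * h⁻¹ := by group
      _ = h * (z * (h⁻¹ * y * h)) * h⁻¹ := by rw [c.comm_z (hconj y hy).2.1]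
      _ = _ := by group
  have he := c.C0_ker_invol hz (c.im_center_C0 hz hcen) (CfsgLib.Invol.invol_conj c.ord h)
  exact mem_centralizer_singleton_iff.2 (mul_inv_eq_iff_eq_mul.1 he)

end CfsgLib.Spor.JFourType.Ctx
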