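import Cfsg.Agent.Lib.Spor.JFourType.LocalComplement

/-!
# `C0` is perfect and contains a four group of conjugates of `z`

The double count excluding an invariant complement to `z` in `L0`, and its consequences.
-/

set_option autoImplicit false
set_option linter.style.haveILetI false

namespace CfsgLib.Spor.JFourType.Ctx

open Subgroup
open scoped commutatorElement

universe u

variable {G : Type u} [Group G] [Finite G] {A : Type} [Group A] {J I R : Subgroup A}
  {z : G} {P : Subgroup G} (c : Ctx J I R z P)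
include c

/-- There is no invariant complement. -/
theorem no_compl (hsp : c.Split) {L : Subgroup G} (hL : c.Compl L) : False := by
  classical
  haveI : Fintype G := Fintype.ofFinite G
  haveI : Finite A := Finite.of_surjective c.pr c.pr_surj
  haveI : Fintype A := Fintype.ofFinite A
  set N := normalizer (c.W : Set G)
  set K0 := c.Kphi L with hK0
  let Φ : Finset (Subgroup G) := (Finset.univ : Finset ↥N).image fun n : ↥N => c.conjSub (n : G) K0
  let O : Finset G := Finset.univ.filter fun x => x ∈ c.W ∧ IsConj z x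
  have hO : O.card = 1771 := by
    rw [← hsp.card_conj, ← Set.ncard_coe_finset]
    congr 1
    ext x
    simp [O]
  have hOmem : ∀ x, x ∈ O ↔ x ∈ c.W ∧ IsConj z x := fun x => by simp [O]
  have hΦmem : ∀ K, K ∈ Φ ↔ ∃ n ∈ N, c.conjSub n K0 = K := fun K => by
    simp only [Φ, Finset.mem_image, Finset.mem_univ, true_and, Subtype.exists, exists_prop]
  have hK0mem : K0 ∈ Φ := (hΦmem _).2 ⟨1, one_mem _, c.conjSub_one _⟩
  have hΦclosed : ∀ n ∈ N, ∀ K ∈ Φ, c.conjSub n K ∈ Φ := by
    intro n hn K hK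
    obtain ⟨m, hm, rfl⟩ := (hΦmem K).1 hK
    exact (hΦmem _).2 ⟨n * m, mul_mem hn hm, (c.conjSub_mul n m K0).symm⟩
  have hΦhalf : ∀ K ∈ Φ, c.Half K c.W := by
    intro K hK
    obtain ⟨m, hm, rfl⟩ := (hΦmem K).1 hK
    exact c.half_conjSub hm (c.Kphi_half hL)
  have hOclosed : ∀ n ∈ N, ∀ x ∈ O, n * x * n⁻¹ ∈ O := by
    intro n hn x hx
    rw [hOmem] at hx ⊢
    exact ⟨(mem_normalizer_iff.1 hn x).1 hx.1, hx.2.trans (isConj_iff.2 ⟨n, rfl⟩)⟩
  -- the conjugates outside one of the halves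
  have hk : ∀ K ∈ Φ, (O.filter fun x => x ∉ K).card = (O.filter fun x => x ∉ K0).card := by
    intro K hK
    obtain ⟨n, hn, rfl⟩ := (hΦmem K).1 hK
    refine Finset.card_bij' (fun x _ => n⁻¹ * x * n) (fun x _ => n * x * n⁻¹) ?_ ?_ ?_ ?_
    · intro x hx
      rw [Finset.mem_filter, c.mem_conjSub] at hx
      rw [Finset.mem_filter]
      refine ⟨?_, hx.2⟩
      have := hOclosed n⁻¹ (inv_mem hn) x hx.1
      rwa [inv_inv] at this
    · intro x hx
      rw [Finset.mem_filter] at hx
      rw [Finset.mem_filter, c.mem_conjSub]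
      refine ⟨hOclosed n hn x hx.1, ?_⟩
      rw [show n⁻¹ * (n * x * n⁻¹) * n = x by group]
      exact hx.2
    · intro x _
      show n * (n⁻¹ * x * n) * n⁻¹ = x
      group
    · intro x _
      show n⁻¹ * (n * x * n⁻¹) * n = x
      group
  -- the halves missing one of the conjugates
  have hm : ∀ x ∈ O, (Φ.filter fun K => x ∉ K).card = (Φ.filter fun K => z ∉ K).card := by
    intro x hx
    obtain ⟨hxW, hxc⟩ := (hOmem x).1 hx
    obtain ⟨n, hn, rfl⟩ := hsp.fusion x hxW hxc
    refine Finset.card_bij' (fun K _ => c.conjSub n⁻¹ K) (fun K _ => c.conjSub n K) ?_ ?_ ?_ ?_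
    · intro K hK
      rw [Finset.mem_filter] at hK
      rw [Finset.mem_filter, c.mem_conjSub, inv_inv]
      exact ⟨hΦclosed _ (inv_mem hn) K hK.1, hK.2⟩
    · intro K hK
      rw [Finset.mem_filter] at hK
      rw [Finset.mem_filter, c.mem_conjSub, show n⁻¹ * (n * z * n⁻¹) * n = z by group]
      exact ⟨hΦclosed n hn K hK.1, hK.2⟩
    · intro K _
      show c.conjSub n (c.conjSub n⁻¹ K) = K
      rw [c.conjSub_mul, mul_inv_cancel, c.conjSub_one]
    · intro K _
      show c.conjSub n⁻¹ (c.conjSub n K) = K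
      rw [c.conjSub_mul, inv_mul_cancel, c.conjSub_one]
  have hdouble : ∑ K ∈ Φ, (O.filter fun x => x ∉ K).card = ∑ x ∈ O, (Φ.filter fun K => x ∉ K).card := by
    simp only [Finset.card_filter]
    exact Finset.sum_comm
  rw [Finset.sum_congr rfl hk, Finset.sum_congr rfl hm, Finset.sum_const, Finset.sum_const, smul_eq_mul,
    smul_eq_mul, hO] at hdouble
  have h64 : 64 ∣ (Φ.filter fun K => z ∉ K).card := by
    refine c.dvd_card_half _ (fun K hK => hΦhalf K (Finset.mem_filter.1 hK).1)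
      (fun K hK => (Finset.mem_filter.1 hK).2) fun K hK e he => ?_
    rw [Finset.mem_filter] at hK ⊢
    refine ⟨hΦclosed e (c.E_normalizes_W he) K hK.1, ?_⟩
    rw [c.mem_conjSub, mul_assoc, ← c.comm_z (c.E_le he), inv_mul_cancel_left]
    exact hK.2
  have hF := c.card_half Φ hΦhalf
  have hmF : (Φ.filter fun K => z ∉ K).card ≤ Φ.card := Finset.card_filter_le _ _
  have hm1 : 0 < (Φ.filter fun K => z ∉ K).card :=
    Finset.card_pos.2 ⟨K0, Finset.mem_filter.2 ⟨hK0mem, c.z_notMem_Kphi hL⟩⟩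
  -- the count for the hyperplane of the complement
  let It : Finset A := Finset.univ.filter fun i => i ∈ I
  have hIt : It.card = 16 := by
    rw [← c.facts.card_I, Nat.card_eq_fintype_card, Fintype.card_subtype]
  let fib : A → Finset G := fun i => O.filter fun x => c.im x = i
  have hfibc : ∀ i, (fib i).card = Set.ncard {x : G | x ∈ c.W ∧ c.im x = i ∧ IsConj z x} := fun i => by
    rw [← Set.ncard_coe_finset]
    congr 1
    ext x
    simp [fib, O]
    tauto
  have hxor : ∀ x ∈ O, x ∈ K0 ↔ x * z ∉ K0 := fun x hx => c.Kphi_xor hL ((hOmem x).1 hx).1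
  have h1 : ((fib 1).filter fun x => x ∉ K0).card = 46 := by
    have hzO : z ∈ fib 1 := by
      simp only [fib, Finset.mem_filter, hOmem]
      exact ⟨⟨c.z_mem_W, IsConj.refl z⟩, c.im_E c.z_mem_E⟩
    have hc : (fib 1).card = 91 := by
      rw [hfibc, ← hsp.card_Ut_conj]
      congr 1
      ext x
      simp only [Set.mem_setOf_eq]
      exact ⟨fun h => ⟨c.mem_Ut_of_im h.1 h.2.1, h.2.2⟩, fun h => ⟨mem_sup_left h.1, c.im_E h.1.1, h.2⟩⟩
    have hcl : ∀ x ∈ (fib 1).erase z, x * z ∈ (fib 1).erase z := by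
      intro x hx
      simp only [Finset.mem_erase, fib, Finset.mem_filter, hOmem] at hx ⊢
      obtain ⟨hne, ⟨hxW, hxc⟩, hxi⟩ := hx
      have hxU := c.mem_Ut_of_im hxW hxi
      refine ⟨fun h => ?_, ⟨mul_mem hxW c.z_mem_W, hsp.Ut_pair x hxU hxc hne⟩,
        c.im_E (mul_mem hxU.1 c.z_mem_E)⟩
      rw [mul_eq_right] at h
      obtain ⟨g, hg⟩ := isConj_iff.1 hxc
      rw [h, conj_eq_one_iff] at hg
      exact c.z_ne hg
    have h2 := c.two_mul_outside ((fib 1).erase z) K0 hcl
      fun x hx => hxor x (Finset.mem_filter.1 (Finset.mem_of_mem_erase hx)).1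
    rw [Finset.card_erase_of_mem hzO, hc] at h2
    have h3 : ((fib 1).filter fun x => x ∉ K0) = insert z (((fib 1).erase z).filter fun x => x ∉ K0) := by
      conv_lhs => rw [← Finset.insert_erase hzO, Finset.filter_insert, if_pos (c.z_notMem_Kphi hL)]
    rw [h3, Finset.card_insert_of_notMem (by simp)]
    omega
  have hi : ∀ i ∈ I, i ≠ 1 → 48 ≤ ((fib i).filter fun x => x ∉ K0).card ∧
      ((fib i).filter fun x => x ∉ K0).card ≤ 64 := by
    intro i hiI hne
    let S := (fib i).filter fun x => IsConj z (x * z)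
    have hS : S.card = 96 := by
      rw [← hsp.card_fibre_pair i hiI hne, ← Set.ncard_coe_finset]
      congr 1
      ext x
      simp [S, fib, O]
      tauto
    have hcl : ∀ x ∈ S, x * z ∈ S := by
      intro x hx
      simp only [S, fib, Finset.mem_filter, hOmem] at hx ⊢
      refine ⟨⟨⟨mul_mem hx.1.1.1 c.z_mem_W, hx.2⟩, ?_⟩, ?_⟩
      · rw [c.im_mul (c.H_of_M (c.W_le_M hx.1.1.1)) c.z_mem_H, c.im_E c.z_mem_E, mul_one]
        exact hx.1.2
      · rw [mul_assoc, c.zz, mul_one]
        exact hx.1.1.2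
    have h2 := c.two_mul_outside S K0 hcl
      fun x hx => hxor x (Finset.mem_filter.1 (Finset.mem_filter.1 hx).1).1
    have hle : (S.filter fun x => x ∉ K0).card ≤ ((fib i).filter fun x => x ∉ K0).card :=
      Finset.card_le_card (Finset.filter_subset_filter _ (Finset.filter_subset _ _))
    have hin : ((fib i).filter fun x => x ∈ K0).card + ((fib i).filter fun x => x ∉ K0).card = 112 := by
      rw [Finset.card_filter_add_card_filter_not, hfibc, hsp.card_fibre i hiI hne]
    have hle' : (S.filter fun x => x ∈ K0).card ≤ ((fib i).filter fun x => x ∈ K0).card :=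
      Finset.card_le_card (Finset.filter_subset_filter _ (Finset.filter_subset _ _))
    have h3 := S.card_filter_add_card_filter_not (fun x => x ∈ K0)
    omega
  have hconst : ∀ i ∈ I, ∀ i' ∈ I, i ≠ 1 → i' ≠ 1 →
      ((fib i).filter fun x => x ∉ K0).card = ((fib i').filter fun x => x ∉ K0).card := by
    intro i hiI i' hiI' hne hne'
    obtain ⟨j, hj, hn, hji⟩ := c.facts.I_trans i hiI i' hiI' hne hne'
    obtain ⟨g, hg, hgj⟩ := c.exists_C0_im hj
    have hgn : c.im g ∈ normalizer (I : Set A) := hgj.symm ▸ isConjugateBy_self_iff.1 hn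
    have hgn' : c.im g⁻¹ ∈ normalizer (I : Set A) := by rw [c.im_inv hg.1]; exact inv_mem hgn
    refine Finset.card_bij' (fun x _ => g * x * g⁻¹) (fun x _ => g⁻¹ * x * g) ?_ ?_ ?_ ?_
    · intro x hx
      simp only [fib, Finset.mem_filter] at hx ⊢
      obtain ⟨⟨hxO, hxi⟩, hxK⟩ := hx
      have hxH := c.H_of_M (c.W_le_M ((hOmem x).1 hxO).1)
      refine ⟨⟨hOclosed g (c.normalizes_W hg hgn) x hxO, by rw [c.im_conj hg.1 hxH, hxi, hgj, hji]⟩, fun h => hxK ?_⟩
      have h' := c.Kphi_conj hL (inv_mem hg) hgn' h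
      rwa [inv_inv, show g⁻¹ * (g * x * g⁻¹) * g = x by group] at h'
    · intro x hx
      simp only [fib, Finset.mem_filter] at hx ⊢
      obtain ⟨⟨hxO, hxi⟩, hxK⟩ := hx
      have hxH := c.H_of_M (c.W_le_M ((hOmem x).1 hxO).1)
      have h1 := hOclosed g⁻¹ (c.normalizes_W (inv_mem hg) hgn') x hxO
      rw [inv_inv] at h1
      refine ⟨⟨h1, ?_⟩, fun h => hxK ?_⟩
      · rw [c.im_mul (mul_mem (inv_mem hg.1) hxH) hg.1, c.im_mul (inv_mem hg.1) hxH, c.im_inv hg.1, hxi, hgj, ← hji]
        group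
      · have h' := c.Kphi_conj hL hg hgn h
        rwa [show g * (g⁻¹ * x * g) * g⁻¹ = x by group] at h'
    · intro x _
      show g⁻¹ * (g * x * g⁻¹) * g = x
      group
    · intro x _
      show g * (g⁻¹ * x * g) * g⁻¹ = x
      group
  have hOI : ∀ x ∈ O.filter (fun x => x ∉ K0), c.im x ∈ It := fun x hx => by
    simp only [It, Finset.mem_filter, Finset.mem_univ, true_and]
    exact c.im_of_W ((hOmem x).1 (Finset.mem_filter.1 hx).1).1
  have hsum := Finset.card_eq_sum_card_fiberwise hOI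
  have h1I : (1 : A) ∈ It := by simp [It]
  rw [← Finset.add_sum_erase _ _ h1I] at hsum
  obtain ⟨i0, hi0⟩ : (It.erase 1).Nonempty := Finset.card_pos.1 (by
    rw [Finset.card_erase_of_mem h1I, hIt]; norm_num)
  have hi0' : i0 ∈ I ∧ i0 ≠ 1 := by
    simp only [It, Finset.mem_erase, Finset.mem_filter, Finset.mem_univ, true_and] at hi0
    exact ⟨hi0.2, hi0.1⟩
  have hsw : ∀ i : A, ((O.filter fun x => x ∉ K0).filter fun x => c.im x = i) = (fib i).filter fun x => x ∉ K0 :=
    fun i => Finset.filter_comm _ _ _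
  simp only [hsw] at hsum
  rw [h1, Finset.sum_congr rfl (fun i hi' => by
      simp only [It, Finset.mem_erase, Finset.mem_filter, Finset.mem_univ, true_and] at hi'
      exact hconst i hi'.2 i0 hi0'.1 hi'.1 hi0'.2), Finset.sum_const, smul_eq_mul,
    Finset.card_erase_of_mem h1I, hIt] at hsum
  obtain ⟨hlo, hhi⟩ := hi i0 hi0'.1 hi0'.2
  obtain ⟨t, ht⟩ := h64
  rw [hsum, ht] at hdouble
  rw [ht] at hmF hm1
  generalize ((fib i0).filter fun x => x ∉ K0).card = k at hdouble hlo hhi
  interval_cases k <;> omega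

theorem commutator_J : commutator ↥J = ⊤ := by
  haveI := c.facts.simple_J
  haveI : Finite ↥J := Finite.of_surjective c.sg c.sg_surj
  rcases (inferInstance : IsSimpleGroup ↥J).eq_bot_or_eq_top_of_normal (commutator ↥J) inferInstance with h | h
  · exfalso
    letI : CommGroup ↥J :=
      { (inferInstance : Group ↥J) with
        mul_comm := fun a b => commutatorElement_eq_one_iff_mul_comm.1 (mem_bot.1 (h ▸
          commutator_mem_commutator (mem_top a) (mem_top b))) }
    have hp := IsSimpleGroup.prime_card (α := ↥J)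
    rw [c.facts.card_J] at hp
    norm_num at hp
  · exact h

theorem commutator_C0_le : ⁅c.C0, c.C0⁆ ≤ c.C0 := commutator_le.2 fun _ hg _ hk =>
  mul_mem (mul_mem (mul_mem hg hk) (inv_mem hg)) (inv_mem hk)

theorem exists_commutator_im {j : A} (hj : j ∈ J) : ∃ d ∈ ⁅c.C0, c.C0⁆, c.im d = j := by
  have h : (commutator ↥c.C0).map c.sg = ⊤ := by
    rw [commutator_def, map_commutator, map_top_of_surjective _ c.sg_surj, ← commutator_def, c.commutator_J]
  obtain ⟨w, hw, hwj⟩ := h.symm ▸ mem_top (⟨j, hj⟩ : ↥J)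
  refine ⟨w, ?_, by rw [c.im_eq w.2.1]; exact congrArg Subtype.val hwj⟩
  rw [← c.C0.map_subtype_commutator]
  exact ⟨w, hw, rfl⟩

theorem z_mem_commutator (hsp : c.Split) : z ∈ ⁅c.C0, c.C0⁆ := by
  by_contra hz
  refine c.no_compl hsp (L := c.L0 ⊓ ⁅c.C0, c.C0⁆) ⟨inf_le_left, fun h => hz h.2, fun l hl => ?_, ?_⟩
  · obtain ⟨hlC, hlI, -⟩ := c.mem_L0.1 hl
    obtain ⟨d, hd, hdl⟩ := c.exists_commutator_im (c.facts.I_le hlI)
    have hdC := c.commutator_C0_le hd
    have hd3 : d ^ 3 ∈ c.L0 := by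
      refine c.mem_L0.2 ⟨pow_mem hdC 3, by rw [c.im_pow hdC.1, hdl]; exact pow_mem hlI 3, ?_⟩
      rw [← pow_mul, show 3 * 32 = 2 * 6 * 8 from rfl, pow_mul, pow_mul,
        c.sq_three c.sixteen_I hdC (hdl ▸ hlI), one_pow]
    have him : c.im ((d ^ 3)⁻¹ * l) = 1 := by
      rw [c.im_mul (inv_mem (pow_mem hdC.1 3)) hlC.1, c.im_inv (pow_mem hdC.1 3), c.im_pow hdC.1, hdl,
        pow_succ, c.facts.ea_I.2 _ hlI, one_mul, inv_mul_cancel]
    rcases c.L0_ker (mul_mem (inv_mem hd3) hl) him with h | h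
    · exact Or.inl ⟨hl, inv_mul_eq_one.1 h ▸ pow_mem hd 3⟩
    · refine Or.inr ?_
      rw [inv_mul_eq_iff_eq_mul.1 h, mul_assoc, c.zz, mul_one]
      exact ⟨hd3, pow_mem hd 3⟩
  · intro g hg hn l hl
    refine ⟨c.L0_conj hg hn hl.1, ?_⟩
    rw [← c.C0.map_subtype_commutator] at hl ⊢
    obtain ⟨w, hw, rfl⟩ := hl.2
    exact ⟨⟨g, hg⟩ * w * ⟨g, hg⟩⁻¹, Normal.conj_mem inferInstance w hw _, rfl⟩

theorem C0_perfect (hsp : c.Split) : ⁅c.C0, c.C0⁆ = c.C0 := by
  refine le_antisymm c.commutator_C0_le fun x hx => ?_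
  obtain ⟨d, hd, hdx⟩ := c.exists_commutator_im (c.im_C0 hx)
  have hdC := c.commutator_C0_le hd
  have hk : c.pr ⟨d⁻¹ * x, (mul_mem (inv_mem hdC) hx : _ ∈ c.C0).1⟩ = 1 := by
    rw [← c.im_eq, c.im_mul (inv_mem hdC.1) hx.1, c.im_inv hdC.1, hdx, inv_mul_cancel]
  obtain ⟨q, hq, h | h⟩ := c.ker_C0 (mul_mem (inv_mem hdC) hx) hk
  · rw [inv_mul_eq_iff_eq_mul.1 h]
    exact mul_mem hd (c.P_comm hq)
  · rw [inv_mul_eq_iff_eq_mul.1 h]
    exact mul_mem hd (mul_mem (c.z_mem_commutator hsp) (c.P_comm hq))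

theorem exists_four (hsp : c.Split) : ∃ l ∈ c.L0, ∃ m ∈ c.L0, c.im l ≠ 1 ∧ c.im m ≠ 1 ∧ c.im (l * m) ≠ 1 ∧
    IsConj z l ∧ IsConj z m ∧ IsConj z (l * m) := by
  by_contra hcon
  have hlz : ∀ l ∈ c.L0, c.im (l * z) = c.im l := fun l hl => by
    rw [c.im_mul (c.L0_le hl).1 c.z_mem_H, c.im_E c.z_mem_E, mul_one]
  let Sset : Set G := {x | x = 1 ∨ (x ∈ c.L0 ∧ c.im x ≠ 1 ∧ IsConj z (x * z))}
  let L : Subgroup G :=
    { carrier := Sset
      one_mem' := Or.inl rfl
      mul_mem' := by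
        rintro a b (rfl | ⟨ha, ha1, hac⟩) hb
        · rwa [one_mul]
        rcases hb with rfl | ⟨hb, hb1, hbc⟩
        · rw [mul_one]; exact Or.inr ⟨ha, ha1, hac⟩
        by_cases hab : c.im (a * b) = 1
        · rcases c.L0_ker (mul_mem ha hb) hab with h | h
          · exact Or.inl h
          · exfalso
            have hb' : b = a * z := by
              rw [← h, ← mul_assoc, c.L0_elementary ha, one_mul]
            refine (hsp.L0_single (a * z) (mul_mem ha c.z_mem_L0) (by rw [hlz a ha]; exact ha1)).1 hac ?_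
            rw [← hb']
            exact hbc
        · refine Or.inr ⟨mul_mem ha hb, hab, ?_⟩
          have e : a * z * (b * z) = a * b := by
            calc a * z * (b * z) = a * (z * b) * z := by group
              _ = a * b * (z * z) := by rw [← c.comm_z (c.L0_le hb).1]; group
              _ = _ := by rw [c.zz, mul_one]
          have h : ¬ IsConj z (a * b) := fun h => hcon ⟨a * z, mul_mem ha c.z_mem_L0, b * z,
            mul_mem hb c.z_mem_L0, by rw [hlz a ha]; exact ha1, by rw [hlz b hb]; exact hb1,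
            by rw [e]; exact hab, hac, hbc, e.symm ▸ h⟩
          by_contra h'
          exact h ((hsp.L0_single _ (mul_mem ha hb) hab).2 h')
      inv_mem' := by
        rintro a (rfl | ha)
        · exact Or.inl inv_one
        · rw [inv_eq_of_mul_eq_one_right (c.L0_elementary ha.1)]
          exact Or.inr ha }
  refine c.no_compl hsp (L := L) ⟨fun x hx => ?_, ?_, fun l hl => ?_, fun g hg hn l hl => ?_⟩
  · rcases hx with rfl | hx
    · exact one_mem _
    · exact hx.1
  · rintro (h | ⟨-, h, -⟩)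
    · exact c.z_ne h
    · exact h (c.im_E c.z_mem_E)
  · by_cases h1 : c.im l = 1
    · rcases c.L0_ker hl h1 with rfl | rfl
      · exact Or.inl (one_mem _)
      · exact Or.inr (c.zz.symm ▸ one_mem _)
    by_cases hc : IsConj z (l * z)
    · exact Or.inl (Or.inr ⟨hl, h1, hc⟩)
    · refine Or.inr (Or.inr ⟨mul_mem hl c.z_mem_L0, by rw [hlz l hl]; exact h1, ?_⟩)
      rw [mul_assoc, c.zz, mul_one]
      exact (hsp.L0_single l hl h1).2 hc
  · rcases hl with rfl | ⟨hl, h1, hc⟩
    · rw [mul_one, mul_inv_cancel]; exact one_mem _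
    · refine Or.inr ⟨c.L0_conj hg hn hl, ?_, ?_⟩
      · rw [c.im_conj hg.1 (c.L0_le hl).1]
        exact fun h => h1 (conj_eq_one_iff.1 h)
      · refine hc.trans (isConj_iff.2 ⟨g, ?_⟩)
        rw [show g * (l * z) * g⁻¹ = g * l * (z * g⁻¹) by group, ← c.comm_z (inv_mem hg.1), ← mul_assoc]

end CfsgLib.Spor.JFourType.Ctx
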