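import Cfsg.Agent.Lib.Spor.JFourType.Quot

/-!
# A nonabelian subgroup of order 27
-/

set_option autoImplicit false
set_option linter.style.haveILetI false

namespace CfsgLib.Spor.JFourType.Ctx

open Subgroup
open scoped commutatorElement

universe u

variable {G : Type u} [Group G] [Finite G] {A : Type} [Group A] {J I R : Subgroup A}
  {z : G} {P : Subgroup G} (c : Ctx J I R z P)
include c

/-- The map of `C0` onto the simple subgroup. -/
noncomputable def sg : ↥c.C0 →* ↥J where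
  toFun x := ⟨c.pr ⟨x, x.2.1⟩, c.pr_C0 x.2⟩
  map_one' := Subtype.ext (map_one c.pr)
  map_mul' x y := Subtype.ext (map_mul c.pr ⟨x, x.2.1⟩ ⟨y, y.2.1⟩)

theorem sg_surj : Function.Surjective c.sg := fun j => by
  obtain ⟨x, hx, e⟩ := c.exists_C0 j.2
  exact ⟨⟨x, hx⟩, Subtype.ext e⟩

theorem z_pow_notMem : z ∉ P := fun h => c.z_ne (c.E_inf_P c.z_mem_E h)

theorem card_sg_ker : Nat.card ↥c.sg.ker = 6 := by
  classical
  let f : Fin 2 × ↥P → ↥c.sg.ker := fun w =>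
    ⟨⟨(if w.1 = 0 then 1 else z) * w.2, by
        split
        · exact mul_mem (one_mem _) (c.P_le_C0 w.2.2)
        · exact mul_mem c.z_mem_C0 (c.P_le_C0 w.2.2)⟩, by
      rw [MonoidHom.mem_ker]
      refine Subtype.ext ?_
      show c.pr _ = 1
      have hP := c.pr_P w.2.2
      by_cases h : w.1 = 0
      · simp only [h, if_true, one_mul]
        exact hP
      · simp only [h, if_false]
        rw [show (⟨z * (w.2 : G), mul_mem c.z_mem_H (c.P_le_C0 w.2.2).1⟩ : ↥c.H) =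
          ⟨z, c.z_mem_H⟩ * ⟨w.2, (c.P_le_C0 w.2.2).1⟩ from rfl, map_mul, hP, mul_one]
        exact c.pr_E c.z_mem_E⟩
  have hbij : Function.Bijective f := by
    refine ⟨?_, ?_⟩
    · rintro ⟨i, p⟩ ⟨j, q⟩ h
      have h' : (if i = 0 then 1 else z) * (p : G) = (if j = 0 then 1 else z) * (q : G) :=
        congrArg (fun w : ↥c.sg.ker => ((w : ↥c.C0) : G)) h
      have hij : i = j := by
        by_contra hne
        refine c.z_pow_notMem ?_
        match i, j with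
        | 0, 0 => exact absurd rfl hne
        | 0, 1 =>
          simp only [if_true, one_ne_zero, if_false, one_mul] at h'
          rw [show z = (p : G) * (q : G)⁻¹ by rw [h', mul_inv_cancel_right]]
          exact mul_mem p.2 (inv_mem q.2)
        | 1, 0 =>
          simp only [if_true, one_ne_zero, if_false, one_mul] at h'
          rw [show z = (q : G) * (p : G)⁻¹ by rw [← h', mul_inv_cancel_right]]
          exact mul_mem q.2 (inv_mem p.2)
        | 1, 1 => exact absurd rfl hne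
      subst hij
      exact Prod.ext rfl (Subtype.ext (mul_left_cancel h'))
    · rintro ⟨⟨x, hx⟩, hk⟩
      obtain ⟨q, hq, h | h⟩ := c.ker_C0 hx (congrArg Subtype.val (MonoidHom.mem_ker.1 hk))
      · exact ⟨(0, ⟨q, hq⟩), Subtype.ext (Subtype.ext (by simp [f, h]))⟩
      · exact ⟨(1, ⟨q, hq⟩), Subtype.ext (Subtype.ext (by simp [f, h]))⟩
  rw [← Nat.card_congr (Equiv.ofBijective f hbij), Nat.card_prod, c.card_P, Nat.card_fin]

theorem card_preimage (Y : Subgroup ↥J) : Nat.card ↥(Y.comap c.sg) = 6 * Nat.card ↥Y := by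
  have h := card_eq_card_quotient_mul_card_subgroup (c.sg.ker.subgroupOf (Y.comap c.sg))
  have hle : c.sg.ker ≤ Y.comap c.sg := fun x hx => by
    rw [mem_comap, MonoidHom.mem_ker.1 hx]; exact one_mem _
  rw [Nat.card_congr (subgroupOfEquivOfLe hle).toEquiv, c.card_sg_ker] at h
  let f : ↥(Y.comap c.sg) →* ↥Y := (c.sg.comp (Y.comap c.sg).subtype).codRestrict Y fun x => x.2
  have hf : Function.Surjective f := fun y => by
    obtain ⟨x, hx⟩ := c.sg_surj y.1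
    exact ⟨⟨x, show c.sg x ∈ Y by rw [hx]; exact y.2⟩, Subtype.ext hx⟩
  have hk : f.ker = c.sg.ker.subgroupOf (Y.comap c.sg) := by
    ext x
    rw [MonoidHom.mem_ker, mem_subgroupOf, MonoidHom.mem_ker]
    exact ⟨fun h => congrArg Subtype.val h, fun h => Subtype.ext h⟩
  rw [← hk, Nat.card_congr (QuotientGroup.quotientKerEquivOfSurjective f hf).toEquiv] at h
  rw [h, mul_comm]

theorem card_C0 : Nat.card ↥c.C0 = 6 * 443520 := by
  have := c.card_preimage ⊤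
  rwa [comap_top, card_top, card_top, c.facts.card_J] at this

/-- The subgroup of order 27 over a given subgroup of order nine. -/
theorem exists_three (Y : Subgroup A) (hY : Y ≤ J) (hY9 : Nat.card ↥Y = 9) :
    ∃ Q : Subgroup G, Q ≤ c.C0 ∧ Nat.card ↥Q = 27 ∧ P ≤ Q ∧
      (∀ x (hx : x ∈ c.C0), x ∈ Q → c.pr ⟨x, hx.1⟩ ∈ Y) ∧
      (∀ y ∈ Y, ∃ x, ∃ hx : x ∈ c.C0, x ∈ Q ∧ c.pr ⟨x, hx.1⟩ = y) ∧
      ∃ a ∈ Q, ∃ b ∈ Q, ⁅a, b⁆ = c.pg := by
  classical
  haveI : Fact (Nat.Prime 3) := ⟨Nat.prime_three⟩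
  let K : Subgroup ↥c.C0 := (Y.subgroupOf J).comap c.sg
  have hK : Nat.card ↥K = 54 := by
    rw [c.card_preimage, Nat.card_congr (subgroupOfEquivOfLe hY).toEquiv, hY9]
  obtain ⟨S⟩ := (inferInstance : Nonempty (Sylow 3 ↥K))
  have hS : Nat.card ↥(S : Subgroup ↥K) = 27 := by
    rw [S.card_eq_multiplicity, hK, show (54 : ℕ) = 3 ^ 3 * 2 by norm_num,
      Nat.factorization_mul (by norm_num) (by norm_num), Finsupp.add_apply,
      Nat.factorization_eq_zero_of_not_dvd (show ¬ 3 ∣ 2 by norm_num), Nat.factorization_pow,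
      Finsupp.smul_apply, Nat.prime_three.factorization_self]
    norm_num
  let S0 : Subgroup ↥c.C0 := (S : Subgroup ↥K).map K.subtype
  have hS0 : Nat.card ↥S0 = 27 := by
    rw [← hS]
    exact (Nat.card_congr (equivMapOfInjective _ _ K.subtype_injective).toEquiv).symm
  let Q : Subgroup G := S0.map c.C0.subtype
  have hQc : Nat.card ↥Q = 27 := by
    rw [← hS0]
    exact (Nat.card_congr (equivMapOfInjective _ _ c.C0.subtype_injective).toEquiv).symm
  have hQim : ∀ x (hx : x ∈ c.C0), x ∈ Q → c.pr ⟨x, hx.1⟩ ∈ Y := by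
    rintro x hx ⟨_, ⟨w, hw, rfl⟩, rfl⟩
    exact w.2
  have hPQ : P ≤ Q := by
    intro p hp
    have hmem : (⟨p, c.P_le_C0 hp⟩ : ↥c.C0) ∈ K := by
      show c.pr ⟨p, (c.P_le_C0 hp).1⟩ ∈ Y
      rw [c.pr_P hp]; exact one_mem _
    haveI hN : ((P.subgroupOf c.C0).subgroupOf K).Normal := ⟨fun w hw g => by
      simp only [mem_subgroupOf, Subgroup.coe_mul, InvMemClass.coe_inv] at hw ⊢
      rw [← c.comm_P g.1.2 hw, mul_inv_cancel_right]
      exact hw⟩
    have hP3 : IsPGroup 3 ↥((P.subgroupOf c.C0).subgroupOf K) :=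
      ((IsPGroup.of_card (n := 1) (by rw [pow_one]; exact c.card_P) : IsPGroup 3 ↥P).comap_subtype).comap_subtype
    exact ⟨⟨p, c.P_le_C0 hp⟩, ⟨⟨_, hmem⟩, hP3.le_sylow_of_normal S hp, rfl⟩, rfl⟩
  have hQC : Q ≤ c.C0 := map_subtype_le _
  have himg : ∀ y ∈ Y, ∃ x, ∃ hx : x ∈ c.C0, x ∈ Q ∧ c.pr ⟨x, hx.1⟩ = y := by
    intro y hy
    obtain ⟨x, hx, rfl⟩ := c.exists_C0 (hY hy)
    have hxK : (⟨x, hx⟩ : ↥c.C0) ∈ K := hy
    obtain ⟨m, hm⟩ : ∃ m : ℕ, (⟨x, hx⟩ : ↥c.C0) ^ 54 = 1 ∧ m = 28 := ⟨28, by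
      have := pow_card_eq_one' (G := ↥K) (x := ⟨_, hxK⟩)
      rw [hK] at this
      exact congrArg Subtype.val this, rfl⟩
    -- an element of three-power order with the same image
    set w : ↥K := (⟨_, hxK⟩ : ↥K) ^ 28 with hw
    have hw27 : w ^ 27 = 1 := by
      rw [hw, ← pow_mul, show 28 * 27 = 54 * 14 by norm_num, pow_mul, ← hK, pow_card_eq_one', one_pow]
    have hind : (S : Subgroup ↥K).index = 2 := by
      have h1 := (S : Subgroup ↥K).card_mul_index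
      rw [hS, hK] at h1
      omega
    have hwS : w ∈ (S : Subgroup ↥K) := by
      rw [show w = w ^ 14 * w ^ 14 by rw [← pow_add, show 14 + 14 = 27 + 1 by norm_num, pow_succ, hw27, one_mul]]
      exact mul_self_mem_of_index_two hind _
    refine ⟨((w : ↥c.C0) : G), (w : ↥c.C0).2, ⟨_, ⟨w, hwS, rfl⟩, rfl⟩, ?_⟩
    have h1 : c.pr ⟨((w : ↥c.C0) : G), (w : ↥c.C0).2.1⟩ = c.pr ⟨x, hx.1⟩ ^ 28 := by
      rw [← map_pow]
      exact congrArg c.pr (Subtype.ext (by rw [hw]; rfl))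
    have h9 : c.pr ⟨x, hx.1⟩ ^ 9 = 1 := by
      have := pow_card_eq_one' (G := ↥Y) (x := ⟨_, hy⟩)
      rw [hY9] at this
      exact congrArg Subtype.val this
    rw [h1, show 28 = 9 * 3 + 1 by norm_num, pow_succ, pow_mul, h9, one_pow, one_mul]
  refine ⟨Q, hQC, hQc, hPQ, hQim, himg, ?_⟩
  -- the commutators fill `P`
  by_cases hab : ∀ a ∈ Q, ∀ b ∈ Q, a * b = b * a
  · exfalso
    letI : CommGroup ↥S0 :=
      { (inferInstance : Group ↥S0) with
        mul_comm := fun a b => Subtype.ext (Subtype.ext (hab _ ⟨_, a.2, rfl⟩ _ ⟨_, b.2, rfl⟩)) }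
    let T : ↥c.C0 →* ↥S0 := MonoidHom.transfer (MonoidHom.id ↥S0)
    have hTc : ∀ w ∈ (⁅c.C0, c.C0⁆ : Subgroup G), ∃ hw : w ∈ c.C0, T ⟨w, hw⟩ = 1 := by
      intro w hw
      have hle : ⁅c.C0, c.C0⁆ ≤ T.ker.map c.C0.subtype := by
        rw [commutator_le]
        intro a ha b hb
        refine ⟨⁅(⟨a, ha⟩ : ↥c.C0), ⟨b, hb⟩⁆, ?_, map_commutatorElement _ _ _⟩
        rw [SetLike.mem_coe, MonoidHom.mem_ker, map_commutatorElement, commutatorElement_eq_one_iff_commute]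
        exact mul_comm (T _) (T _)
      obtain ⟨⟨v, hv⟩, hv', rfl⟩ := hle hw
      exact ⟨hv, hv'⟩
    obtain ⟨hpC, hp⟩ := hTc c.pg (c.P_comm c.pg_mem)
    have key : ∀ (k : ℕ) (g₀ : ↥c.C0), g₀⁻¹ * (⟨c.pg, hpC⟩ : ↥c.C0) ^ k * g₀ ∈ S0 →
        g₀⁻¹ * (⟨c.pg, hpC⟩ : ↥c.C0) ^ k * g₀ = (⟨c.pg, hpC⟩ : ↥c.C0) ^ k := by
      intro k g₀ _
      have hcom : Commute (⟨c.pg, hpC⟩ : ↥c.C0) g₀ := Subtype.ext (c.comm_P g₀.2 c.pg_mem)
      rw [mul_assoc, (hcom.pow_left k).eq, inv_mul_cancel_left]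
    have h0 := MonoidHom.transfer_eq_pow (MonoidHom.id ↥S0) (⟨c.pg, hpC⟩ : ↥c.C0) key
    rw [show MonoidHom.transfer (MonoidHom.id ↥S0) = T from rfl, hp] at h0
    have h2 : c.pg ^ S0.index = 1 := (congrArg (fun w : ↥S0 => ((w : ↥c.C0) : G)) h0).symm
    have h3 := S0.card_mul_index
    rw [hS0, c.card_C0] at h3
    have h4 := orderOf_dvd_of_pow_eq_one h2
    rw [c.ord_pg] at h4
    omega
  · push Not at hab
    obtain ⟨a, ha, b, hb, hne⟩ := hab
    have hcm : ⁅a, b⁆ ∈ Q := mul_mem (mul_mem (mul_mem ha hb) (inv_mem ha)) (inv_mem hb)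
    have hYc : ∀ u ∈ Y, ∀ v ∈ Y, u * v = v * u := by
      intro u hu v hv
      haveI : Fact (Nat.Prime 3) := ⟨Nat.prime_three⟩
      exact congrArg Subtype.val ((IsPGroup.isMulCommutative_of_card_eq_prime_sq (p := 3) (G := ↥Y) (by rw [hY9]; norm_num)).is_comm.comm
        ⟨u, hu⟩ ⟨v, hv⟩)
    have h1 : c.pr ⟨⁅a, b⁆, (hQC hcm).1⟩ = 1 := by
      rw [show (⟨⁅a, b⁆, (hQC hcm).1⟩ : ↥c.H) = ⁅(⟨a, (hQC ha).1⟩ : ↥c.H), ⟨b, (hQC hb).1⟩⁆ from Subtype.ext rfl,
        map_commutatorElement, commutatorElement_eq_one_iff_mul_comm]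
      exact hYc _ (hQim a (hQC ha) ha) _ (hQim b (hQC hb) hb)
    have hne1 : ⁅a, b⁆ ≠ 1 := fun h => hne (commutatorElement_eq_one_iff_mul_comm.1 h)
    obtain ⟨q, hq, h | h⟩ := c.ker_C0 (hQC hcm) h1
    · rcases c.mem_P hq with rfl | rfl | rfl
      · exact absurd h hne1
      · exact ⟨a, ha, b, hb, h⟩
      · exact ⟨b, hb, a, ha, by rw [← commutatorElement_inv, h, inv_inv]⟩
    · exfalso
      have hzQ : z ∈ Q := by
        rw [show z = ⁅a, b⁆ * q⁻¹ by rw [h, mul_inv_cancel_right]]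
        exact mul_mem hcm (inv_mem (hPQ hq))
      have := orderOf_dvd_natCard (⟨z, hzQ⟩ : ↥Q)
      rw [← Subgroup.orderOf_coe, c.ord, hQc] at this
      norm_num at this

end CfsgLib.Spor.JFourType.Ctx
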