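import Cfsg.Agent.Lib.Spor.JFourType.Space
import Cfsg.Agent.Lib.Spor.JFourType.Three

/-!
# The element of order three on the space

`om` is fixed point free and commutes with the action of `M`; an element outside `M` inverts it.
-/

set_option autoImplicit false
set_option linter.style.haveILetI false

namespace CfsgLib.Spor.JFourType.Ctx

open Subgroup
open scoped commutatorElement

universe u

variable {G : Type u} [Group G] [Finite G] {A : Type} [Group A] {J I R : Subgroup A}
  {z : G} {P : Subgroup G} (c : Ctx J I R z P)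
include c

/-- The action of the generator of `P`. -/
noncomputable def om : AddMonoid.End c.Vs := c.act c.pg

theorem om_cube (v : c.Vs) : c.om (c.om (c.om v)) = v := by
  show (c.act c.pg * c.act c.pg * c.act c.pg) v = v
  rw [← c.act_mul c.pg_H c.pg_H, ← c.act_mul (mul_mem c.pg_H c.pg_H) c.pg_H, c.pg_cube, c.act_one]; rfl

/-- Only the zero vector is fixed. -/
theorem om_fixed {v : c.Vs} (h : c.om v = v) : v = 0 := by
  obtain ⟨a, ha, rfl⟩ := c.pv_surj v
  rw [om, ← c.pv_conj c.pg_H ha, c.pv_eq_iff (c.conj_E c.pg_H ha) ha] at h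
  rw [c.pv_eq_zero ha]
  rcases h with h | h
  · exact c.E_centralizer ha (by
      rw [mul_inv_eq_iff_eq_mul] at h
      rw [← h, mul_inv_cancel_right])
  · exfalso
    have hz : ∀ n : ℕ, c.pg ^ n * a * (c.pg ^ n)⁻¹ = z ^ n * a := by
      intro n
      induction n with
      | zero => simp
      | succ n ih =>
        calc c.pg ^ (n + 1) * a * (c.pg ^ (n + 1))⁻¹ = c.pg * (c.pg ^ n * a * (c.pg ^ n)⁻¹) * c.pg⁻¹ := by
              rw [pow_succ']; group
          _ = c.pg * z ^ n * c.pg⁻¹ * (c.pg * a * c.pg⁻¹) := by rw [ih]; group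
          _ = z ^ n * (z * a) := by
            rw [show c.pg * z ^ n = z ^ n * c.pg from ((show Commute c.pg z from c.comm_z c.pg_H).pow_right n).eq,
              mul_inv_cancel_right, h]
          _ = _ := by rw [pow_succ, mul_assoc]
    have h3 := hz 3
    rw [show c.pg ^ 3 = 1 by rw [← c.ord_pg, pow_orderOf_eq_one], one_mul, inv_one, mul_one, pow_succ, pow_two,
      c.zz, one_mul] at h3
    exact c.z_ne (mul_eq_right.1 h3.symm)

theorem om_sum (v : c.Vs) : v + c.om v + c.om (c.om v) = 0 := by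
  refine c.om_fixed ?_
  rw [map_add, map_add, c.om_cube]
  abel

theorem om_two (v : c.Vs) : c.om (c.om v) = v + c.om v := by
  calc c.om (c.om v) = (v + c.om v + c.om (c.om v)) + (v + c.om v) := by
        rw [show v + c.om v + c.om (c.om v) + (v + c.om v) = (v + c.om v) + (v + c.om v) + c.om (c.om v) by abel,
          c.two_V, zero_add]
    _ = v + c.om v := by rw [c.om_sum, zero_add]

theorem om_injective : Function.Injective c.om := c.act_injective c.pg_H

theorem om_C0 {x : G} (hx : x ∈ c.C0) (v : c.Vs) : c.act x (c.om v) = c.om (c.act x v) := by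
  show (c.act x * c.act c.pg) v = (c.act c.pg * c.act x) v
  rw [← c.act_mul hx.1 c.pg_H, ← c.act_mul c.pg_H hx.1, c.comm_P hx c.pg_mem]

theorem om_M {x : G} (hx : x ∈ c.M) (v : c.Vs) : c.act x (c.om v) = c.om (c.act x v) := by
  obtain ⟨e, he, hC⟩ := c.M_decomp hx
  have hact : c.act x = c.act (e⁻¹ * x) := by
    conv_lhs => rw [show x = e * (e⁻¹ * x) by group, c.act_mul (c.E_le he) hC.1, (c.act_eq_one (c.E_le he)).2 he,
      one_mul]
  rw [hact]
  exact c.om_C0 hC v

theorem om_outer {x : G} (hxH : x ∈ c.H) (hx : x ∉ c.M) (v : c.Vs) :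
    c.act x (c.om v) = c.om (c.om (c.act x v)) := by
  obtain ⟨e, he, hn⟩ := c.exists_E_NH hxH
  have hnC : e⁻¹ * x ∉ c.C0 := fun h => hx (by
    rw [show x = e * (e⁻¹ * x) by group]
    exact mul_mem (c.E_le_M he) (c.C0_le_M h))
  have hact : c.act x = c.act (e⁻¹ * x) := by
    conv_lhs => rw [show x = e * (e⁻¹ * x) by group, c.act_mul (c.E_le he) hn.1, (c.act_eq_one (c.E_le he)).2 he,
      one_mul]
  rw [hact]
  show (c.act (e⁻¹ * x) * c.act c.pg) v = (c.act c.pg * c.act c.pg * c.act (e⁻¹ * x)) v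
  rw [← c.act_mul hn.1 c.pg_H, ← c.act_mul c.pg_H c.pg_H, ← c.act_mul (mul_mem c.pg_H c.pg_H) hn.1]
  congr 2
  have h := c.outer_inverts hn hnC
  have h2 : c.pg * c.pg = c.pg⁻¹ := eq_inv_of_mul_eq_one_left c.pg_cube
  rw [h2, ← h, inv_mul_cancel_right]

/-- The vectors fixed by a set of elements. -/
noncomputable def fix (L : Set G) : AddSubgroup c.Vs where
  carrier := {v | ∀ x ∈ L, c.act x v = v}
  add_mem' := fun {a b} ha hb x hx => by rw [map_add, ha x hx, hb x hx]
  zero_mem' := fun x _ => map_zero _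
  neg_mem' := fun {a} ha x hx => by rw [map_neg, ha x hx]

theorem mem_fix {L : Set G} {v : c.Vs} : v ∈ c.fix L ↔ ∀ x ∈ L, c.act x v = v := Iff.rfl

theorem mem_fix_singleton {x : G} {v : c.Vs} : v ∈ c.fix {x} ↔ c.act x v = v := by
  simp [c.mem_fix]

theorem fix_anti {L L' : Set G} (h : L ⊆ L') : c.fix L' ≤ c.fix L := fun _ hv x hx => hv x (h hx)

/-- An outer element fixes at most `2 ^ 6` vectors. -/
theorem card_fix_outer {x : G} (hxH : x ∈ c.H) (hx : x ∉ c.M) : Nat.card ↥(c.fix {x}) ≤ 2 ^ 6 := by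
  let f : ↥(c.fix {x}) × ↥(c.fix {x}) → c.Vs := fun w => (w.1 : c.Vs) + c.om w.2
  have hf : Function.Injective f := by
    rintro ⟨a, b⟩ ⟨a', b'⟩ h
    have h' : ((a : c.Vs) - a') = c.om ((b' : c.Vs) - b) := by
      rw [map_sub, sub_eq_sub_iff_add_eq_add]
      exact h.trans (add_comm _ _)
    set d := (b' : c.Vs) - b
    have hd : c.act x d = d := c.mem_fix_singleton.1 (sub_mem b'.2 b.2)
    have hod : c.act x (c.om d) = c.om d := h' ▸ c.mem_fix_singleton.1 (sub_mem a.2 a'.2)
    rw [c.om_outer hxH hx, hd] at hod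
    have hd0 : d = 0 := c.om_fixed (c.om_injective hod)
    have hb : b = b' := Subtype.ext (sub_eq_zero.1 hd0).symm
    subst hb
    exact Prod.ext (Subtype.ext (add_right_cancel h)) rfl
  have h := Nat.card_le_card_of_injective f hf
  rw [Nat.card_prod, c.card_V] at h
  by_contra hlt
  push Not at hlt
  have := Nat.mul_lt_mul_of_lt_of_lt hlt hlt
  norm_num at this h ⊢
  omega

/-- A subgroup of `C0` with image of order nine and containing `P` as its commutators. -/
structure Three (Q : Subgroup G) : Prop where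
  le : Q ≤ c.C0
  card : Nat.card ↥Q = 27
  P_le : P ≤ Q
  comm : ∃ a ∈ Q, ∃ b ∈ Q, ⁅a, b⁆ = c.pg

/-- An invariant set of nonzero vectors has order divisible by nine. -/
theorem nine_dvd_card {Q : Subgroup G} (hQ : c.Three Q) (T₀ : Set c.Vs) (h0 : (0 : c.Vs) ∉ T₀)
    (hW : ∀ x ∈ Q, ∀ v ∈ T₀, c.act x v ∈ T₀) : 9 ∣ T₀.ncard := by
  classical
  haveI : Fact (Nat.Prime 3) := ⟨Nat.prime_three⟩
  have hQH : ∀ x ∈ Q, x ∈ c.H := fun x hx => (hQ.le hx).1
  letI act' : MulAction ↥Q ↥T₀ :=
    { smul := fun x v => ⟨c.act x v.1, hW x x.2 _ v.2⟩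
      one_smul := fun v => Subtype.ext (by
        show c.act ((1 : ↥Q) : G) (v : c.Vs) = _
        rw [OneMemClass.coe_one, c.act_one]; rfl)
      mul_smul := fun x y v => Subtype.ext (by
        show c.act ((x : G) * y) (v : c.Vs) = c.act (x : G) (c.act (y : G) v)
        rw [c.act_mul (hQH x x.2) (hQH y y.2)]; rfl) }
  have horb : ∀ v : ↥T₀, 9 ∣ Nat.card (MulAction.orbit ↥Q v) := by
    intro v
    let S := MulAction.stabilizer ↥Q v
    have hdvd : Nat.card ↥S ∣ 3 ^ 3 := by
      have := S.card_subgroup_dvd_card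
      rwa [hQ.card] at this
    obtain ⟨k, hk3, hk⟩ := (Nat.dvd_prime_pow Nat.prime_three).1 hdvd
    have hpS : ∀ (p : ↥Q), (p : G) ∈ P → p ∈ S → p = 1 := by
      intro p hp hs
      rcases c.mem_P hp with h | h | h
      · exact Subtype.ext h
      · exfalso
        refine h0 ((c.om_fixed ?_ : (v : c.Vs) = 0) ▸ v.2)
        have hs' : c.act (p : G) (v : c.Vs) = v :=
          congrArg (fun w : ↥T₀ => (w : c.Vs)) hs
        rw [h] at hs'
        exact hs'
      · exfalso
        have hs'' : p⁻¹ ∈ S := inv_mem hs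
        refine h0 ((c.om_fixed ?_ : (v : c.Vs) = 0) ▸ v.2)
        have hs' : c.act ((p⁻¹ : ↥Q) : G) (v : c.Vs) = v :=
          congrArg (fun w : ↥T₀ => (w : c.Vs)) hs''
        rw [InvMemClass.coe_inv, h, inv_inv] at hs'
        exact hs'
    have hk1 : k ≤ 1 := by
      by_contra hk2
      obtain ⟨a, ha, b, hb, hab⟩ := hQ.comm
      -- the product with `P` is everything
      let T : Subgroup ↥Q := P.subgroupOf Q
      haveI : T.Normal := ⟨fun p hp g => by
        simp only [T, mem_subgroupOf, Subgroup.coe_mul, InvMemClass.coe_inv] at hp ⊢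
        rw [← c.comm_P (hQ.le g.2) hp, mul_inv_cancel_right]
        exact hp⟩
      let f : ↥S × ↥T → ↥Q := fun w => w.1 * w.2
      have hf : Function.Injective f := by
        rintro ⟨s, t⟩ ⟨s', t'⟩ h
        have h1 : (s' : ↥Q)⁻¹ * s = t' * (t : ↥Q)⁻¹ := by
          rw [eq_mul_inv_iff_mul_eq, mul_assoc, show (s : ↥Q) * t = s' * t' from h, inv_mul_cancel_left]
        have h2 : (s' : ↥Q)⁻¹ * s = 1 := hpS _ (by rw [h1]; exact (T.mul_mem t'.2 (inv_mem t.2))) (S.mul_mem (inv_mem s'.2) s.2)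
        have e1 : s = s' := Subtype.ext (inv_mul_eq_one.1 h2).symm
        subst e1
        exact Prod.ext rfl (Subtype.ext (mul_left_cancel h))
      have hTc : Nat.card ↥T = 3 := by rw [Nat.card_congr (subgroupOfEquivOfLe hQ.P_le).toEquiv, c.card_P]
      have hge : 9 * 3 ≤ Nat.card (↥S × ↥T) := by
        rw [Nat.card_prod, hk, hTc]
        exact Nat.mul_le_mul_right 3 (le_trans (by norm_num) (Nat.pow_le_pow_right (by norm_num : 0 < 3) (show 2 ≤ k by omega)))
      have hle := Nat.card_le_card_of_injective f hf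
      have hk2' : k = 2 := by
        rw [hQ.card, Nat.card_prod, hk, hTc] at hle
        by_contra hne
        have : 3 ^ 3 ≤ 3 ^ k := Nat.pow_le_pow_right (by norm_num) (by omega)
        omega
      have hbij := (Nat.bijective_iff_injective_and_card f).2 ⟨hf, by
        rw [Nat.card_prod, hk, hTc, hQ.card, hk2']; norm_num⟩
      haveI hScomm := IsPGroup.isMulCommutative_of_card_eq_prime_sq (p := 3) (G := ↥S) (by rw [hk, hk2'])
      have hall : ∀ x y : ↥Q, x * y = y * x := by
        intro x y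
        obtain ⟨⟨s, t⟩, rfl⟩ := hbij.2 x
        obtain ⟨⟨s', t'⟩, rfl⟩ := hbij.2 y
        have hT : ∀ (t : ↥T) (g : ↥Q), (t : ↥Q) * g = g * t := fun t g =>
          Subtype.ext (c.comm_P (hQ.le g.2) t.2)
        have hS : (s : ↥Q) * s' = s' * s := congrArg Subtype.val (hScomm.is_comm.comm s s')
        show (s : ↥Q) * t * (s' * t') = s' * t' * (s * t)
        calc (s : ↥Q) * t * (s' * t') = s * (t * s') * t' := by group
          _ = s * s' * (t * t') := by rw [hT t]; group
          _ = s' * s * (t' * t) := by rw [hS, hT t]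
          _ = s' * (s * t') * t := by group
          _ = _ := by rw [← hT t']; group
      have hc1 : ⁅a, b⁆ = 1 := commutatorElement_eq_one_iff_mul_comm.2 (congrArg Subtype.val (hall ⟨a, ha⟩ ⟨b, hb⟩))
      rw [hab] at hc1
      simpa [hc1] using c.ord_pg
    have h := S.card_mul_index
    rw [hk, MulAction.index_stabilizer, ← Nat.card_coe_set_eq, hQ.card] at h
    interval_cases k <;> omega
  rw [← Nat.card_coe_set_eq]
  haveI := Fintype.ofFinite (MulAction.orbitRel.Quotient ↥Q ↥T₀)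
  rw [Nat.card_congr (MulAction.selfEquivSigmaOrbits ↥Q ↥T₀), Nat.card_sigma]
  refine Finset.dvd_sum fun i _ => ?_
  exact horb _

/-- A subgroup invariant under such a subgroup has order congruent to one modulo nine. -/
theorem card_invariant {Q : Subgroup G} (hQ : c.Three Q) (W : AddSubgroup c.Vs)
    (hW : ∀ x ∈ Q, ∀ v ∈ W, c.act x v ∈ W) : Nat.card ↥W % 9 = 1 := by
  classical
  have h := c.nine_dvd_card hQ ((W : Set c.Vs) \ {0}) (fun h => h.2 rfl) fun x hx v hv =>
    ⟨hW x hx v hv.1, fun h => hv.2 (c.act_injective (hQ.le hx).1 (h.trans (map_zero _).symm))⟩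
  rw [Set.ncard_diff_singleton_of_mem W.zero_mem, ← Nat.card_coe_set_eq] at h
  have hpos : 0 < Nat.card ↥W := Nat.card_pos
  change 9 ∣ Nat.card ↥W - 1 at h
  omega

theorem card_addSubgroup (W : AddSubgroup c.Vs) : ∃ k ≤ 12, Nat.card ↥W = 2 ^ k := by
  have h := W.card_addSubgroup_dvd_card
  rw [c.card_V] at h
  exact (Nat.dvd_prime_pow Nat.prime_two).1 h

/-- An invariant subgroup has order one, `2 ^ 6` or `2 ^ 12`. -/
theorem card_invariant_cases {Q : Subgroup G} (hQ : c.Three Q) (W : AddSubgroup c.Vs)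
    (hW : ∀ x ∈ Q, ∀ v ∈ W, c.act x v ∈ W) :
    Nat.card ↥W = 1 ∨ Nat.card ↥W = 2 ^ 6 ∨ Nat.card ↥W = 2 ^ 12 := by
  obtain ⟨k, hk, he⟩ := c.card_addSubgroup W
  have h := c.card_invariant hQ W hW
  rw [he] at h ⊢
  interval_cases k <;> simp at h ⊢

theorem perp_invariant {x : G} (hxH : x ∈ c.H) {W : AddSubgroup c.Vs} (hW : ∀ v ∈ W, c.act x⁻¹ v ∈ W)
    {v : c.Vs} (hv : v ∈ c.perp W) : c.act x v ∈ c.perp W := c.mem_perp.2 fun u hu => by
  rw [← c.act_apply_inv hxH u, c.Bf_act hxH]
  exact hv _ (hW u hu)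

/-- A two-subgroup of `H` fixes a nonzero vector of a nontrivial invariant subgroup. -/
theorem exists_fixed {L : Subgroup G} (hL : L ≤ c.H) (hp : IsPGroup 2 ↥L) (W : AddSubgroup c.Vs)
    (hW : ∀ x ∈ L, ∀ v ∈ W, c.act x v ∈ W) (hne : W ≠ ⊥) : ∃ v ∈ W, v ≠ 0 ∧ v ∈ c.fix L := by
  haveI : Fact (Nat.Prime 2) := ⟨Nat.prime_two⟩
  letI : MulAction ↥L ↥W :=
    { smul := fun x v => ⟨c.act x v, hW x x.2 v v.2⟩
      one_smul := fun v => Subtype.ext (by
        show c.act ((1 : ↥L) : G) (v : c.Vs) = _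
        rw [OneMemClass.coe_one, c.act_one]; rfl)
      mul_smul := fun x y v => Subtype.ext (by
        show c.act ((x : G) * y) (v : c.Vs) = c.act (x : G) (c.act (y : G) v)
        rw [c.act_mul (hL x.2) (hL y.2)]; rfl) }
  have h2 : 2 ∣ Nat.card ↥W := by
    obtain ⟨k, -, hk⟩ := c.card_addSubgroup W
    rw [hk]
    refine dvd_pow_self 2 fun h0 => hne ?_
    rw [h0, pow_zero] at hk
    exact AddSubgroup.card_eq_one.1 hk
  have h0 : (0 : ↥W) ∈ MulAction.fixedPoints ↥L ↥W := fun x => Subtype.ext (map_zero (c.act (x : G)))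
  obtain ⟨v, hv, hne'⟩ := hp.exists_fixed_point_of_prime_dvd_card_of_fixed_point ↥W h2 h0
  exact ⟨v, v.2, fun h => hne' (Subtype.ext h.symm), fun x hx => congrArg Subtype.val (hv ⟨x, hx⟩)⟩

end CfsgLib.Spor.JFourType.Ctx
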