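import Cfsg.Agent.Lib.Spor.JFourType.WUniq

/-!
# The Sylow 2-subgroups

A Sylow 2-subgroup of the centralizer is one of the group, as `z` generates its centre; it has exactly one
elementary abelian subgroup of order `2 ^ 11`.
-/

set_option autoImplicit false
set_option linter.style.haveILetI false

namespace CfsgLib.Spor.JFourType.Ctx

open Subgroup

universe u

variable {G : Type u} [Group G] [Finite G] {A : Type} [Group A] {J I R : Subgroup A}
  {z : G} {P : Subgroup G} (c : Ctx J I R z P)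
include c

omit [Finite G] in
theorem E_normal_in {x : G} (hx : x ∈ c.H) : x ∈ normalizer (c.E : Set G) :=
  mem_normalizer_iff.2 fun e => ⟨fun he => c.conj_E hx he, fun he => by
    have := c.conj_E' hx he
    rwa [show x⁻¹ * (x * e * x⁻¹) * x = e by group] at this⟩

theorem E_sup_isPGroup {T : Subgroup G} (hT : T ≤ c.H) (h2 : IsPGroup 2 ↥T) : IsPGroup 2 ↥(T ⊔ c.E) :=
  h2.to_sup_of_normal_right' c.E_isPGroup fun x hx => c.E_normal_in (hT hx)

/-- A maximal 2-subgroup of the centralizer through a given one, Sylow in the group. -/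
theorem exists_sylow_ge {T : Subgroup G} (hT : T ≤ c.H) (h2 : IsPGroup 2 ↥T) :
    ∃ S : Sylow 2 G, (S : Subgroup G) ≤ c.H ∧ T ≤ (S : Subgroup G) ∧ c.E ≤ (S : Subgroup G) := by
  haveI : Fact (Nat.Prime 2) := ⟨Nat.prime_two⟩
  obtain ⟨S0, hS0⟩ := ((c.E_sup_isPGroup hT h2).comap_subtype (K := c.H)).exists_le_sylow
  set T0 : Subgroup G := (S0 : Subgroup ↥c.H).map c.H.subtype with hT0
  have hT0H : T0 ≤ c.H := map_subtype_le _
  have hle : T ⊔ c.E ≤ T0 := fun x hx =>
    ⟨⟨x, (sup_le hT c.E_le) hx⟩, hS0 (show x ∈ T ⊔ c.E from hx), rfl⟩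
  have h20 : IsPGroup 2 ↥T0 := S0.2.map _
  obtain ⟨S, hS⟩ := h20.exists_le_sylow
  have key : ∀ g, (∀ x, x ∈ T0 ↔ g * x * g⁻¹ ∈ T0) → g ∈ c.H := by
    intro g hg
    have hcen : ∀ x ∈ T0, z * x = x * z := fun x hx => (c.comm_z (hT0H hx)).symm
    have hzT : z ∈ T0 := hle (mem_sup_right c.z_mem_E)
    have hgz : g * z * g⁻¹ ∈ T0 := (hg z).1 hzT
    have hcomm : ∀ e ∈ c.E, e * (g * z * g⁻¹) = g * z * g⁻¹ * e := by
      intro e he
      have he' : g⁻¹ * e * g ∈ T0 := (hg _).2 (by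
        rw [show g * (g⁻¹ * e * g) * g⁻¹ = e by group]; exact hle (mem_sup_right he))
      calc e * (g * z * g⁻¹) = g * ((g⁻¹ * e * g) * z) * g⁻¹ := by group
        _ = g * (z * (g⁻¹ * e * g)) * g⁻¹ := by rw [hcen _ he']
        _ = _ := by group
    rcases c.eq_of_E_center (c.E_selfcent (hT0H hgz) hcomm) hcomm with h | h
    · exact absurd (conj_eq_one_iff.1 h) c.z_ne
    · exact mem_centralizer_singleton_iff.2 (mul_inv_eq_iff_eq_mul.1 h)
  by_cases heq : T0 = (S : Subgroup G)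
  · exact ⟨S, heq ▸ hT0H, le_sup_left.trans (heq ▸ hle), le_sup_right.trans (heq ▸ hle)⟩
  · exfalso
    have hnil : Group.IsNilpotent ↥(S : Subgroup G) := S.2.isNilpotent
    have hlt : T0.subgroupOf (S : Subgroup G) < ⊤ := lt_top_iff_ne_top.2 fun h =>
      heq (le_antisymm hS (subgroupOf_eq_top.1 h))
    obtain ⟨⟨g, hgS⟩, hgN, hgT⟩ := SetLike.exists_of_lt (normalizerCondition_of_isNilpotent (G := ↥(S : Subgroup G)) _ hlt)
    refine hgT ?_
    have hgnorm : ∀ x, x ∈ T0 ↔ g * x * g⁻¹ ∈ T0 := by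
      intro x
      constructor
      · intro hx
        exact (mem_normalizer_iff.1 hgN ⟨x, hS hx⟩).1 hx
      · intro hx
        have hxS : x ∈ (S : Subgroup G) := by
          rw [show x = g⁻¹ * (g * x * g⁻¹) * g by group]
          exact mul_mem (mul_mem (inv_mem hgS) (hS hx)) hgS
        exact (mem_normalizer_iff.1 hgN ⟨x, hxS⟩).2 hx
    have hgH := key g hgnorm
    -- the Sylow subgroup of the centralizer absorbs it
    have hbig : IsPGroup 2 ↥((S : Subgroup G).comap c.H.subtype) := S.2.comap_subtype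
    have heq0 := S0.3 hbig fun x hx => hS ⟨x, hx, rfl⟩
    exact ⟨⟨g, hgH⟩, heq0 ▸ (show (⟨g, hgH⟩ : ↥c.H) ∈ (S : Subgroup G).comap c.H.subtype from hgS), rfl⟩

theorem W_le_H : c.W ≤ c.H := c.W_le_M.trans fun _ hx => c.H_of_M hx

/-- A Sylow 2-subgroup has exactly one elementary abelian subgroup of order `2 ^ 11`. -/
theorem sylow_eleven_unique (T : Sylow 2 G) :
    ∃! V : Subgroup G, V ≤ (T : Subgroup G) ∧ Cfsg.IsElementaryAbelian 2 V ∧ Nat.card ↥V = 2 ^ 11 := by
  haveI : Fact (Nat.Prime 2) := ⟨Nat.prime_two⟩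
  obtain ⟨S, hSH, hWS, -⟩ := c.exists_sylow_ge c.W_le_H c.W_isPGroup
  obtain ⟨g, hg⟩ := MulAction.exists_smul_eq G S T
  have hmem : ∀ x, x ∈ (T : Subgroup G) ↔ g⁻¹ * x * g ∈ (S : Subgroup G) := by
    intro x
    rw [← hg, Sylow.coe_subgroup_smul, Subgroup.mem_pointwise_smul_iff_inv_smul_mem]
    simp [MulAut.smul_def]
  have hEA : ∀ (k : G) (V : Subgroup G), Cfsg.IsElementaryAbelian 2 V →
      Cfsg.IsElementaryAbelian 2 (V.map (MulAut.conj k).toMonoidHom) := by
    intro k V hV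
    refine ⟨⟨⟨fun a b => Subtype.ext ?_⟩⟩, fun x hx => ?_⟩
    · obtain ⟨y, hy, ey⟩ := a.2
      obtain ⟨w, hw, ew⟩ := b.2
      show (a : G) * b = b * a
      have hyw : y * w = w * y := congrArg Subtype.val (hV.1.is_comm.comm ⟨y, hy⟩ ⟨w, hw⟩)
      rw [← ey, ← ew, ← map_mul, ← map_mul, hyw]
    · obtain ⟨y, hy, rfl⟩ := hx
      rw [← map_pow, hV.2 y hy, map_one]
  have hcard : ∀ (k : G) (V : Subgroup G), Nat.card ↥(V.map (MulAut.conj k).toMonoidHom) = Nat.card ↥V :=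
    fun k V => (Nat.card_congr (equivMapOfInjective _ _ (MulAut.conj k).injective).toEquiv).symm
  refine ⟨c.W.map (MulAut.conj g).toMonoidHom, ⟨?_, hEA g _ c.W_elementary, by rw [hcard, c.card_W]⟩, ?_⟩
  · rintro _ ⟨x, hx, rfl⟩
    rw [hmem]
    simpa [mul_assoc] using hWS hx
  · rintro V ⟨hVT, hVE, hVc⟩
    have h := c.eleven_unique hSH S.2 (S := V.map (MulAut.conj g⁻¹).toMonoidHom) (S' := c.W) ?_ hWS
      (hEA g⁻¹ V hVE) (by rw [hcard, hVc]) c.W_elementary c.card_W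
    · rw [← h, map_map]
      conv_lhs => rw [← map_id V]
      congr 1
      ext x
      simp [mul_assoc]
    · rintro _ ⟨x, hx, rfl⟩
      have := (hmem x).1 (hVT hx)
      simpa [mul_assoc] using this

end CfsgLib.Spor.JFourType.Ctx
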