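import Cfsg.Prelude.Def_JankoFourType
import Cfsg.Agent.Lib.Spor.CoTwoInv.Transfer
import Cfsg.Agent.Lib.Spor.JFourType.Basic

/-!
# The type hypothesis along conjugation
-/

set_option autoImplicit false
set_option linter.style.haveILetI false

namespace CfsgLib.Spor.JFourType

open Subgroup

universe u

variable {G : Type u} [Group G]

theorem map_centralizer_equiv {G' : Type*} [Group G'] (e : G ≃* G') (S : Set G) :
    (centralizer S).map e.toMonoidHom = centralizer (e '' S) := by
  ext x
  simp only [Subgroup.mem_map, MulEquiv.coe_toMonoidHom, mem_centralizer_iff, Set.forall_mem_image]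
  constructor
  · rintro ⟨y, hy, rfl⟩ a ha
    rw [← map_mul, ← map_mul, hy a ha]
  · intro hx
    exact ⟨e.symm x, fun a ha => e.injective (by simpa using hx ha), e.apply_symm_apply x⟩

theorem map_centralizer_singleton (e : G ≃* G) (z : G) :
    (centralizer ({z} : Set G)).map e.toMonoidHom = centralizer ({e z} : Set G) := by
  rw [map_centralizer_equiv, Set.image_singleton]

theorem map_centralizer_subgroup (e : G ≃* G) (K : Subgroup G) :
    (centralizer (K : Set G)).map e.toMonoidHom = centralizer ((K.map e.toMonoidHom : Subgroup G) : Set G) := by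
  rw [map_centralizer_equiv]
  rfl

theorem map_twoCore (e : G ≃* G) (z : G) :
    (Cfsg.twoCoreOfCentralizer z).map e.toMonoidHom = Cfsg.twoCoreOfCentralizer (e z) := by
  let f : ↥(centralizer ({z} : Set G)) ≃* ↥(centralizer ({e z} : Set G)) :=
    (e.subgroupMap (centralizer ({z} : Set G))).trans (MulEquiv.subgroupCongr (map_centralizer_singleton e z))
  rw [Cfsg.twoCoreOfCentralizer, Cfsg.twoCoreOfCentralizer, ← CoTwoInv.pCore_map_equiv 2 f, map_map, map_map]
  rfl

theorem type_conj [Finite G] {z : G} {P : Subgroup G} (h : Cfsg.IsOfJankoFourTypeWith z P) (e : G ≃* G) :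
    Cfsg.IsOfJankoFourTypeWith (e z) (P.map e.toMonoidHom) := by
  obtain ⟨h1, h2, h3, h4, ⟨N, hEN, hNH, hnorm, hcN, ⟨hn, ⟨ε⟩⟩, hPN⟩, hP, hEP, hne, hcomm⟩ := h
  have hinj : Function.Injective e.toMonoidHom := e.injective
  have hH := map_centralizer_singleton e z
  have hcard : ∀ K : Subgroup G, Nat.card ↥(K.map e.toMonoidHom) = Nat.card ↥K :=
    fun K => (Nat.card_congr (e.subgroupMap K).toEquiv).symm
  refine ⟨?_, ?_, ?_, ?_, ⟨N.map e.toMonoidHom, ?_, ?_, ?_, ?_, ?_, map_mono hPN⟩, (hcard P).trans hP, ?_, ?_, ?_⟩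
  · rw [MulEquiv.orderOf_eq]; exact h1
  · rw [← map_twoCore]; exact CoTwoInv.isExtraspecial_of_equiv (e.subgroupMap _) h2
  · rw [← map_twoCore, hcard]; exact h3
  · rw [← map_twoCore, ← hH, ← map_centralizer_subgroup, ← Subgroup.map_inf _ _ _ hinj]
    exact map_mono h4
  · rw [← map_twoCore]; exact map_mono hEN
  · rw [← hH]; exact map_mono hNH
  · rw [← hH]
    exact (map_mono hnorm).trans (le_of_eq (map_equiv_normalizer_eq N e))
  · rw [← map_twoCore, hcard, hcard]; exact hcN
  · haveI := hn
    let f : ↥(centralizer ({z} : Set G)) ≃* ↥(centralizer ({e z} : Set G)) :=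
      (e.subgroupMap (centralizer ({z} : Set G))).trans (MulEquiv.subgroupCongr hH)
    have hmap : (N.subgroupOf (centralizer ({z} : Set G))).map f.toMonoidHom =
        (N.map e.toMonoidHom).subgroupOf (centralizer ({e z} : Set G)) := by
      ext x
      constructor
      · rintro ⟨y, hy, rfl⟩
        exact ⟨y, hy, rfl⟩
      · rintro ⟨y, hy, hyx⟩
        exact ⟨⟨y, hNH hy⟩, hy, Subtype.ext hyx⟩
    have hn' : ((N.map e.toMonoidHom).subgroupOf (centralizer ({e z} : Set G))).Normal :=
      hmap ▸ hn.map f.toMonoidHom f.surjective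
    exact ⟨hn', ⟨((QuotientGroup.congr _ _ f hmap).symm.trans ε)⟩⟩
  · rw [← map_twoCore, ← map_centralizer_subgroup, ← Subgroup.map_inf _ _ _ hinj, hEP, MonoidHom.map_zpowers]
    rfl
  · rw [← hH, ← map_centralizer_subgroup, ← map_equiv_normalizer_eq, ← Subgroup.map_inf _ _ _ hinj,
      ← Subgroup.map_inf _ _ _ hinj]
    exact fun he => hne (map_injective hinj he)
  · rw [← hH, ← map_centralizer_subgroup, ← Subgroup.map_inf _ _ _ hinj, ← map_commutator]
    exact map_mono hcomm

variable [Finite G] {A : Type} [Group A] {J I R : Subgroup A} {z : G} {P : Subgroup G}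

/-- The data at a conjugate of `z`. -/
def Ctx.conj (c : Ctx J I R z P) (g : G) : Ctx J I R (g * z * g⁻¹) (P.map (MulAut.conj g).toMonoidHom) :=
  ⟨c.facts, c.iso, by
    have := type_conj c.type (MulAut.conj g)
    simpa using this⟩

end CfsgLib.Spor.JFourType
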