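import Cfsg.Agent.Lib.Invol.ZStar
import Cfsg.Agent.Lib.Spor.JFourType.SylowTwo
import Cfsg.Agent.Lib.Spor.JFourType.Transport

/-!
# `z` is not weakly closed in its core

Otherwise let `t` be another conjugate commuting with `z`. An abelian subgroup `M` of the core of the centralizer
of `t`, centralizing `z`, has small image, so meets the core of `z` in too many elements: each such element
`d` displaces `z` to `d * t * z`, and three of these contradict commutators of sign `t`.
-/

set_option autoImplicit false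
set_option linter.style.haveILetI false

namespace CfsgLib.Spor.JFourType.Ctx

open Subgroup

universe u

variable {G : Type u} [Group G] [Finite G] {A : Type} [Group A] {J I R : Subgroup A}
  {z : G} {P : Subgroup G} (c : Ctx J I R z P)
include c

/-- Fixed vectors of an outer element in an `om`-invariant space. -/
theorem card_sq_le {s : G} (hsH : s ∈ c.H) (hs : s ∉ c.M) {K W : AddSubgroup c.Vs} (hK : K ≤ c.fix {s})
    (hKW : K ≤ W) (hW : ∀ v ∈ W, c.om v ∈ W) : Nat.card ↥K * Nat.card ↥K ≤ Nat.card ↥W := by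
  rw [← Nat.card_prod]
  refine Nat.card_le_card_of_injective
    (fun w : ↥K × ↥K => (⟨(w.1 : c.Vs) + c.om w.2, add_mem (hKW w.1.2) (hW _ (hKW w.2.2))⟩ : ↥W)) ?_
  rintro ⟨v, w⟩ ⟨v', w'⟩ h
  have h' : (v : c.Vs) + c.om w = v' + c.om w' := congrArg Subtype.val h
  have hd : (v : c.Vs) + v' = c.om ((w : c.Vs) + w') := by
    rw [map_add]
    calc (v : c.Vs) + v' = (v : c.Vs) + c.om w + (c.om w + v') := by
          rw [add_assoc, ← add_assoc (c.om (w : c.Vs)), c.two_V, zero_add]
      _ = v' + c.om w' + (c.om w + v') := by rw [h']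
      _ = c.om w + c.om w' + (v' + v') := by abel
      _ = _ := by rw [c.two_V, add_zero]
  have hsf : ∀ u ∈ K, c.act s u = u := fun u hu => c.mem_fix_singleton.1 (hK hu)
  have hw : (w : c.Vs) + w' = 0 := by
    have h1 := hsf _ (add_mem v.2 v'.2)
    rw [hd, c.om_outer hsH hs, hsf _ (add_mem w.2 w'.2)] at h1
    exact c.om_fixed (c.om_injective h1)
  have hww : (w : c.Vs) = w' := c.add_eq_zero_V hw
  refine Prod.ext (Subtype.ext ?_) (Subtype.ext hww)
  rw [hww] at h'
  exact add_right_cancel h'

/-- An abelian 2-subgroup not containing `z`. -/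
theorem abelian_bound {S : Subgroup G} (hS : S ≤ c.H) (h2 : IsPGroup 2 ↥S)
    (hab : ∀ x ∈ S, ∀ y ∈ S, x * y = y * x) (hz : z ∉ S) :
    Nat.card ↥S ≤ 32 * Nat.card ↥(S ⊓ c.E : Subgroup G) ∧
      (16 * Nat.card ↥(S ⊓ c.E : Subgroup G) < Nat.card ↥S → Nat.card ↥(S ⊓ c.E : Subgroup G) ≤ 2) := by
  haveI : Finite A := Finite.of_surjective c.pr c.pr_surj
  have hb := c.card_le_inf hS h2
  have hab' : ∀ a ∈ c.imS S, ∀ b ∈ c.imS S, a * b = b * a := by
    intro a ha b hb
    obtain ⟨x, hx, rfl⟩ := (c.mem_imS hS).1 ha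
    obtain ⟨y, hy, rfl⟩ := (c.mem_imS hS).1 hb
    rw [← c.im_mul (hS hx) (hS hy), ← c.im_mul (hS hy) (hS hx), hab x hx y hy]
  by_cases h32 : 32 ≤ Nat.card ↥(c.imS S)
  · obtain ⟨he, -, j, hj, hjR⟩ := c.facts.big_abelian _ (c.imS_isPGroup h2) hab' h32
    rw [he] at hb
    refine ⟨hb, fun _ => ?_⟩
    -- there is an outer element
    obtain ⟨a, ha, haJ⟩ : ∃ a ∈ c.imS S, a ∉ J := by
      by_contra hcon
      push Not at hcon
      have := hjR.card_eq
      rw [inf_eq_left.2 hcon, he, c.facts.card_R] at this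
      norm_num at this
    obtain ⟨s, hs, rfl⟩ := (c.mem_imS hS).1 ha
    have hsM : s ∉ c.M := fun h => haJ ((c.mem_M_iff_im (hS hs)).1 h)
    have h4 := c.card_fix_R_type (S := S ⊓ c.M) inf_le_right (h2.to_le inf_le_left) hj fun r hr => by
      obtain ⟨hmem, hJ⟩ := hjR.mem_conj hr
      obtain ⟨x, hx, e⟩ := (c.mem_imS hS).1 hmem
      exact ⟨x, ⟨hx, (c.mem_M_iff_im (hS hx)).2 (by rw [e]; exact hJ)⟩, e⟩
    have hsq := c.card_sq_le (hS hs) hsM
      ((c.pvS_le_fix hS hab).trans (c.fix_anti (Set.singleton_subset_iff.2 hs)))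
      ((c.pvS_le_fix hS hab).trans (c.fix_anti (inf_le_left : S ⊓ c.M ≤ S)))
      (fun v hv => c.fix_om (inf_le_right : S ⊓ c.M ≤ c.M) hv)
    have hinj : Nat.card ↥(S ⊓ c.E : Subgroup G) ≤ Nat.card ↥(c.pvS S) := by
      refine Nat.card_le_card_of_injective
        (fun x : ↥(S ⊓ c.E : Subgroup G) => (⟨c.pv x, x, x.2.1, x.2.2, rfl⟩ : ↥(c.pvS S))) fun x y e => ?_
      rcases (c.pv_eq_iff x.2.2 y.2.2).1 (congrArg Subtype.val e) with h | h
      · exact Subtype.ext h
      · exfalso
        refine hz ?_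
        rw [show z = (x : G) * (y : G)⁻¹ by rw [h, mul_inv_cancel_right]]
        exact mul_mem x.2.1 (inv_mem y.2.1)
    have h4' := hsq.trans h4
    by_contra hcon
    push Not at hcon
    have := Nat.mul_le_mul (hcon.trans_le hinj) (hcon.trans_le hinj)
    omega
  · obtain ⟨k, hk⟩ := (c.imS_isPGroup h2).exists_card_eq
    have h16 : Nat.card ↥(c.imS S) ≤ 16 := by
      rw [hk] at h32 ⊢
      have : 2 ^ k < 2 ^ 5 := by omega
      exact Nat.pow_le_pow_right (by norm_num) (show k ≤ 4 by
        have := (Nat.pow_lt_pow_iff_right (by norm_num)).1 this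
        omega)
    refine ⟨hb.trans (Nat.mul_le_mul_right _ (by omega)), fun h => ?_⟩
    have := hb.trans (Nat.mul_le_mul_right _ h16)
    omega

/-- The commutator space of an involution is the orthogonal of its fixed space. -/
theorem exists_disp {x : G} (hx : x ∈ c.H) {v : c.Vs} (hv : v ∈ c.perp (c.fix {x})) :
    ∃ w, c.act x w + w = v := by
  let f : c.Vs →+ c.Vs := AddMonoidHom.mk' (fun w => c.act x w + w) fun a b => by rw [map_add]; abel
  have hk : f.ker = c.fix {x} := by
    ext w
    rw [AddMonoidHom.mem_ker, c.mem_fix_singleton]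
    exact ⟨fun h => c.add_eq_zero_V h, fun h => by show c.act x w + w = 0; rw [h, c.two_V]⟩
  have hle : f.range ≤ c.perp (c.fix {x}) := by
    rintro _ ⟨w, rfl⟩
    exact c.displacement_mem hx w
  have h1 := f.ker.card_mul_index
  rw [AddSubgroup.index_ker, hk, c.card_V, ← c.card_perp (c.fix {x})] at h1
  have h2 : Nat.card ↥f.range = Nat.card ↥(c.perp (c.fix {x})) := Nat.eq_of_mul_eq_mul_left Nat.card_pos h1
  have h3 : f.range = c.perp (c.fix {x}) := AddSubgroup.eq_of_le_of_card_ge hle h2.ge
  obtain ⟨w, hw⟩ := h3.symm ▸ hv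
  exact ⟨w, hw⟩

theorem perp_fix_le_fix {x : G} (hx : x ∈ c.H) (hxx : x * x = 1) : c.perp (c.fix {x}) ≤ c.fix {x} := by
  intro v hv
  obtain ⟨w, rfl⟩ := c.exists_disp hx hv
  rw [c.mem_fix_singleton, map_add, ← c.act_apply_mul hx hx, hxx, c.act_one, add_comm]
  rfl

/-- Elements over the commutator space are displacements of the involution. -/
theorem exists_displacer {x d : G} (hx : x ∈ c.H) (hxx : x * x = 1) (hd : d ∈ c.E)
    (hdv : c.pv d ∈ c.perp (c.fix {x})) : ∃ e ∈ c.E, e * x * e⁻¹ = d * x ∨ e * x * e⁻¹ = d * z * x := by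
  obtain ⟨w, hw⟩ := c.exists_disp hx hdv
  obtain ⟨e, he, rfl⟩ := c.pv_surj w
  have hi : x⁻¹ = x := inv_eq_of_mul_eq_one_right hxx
  have hxe : x * e⁻¹ * x⁻¹ ∈ c.E := c.conj_E hx (inv_mem he)
  have hpv : c.pv (e * (x * e⁻¹ * x⁻¹)) = c.pv d := by
    rw [c.pv_mul he hxe, c.pv_conj hx (inv_mem he), c.pv_inv he, add_comm, hw]
  have e1 : e * x * e⁻¹ = e * (x * e⁻¹ * x⁻¹) * x := by group
  rcases (c.pv_eq_iff (mul_mem he hxe) hd).1 hpv with h | h
  · exact ⟨e, he, Or.inl (by rw [e1, h])⟩
  · exact ⟨e, he, Or.inr (by rw [e1, h, ← c.comm_z (c.E_le hd)])⟩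

theorem E_conj_iff (g : G) {x : G} : x ∈ (c.conj g).E ↔ g⁻¹ * x * g ∈ c.E := by
  have h := map_twoCore (MulAut.conj g) z
  rw [MulAut.conj_apply] at h
  show x ∈ Cfsg.twoCoreOfCentralizer (g * z * g⁻¹) ↔ _
  rw [← h]
  constructor
  · rintro ⟨y, hy, rfl⟩
    simpa [mul_assoc] using hy
  · intro hx
    exact ⟨_, hx, by simp [mul_assoc]⟩

/-- An inner involution has an elementary abelian group over its commutator space. -/
theorem sq_of_perp_fix_inner {x : G} (hx : x ∈ c.M) (hi : orderOf (c.im x) = 2) (hxx : x * x = 1) {d : G}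
    (hd : d ∈ c.E) (hdv : c.pv d ∈ c.perp (c.fix {x})) : d * d = 1 := by
  have hxH := c.H_of_M hx
  obtain ⟨j, hj, hjI⟩ := c.facts.invol_I _ (by rw [c.im_eq hxH]; exact (c.mem_M.1 hx).2) hi
  obtain ⟨g, hg, hgj⟩ := c.exists_C0_im hj
  obtain ⟨l, hl, hli⟩ := c.exists_L0 hjI
  have hgx : g * x * g⁻¹ ∈ c.M := mul_mem (mul_mem (c.C0_le_M hg) hx) (inv_mem (c.C0_le_M hg))
  have hfix : c.fix {g * x * g⁻¹} = c.fix {l} := c.fix_act_eq (c.act_eq_of_im hgx (c.C0_le_M (c.L0_le hl))
    (by rw [c.im_conj hg.1 hxH, hgj, hli]) (n := 2) (by norm_num)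
    (by rw [← c.act_pow (c.H_of_M hgx), conj_pow, pow_two, hxx, mul_one, mul_inv_cancel, c.act_one])
    (by rw [← c.act_pow (c.L0_le hl).1, pow_two, c.L0_elementary hl, c.act_one]))
  have hmem : c.act g (c.pv d) ∈ c.U := by
    rw [← c.perp_U]
    refine c.perp_anti (c.U_le_fix hl) (c.mem_perp.2 fun u hu => ?_)
    rw [← hfix] at hu
    have h1 := c.mem_perp.1 hdv _ ((c.fix_conj hg.1 hxH).1 hu)
    rw [← c.Bf_act hg.1, c.act_apply_inv hg.1] at h1
    exact h1
  have h := c.Sf_U hmem
  rw [c.Sf_act hg.1] at h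
  exact (c.Sf_sq hd).1 h

/-- An involution outside the core has nontrivial image. -/
theorem orderOf_im_invol {x : G} (hx : x ∈ c.H) (hxx : x * x = 1) (hE : x ∉ c.E) : orderOf (c.im x) = 2 := by
  refine orderOf_eq_prime (by rw [← c.im_pow hx, pow_two, hxx, c.im_one]) fun h1 => hE ?_
  rw [c.im_eq hx] at h1
  obtain ⟨e, he, q, hq, hd⟩ := c.ker_decomp hx h1
  have hact : c.act x = c.act q := by
    rw [hd, c.act_mul (c.E_le he) (c.P_le_C0 hq).1, (c.act_eq_one (c.E_le he)).2 he, one_mul]
  have hq1 : q = 1 := c.act_P_of_pow hq (n := 2) (by norm_num)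
    (by rw [← hact, ← c.act_pow hx, pow_two, hxx, c.act_one])
  rw [hd, hq1, mul_one]
  exact he

/-- The conclusion of this file: `z` has a conjugate in the core besides itself. -/
theorem exists_conj_E [IsSimpleGroup G] (hG : ¬ IsMulCommutative G) :
    ∃ u ∈ c.E, u ≠ z ∧ IsConj z u := by
  classical
  haveI : Finite A := Finite.of_surjective c.pr c.pr_surj
  by_contra hcon
  push Not at hcon
  have hE : ∀ u ∈ c.E, IsConj z u → u = z := fun u hu hc => by_contra fun h => hcon u hu h hc
  have hni : ¬ Cfsg.IsIsolatedInvolution z := by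
    intro hiso
    have hzc := CfsgLib.Invol.zstar hiso
    rcases (inferInstance : IsSimpleGroup G).eq_bot_or_eq_top_of_normal (Cfsg.pPrimeCore 2 G) inferInstance with
      h | h
    · refine hG ⟨⟨fun a b => ?_⟩⟩
      have hzC : z ∈ center G := mem_center_iff.2 fun w => by
        have hm := hzc w
        rw [h, mem_bot] at hm
        exact (mul_inv_eq_iff_eq_mul.1 (mul_inv_eq_one.1 hm)).symm
      have htop : center G = ⊤ :=
        ((inferInstance : IsSimpleGroup G).eq_bot_or_eq_top_of_normal (center G) inferInstance).resolve_left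
          fun hb => c.z_ne (mem_bot.1 (hb ▸ hzC))
      exact (mem_center_iff.1 (htop ▸ mem_top a) b).symm
    · have hp := CfsgLib.Coprime.pPrimeCore_not_dvd (G := G) Nat.prime_two
      rw [h, card_top] at hp
      exact hp (c.ord ▸ orderOf_dvd_natCard z)
  obtain ⟨g, hgc, hgne⟩ : ∃ g : G, Commute z (g * z * g⁻¹) ∧ g * z * g⁻¹ ≠ z := by
    by_contra h
    push Not at h
    exact hni ⟨c.ord, h⟩
  set t := g * z * g⁻¹ with ht
  let c' := c.conj g
  have htH : t ∈ c.H := mem_centralizer_singleton_iff.2 hgc.eq.symm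
  have hzH' : z ∈ c'.H := mem_centralizer_singleton_iff.2 hgc.eq
  have hzt : IsConj z t := isConj_iff.2 ⟨g, ht.symm⟩
  have hzE' : z ∉ c'.E := fun h => by
    have h1 := (c.E_conj_iff g).1 h
    have h2 := hE _ h1 (isConj_iff.2 ⟨g⁻¹, by group⟩)
    exact hgne (by calc t = g * (g⁻¹ * z * g) * g⁻¹ := by rw [h2]
          _ = z := by group)
  have htz : t * t = 1 := c'.zz
  -- elements of both cores
  have hDsq : ∀ d, d ∈ c.E → d ∈ c'.E → d * d = 1 := by
    intro d hd hd'
    rcases c.sq_E hd with h | h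
    · exact h
    rcases c'.sq_E hd' with h' | h'
    · exact h'
    exact absurd (h'.symm.trans h) hgne
  have hDcomm : ∀ a b, a ∈ c.E → a ∈ c'.E → b ∈ c.E → b ∈ c'.E → a * b = b * a := by
    intro a b ha ha' hb hb'
    rcases c.comm_E ha hb with h | h
    · exact h
    rcases c'.comm_E ha' hb' with h' | h'
    · exact h'
    exact absurd (mul_right_cancel (h'.symm.trans h)) hgne
  set F := c'.fix {z} with hF
  set D' := c'.perp F with hD'
  have hDF : D' ≤ F := c'.perp_fix_le_fix hzH' c.zz
  have hbound := fun (S : Subgroup G) (hSE : S ≤ c'.E) (hSc : ∀ x ∈ S, x * z = z * x)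
      (hab : ∀ x ∈ S, ∀ y ∈ S, x * y = y * x) =>
    c.abelian_bound (S := S) (fun x hx => mem_centralizer_singleton_iff.2 (hSc x hx)) (c'.E_isPGroup.to_le hSE)
      hab fun h => hzE' (hSE h)
  -- the elements over the commutator space displace `z`
  have hdisp : ∀ d, d ∈ c.E → d ∈ c'.E → c'.pv d ∈ D' → d ≠ 1 → ∃ e ∈ c'.E, e * z * e⁻¹ = d * t * z := by
    intro d hd hd' hdv hne
    obtain ⟨e, he, h | h⟩ := c'.exists_displacer hzH' c.zz hd' hdv
    · exfalso
      refine hne (mul_eq_right.1 (hE (d * z) (mul_mem hd c.z_mem_E) ?_))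
      exact h ▸ isConj_iff.2 ⟨e, rfl⟩
    · exact ⟨e, he, h⟩
  -- whether `z` centralizes what lies over its fixed space
  by_cases hgood : ∀ f ∈ c'.E, c'.pv f ∈ F → f * z = z * f
  · -- at most four elements in both cores over the commutator space
    have hfour : Nat.card ↥((c'.lift D' ⊓ c.E : Subgroup G)) ≤ 4 := by
      set D0 : Subgroup G := c'.lift D' ⊓ c.E
      by_contra h4
      push Not at h4
      obtain ⟨d1, hd1, hd11⟩ : ∃ d ∈ D0, d ≠ 1 := by
        by_contra hc
        push Not at hc
        rw [(Subgroup.eq_bot_iff_forall _).2 hc, Subgroup.card_bot] at h4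
        omega
      obtain ⟨d2, hd2, hd21, hd2d1⟩ : ∃ d ∈ D0, d ≠ 1 ∧ d ≠ d1 := by
        by_contra hc
        push Not at hc
        have hsub : (D0 : Set G) ⊆ {1, d1} := fun d hd => by
          by_cases h : d = 1
          · exact Or.inl h
          · exact Or.inr (hc d hd h)
        have := Set.ncard_le_ncard hsub (Set.toFinite _)
        have h2 := Set.ncard_insert_le (1 : G) {d1}
        rw [Set.ncard_singleton] at h2
        have hcs : (D0 : Set G).ncard = Nat.card ↥D0 := (Nat.card_coe_set_eq _).symm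
        omega
      obtain ⟨d3, hd3, hd31, hd3d1, hd3d2, hd3p⟩ :
          ∃ d ∈ D0, d ≠ 1 ∧ d ≠ d1 ∧ d ≠ d2 ∧ d ≠ d2 * d1 := by
        by_contra hc
        push Not at hc
        have hsub : (D0 : Set G) ⊆ {1, d1, d2, d2 * d1} := fun d hd => by
          by_cases h1 : d = 1
          · exact Or.inl h1
          by_cases h2 : d = d1
          · exact Or.inr (Or.inl h2)
          by_cases h3 : d = d2
          · exact Or.inr (Or.inr (Or.inl h3))
          exact Or.inr (Or.inr (Or.inr (hc d hd h1 h2 h3)))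
        have := Set.ncard_le_ncard hsub (Set.toFinite _)
        have a1 := Set.ncard_insert_le (1 : G) {d1, d2, d2 * d1}
        have a2 := Set.ncard_insert_le d1 {d2, d2 * d1}
        have a3 := Set.ncard_insert_le d2 {d2 * d1}
        rw [Set.ncard_singleton] at a3
        have hcs : (D0 : Set G).ncard = Nat.card ↥D0 := (Nat.card_coe_set_eq _).symm
        omega
      obtain ⟨e, he, hez⟩ := hdisp d1 hd1.2 hd1.1.1 hd1.1.2 hd11
      have hflip : ∀ d ∈ D0, d ≠ 1 → d ≠ d1 → e * d * e⁻¹ = t * d := by
        intro d hd h1 hne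
        rcases c'.comm_E he hd.1.1 with h | h
        · exfalso
          obtain ⟨f, hf, hfz⟩ := hdisp d hd.2 hd.1.1 hd.1.2 h1
          have hed : e * d * e⁻¹ = d := by rw [h, mul_inv_cancel_right]
          have het : e * t * e⁻¹ = t := by rw [c'.comm_z (c'.E_le he), mul_inv_cancel_right]
          have e1 : (e * f) * z * (e * f)⁻¹ = d * d1 * z := by
            calc (e * f) * z * (e * f)⁻¹ = e * (f * z * f⁻¹) * e⁻¹ := by group
              _ = (e * d * e⁻¹) * (e * t * e⁻¹) * (e * z * e⁻¹) := by rw [hfz]; group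
              _ = d * t * (d1 * t * z) := by rw [hed, het, hez]
              _ = d * (t * d1) * (t * z) := by group
              _ = _ := by
                rw [← c'.comm_z (c'.E_le hd1.1.1), ← mul_assoc d d1 t, mul_assoc (d * d1) t, ← mul_assoc t t, htz,
                  one_mul]
          have h2 := hE _ (mul_mem (mul_mem hd.2 hd1.2) c.z_mem_E) (isConj_iff.2 ⟨_, e1⟩)
          refine hne ?_
          rw [eq_inv_of_mul_eq_one_left (mul_eq_right.1 h2)]
          exact inv_eq_of_mul_eq_one_right (hDsq d1 hd1.2 hd1.1.1)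
        · rw [h, ← mul_assoc, mul_inv_cancel_right]
      have hp : e * (d2 * d3) * e⁻¹ = t * (d2 * d3) := by
        refine hflip _ (mul_mem hd2 hd3) (fun h => hd3d2 ?_) (fun h => hd3p ?_)
        · calc d3 = d2⁻¹ * (d2 * d3) := by group
            _ = d2 := by rw [h, mul_one, inv_eq_of_mul_eq_one_right (hDsq d2 hd2.2 hd2.1.1)]
        · calc d3 = (d2 * d2) * d3 := by rw [hDsq d2 hd2.2 hd2.1.1, one_mul]
            _ = d2 * d1 := by rw [mul_assoc, h]
      have hp' : e * (d2 * d3) * e⁻¹ = d2 * d3 := by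
        calc e * (d2 * d3) * e⁻¹ = (e * d2 * e⁻¹) * (e * d3 * e⁻¹) := by group
          _ = t * d2 * (t * d3) := by rw [hflip d2 hd2 hd21 hd2d1, hflip d3 hd3 hd31 hd3d1]
          _ = t * (d2 * t) * d3 := by group
          _ = _ := by rw [c'.comm_z (c'.E_le hd2.1.1), ← mul_assoc, htz, one_mul]
      exact c'.z_ne (mul_eq_right.1 (hp.symm.trans hp'))
    -- an abelian subgroup of order `2 ^ 7` meeting the other core over the commutator space
    obtain ⟨K, hKF, hKiso, hK6, hKD⟩ : ∃ K : AddSubgroup c'.Vs, K ≤ F ∧ K ≤ c'.perp K ∧ 2 ^ 6 ≤ Nat.card ↥K ∧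
        ∀ d, d ∈ c.E → d ∈ c'.E → c'.pv d ∈ K → c'.pv d ∈ D' := by
      by_cases hzM : z ∈ c'.M
      · have hi : orderOf (c'.im z) = 2 := c'.orderOf_im_invol hzH' c.zz hzE'
        have hF8 : Nat.card ↥F = 2 ^ 8 := c'.card_fix_inner hzM hi (a := 1) (by rw [pow_one, pow_two, c.zz])
        have hD4 : Nat.card ↥D' = 2 ^ 4 := by
          have := c'.card_perp F
          rw [hF8] at this
          rw [hD']
          omega
        -- vectors from elements of both cores
        let DD : AddSubgroup c'.Vs := c'.pvS c.E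
        have hDDF : DD ≤ F := by
          rintro _ ⟨d, hd, hd', rfl⟩
          rw [hF, c'.mem_fix_singleton, ← c'.pv_conj hzH' hd', (c.comm_z (c.E_le hd)).symm, mul_inv_cancel_right]
        have hS1F : DD ⊔ D' ≤ F := sup_le hDDF hDF
        have hS1iso : DD ⊔ D' ≤ c'.perp (DD ⊔ D') := by
          refine sup_le (fun v hv => ?_) (fun v hv => ?_)
          · refine c'.mem_perp.2 fun u hu => ?_
            obtain ⟨u1, hu1, u2, hu2, rfl⟩ := AddSubgroup.mem_sup.1 hu
            rw [c'.Bf_add_left]
            obtain ⟨a, ha, ha', rfl⟩ := hu1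
            obtain ⟨b, hb, hb', rfl⟩ := hv
            rw [(c'.Bf_comm ha' hb').2 (hDcomm a b ha ha' hb hb'), zero_add, c'.Bf_symm]
            exact c'.mem_perp.1 hu2 _ (hDDF ⟨b, hb, hb', rfl⟩)
          · exact c'.perp_anti hS1F hv
        have hsize : ∀ S : AddSubgroup c'.Vs, S ≤ c'.perp S → Nat.card ↥S ≤ 2 ^ 6 := by
          intro S hS
          have h1 := c'.card_perp S
          have h2 := AddSubgroup.card_le_of_le hS
          by_contra h3
          push Not at h3
          have := Nat.mul_le_mul h3 (le_trans h3 h2)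
          omega
        have hadd : ∀ (S : AddSubgroup c'.Vs) (v : c'.Vs),
            ∃ S' : AddSubgroup c'.Vs, (∀ w, w ∈ S' ↔ w ∈ S ∨ w + v ∈ S) ∧ (v ∉ S → Nat.card ↥S' = 2 * Nat.card ↥S) ∧
              Nat.card ↥S' ≤ 2 * Nat.card ↥S := by
          intro S v
          refine ⟨{ carrier := {w | w ∈ S ∨ w + v ∈ S}
                    zero_mem' := Or.inl (zero_mem _)
                    add_mem' := ?_
                    neg_mem' := ?_ }, fun w => Iff.rfl, ?_, ?_⟩
          · rintro a b (ha | ha) (hb | hb)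
            · exact Or.inl (add_mem ha hb)
            · exact Or.inr (by rw [add_assoc]; exact add_mem ha hb)
            · exact Or.inr (by rw [add_right_comm]; exact add_mem ha hb)
            · refine Or.inl ?_
              have := add_mem ha hb
              rwa [add_add_add_comm, c'.two_V v, add_zero] at this
          · intro a ha
            rwa [neg_eq_of_add_eq_zero_left (c'.two_V a)]
          · intro hv
            show Nat.card ↥({w | w ∈ S ∨ w + v ∈ S} : Set c'.Vs) = _
            have e : ({w | w ∈ S ∨ w + v ∈ S} : Set c'.Vs) = (S : Set c'.Vs) ∪ (fun w => w + v) '' (S : Set c'.Vs) := by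
              ext w
              refine or_congr Iff.rfl ⟨fun h => ⟨w + v, h, by show w + v + v = w; rw [add_assoc, c'.two_V, add_zero]⟩, ?_⟩
              rintro ⟨a, ha, rfl⟩
              rwa [add_assoc, c'.two_V, add_zero]
            rw [e, Nat.card_coe_set_eq, Set.ncard_union_eq ?_ (Set.toFinite _) (Set.toFinite _),
              Set.ncard_image_of_injective _ (add_left_injective v), two_mul]
            · rw [← Nat.card_coe_set_eq]; rfl
            · rw [Set.disjoint_left]
              rintro w hw ⟨a, ha, rfl⟩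
              exact hv ((add_mem_cancel_left ha).1 hw)
          · show Nat.card ↥({w | w ∈ S ∨ w + v ∈ S} : Set c'.Vs) ≤ _
            have hsub : ({w | w ∈ S ∨ w + v ∈ S} : Set c'.Vs) ⊆ (S : Set c'.Vs) ∪ (fun w => w + v) '' (S : Set c'.Vs) := by
              rintro w (h | h)
              · exact Or.inl h
              · exact Or.inr ⟨w + v, h, by show w + v + v = w; rw [add_assoc, c'.two_V, add_zero]⟩
            have h1 := (Set.ncard_le_ncard hsub (Set.toFinite _)).trans (Set.ncard_union_le _ _)
            rw [Set.ncard_image_of_injective _ (add_left_injective v)] at h1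
            rw [Nat.card_coe_set_eq]
            have hcs : (S : Set c'.Vs).ncard = Nat.card ↥S := (Nat.card_coe_set_eq _).symm
            omega
        obtain ⟨m1, hm1F, hm1⟩ : ∃ m ∈ F, m ∉ DD ⊔ D' := by
          by_contra hc
          push Not at hc
          have := (AddSubgroup.card_le_of_le (show F ≤ DD ⊔ D' from hc)).trans (hsize _ hS1iso)
          omega
        obtain ⟨S2, hS2, hS2c, hS2le⟩ := hadd (DD ⊔ D') m1
        obtain ⟨m2, hm2F, hm2B, hm2⟩ : ∃ m ∈ F, c'.Bf m1 m = 0 ∧ m ∉ S2 := by
          by_contra hc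
          push Not at hc
          let φ : ↥F →+ ZMod 2 := AddMonoidHom.mk' (fun u => c'.Bf m1 u) fun a b => c'.Bf_add_right _ _ _
          have h1 := φ.ker.card_mul_index
          rw [AddSubgroup.index_ker, hF8] at h1
          have h2 : Nat.card ↥φ.range ≤ 2 :=
            (Nat.card_le_card_of_injective _ Subtype.val_injective).trans (le_of_eq (Nat.card_zmod 2))
          let Kp : AddSubgroup c'.Vs := φ.ker.map F.subtype
          have hKp : Nat.card ↥Kp = Nat.card ↥φ.ker :=
            (Nat.card_congr (AddSubgroup.equivMapOfInjective _ _ F.subtype_injective).toEquiv).symm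
          have hKS : Kp ≤ S2 := by
            rintro _ ⟨u, hu, rfl⟩
            exact hc _ u.2 hu
          have h3 := AddSubgroup.card_le_of_le hKS
          have h4 := hsize _ hS1iso
          have hge : 2 ^ 7 ≤ Nat.card ↥φ.ker := by
            by_contra h7
            push Not at h7
            have := Nat.mul_le_mul (Nat.le_of_lt_succ (Nat.lt_succ_of_lt h7)) h2
            have h7' : Nat.card ↥φ.ker + 1 ≤ 2 ^ 7 := h7
            have := Nat.mul_le_mul h7' h2
            nlinarith
          have heq : Kp = S2 := AddSubgroup.eq_of_le_of_card_ge hKS (by omega)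
          have hperp : ∀ w ∈ DD ⊔ D', c'.Bf m1 w = 0 := by
            intro w hw
            obtain ⟨u, hu, rfl⟩ : w ∈ Kp := heq ▸ (hS2 w).2 (Or.inl hw)
            exact hu
          have hiso2 : S2 ≤ c'.perp S2 := by
            intro v hv
            refine c'.mem_perp.2 fun u hu => ?_
            have key : ∀ x ∈ S2, ∃ a ∈ DD ⊔ D', x = a ∨ x = a + m1 := by
              intro x hx
              rcases (hS2 x).1 hx with h | h
              · exact ⟨x, h, Or.inl rfl⟩
              · exact ⟨x + m1, h, Or.inr (by rw [add_assoc, c'.two_V, add_zero])⟩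
            obtain ⟨a, ha, hua⟩ := key u hu
            obtain ⟨b, hb, hvb⟩ := key v hv
            have hab0 : c'.Bf a b = 0 := c'.mem_perp.1 (hS1iso hb) a ha
            have ham : c'.Bf a m1 = 0 := by rw [c'.Bf_symm]; exact hperp a ha
            rcases hua with hua | hua <;> rcases hvb with hvb | hvb <;> rw [hua, hvb] <;>
              simp only [c'.Bf_add_left, c'.Bf_add_right, hab0, ham, hperp b hb, c'.Bf_self, add_zero]
          have := hsize _ hiso2
          omega
        obtain ⟨K1, hK1, hK1c, -⟩ := hadd D' m1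
        obtain ⟨K2, hK2, hK2c, -⟩ := hadd K1 m2
        have key : ∀ w ∈ K2, ∃ a ∈ D', w = a ∨ w = a + m1 ∨ w = a + m2 ∨ w = a + m1 + m2 := by
          intro w hw
          have e : ∀ v : c'.Vs, v + m2 + m2 = v := fun v => by rw [add_assoc, c'.two_V, add_zero]
          have e' : ∀ v : c'.Vs, v + m1 + m1 = v := fun v => by rw [add_assoc, c'.two_V, add_zero]
          rcases (hK2 w).1 hw with h | h <;> rcases (hK1 _).1 h with h' | h'
          · exact ⟨w, h', Or.inl rfl⟩
          · exact ⟨w + m1, h', Or.inr (Or.inl (e' w).symm)⟩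
          · exact ⟨w + m2, h', Or.inr (Or.inr (Or.inl (e w).symm))⟩
          · exact ⟨w + m2 + m1, h', Or.inr (Or.inr (Or.inr (by rw [e', e])))⟩
        refine ⟨K2, fun w hw => ?_, fun v hv => c'.mem_perp.2 fun u hu => ?_, ?_, fun d hd hd' hdK => ?_⟩
        · obtain ⟨a, ha, h⟩ := key w hw
          rcases h with rfl | rfl | rfl | rfl
          · exact hDF ha
          · exact add_mem (hDF ha) hm1F
          · exact add_mem (hDF ha) hm2F
          · exact add_mem (add_mem (hDF ha) hm1F) hm2F
        · obtain ⟨a, ha, h⟩ := key u hu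
          obtain ⟨b, hb, h'⟩ := key v hv
          have hab0 : c'.Bf a b = 0 := c'.mem_perp.1 hb a (hDF ha)
          have ham : ∀ m ∈ F, c'.Bf a m = 0 ∧ c'.Bf m b = 0 := fun m hm =>
            ⟨by rw [c'.Bf_symm]; exact c'.mem_perp.1 ha m hm, c'.mem_perp.1 hb m hm⟩
          have h21 : c'.Bf m2 m1 = 0 := by rw [c'.Bf_symm]; exact hm2B
          rcases h with rfl | rfl | rfl | rfl <;> rcases h' with rfl | rfl | rfl | rfl <;>
            simp only [c'.Bf_add_left, c'.Bf_add_right, hab0, (ham m1 hm1F).1, (ham m1 hm1F).2, (ham m2 hm2F).1,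
              (ham m2 hm2F).2, hm2B, h21, c'.Bf_self, add_zero]
        · have h1 : m1 ∉ D' := fun h => hm1 (AddSubgroup.mem_sup_right h)
          have h2 : m2 ∉ K1 := fun h => hm2 ((hS2 m2).2 (((hK1 m2).1 h).imp
            (fun h' => AddSubgroup.mem_sup_right h') fun h' => AddSubgroup.mem_sup_right h'))
          rw [hK2c h2, hK1c h1, hD4]
          norm_num
        · have hDD : c'.pv d ∈ DD := ⟨d, hd, hd', rfl⟩
          obtain ⟨a, ha, h⟩ := key _ hdK
          have hsum : c'.pv d + a ∈ DD ⊔ D' := add_mem (AddSubgroup.mem_sup_left hDD) (AddSubgroup.mem_sup_right ha)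
          rcases h with h | h | h | h
          · rw [h]; exact ha
          · exfalso
            rw [h, add_right_comm, c'.two_V, zero_add] at hsum
            exact hm1 hsum
          · exfalso
            rw [h, add_right_comm, c'.two_V, zero_add] at hsum
            exact hm2 ((hS2 m2).2 (Or.inl hsum))
          · exfalso
            rw [h, show a + m1 + m2 + a = (a + a) + (m2 + m1) by abel, c'.two_V, zero_add] at hsum
            exact hm2 ((hS2 m2).2 (Or.inr hsum))
      · have h1 := c'.card_fix_outer hzH' hzM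
        have h2 := AddSubgroup.card_le_of_le hDF
        have h3 := c'.card_perp F
        have h6 : 2 ^ 6 ≤ Nat.card ↥F := by
          by_contra h
          push Not at h
          have := Nat.mul_le_mul (Nat.le_of_lt_succ (Nat.lt_succ_of_lt h)) (h2.trans (Nat.le_of_lt_succ (Nat.lt_succ_of_lt h)))
          have hlt : Nat.card ↥F * Nat.card ↥D' ≤ (2 ^ 6 - 1) * (2 ^ 6 - 1) :=
            Nat.mul_le_mul (by omega) (by omega)
          rw [hD'] at hlt
          omega
        have heq : D' = F := AddSubgroup.eq_of_le_of_card_ge hDF (by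
          have hF6 : Nat.card ↥F = 2 ^ 6 := by
            rw [hF] at h6 ⊢
            omega
          rw [hF6] at h3 ⊢
          rw [hD']
          omega)
        exact ⟨F, le_rfl, by rw [← hD', heq], h6, fun d _ _ h => heq.symm ▸ h⟩
    -- its size
    set S := c'.lift K
    have hSc : ∀ x ∈ S, x * z = z * x := fun x hx => hgood x hx.1 (hKF hx.2)
    have hSab : ∀ x ∈ S, ∀ y ∈ S, x * y = y * x := fun x hx y hy =>
      (c'.Bf_comm hx.1 hy.1).1 (c'.mem_perp.1 (hKiso hy.2) _ hx.2)
    obtain ⟨b1, b2⟩ := hbound S (c'.lift_le K) hSc hSab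
    have hle : Nat.card ↥(S ⊓ c.E : Subgroup G) ≤ 4 :=
      (card_le_of_le (show S ⊓ c.E ≤ c'.lift D' ⊓ c.E from
        fun x hx => ⟨⟨hx.1.1, hKD x hx.2 hx.1.1 hx.1.2⟩, hx.2⟩)).trans hfour
    have hcard : 2 ^ 7 ≤ Nat.card ↥S := by rw [c'.card_lift]; omega
    have h2 := b2 (by omega)
    omega
  · push Not at hgood
    obtain ⟨f, hf, hfF, hfz⟩ := hgood
    have hfz' : f * z * f⁻¹ = t * z := by
      have hm : f * (z * f⁻¹ * z⁻¹) ∈ c'.E := mul_mem hf (c'.conj_E hzH' (inv_mem hf))
      have hpv : c'.pv (f * (z * f⁻¹ * z⁻¹)) = 0 := by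
        rw [c'.pv_mul hf (c'.conj_E hzH' (inv_mem hf)), c'.pv_conj hzH' (inv_mem hf), c'.pv_inv hf,
          c'.mem_fix_singleton.1 hfF, c'.two_V]
      rcases (c'.pv_eq_zero hm).1 hpv with h | h
      · exfalso
        refine hfz (mul_inv_eq_iff_eq_mul.1 ?_)
        calc f * z * f⁻¹ = f * (z * f⁻¹ * z⁻¹) * z := by group
          _ = z := by rw [h, one_mul]
      · calc f * z * f⁻¹ = f * (z * f⁻¹ * z⁻¹) * z := by group
          _ = _ := by rw [h]
    -- no element of both cores over the commutator space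
    have hnone : ∀ d, d ∈ c.E → d ∈ c'.E → c'.pv d ∈ D' → d = 1 := by
      intro d hd hd' hdv
      by_contra hne
      obtain ⟨e, he, hez⟩ := hdisp d hd hd' hdv hne
      have het : e * t * e⁻¹ = t := by rw [c'.comm_z (c'.E_le he), mul_inv_cancel_right]
      have e1 : (e * f) * z * (e * f)⁻¹ = d * z := by
        calc (e * f) * z * (e * f)⁻¹ = e * (f * z * f⁻¹) * e⁻¹ := by group
          _ = (e * t * e⁻¹) * (e * z * e⁻¹) := by rw [hfz']; group
          _ = t * (d * t) * z := by rw [het, hez]; group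
          _ = _ := by rw [c'.comm_z (c'.E_le hd'), ← mul_assoc, htz, one_mul]
      exact hne (mul_eq_right.1 (hE _ (mul_mem hd c.z_mem_E) (isConj_iff.2 ⟨_, e1⟩)))
    -- the part centralizing `z` over the fixed space
    set S0 : Subgroup G := c'.lift F ⊓ centralizer ({z} : Set G) with hS0
    have hS0c : Nat.card ↥F ≤ Nat.card ↥S0 := by
      let χ : ↥(c'.lift F) → Prop := fun x => (x : G) * z = z * x
      have hdec : ∀ x : ↥(c'.lift F), χ x ∨ χ ⟨f * x, mul_mem ⟨hf, hfF⟩ x.2⟩ := by
        intro x
        by_cases hx : χ x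
        · exact Or.inl hx
        refine Or.inr ?_
        have hxH : (x : G) ∈ c'.H := c'.E_le x.2.1
        have hm : (x : G) * (z * (x : G)⁻¹ * z⁻¹) ∈ c'.E := mul_mem x.2.1 (c'.conj_E hzH' (inv_mem x.2.1))
        have hpv : c'.pv ((x : G) * (z * (x : G)⁻¹ * z⁻¹)) = 0 := by
          rw [c'.pv_mul x.2.1 (c'.conj_E hzH' (inv_mem x.2.1)), c'.pv_conj hzH' (inv_mem x.2.1), c'.pv_inv x.2.1,
            c'.mem_fix_singleton.1 x.2.2, c'.two_V]
        have hxz : (x : G) * z * (x : G)⁻¹ = t * z := by
          rcases (c'.pv_eq_zero hm).1 hpv with h | h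
          · exfalso
            refine hx (mul_inv_eq_iff_eq_mul.1 ?_)
            calc (x : G) * z * (x : G)⁻¹ = x * (z * (x : G)⁻¹ * z⁻¹) * z := by group
              _ = z := by rw [h, one_mul]
          · calc (x : G) * z * (x : G)⁻¹ = x * (z * (x : G)⁻¹ * z⁻¹) * z := by group
              _ = _ := by rw [h]
        refine mul_inv_eq_iff_eq_mul.1 ?_
        calc f * x * z * (f * x)⁻¹ = f * ((x : G) * z * (x : G)⁻¹) * f⁻¹ := by group
          _ = (f * t * f⁻¹) * (f * z * f⁻¹) := by rw [hxz]; group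
          _ = z := by rw [c'.comm_z (c'.E_le hf), mul_inv_cancel_right, hfz', ← mul_assoc, htz, one_mul]
      have hcl := c'.card_lift F
      let Φ : ↥(c'.lift F) → Fin 2 × ↥S0 := fun x =>
        if h : χ x then (0, ⟨x, x.2, mem_centralizer_singleton_iff.2 h⟩)
        else (1, ⟨f * x, mul_mem ⟨hf, hfF⟩ x.2, mem_centralizer_singleton_iff.2 ((hdec x).resolve_left h)⟩)
      have hΦ : Function.Injective Φ := by
        intro x y h
        by_cases hx : χ x <;> by_cases hy : χ y <;>
          simp only [Φ, hx, hy, dite_true, dite_false, Prod.mk.injEq, SetLike.coe_eq_coe,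
            mul_right_inj, zero_ne_one, one_ne_zero, false_and, true_and] at h
        · have h2 := congrArg Subtype.val h
          exact Subtype.ext h2
        · have h2 := congrArg Subtype.val h
          exact Subtype.ext (mul_left_cancel h2)
      have := Nat.card_le_card_of_injective Φ hΦ
      rw [Nat.card_prod, Nat.card_fin, hcl] at this
      omega
    have hS0E : S0 ≤ c'.E := fun x hx => hx.1.1
    have hS0z : ∀ x ∈ S0, x * z = z * x := fun x hx => mem_centralizer_singleton_iff.1 hx.2
    by_cases hzM : z ∈ c'.M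
    · have hi : orderOf (c'.im z) = 2 := c'.orderOf_im_invol hzH' c.zz hzE'
      have hF8 : Nat.card ↥F = 2 ^ 8 := c'.card_fix_inner hzM hi (a := 1) (by rw [pow_one, pow_two, c.zz])
      have hD4 : Nat.card ↥D' = 2 ^ 4 := by
        have := c'.card_perp F
        rw [hF8] at this
        rw [hD']
        omega
      -- the commutator part commutes with `z`
      have hLz : ∀ d ∈ c'.lift D', d * z = z * d := by
        intro d hd
        obtain ⟨e, he, h⟩ := c'.exists_displacer hzH' c.zz hd.1 hd.2
        have hd2 := c'.sq_of_perp_fix_inner hzM hi c.zz hd.1 hd.2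
        have hsq : (e * z * e⁻¹) * (e * z * e⁻¹) = 1 := by
          calc (e * z * e⁻¹) * (e * z * e⁻¹) = e * (z * z) * e⁻¹ := by group
            _ = 1 := by rw [c.zz, mul_one, mul_inv_cancel]
        have hdi : d⁻¹ = d := inv_eq_of_mul_eq_one_right hd2
        have hzi : z⁻¹ = z := inv_eq_of_mul_eq_one_right c.zz
        rcases h with h | h
        · rw [h] at hsq
          calc d * z = (d * z)⁻¹ := (inv_eq_of_mul_eq_one_right hsq).symm
            _ = z * d := by rw [mul_inv_rev, hdi, hzi]
        · rw [h] at hsq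
          have hti : t⁻¹ = t := inv_eq_of_mul_eq_one_right htz
          calc d * z = t * (d * t * z) := by
                rw [← mul_assoc, ← mul_assoc, ← c'.comm_z (c'.E_le hd.1), mul_assoc d t t, htz, mul_one]
            _ = t * (d * t * z)⁻¹ := by rw [inv_eq_of_mul_eq_one_right hsq]
            _ = t * (z * t) * d := by rw [mul_inv_rev, mul_inv_rev, hdi, hzi, hti]; group
            _ = _ := by rw [c'.comm_z hzH', ← mul_assoc, htz, one_mul]
      obtain ⟨a, ha, haS⟩ : ∃ a ∈ S0, c'.pv a ∉ c'.pvS c.E ⊔ D' := by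
        by_contra hc
        push Not at hc
        have hDDle : Nat.card ↥(c'.pvS c.E ⊔ D') ≤ 2 ^ 6 := by
          have hDDF : c'.pvS c.E ≤ F := by
            rintro _ ⟨d, hd, hd', rfl⟩
            rw [hF, c'.mem_fix_singleton, ← c'.pv_conj hzH' hd', (c.comm_z (c.E_le hd)).symm, mul_inv_cancel_right]
          have hiso : c'.pvS c.E ⊔ D' ≤ c'.perp (c'.pvS c.E ⊔ D') := by
            refine sup_le (fun v hv => ?_) (fun v hv => ?_)
            · refine c'.mem_perp.2 fun u hu => ?_
              obtain ⟨u1, hu1, u2, hu2, rfl⟩ := AddSubgroup.mem_sup.1 hu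
              rw [c'.Bf_add_left]
              obtain ⟨a, ha, ha', rfl⟩ := hu1
              obtain ⟨b, hb, hb', rfl⟩ := hv
              rw [(c'.Bf_comm ha' hb').2 (hDcomm a b ha ha' hb hb'), zero_add, c'.Bf_symm]
              exact c'.mem_perp.1 hu2 _ (hDDF ⟨b, hb, hb', rfl⟩)
            · exact c'.perp_anti (sup_le hDDF hDF) hv
          have h1 := c'.card_perp (c'.pvS c.E ⊔ D')
          have h2 := AddSubgroup.card_le_of_le hiso
          by_contra h3
          push Not at h3
          have := Nat.mul_le_mul h3 (le_trans h3 h2)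
          omega
        have h1 := card_le_of_le (show S0 ≤ c'.lift (c'.pvS c.E ⊔ D') from fun x hx => ⟨hx.1.1, hc x hx⟩)
        rw [c'.card_lift] at h1
        omega
      let T : Subgroup G :=
        { carrier := {x | x ∈ c'.lift D' ∨ x * a⁻¹ ∈ c'.lift D'}
          one_mem' := Or.inl (one_mem _)
          mul_mem' := by
            intro x y hx hy
            have haE := hS0E ha
            have hcom : ∀ d ∈ c'.lift D', a * d = d * a := fun d hd =>
              (c'.Bf_comm haE hd.1).1 (c'.mem_perp.1 hd.2 _ ha.1.2)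
            have ha2 : a * a ∈ c'.lift D' := by
              rcases c'.sq_E haE with h | h <;> rw [h]
              · exact one_mem _
              · exact c'.z_mem_lift _
            rcases hx with hx | hx <;> rcases hy with hy | hy
            · exact Or.inl (mul_mem hx hy)
            · exact Or.inr (by rw [mul_assoc x y a⁻¹]; exact mul_mem hx hy)
            · refine Or.inr ?_
              rw [show x * y * a⁻¹ = x * a⁻¹ * (a * y * a⁻¹) by group, hcom y hy, mul_inv_cancel_right]
              exact mul_mem hx hy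
            · refine Or.inl ?_
              rw [show x * y = x * a⁻¹ * (a * (y * a⁻¹)) * a by group, hcom _ hy,
                show x * a⁻¹ * (y * a⁻¹ * a) * a = x * a⁻¹ * (y * a⁻¹) * (a * a) by group]
              exact mul_mem (mul_mem hx hy) ha2
          inv_mem' := by
            intro x hx
            have haE := hS0E ha
            have ha2 : a * a ∈ c'.lift D' := by
              rcases c'.sq_E haE with h | h <;> rw [h]
              · exact one_mem _
              · exact c'.z_mem_lift _
            rcases hx with hx | hx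
            · exact Or.inl (inv_mem hx)
            · refine Or.inr ?_
              have hcom : a * (x * a⁻¹) = x * a⁻¹ * a :=
                (c'.Bf_comm haE hx.1).1 (c'.mem_perp.1 hx.2 _ ha.1.2)
              rw [show x⁻¹ * a⁻¹ = ((a * (x * a⁻¹)) * a)⁻¹ by group, hcom,
                show (x * a⁻¹ * a * a) = x * a⁻¹ * (a * a) by group]
              exact inv_mem (mul_mem hx ha2) }
      have hT : ∀ x ∈ T, ∃ d ∈ c'.lift D', x = d ∨ x = d * a := by
        rintro x (hx | hx)
        · exact ⟨x, hx, Or.inl rfl⟩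
        · exact ⟨x * a⁻¹, hx, Or.inr (by group)⟩
      have hDab : ∀ d ∈ c'.lift D', ∀ d' ∈ c'.lift D', d * d' = d' * d := fun d hd d' hd' =>
        (c'.Bf_comm hd.1 hd'.1).1 (c'.mem_perp.1 hd'.2 _ (hDF hd.2))
      have hDa : ∀ d ∈ c'.lift D', a * d = d * a := fun d hd =>
        (c'.Bf_comm (hS0E ha) hd.1).1 (c'.mem_perp.1 hd.2 _ ha.1.2)
      have hTE : T ≤ c'.E := fun x hx => by
        obtain ⟨d, hd, rfl | rfl⟩ := hT x hx
        · exact hd.1
        · exact mul_mem hd.1 (hS0E ha)
      have hTz : ∀ x ∈ T, x * z = z * x := fun x hx => by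
        obtain ⟨d, hd, rfl | rfl⟩ := hT x hx
        · exact hLz _ hd
        · rw [mul_assoc, hS0z a ha, ← mul_assoc, hLz d hd, mul_assoc]
      have hTab : ∀ x ∈ T, ∀ y ∈ T, x * y = y * x := fun x hx y hy => by
        obtain ⟨d, hd, hxd⟩ := hT x hx
        obtain ⟨d', hd', hyd⟩ := hT y hy
        have c1 : Commute d d' := hDab d hd d' hd'
        have c2 : Commute a d := hDa d hd
        have c3 : Commute a d' := hDa d' hd'
        rcases hxd with rfl | rfl <;> rcases hyd with rfl | rfl
        · exact c1.eq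
        · exact (c1.mul_right c2.symm).eq
        · exact (c1.mul_left c3).eq
        · exact ((c1.mul_right c2.symm).mul_left (c3.mul_right (Commute.refl a))).eq
      have hT6 : 2 ^ 6 ≤ Nat.card ↥T := by
        have hna : a ∉ c'.lift D' := fun h => haS (AddSubgroup.mem_sup_right h.2)
        let Φ : Fin 2 × ↥(c'.lift D') → ↥T := fun w =>
          if w.1 = 0 then ⟨(w.2 : G), Or.inl w.2.2⟩ else ⟨(w.2 : G) * a, Or.inr (by rw [mul_inv_cancel_right]; exact w.2.2)⟩
        have hΦ : Function.Injective Φ := by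
          rintro ⟨i, d⟩ ⟨j, d'⟩ h
          have h' := congrArg Subtype.val h
          fin_cases i <;> fin_cases j <;> simp [Φ] at h' ⊢
          · exact Prod.ext rfl h'
          · exact absurd (show a ∈ c'.lift D' by
              rw [show a = (d' : G)⁻¹ * d by rw [h']; group]
              exact mul_mem (inv_mem d'.2) d.2) hna
          · exact absurd (show a ∈ c'.lift D' by
              rw [show a = (d : G)⁻¹ * d' by rw [← h']; group]
              exact mul_mem (inv_mem d.2) d'.2) hna
          · exact Prod.ext rfl h'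
        have := Nat.card_le_card_of_injective Φ hΦ
        rw [Nat.card_prod, Nat.card_fin, c'.card_lift, hD4] at this
        omega
      have hTinf : Nat.card ↥(T ⊓ c.E : Subgroup G) = 1 := by
        refine Subgroup.card_eq_one.2 ((Subgroup.eq_bot_iff_forall _).2 ?_)
        rintro x ⟨hx, hxE⟩
        obtain ⟨d, hd, rfl | rfl⟩ := hT x hx
        · exact hnone _ hxE hd.1 hd.2
        · exfalso
          refine haS ?_
          have hmem : c'.pv (d * a) ∈ c'.pvS c.E := ⟨_, hxE, hTE hx, rfl⟩
          rw [c'.pv_mul hd.1 (hS0E ha)] at hmem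
          have := add_mem (AddSubgroup.mem_sup_left hmem : c'.pv d + c'.pv a ∈ c'.pvS c.E ⊔ D')
            (AddSubgroup.mem_sup_right hd.2)
          rwa [add_right_comm, c'.two_V, zero_add] at this
      obtain ⟨b1, -⟩ := hbound T hTE hTz hTab
      rw [hTinf] at b1
      omega
    · have h1 := c'.card_fix_outer hzH' hzM
      have h2 := AddSubgroup.card_le_of_le hDF
      have h3 := c'.card_perp F
      have h6 : Nat.card ↥F = 2 ^ 6 := by
        by_contra h
        have hlt : Nat.card ↥F * Nat.card ↥D' ≤ (2 ^ 6 - 1) * (2 ^ 6 - 1) :=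
          Nat.mul_le_mul (by rw [hF] at h ⊢; omega) (by rw [hF] at h; rw [hD', hF] at h2 ⊢; omega)
        rw [hD'] at hlt
        omega
      have heq : D' = F := AddSubgroup.eq_of_le_of_card_ge hDF (by
        rw [h6] at h3 ⊢
        rw [hD']
        omega)
      have hab : ∀ x ∈ S0, ∀ y ∈ S0, x * y = y * x := fun x hx y hy =>
        (c'.Bf_comm hx.1.1 hy.1.1).1 (c'.mem_perp.1 (heq.symm ▸ hy.1.2 : c'.pv y ∈ D') _ hx.1.2)
      obtain ⟨b1, -⟩ := hbound S0 hS0E hS0z hab
      have hinf : Nat.card ↥(S0 ⊓ c.E : Subgroup G) = 1 :=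
        Subgroup.card_eq_one.2 ((Subgroup.eq_bot_iff_forall _).2 fun x hx =>
          hnone x hx.2 hx.1.1.1 (heq.symm ▸ hx.1.1.2))
      rw [hinf] at b1
      omega

end CfsgLib.Spor.JFourType.Ctx
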