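import Cfsg.Agent.Lib.Spor.PointSubgroups
import Cfsg.Agent.Lib.Spor.OuterAut

/-!
# A normal subgroup of order eight in a subgroup of order 1344 of the group of degree 22 is complemented

An element of order seven fixes one of the 22 points; its orbit has eight points and the stabilizer is a complement.
-/

set_option autoImplicit false
set_option linter.style.haveILetI false

namespace CfsgLib.Spor.JFourType

open Cfsg Subgroup CfsgLib.Spor.PointSub

theorem exists_complement_of_perm {K B : Subgroup (Equiv.Perm GolayPt)} (hK : K ≤ Spor.M22) (hBK : B ≤ K)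
    (hn : ∀ k ∈ K, ∀ b ∈ B, k * b * k⁻¹ ∈ B) (hB : Nat.card ↥B = 8) (hK1 : Nat.card ↥K = 1344)
    {w : Equiv.Perm GolayPt} (hw : w ∈ K) (ho : orderOf w = 7) (hfree : ∀ b ∈ B, w * b = b * w → b = 1) :
    ∃ S : Subgroup (Equiv.Perm GolayPt), S ≤ K ∧ S ⊓ B = ⊥ ∧ Nat.card ↥S = 168 := by
  classical
  haveI : Fact (Nat.Prime 7) := ⟨by norm_num⟩
  haveI : Fact (Nat.Prime 2) := ⟨Nat.prime_two⟩
  have hfix2 : ∀ g ∈ K, g none = none ∧ g (some 0) = some 0 := fun g hg => (OuterAut.mem_M22.1 (hK hg)).2
  have hM24 : ∀ g ∈ K, g ∈ M24 := fun g hg => (OuterAut.mem_M22.1 (hK hg)).1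
  have hne2 : (none : GolayPt) ≠ some 0 := fun h => Option.some_ne_none _ h.symm
  set F₂ : Finset GolayPt := {none, some 0} with hF2
  have hF2c : F₂.card = 2 := Finset.card_pair hne2
  have hF2fix : ∀ g ∈ K, F₂ ⊆ fixSet g := fun g hg q hq => by
    rw [hF2, Finset.mem_insert, Finset.mem_singleton] at hq
    rcases hq with rfl | rfl
    exacts [mem_fixSet.2 (hfix2 g hg).1, mem_fixSet.2 (hfix2 g hg).2]
  -- the element of order seven fixes one further point
  have hw3 : (fixSet w).card = 3 := fix_card (by norm_num) (hM24 w hw) ho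
  obtain ⟨p, hp, hpn⟩ := Finset.exists_mem_notMem_of_card_lt_card (show F₂.card < (fixSet w).card by omega)
  have hwfix : ∀ q, w q = q → q ∈ F₂ ∨ q = p := by
    intro q hq
    by_contra h
    push Not at h
    have hle := Finset.card_le_card (show insert q (insert p F₂) ⊆ fixSet w from
      Finset.insert_subset (mem_fixSet.2 hq) (Finset.insert_subset hp (hF2fix w hw)))
    rw [Finset.card_insert_of_notMem (by simp [h.1, h.2]), Finset.card_insert_of_notMem hpn] at hle
    omega
  have hwp : w p = p := mem_fixSet.1 hp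
  have hwpow : w ^ 7 = 1 := ho ▸ pow_orderOf_eq_one w
  -- the common fixed points of `B`
  set F : Finset GolayPt := Finset.univ.filter fun q => ∀ b ∈ B, b q = q with hF
  have hFmem : ∀ q, q ∈ F ↔ ∀ b ∈ B, b q = q := fun q => by simp [hF]
  have hF8 : F.card ≤ 8 := by
    haveI : Nontrivial ↥B := Finite.one_lt_card_iff_nontrivial.1 (by rw [hB]; norm_num)
    obtain ⟨b, hb⟩ := exists_ne (1 : ↥B)
    refine (Finset.card_le_card fun q hq => mem_fixSet.2 ((hFmem q).1 hq b b.2)).trans
      (fix_le_eight (hM24 _ (hBK b.2)) fun h => hb (Subtype.ext h))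
  have hFeven : Even F.card := by
    have hB2 : IsPGroup 2 ↥B := IsPGroup.of_card (n := 3) (by rw [hB]; norm_num)
    have h := hB2.card_modEq_card_fixedPoints GolayPt
    rw [Nat.card_eq_fintype_card, ← Finset.card_univ, card_univ_pts] at h
    have e : Nat.card (MulAction.fixedPoints ↥B GolayPt) = F.card := by
      rw [← Nat.card_eq_finsetCard]
      refine Nat.card_congr (Equiv.subtypeEquivRight fun q => ?_)
      rw [hFmem, MulAction.mem_fixedPoints]
      exact ⟨fun h b hb => h ⟨b, hb⟩, fun h b => h b b.2⟩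
    rw [e] at h
    rw [Nat.even_iff]
    exact h.symm
  have hFw : ∀ q ∈ F, w q ∈ F := fun q hq => (hFmem _).2 fun b hb => by
    have h := (hFmem q).1 hq (w⁻¹ * b * w) (by
      have := hn w⁻¹ (inv_mem hw) b hb
      rwa [inv_inv] at this)
    simp only [Equiv.Perm.mul_apply] at h
    rw [Equiv.Perm.inv_eq_iff_eq] at h
    exact h
  have hF2F : F₂ ⊆ F := fun q hq => (hFmem q).2 fun b hb => mem_fixSet.1 (hF2fix b (hBK hb) hq)
  have hpF : p ∉ F := by
    intro hpF
    have hmod := card_modEq hwpow F hFw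
    have he : fixIn w F = insert p F₂ := by
      ext q
      rw [mem_fixIn, Finset.mem_insert]
      refine ⟨fun h => (hwfix q h.2).symm.imp id id, ?_⟩
      rintro (rfl | h)
      · exact ⟨hpF, hwp⟩
      · exact ⟨hF2F h, mem_fixSet.1 (hF2fix w hw h)⟩
    rw [he, Finset.card_insert_of_notMem hpn, hF2c] at hmod
    obtain ⟨r, hr⟩ := hFeven
    omega
  -- the orbit
  set S := K ⊓ MulAction.stabilizer (Equiv.Perm GolayPt) p with hS
  set O : Finset GolayPt := Finset.univ.filter fun q => ∃ k ∈ K, k p = q with hO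
  have hOmem : ∀ q, q ∈ O ↔ ∃ k ∈ K, k p = q := fun q => by simp [hO]
  have hOF2 : ∀ q ∈ O, q ∉ F₂ := by
    intro q hq hqF
    obtain ⟨k, hk, rfl⟩ := (hOmem q).1 hq
    refine hpn ?_
    have := mem_fixSet.1 (hF2fix k⁻¹ (inv_mem hk) hqF)
    rw [Equiv.Perm.inv_eq_iff_eq] at this
    exact k.injective this ▸ hqF
  have hO22 : O.card ≤ 22 := by
    have hle := Finset.card_le_card (show O ⊆ Finset.univ \ F₂ from
      fun q hq => Finset.mem_sdiff.2 ⟨Finset.mem_univ q, hOF2 q hq⟩)
    rwa [Finset.card_sdiff_of_subset (Finset.subset_univ _), card_univ_pts, hF2c] at hle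
  have hcard : Nat.card ↥K = O.card * Nat.card ↥S := by
    have h := (S.subgroupOf K).card_mul_index
    rw [Nat.card_congr (subgroupOfEquivOfLe inf_le_left).toEquiv] at h
    rw [← h, mul_comm]
    congr 1
    rw [hS, inf_subgroupOf_left]
    have e : (MulAction.stabilizer (Equiv.Perm GolayPt) p).subgroupOf K = MulAction.stabilizer ↥K p := by
      ext k; rfl
    rw [e, MulAction.index_stabilizer, ← Nat.card_coe_set_eq, ← Nat.card_eq_finsetCard]
    refine Nat.card_congr (Equiv.subtypeEquivRight fun q => ?_)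
    rw [hOmem, MulAction.mem_orbit_iff]
    exact ⟨fun ⟨k, h⟩ => ⟨k, k.2, h⟩, fun ⟨k, hk, h⟩ => ⟨⟨k, hk⟩, h⟩⟩
  have hOmod : O.card % 7 = 1 := by
    have hmod := card_modEq hwpow O fun q hq => by
      obtain ⟨k, hk, rfl⟩ := (hOmem q).1 hq
      exact (hOmem _).2 ⟨w * k, mul_mem hw hk, rfl⟩
    have he : fixIn w O = {p} := by
      ext q
      rw [mem_fixIn, Finset.mem_singleton]
      refine ⟨fun h => (hwfix q h.2).resolve_left (hOF2 q h.1), ?_⟩
      rintro rfl
      exact ⟨(hOmem _).2 ⟨1, one_mem _, rfl⟩, hwp⟩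
    rwa [he, Finset.card_singleton] at hmod
  have hS8 : O.card = 8 ∨ O.card = 1 := by
    have hd : O.card ∣ 1344 := ⟨_, hK1 ▸ hcard⟩
    generalize O.card = m at hd hO22 hOmod
    interval_cases m <;> omega
  -- the stabilizer meets `B` in a subgroup invariant under the element of order seven
  have hSB : S ⊓ B = ⊥ := by
    by_contra hne
    set U := S ⊓ B with hU
    have hwU : ∀ u ∈ U, w * u * w⁻¹ ∈ U := fun u hu =>
      ⟨⟨K.mul_mem (K.mul_mem hw hu.1.1) (K.inv_mem hw), by
        show (w * u * w⁻¹) p = p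
        simp only [Equiv.Perm.mul_apply]
        rw [(Equiv.Perm.inv_eq_iff_eq).2 hwp.symm, show u p = p from hu.1.2, hwp]⟩, hn w hw u hu.2⟩
    have hUB : U = B := by
      refine Subgroup.eq_of_le_of_card_ge inf_le_right ?_
      let σ : ↥U → ↥U := fun u => ⟨w * u * w⁻¹, hwU u u.2⟩
      have hσ : Function.Injective σ := fun a b h => by
        have := congrArg (fun y : ↥U => (y : Equiv.Perm GolayPt)) h
        exact Subtype.ext (mul_left_cancel (mul_right_cancel this))
      let π : Equiv.Perm ↥U := Equiv.ofBijective σ ⟨hσ, Finite.injective_iff_surjective.1 hσ⟩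
      have hπ : π ^ 7 ^ 1 = 1 := by
        refine Equiv.ext fun u => Subtype.ext ?_
        have key : ∀ k : ℕ, (((π ^ k) u : ↥U) : Equiv.Perm GolayPt) = w ^ k * u * (w ^ k)⁻¹ := fun k => by
          induction k with
          | zero => simp
          | succ k ih =>
            rw [pow_succ', Equiv.Perm.mul_apply]
            show w * (((π ^ k) u : ↥U) : Equiv.Perm GolayPt) * w⁻¹ = _
            rw [ih, pow_succ']; group
        rw [key, pow_one, hwpow]
        simp
      haveI : Fintype ↥U := Fintype.ofFinite _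
      have h7 := Equiv.Perm.card_compl_support_modEq hπ
      have hone : π.supportᶜ = {1} := by
        ext u
        simp only [Finset.mem_compl, Equiv.Perm.mem_support, ne_eq, not_not, Finset.mem_singleton]
        constructor
        · intro h
          have h' : w * (u : Equiv.Perm GolayPt) * w⁻¹ = u := congrArg Subtype.val h
          exact Subtype.ext (hfree u u.2.2 (mul_inv_eq_iff_eq_mul.1 h'))
        · rintro rfl
          refine Subtype.ext ?_
          show w * ((1 : ↥U) : Equiv.Perm GolayPt) * w⁻¹ = ((1 : ↥U) : Equiv.Perm GolayPt)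
          rw [OneMemClass.coe_one, mul_one, mul_inv_cancel]
      rw [hone, Finset.card_singleton, ← Nat.card_eq_fintype_card] at h7
      have hd : Nat.card ↥U ∣ 8 := hB ▸ Subgroup.card_dvd_of_le inf_le_right
      have hne1 : Nat.card ↥U ≠ 1 := fun h => hne (Subgroup.card_eq_one.1 h)
      have hle := Nat.le_of_dvd (by norm_num) hd
      rw [hB]
      unfold Nat.ModEq at h7
      interval_cases hh : Nat.card ↥U <;> omega
    exact hpF ((hFmem p).2 fun b hb => (hUB.symm.le hb).1.2)
  rcases hS8 with h | h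
  · refine ⟨S, inf_le_left, hSB, ?_⟩
    rw [h, hK1] at hcard
    omega
  · exfalso
    refine hpF ((hFmem p).2 fun b hb => Finset.card_le_one.1 h.le _ ((hOmem _).2 ⟨b, hBK hb, rfl⟩) _
      ((hOmem _).2 ⟨1, one_mem _, rfl⟩))

end CfsgLib.Spor.JFourType
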