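import Cfsg.Agent.Lib.Invol.WeaklyClosed
import Cfsg.Agent.Lib.Spor.JFourType.ConjUt
import Cfsg.Agent.Lib.Spor.JFourType.SplitDef

/-!
# The conjugates of `z` in `W`

`W` is weakly closed, so its normalizer controls fusion in it. Over an involution of `I` the elements of `W` form a
class of 96 and two classes of 16 under the centralizer of `z`; the orbit has order `91 + 15 f`, and a prime dividing
it divides some `2 ^ k - 1` with `k ≤ 11`: only `f = 112` remains.
-/

set_option autoImplicit false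
set_option linter.style.haveILetI false

namespace CfsgLib.Spor.JFourType.Ctx

open Subgroup

universe u

variable {G : Type u} [Group G] [Finite G] {A : Type} [Group A] {J I R : Subgroup A}
  {z : G} {P : Subgroup G} (c : Ctx J I R z P)
include c

/-- The normalizer of `W` controls fusion in `W`. -/
theorem fusion_W {a b : G} (ha : a ∈ c.W) (hb : b ∈ c.W) (h : IsConj a b) :
    ∃ n ∈ normalizer (c.W : Set G), n * a * n⁻¹ = b := by
  haveI : Fact (Nat.Prime 2) := ⟨Nat.prime_two⟩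
  obtain ⟨g, rfl⟩ := isConj_iff.1 h
  obtain ⟨S, hSH, hWS, -⟩ := c.exists_sylow_ge c.W_le_H c.W_isPGroup
  obtain ⟨V, -, hVu⟩ := c.sylow_eleven_unique S
  have hW : Cfsg.IsWeaklyClosed c.W (S : Subgroup G) := by
    refine ⟨hWS, fun k hk => ?_⟩
    have hEA : Cfsg.IsElementaryAbelian 2 (c.W.map (MulAut.conj k).toMonoidHom) := by
      refine ⟨⟨⟨fun x y => Subtype.ext ?_⟩⟩, fun x hx => ?_⟩
      · obtain ⟨v, hv, ev⟩ := x.2
        obtain ⟨w, hw, ew⟩ := y.2
        show (x : G) * y = y * x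
        rw [← ev, ← ew, ← map_mul, ← map_mul, c.W_comm hv hw]
      · obtain ⟨w, hw, rfl⟩ := hx
        rw [← map_pow, pow_two, c.W_sq hw, map_one]
    rw [hVu (c.W.map (MulAut.conj k).toMonoidHom) ⟨hk, hEA, by
      rw [← c.card_W]; exact (Nat.card_congr (equivMapOfInjective _ _ (MulAut.conj k).injective).toEquiv).symm⟩,
      hVu c.W ⟨hWS, c.W_elementary, c.card_W⟩]
  set b := g * a * g⁻¹
  have h1 : c.W ≤ centralizer ({b} : Set G) := fun x hx => mem_centralizer_singleton_iff.2 (c.W_comm hx hb)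
  have h2 : c.W.map (MulAut.conj g).toMonoidHom ≤ centralizer ({b} : Set G) := by
    rintro _ ⟨x, hx, rfl⟩
    simp only [MulEquiv.coe_toMonoidHom, MulAut.conj_apply]
    refine mem_centralizer_singleton_iff.2 ?_
    calc g * x * g⁻¹ * b = g * (x * a) * g⁻¹ := by simp only [b]; group
      _ = g * (a * x) * g⁻¹ := by rw [c.W_comm hx ha]
      _ = _ := by simp only [b]; group
  obtain ⟨k, hk, hkW⟩ := CfsgLib.Invol.exists_mem_conj_eq S hW h1 h2
  refine ⟨k⁻¹ * g, ?_, ?_⟩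
  · refine mem_normalizer_iff.2 fun x => ?_
    constructor
    · intro hx
      obtain ⟨y, hy, e⟩ : g * x * g⁻¹ ∈ c.W.map (MulAut.conj k).toMonoidHom := by
        rw [hkW]; exact ⟨x, hx, rfl⟩
      simp only [MulEquiv.coe_toMonoidHom, MulAut.conj_apply] at e
      rwa [show k⁻¹ * g * x * (k⁻¹ * g)⁻¹ = k⁻¹ * (g * x * g⁻¹) * k by group, ← e,
        show k⁻¹ * (k * y * k⁻¹) * k = y by group]
    · intro hx
      obtain ⟨y, hy, e⟩ : k * (k⁻¹ * g * x * (k⁻¹ * g)⁻¹) * k⁻¹ ∈ c.W.map (MulAut.conj g).toMonoidHom := by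
        rw [← hkW]; exact ⟨_, hx, rfl⟩
      simp only [MulEquiv.coe_toMonoidHom, MulAut.conj_apply] at e
      rw [show k * (k⁻¹ * g * x * (k⁻¹ * g)⁻¹) * k⁻¹ = g * x * g⁻¹ by group] at e
      rwa [← mul_left_cancel (mul_right_cancel e)]
  · have hkb : k * b = b * k := mem_centralizer_singleton_iff.1 hk
    calc k⁻¹ * g * a * (k⁻¹ * g)⁻¹ = k⁻¹ * (b * k) := by simp only [b]; group
      _ = b := by rw [← hkb, inv_mul_cancel_left]

/-- A prime dividing the number of conjugates of `z` in `W`. -/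
theorem prime_dvd_orbit {p : ℕ} (hp : p.Prime) (hp2 : p ≠ 2)
    (hd : p ∣ Set.ncard {x : G | x ∈ c.W ∧ IsConj z x}) : ∃ k, 1 ≤ k ∧ k ≤ 11 ∧ p ∣ 2 ^ k - 1 := by
  classical
  haveI : Fact p.Prime := ⟨hp⟩
  set φ := c.W.normalizerMonoidHom with hφ
  set Γ := φ.range with hΓ
  let z0 : ↥c.W := ⟨z, Subgroup.mem_sup_right c.z_mem_L0⟩
  have horb : (Subtype.val '' (MulAction.orbit ↥Γ z0)) = {x : G | x ∈ c.W ∧ IsConj z x} := by
    ext x
    constructor
    · rintro ⟨w, ⟨⟨θ, n, rfl⟩, rfl⟩, rfl⟩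
      exact ⟨(φ n z0).2, isConj_iff.2 ⟨(n : G), rfl⟩⟩
    · rintro ⟨hx, hc⟩
      obtain ⟨n, hn, e⟩ := c.fusion_W z0.2 hx hc
      exact ⟨⟨x, hx⟩, ⟨⟨φ ⟨n, hn⟩, ⟨n, hn⟩, rfl⟩, Subtype.ext e⟩, rfl⟩
  have hdvd : p ∣ Nat.card ↥Γ := by
    refine hd.trans ?_
    rw [← horb, Set.ncard_image_of_injective _ Subtype.val_injective, ← Nat.card_coe_set_eq,
      Nat.card_congr (MulAction.orbitEquivQuotientStabilizer ↥Γ z0)]
    exact Subgroup.card_quotient_dvd_card _
  obtain ⟨θ, hθ⟩ := exists_prime_orderOf_dvd_card' p hdvd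
  let F : Subgroup ↥c.W :=
    { carrier := {x | (θ : MulAut ↥c.W) x = x}
      one_mem' := map_one _
      mul_mem' := fun {a b} ha hb => by
        show (θ : MulAut ↥c.W) (a * b) = a * b
        rw [map_mul, show (θ : MulAut ↥c.W) a = a from ha, show (θ : MulAut ↥c.W) b = b from hb]
      inv_mem' := fun {a} ha => by
        show (θ : MulAut ↥c.W) a⁻¹ = a⁻¹
        rw [map_inv, show (θ : MulAut ↥c.W) a = a from ha] }
  have hpg : IsPGroup p ↥(zpowers θ) := IsPGroup.of_card (n := 1) (by rw [Nat.card_zpowers, hθ, pow_one])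
  have h := hpg.card_modEq_card_fixedPoints ↥c.W
  have hfix : MulAction.fixedPoints ↥(zpowers θ) ↥c.W = (F : Set ↥c.W) := by
    ext x
    refine ⟨fun hx => hx ⟨θ, mem_zpowers θ⟩, fun hx k => ?_⟩
    have hx' : θ ∈ MulAction.stabilizer ↥Γ x := hx
    exact (zpowers_le.2 hx' k.2 : (k : ↥Γ) ∈ MulAction.stabilizer ↥Γ x)
  rw [hfix, c.card_W, show Nat.card ↥(F : Set ↥c.W) = Nat.card ↥F from rfl] at h
  have hF := Subgroup.card_subgroup_dvd_card F
  rw [c.card_W] at hF
  obtain ⟨m, hm, e⟩ := (Nat.dvd_prime_pow Nat.prime_two).1 hF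
  rw [e] at h
  have hm' : m < 11 := by
    by_contra hm'
    have htop : F = ⊤ := Subgroup.eq_top_of_card_eq _ (by
      rw [e, c.card_W, show m = 11 by omega])
    have h1 : θ = 1 := by
      refine Subtype.ext (MulEquiv.ext fun x => ?_)
      exact (htop ▸ Subgroup.mem_top x : x ∈ F)
    rw [h1, orderOf_one] at hθ
    exact hp.one_lt.ne hθ
  refine ⟨11 - m, by omega, by omega, ?_⟩
  have h2 : p ∣ 2 ^ 11 - 2 ^ m := (Nat.modEq_iff_dvd' (Nat.pow_le_pow_right (by norm_num) hm)).1 h.symm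
  rw [show 2 ^ 11 - 2 ^ m = 2 ^ m * (2 ^ (11 - m) - 1) by
    rw [Nat.mul_sub, mul_one, ← pow_add, show m + (11 - m) = 11 by omega]] at h2
  exact ((Nat.Coprime.pow_right m ((Nat.coprime_primes hp Nat.prime_two).2 hp2))).dvd_of_dvd_mul_left h2

/-- The part of `W` over the image of an element of `L0`. -/
theorem W_fibre {x l : G} (hx : x ∈ c.W) (hl : l ∈ c.L0) (h : c.im x = c.im l) : x * l⁻¹ ∈ c.Ut := by
  obtain ⟨u, hu, m, hm, rfl⟩ := c.mem_W.1 hx
  rw [c.im_mul (c.E_le hu.1) (c.L0_le hm).1, c.im_E hu.1, one_mul] at h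
  rw [mul_assoc]
  refine mul_mem hu ?_
  rcases c.L0_ker (mul_mem hm (inv_mem hl))
    (by rw [c.im_mul (c.L0_le hm).1 (inv_mem (c.L0_le hl).1), c.im_inv (c.L0_le hl).1, h, mul_inv_cancel]) with h' | h'
  · rw [h']; exact one_mem _
  · rw [h']; exact c.z_mem_lift _

theorem conj_W {g : G} (hg : g ∈ c.C0) (hn : c.im g ∈ normalizer (I : Set A)) {x : G} (hx : x ∈ c.W) :
    g * x * g⁻¹ ∈ c.W := by
  obtain ⟨u, hu, l, hl, rfl⟩ := c.mem_W.1 hx
  refine c.mem_W.2 ⟨g * u * g⁻¹, ⟨c.conj_E hg.1 hu.1, ?_⟩, g * l * g⁻¹, c.L0_conj hg hn hl, by group⟩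
  rw [c.pv_conj hg.1 hu.1]
  exact c.U_conj hg hn hu.2

section Fibre

variable {l : G} (hl : l ∈ c.L0) (hli : c.im l ≠ 1)
include hl hli

theorem D_le_U : c.perp (c.fix {l}) ≤ c.U := fun _ hv => c.perp_U ▸ c.perp_anti (c.U_le_fix hl) hv

theorem card_D : Nat.card ↥(c.perp (c.fix {l})) = 2 ^ 4 := by
  have := c.card_perp (c.fix {l})
  rw [c.card_fix_L0 hl hli] at this
  omega

/-- Outside the commutator space an element is conjugate to its product by `z`. -/
theorem outer_pair {u : G} (hu : u ∈ c.Ut) (hD : c.pv u ∉ c.perp (c.fix {l})) : IsConj (u * l) (z * u * l) := by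
  obtain ⟨v, hv, hvB⟩ : ∃ v ∈ c.fix {l}, c.Bf v (c.pv u) ≠ 0 := by
    by_contra h
    push Not at h
    exact hD (c.mem_perp.2 h)
  obtain ⟨f, hf, rfl⟩ := c.pv_surj v
  have hlf : l * f = f * l := c.comm_of_fixed
    (fun w hw => c.fix_om (Set.singleton_subset_iff.2 (c.C0_le_M (c.L0_le hl))) hw) (c.L0_le hl)
    (fun w hw => c.mem_fix_singleton.1 hw) ⟨hf, hv⟩
  have hfu : f * u = z * (u * f) := (c.comm_E hf hu.1).resolve_left fun h => hvB ((c.Bf_comm hf hu.1).2 h)
  refine isConj_iff.2 ⟨f, ?_⟩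
  calc f * (u * l) * f⁻¹ = f * u * (l * f⁻¹) := by group
    _ = z * (u * f) * (l * f⁻¹) := by rw [hfu]
    _ = z * u * (f * l) * f⁻¹ := by group
    _ = _ := by rw [← hlf]; group

/-- The classes outside the commutator space are one. -/
theorem outer_conj {u v : G} (hu : u ∈ c.Ut) (hv : v ∈ c.Ut) (hDu : c.pv u ∉ c.perp (c.fix {l}))
    (hDv : c.pv v ∉ c.perp (c.fix {l})) : IsConj (u * l) (v * l) := by
  classical
  set D := c.perp (c.fix {l}) with hD
  have hlH := (c.L0_le hl).1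
  have hDom : ∀ w ∈ D, c.om w ∈ D := fun w hw =>
    c.perp_om (fun x hx => c.fix_om (Set.singleton_subset_iff.2 (c.C0_le_M (c.L0_le hl))) hx) hw
  have hpg : ∀ {w : G}, w ∈ c.Ut →
      c.pg * w * c.pg⁻¹ ∈ c.Ut ∧ c.pv (c.pg * w * c.pg⁻¹) = c.om (c.pv w) ∧
        IsConj (w * l) (c.pg * w * c.pg⁻¹ * l) := by
    intro w hw
    have e := c.pv_conj c.pg_H hw.1
    refine ⟨⟨c.conj_E c.pg_H hw.1, by rw [e]; exact c.U_om hw.2⟩, e, isConj_iff.2 ⟨c.pg, ?_⟩⟩
    have hc : c.pg * l = l * c.pg := c.comm_P (c.L0_le hl) c.pg_mem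
    calc c.pg * (w * l) * c.pg⁻¹ = c.pg * w * c.pg⁻¹ * (c.pg * l) * c.pg⁻¹ := by group
      _ = _ := by rw [hc]; group
  -- translations by the commutator space
  have htr : ∀ {a b : G}, a ∈ c.Ut → b ∈ c.Ut → c.pv a ∉ D → c.pv a + c.pv b ∈ D → IsConj (a * l) (b * l) := by
    intro a b ha hb hDa hsum
    have hd : b * a⁻¹ ∈ c.E := mul_mem hb.1 (inv_mem ha.1)
    have hdv : c.pv (b * a⁻¹) ∈ D := by rw [c.pv_mul hb.1 (inv_mem ha.1), c.pv_inv ha.1, add_comm]; exact hsum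
    have hDb : c.pv b ∉ D := fun h => hDa (by
      have := add_mem hsum h
      rwa [add_assoc, c.two_V, add_zero] at this)
    obtain ⟨e, he, hel⟩ := c.exists_displacer hlH (c.L0_elementary hl) hd hdv
    have hz : ∀ w : G, w ∈ c.E → w * z = z * w := fun w hw => c.comm_z (c.E_le hw)
    -- the translated element is one of the pair
    have hone : IsConj (a * l) (b * l) ∨ IsConj (a * l) (z * b * l) := by
      have hbaE : b * a⁻¹ * a = b := by group
      have hcomm : a * (b * a⁻¹) = b * a⁻¹ * a := c.Ut_comm ha (mul_mem hb (inv_mem ha))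
      rcases c.comm_E he ha.1 with h | h <;> rcases hel with h' | h'
      · refine Or.inl (isConj_iff.2 ⟨e, ?_⟩)
        calc e * (a * l) * e⁻¹ = e * a * e⁻¹ * (e * l * e⁻¹) := by group
          _ = a * (b * a⁻¹ * l) := by rw [h, mul_inv_cancel_right, h']
          _ = b * l := by rw [← mul_assoc a, hcomm, hbaE]
      · refine Or.inr (isConj_iff.2 ⟨e, ?_⟩)
        calc e * (a * l) * e⁻¹ = e * a * e⁻¹ * (e * l * e⁻¹) := by group
          _ = a * (b * a⁻¹) * z * l := by rw [h, mul_inv_cancel_right, h']; group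
          _ = z * b * l := by rw [hcomm, hbaE, hz b hb.1]
      · refine Or.inr (isConj_iff.2 ⟨e, ?_⟩)
        calc e * (a * l) * e⁻¹ = e * a * e⁻¹ * (e * l * e⁻¹) := by group
          _ = z * (a * (b * a⁻¹)) * l := by rw [h, h']; group
          _ = z * b * l := by rw [hcomm, hbaE]
      · refine Or.inl (isConj_iff.2 ⟨e, ?_⟩)
        calc e * (a * l) * e⁻¹ = e * a * e⁻¹ * (e * l * e⁻¹) := by group
          _ = z * (a * (b * a⁻¹)) * z * l := by rw [h, h']; group
          _ = b * l := by rw [hcomm, hbaE, ← hz b hb.1, mul_assoc b z z, c.zz, mul_one]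
    rcases hone with h | h
    · exact h
    · exact h.trans (c.outer_pair hl hli hb hDb).symm
  obtain ⟨hu1, e1, c1⟩ := hpg hu
  obtain ⟨hu2, e2, c2⟩ := hpg hu1
  -- three translates cover the complement
  have hcase : c.pv u + c.pv v ∈ D ∨ c.om (c.pv u) + c.pv v ∈ D ∨ c.om (c.om (c.pv u)) + c.pv v ∈ D := by
    have hidx : Nat.card (↥c.U ⧸ D.addSubgroupOf c.U) = 4 := by
      have h := AddSubgroup.card_eq_card_quotient_mul_card_addSubgroup (D.addSubgroupOf c.U)
      rw [Nat.card_congr (AddSubgroup.addSubgroupOfEquivOfLe (c.D_le_U hl hli)).toEquiv, c.card_U,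
        show Nat.card ↥D = 2 ^ 4 from c.card_D hl hli] at h
      omega
    let a0 : ↥c.U := ⟨c.pv u, hu.2⟩
    let a1 : ↥c.U := ⟨c.om (c.pv u), c.U_om hu.2⟩
    let a2 : ↥c.U := ⟨c.om (c.om (c.pv u)), c.U_om (c.U_om hu.2)⟩
    let b : ↥c.U := ⟨c.pv v, hv.2⟩
    have heq : ∀ x y : ↥c.U, ((x : ↥c.U ⧸ D.addSubgroupOf c.U) = y) ↔ (x : c.Vs) + y ∈ D := by
      intro x y
      rw [QuotientAddGroup.eq, AddSubgroup.mem_addSubgroupOf]
      have e : ((-x + y : ↥c.U) : c.Vs) = (x : c.Vs) + y := by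
        rw [AddSubgroup.coe_add, NegMemClass.coe_neg, neg_eq_of_add_eq_zero_left (c.two_V _)]
      rw [e]
    have h1 : c.om (c.pv u) ∉ D := fun h => hDu (by rw [← c.om_cube (c.pv u)]; exact hDom _ (hDom _ h))
    have h2 : c.om (c.om (c.pv u)) ∉ D := fun h => hDu (by rw [← c.om_cube (c.pv u)]; exact hDom _ h)
    have h01 : c.pv u + c.om (c.pv u) ∉ D := by rw [← c.om_two]; exact h2
    have h02 : c.pv u + c.om (c.om (c.pv u)) ∉ D := by rw [c.om_two, ← add_assoc, c.two_V, zero_add]; exact h1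
    have h12 : c.om (c.pv u) + c.om (c.om (c.pv u)) ∉ D := by
      rw [c.om_two, add_comm (c.pv u), ← add_assoc, c.two_V, zero_add]; exact hDu
    have hzero : ∀ x : ↥c.U, (x : c.Vs) ∉ D → ((0 : ↥c.U) : ↥c.U ⧸ D.addSubgroupOf c.U) ≠ x := fun x hx h => by
      have := (heq 0 x).1 h
      rw [ZeroMemClass.coe_zero, zero_add] at this
      exact hx this
    have huniv : ({((0 : ↥c.U) : ↥c.U ⧸ D.addSubgroupOf c.U), (a0 : ↥c.U ⧸ D.addSubgroupOf c.U),
        (a1 : ↥c.U ⧸ D.addSubgroupOf c.U), (a2 : ↥c.U ⧸ D.addSubgroupOf c.U)} : Set _) = Set.univ := by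
      refine Set.eq_of_subset_of_ncard_le (Set.subset_univ _) ?_ (Set.toFinite _)
      rw [Set.ncard_univ, hidx, Set.ncard_insert_of_notMem ?_ (Set.toFinite _),
        Set.ncard_insert_of_notMem ?_ (Set.toFinite _), Set.ncard_pair (fun h => h12 ((heq a1 a2).1 h))]
      · simp only [Set.mem_insert_iff, Set.mem_singleton_iff, not_or]
        exact ⟨fun h => h01 ((heq a0 a1).1 h), fun h => h02 ((heq a0 a2).1 h)⟩
      · simp only [Set.mem_insert_iff, Set.mem_singleton_iff, not_or]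
        exact ⟨hzero a0 hDu, hzero a1 h1, hzero a2 h2⟩
    rcases huniv.symm ▸ Set.mem_univ (b : ↥c.U ⧸ D.addSubgroupOf c.U) with h | h | h | h
    · exfalso
      have := (heq b 0).1 h
      rw [ZeroMemClass.coe_zero, add_zero] at this
      exact hDv this
    · exact Or.inl (by have := (heq b a0).1 h; rwa [add_comm] at this)
    · exact Or.inr (Or.inl (by have := (heq b a1).1 h; rwa [add_comm] at this))
    · exact Or.inr (Or.inr (by have := (heq b a2).1 h; rwa [add_comm] at this))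
  obtain ⟨m1, m2, -⟩ : c.om (c.pv u) ∉ D ∧ c.om (c.om (c.pv u)) ∉ D ∧ True :=
    ⟨fun h => hDu (by rw [← c.om_cube (c.pv u)]; exact hDom _ (hDom _ h)),
      fun h => hDu (by rw [← c.om_cube (c.pv u)]; exact hDom _ h), trivial⟩
  rcases hcase with h | h | h
  · exact htr hu hv hDu h
  · exact c1.trans (htr hu1 hv (by rw [e1]; exact m1) (by rw [e1]; exact h))
  · exact (c1.trans c2).trans (htr hu2 hv (by rw [e2, e1]; exact m2) (by rw [e2, e1]; exact h))

/-- Over the commutator space the classes are those of `l` and `l * z`. -/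
theorem inner_classes {u : G} (hu : u ∈ c.Ut) (hD : c.pv u ∈ c.perp (c.fix {l})) :
    (IsConj l (u * l) ∧ IsConj (l * z) (z * u * l)) ∨ (IsConj l (z * u * l) ∧ IsConj (l * z) (u * l)) := by
  obtain ⟨e, he, h | h⟩ := c.exists_displacer (c.L0_le hl).1 (c.L0_elementary hl) hu.1 hD
  · refine Or.inl ⟨isConj_iff.2 ⟨e, h⟩, isConj_iff.2 ⟨e, ?_⟩⟩
    calc e * (l * z) * e⁻¹ = e * l * (z * e⁻¹) := by group
      _ = e * l * (e⁻¹ * z) := by rw [← c.comm_z (inv_mem (c.E_le he))]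
      _ = u * l * z := by rw [← mul_assoc, h]
      _ = z * u * l := by
        rw [c.comm_z (mul_mem (c.E_le hu.1) (c.L0_le hl).1), mul_assoc]
  · refine Or.inr ⟨isConj_iff.2 ⟨e, by rw [h, c.comm_z (c.E_le hu.1)]⟩, isConj_iff.2 ⟨e, ?_⟩⟩
    calc e * (l * z) * e⁻¹ = e * l * (z * e⁻¹) := by group
      _ = e * l * (e⁻¹ * z) := by rw [← c.comm_z (inv_mem (c.E_le he))]
      _ = u * z * l * z := by rw [← mul_assoc, h]
      _ = u * l := by
        rw [mul_assoc (u * z) l z, c.comm_z (c.L0_le hl).1, ← mul_assoc (u * z) z l, mul_assoc u z z, c.zz, mul_one]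

/-- The possible numbers of conjugates over an involution of `I`. -/
theorem fibre_count :
    (∃ a b : ℕ, (a = 0 ∨ a = 1) ∧ b ≤ 2 ∧ Set.ncard {x : G | x ∈ c.W ∧ c.im x = c.im l ∧ IsConj z x} = 96 * a + 16 * b ∧
      (b = 1 ↔ (IsConj z l ↔ ¬ IsConj z (l * z))) ∧
      (b ≠ 2 → Set.ncard {x : G | x ∈ c.W ∧ c.im x = c.im l ∧ IsConj z x ∧ IsConj z (x * z)} = 96 * a)) := by
  classical
  set D := c.perp (c.fix {l}) with hD
  set Dt := c.lift D with hDt
  have hDtU : ∀ {u : G}, u ∈ Dt → u ∈ c.Ut := fun h => ⟨h.1, c.D_le_U hl hli h.2⟩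
  have hDc : Nat.card ↥Dt = 32 := by rw [hDt, c.card_lift, show Nat.card ↥D = 2 ^ 4 from c.card_D hl hli]; norm_num
  have hlH := (c.L0_le hl).1
  -- pull back to `Ut`
  have hbij : ∀ p : G → Prop, Set.ncard {x : G | x ∈ c.W ∧ c.im x = c.im l ∧ p x} =
      Set.ncard {u : G | u ∈ c.Ut ∧ p (u * l)} := by
    intro p
    have : {x : G | x ∈ c.W ∧ c.im x = c.im l ∧ p x} = (fun u => u * l) '' {u : G | u ∈ c.Ut ∧ p (u * l)} := by
      ext x
      constructor
      · rintro ⟨hx, he, hpx⟩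
        exact ⟨x * l⁻¹, ⟨c.W_fibre hx hl he, by rwa [inv_mul_cancel_right]⟩, by group⟩
      · rintro ⟨u, ⟨hu, hpx⟩, rfl⟩
        exact ⟨c.mem_W.2 ⟨u, hu, l, hl, rfl⟩, by rw [c.im_mul (c.E_le hu.1) hlH, c.im_E hu.1, one_mul], hpx⟩
    rw [this, Set.ncard_image_of_injective _ (mul_left_injective l)]
  rw [hbij (fun x => IsConj z x), hbij (fun x => IsConj z x ∧ IsConj z (x * z))]
  set Out : Set G := (c.Ut : Set G) \ (Dt : Set G) with hOut
  have hOutc : Out.ncard = 96 := by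
    rw [hOut, Set.ncard_sdiff (fun u hu => hDtU hu) (Set.toFinite _), ← Nat.card_coe_set_eq, ← Nat.card_coe_set_eq,
      show Nat.card ↥(c.Ut : Set G) = 2 ^ 7 from c.card_Ut, show Nat.card ↥(Dt : Set G) = 32 from hDc]
    norm_num
  have hOutD : ∀ {u : G}, u ∈ Out → c.pv u ∉ D := fun hu h => hu.2 ⟨hu.1.1, h⟩
  have hrz : ∀ u : G, u ∈ c.Ut → u * l * z = z * u * l := fun u hu => by
    rw [c.comm_z (mul_mem (c.E_le hu.1) hlH), mul_assoc]
  -- the class outside
  obtain ⟨u0, hu0⟩ : Out.Nonempty := (Set.ncard_pos (Set.toFinite _)).1 (by omega)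
  have hconst : ∀ u ∈ Out, (IsConj z (u * l) ↔ IsConj z (u0 * l)) ∧ (IsConj z (u * l * z) ↔ IsConj z (u0 * l)) := by
    intro u hu
    have h1 := c.outer_conj hl hli hu.1 hu0.1 (hOutD hu) (hOutD hu0)
    refine ⟨⟨fun h => h.trans h1, fun h => h.trans h1.symm⟩, ?_⟩
    rw [hrz u hu.1]
    have h2 := c.outer_pair hl hli hu.1 (hOutD hu)
    exact ⟨fun h => (h.trans h2.symm).trans h1, fun h => (h.trans h1.symm).trans h2⟩
  -- the two classes inside
  set Sl : Set G := {u : G | u ∈ Dt ∧ IsConj z (u * l)} with hSl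
  have hin : (IsConj z l ∧ IsConj z (l * z) → Sl.ncard = 32) ∧ (¬ IsConj z l ∧ ¬ IsConj z (l * z) → Sl.ncard = 0) ∧
      ((IsConj z l ↔ ¬ IsConj z (l * z)) → Sl.ncard = 16 ∧ ∀ u ∈ Sl, ¬ IsConj z (u * l * z)) := by
    refine ⟨fun h => ?_, fun h => ?_, fun h => ?_⟩
    · have e : Sl = (Dt : Set G) := by
        refine Set.Subset.antisymm (fun u hu => hu.1) fun u hu => ⟨hu, ?_⟩
        rcases c.inner_classes hl hli (hDtU hu) hu.2 with ⟨h1, -⟩ | ⟨-, h2⟩
        · exact h.1.trans h1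
        · exact h.2.trans h2
      rw [e, ← Nat.card_coe_set_eq]
      exact hDc
    · rw [Set.ncard_eq_zero (Set.toFinite _)]
      refine Set.eq_empty_of_forall_notMem fun u hu => ?_
      rcases c.inner_classes hl hli (hDtU hu.1) hu.1.2 with ⟨h1, -⟩ | ⟨-, h2⟩
      · exact h.1 (hu.2.trans h1.symm)
      · exact h.2 (hu.2.trans h2.symm)
    · have hx : ∀ u ∈ Dt, (IsConj z (u * l) ↔ ¬ IsConj z (z * u * l)) := by
        intro u hu
        have key : ∀ {a b : G}, IsConj a b → (IsConj z a ↔ IsConj z b) :=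
          fun hab => ⟨fun h => h.trans hab, fun h => h.trans hab.symm⟩
        rcases c.inner_classes hl hli (hDtU hu) hu.2 with ⟨h1, h2⟩ | ⟨h1, h2⟩
        · rw [← key h1, ← key h2]; exact h
        · rw [← key h1, ← key h2]
          exact ⟨fun a b => h.1 b a, fun a => Classical.byContradiction fun b => a (h.2 b)⟩
      have hzD : ∀ u ∈ Dt, z * u ∈ Dt := fun u hu => mul_mem (c.z_mem_lift _) hu
      have hzz : ∀ u : G, z * (z * u) = u := fun u => by rw [← mul_assoc, c.zz, one_mul]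
      have e : (Dt : Set G) = Sl ∪ (fun u => z * u) '' Sl := by
        refine Set.Subset.antisymm (fun u hu => ?_) ?_
        · by_cases hp : IsConj z (u * l)
          · exact Or.inl ⟨hu, hp⟩
          · refine Or.inr ⟨z * u, ⟨hzD u hu, ?_⟩, hzz u⟩
            exact (hx _ (hzD u hu)).2 (by rw [hzz]; exact hp)
        · rintro u (hu | ⟨w, hw, rfl⟩)
          · exact hu.1
          · exact hzD w hw.1
      have hdis : Disjoint Sl ((fun u => z * u) '' Sl) := by
        rw [Set.disjoint_left]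
        rintro u hu ⟨w, hw, rfl⟩
        exact (hx w hw.1).1 hw.2 hu.2
      have hcount := Set.ncard_union_eq hdis (Set.toFinite _) (Set.toFinite _)
      rw [← e, Set.ncard_image_of_injective _ (mul_right_injective z), ← Nat.card_coe_set_eq] at hcount
      refine ⟨by rw [show Nat.card ↥(Dt : Set G) = 32 from hDc] at hcount; omega, fun u hu => ?_⟩
      rw [hrz u (hDtU hu.1)]
      exact (hx u hu.1).1 hu.2
  set b : ℕ := (if IsConj z l then 1 else 0) + (if IsConj z (l * z) then 1 else 0) with hb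
  set a : ℕ := if IsConj z (u0 * l) then 1 else 0 with ha
  refine ⟨a, b, ?_, ?_, ?_, ?_, ?_⟩
  · rw [ha]; split <;> simp
  · rw [hb]; split <;> split <;> simp
  · have e : {u : G | u ∈ c.Ut ∧ IsConj z (u * l)} = {u ∈ Out | IsConj z (u * l)} ∪ Sl := by
      ext u
      constructor
      · rintro ⟨hu, hp⟩
        by_cases hd : u ∈ Dt
        · exact Or.inr ⟨hd, hp⟩
        · exact Or.inl ⟨⟨hu, hd⟩, hp⟩
      · rintro (⟨hu, hp⟩ | ⟨hu, hp⟩)
        · exact ⟨hu.1, hp⟩
        · exact ⟨hDtU hu, hp⟩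
    have hdis : Disjoint {u ∈ Out | IsConj z (u * l)} Sl :=
      Set.disjoint_left.2 fun u hu hu' => hu.1.2 hu'.1
    rw [e, Set.ncard_union_eq hdis (Set.toFinite _) (Set.toFinite _)]
    have hout : ({u ∈ Out | IsConj z (u * l)}).ncard = 96 * a := by
      by_cases h0 : IsConj z (u0 * l)
      · rw [show ({u ∈ Out | IsConj z (u * l)}) = Out from
          Set.Subset.antisymm (fun u hu => hu.1) fun u hu => ⟨hu, (hconst u hu).1.2 h0⟩, hOutc, ha, if_pos h0]
      · rw [show ({u ∈ Out | IsConj z (u * l)}) = ∅ from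
          Set.eq_empty_of_forall_notMem fun u hu => h0 ((hconst u hu.1).1.1 hu.2), Set.ncard_empty, ha, if_neg h0]
    rw [hout]
    congr 1
    rw [hb]
    by_cases h1 : IsConj z l <;> by_cases h2 : IsConj z (l * z) <;> simp only [h1, h2, if_true, if_false]
    · exact hin.1 ⟨h1, h2⟩
    · exact (hin.2.2 ⟨fun _ => h2, fun _ => h1⟩).1
    · exact (hin.2.2 ⟨fun h => absurd h h1, fun h => absurd h2 h⟩).1
    · exact hin.2.1 ⟨h1, h2⟩
  · rw [hb]
    by_cases h1 : IsConj z l <;> by_cases h2 : IsConj z (l * z) <;>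
      simp only [h1, h2, if_true, if_false] <;> norm_num
  · intro hb2
    have hnone : ∀ u ∈ Sl, ¬ IsConj z (u * l * z) := by
      by_cases h1 : IsConj z l <;> by_cases h2 : IsConj z (l * z)
      · exact absurd (by rw [hb, if_pos h1, if_pos h2]) hb2
      · exact (hin.2.2 ⟨fun _ => h2, fun _ => h1⟩).2
      · exact (hin.2.2 ⟨fun h => absurd h h1, fun h => absurd h2 h⟩).2
      · intro u hu
        exact absurd hu (by
          have := (Set.ncard_eq_zero (Set.toFinite _)).1 (hin.2.1 ⟨h1, h2⟩)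
          rw [this]; simp)
    by_cases h0 : IsConj z (u0 * l)
    · rw [ha, if_pos h0, mul_one, ← hOutc]
      congr 1
      ext u
      refine ⟨fun ⟨hu, hp, hp'⟩ => ⟨hu, fun hd => hnone u ⟨hd, hp⟩ hp'⟩,
        fun hu => ⟨hu.1, (hconst u hu).1.2 h0, (hconst u hu).2.2 h0⟩⟩
    · rw [ha, if_neg h0, mul_zero, Set.ncard_eq_zero (Set.toFinite _)]
      refine Set.eq_empty_of_forall_notMem fun u hu => ?_
      by_cases hd : u ∈ Dt
      · exact hnone u ⟨hd, hu.2.1⟩ hu.2.2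
      · exact h0 ((hconst u ⟨hu.1, hd⟩).1.1 hu.2.1)

end Fibre

/-- The statement about the conjugates of `z` in `W`. -/
theorem split [IsSimpleGroup G] (hG : ¬ IsMulCommutative G) : c.Split := by
  classical
  haveI : Finite A := Finite.of_surjective c.pr c.pr_surj
  have hI1 : ∀ l ∈ c.L0, c.im l ∈ I := fun l hl => (c.mem_L0.1 hl).2.1
  obtain ⟨i0, hi0, hi01⟩ : ∃ i ∈ I, i ≠ 1 := by
    by_contra h
    push Not at h
    have := c.facts.card_I
    rw [(Subgroup.eq_bot_iff_forall _).2 h, Subgroup.card_bot] at this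
    omega
  obtain ⟨l0, hl0, hl0i⟩ := c.exists_L0 hi0
  obtain ⟨a, b, ha, hb, hf, -, -⟩ := c.fibre_count hl0 (hl0i.symm ▸ hi01)
  rw [hl0i] at hf
  set O := {x : G | x ∈ c.W ∧ IsConj z x} with hO
  let F : A → Set G := fun i => {x : G | x ∈ c.W ∧ c.im x = i ∧ IsConj z x}
  have hF : ∀ i ∈ I, i ≠ 1 → (F i).ncard = 96 * a + 16 * b := by
    have hle : ∀ {i j : A}, i ∈ I → j ∈ I → i ≠ 1 → j ≠ 1 → (F i).ncard ≤ (F j).ncard := by
      intro i j hi hj hi1 hj1
      obtain ⟨k, hk, hkI, hkij⟩ := c.facts.I_trans i hi j hj hi1 hj1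
      obtain ⟨g, hg, rfl⟩ := c.exists_C0_im hk
      refine Set.ncard_le_ncard_of_injOn (fun x => g * x * g⁻¹) (fun x hx => ?_)
        (fun x _ y _ e => mul_left_cancel (mul_right_cancel e)) (Set.toFinite _)
      refine ⟨c.conj_W hg (isConjugateBy_self_iff.1 hkI) hx.1, ?_, hx.2.2.trans (isConj_iff.2 ⟨g, rfl⟩)⟩
      rw [c.im_conj hg.1 (c.W_le_H hx.1), hx.2.1, hkij]
    intro i hi hi1
    rw [← hf]
    exact le_antisymm (hle hi hi0 hi1 hi01) (hle hi0 hi hi01 hi1)
  -- the total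
  have htot : O.ncard = 91 + 15 * (96 * a + 16 * b) := by
    let If : Finset A := (Set.toFinite ((I : Set A) \ {1})).toFinset
    let Of : Finset G := (Set.toFinite (O \ (c.Ut : Set G))).toFinset
    have hIc : If.card = 15 := by
      rw [← Set.ncard_eq_toFinset_card _ (Set.toFinite _), Set.ncard_sdiff_singleton_of_mem I.one_mem,
        ← Nat.card_coe_set_eq, show Nat.card ↥(I : Set A) = 16 from c.facts.card_I]
    have hmaps : ∀ x ∈ Of, c.im x ∈ If := by
      intro x hx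
      obtain ⟨⟨hxW, -⟩, hxU⟩ := (Set.Finite.mem_toFinset _).1 hx
      obtain ⟨u, hu, l, hl, rfl⟩ := c.mem_W.1 hxW
      rw [Set.Finite.mem_toFinset]
      have e : c.im (u * l) = c.im l := by rw [c.im_mul (c.E_le hu.1) (c.L0_le hl).1, c.im_E hu.1, one_mul]
      refine ⟨e ▸ hI1 l hl, fun h => hxU ?_⟩
      rw [e] at h
      rcases c.L0_ker hl h with rfl | rfl
      · rwa [mul_one]
      · exact mul_mem hu (c.z_mem_lift _)
    have h1 := Finset.card_eq_sum_card_fiberwise hmaps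
    have h2 : ∀ i ∈ If, (Of.filter fun x => c.im x = i).card = 96 * a + 16 * b := by
      intro i hi
      obtain ⟨hiI, hi1⟩ := (Set.Finite.mem_toFinset _).1 hi
      rw [← hF i hiI hi1, ← Set.ncard_coe_finset]
      congr 1
      ext x
      simp only [Finset.coe_filter, Of, Set.Finite.mem_toFinset, Set.mem_setOf_eq, Set.mem_diff, F, O]
      refine ⟨fun ⟨⟨⟨hW, hc⟩, _⟩, he⟩ => ⟨hW, he, hc⟩, fun ⟨hW, he, hc⟩ => ⟨⟨⟨hW, hc⟩, fun hu => hi1 ?_⟩, he⟩⟩
      rw [Set.mem_singleton_iff, ← he, c.im_E hu.1]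
    rw [Finset.sum_congr rfl h2, Finset.sum_const, hIc, smul_eq_mul] at h1
    have h3 : O.ncard = (O ∩ (c.Ut : Set G)).ncard + (O \ (c.Ut : Set G)).ncard :=
      (Set.ncard_inter_add_ncard_sdiff_eq_ncard O (c.Ut : Set G) (Set.toFinite _)).symm
    have h4 : O ∩ (c.Ut : Set G) = {x : G | x ∈ c.Ut ∧ IsConj z x} := by
      ext x
      exact ⟨fun ⟨⟨_, hc⟩, hu⟩ => ⟨hu, hc⟩, fun ⟨hu, hc⟩ => ⟨⟨Subgroup.mem_sup_left hu, hc⟩, hu⟩⟩
    rw [h3, h4, c.card_Ut_conj hG, Set.ncard_eq_toFinset_card _ (Set.toFinite (O \ (c.Ut : Set G)))]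
    exact congrArg (91 + ·) h1
  -- only one case survives
  have hkill : ∀ p : ℕ, p.Prime → p ≠ 2 → (∀ k, 1 ≤ k → k ≤ 11 → ¬ p ∣ 2 ^ k - 1) → ¬ p ∣ O.ncard := by
    intro p hp hp2 hk hd
    obtain ⟨k, h1, h2, h3⟩ := c.prime_dvd_orbit hp hp2 hd
    exact hk k h1 h2 h3
  have hcase : a = 1 ∧ b = 1 := by
    rcases ha with rfl | rfl <;> interval_cases b
    · exact absurd (show 13 ∣ O.ncard by rw [htot] <;> norm_num)
        (hkill 13 (by norm_num) (by norm_num) fun k h1 h2 => by interval_cases k <;> norm_num)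
    · exact absurd (show 331 ∣ O.ncard by rw [htot] <;> norm_num)
        (hkill 331 (by norm_num) (by norm_num) fun k h1 h2 => by interval_cases k <;> norm_num)
    · exact absurd (show 571 ∣ O.ncard by rw [htot] <;> norm_num)
        (hkill 571 (by norm_num) (by norm_num) fun k h1 h2 => by interval_cases k <;> norm_num)
    · exact absurd (show 1531 ∣ O.ncard by rw [htot] <;> norm_num)
        (hkill 1531 (by norm_num) (by norm_num) fun k h1 h2 => by interval_cases k <;> norm_num)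
    · exact ⟨rfl, rfl⟩
    · exact absurd (show 2011 ∣ O.ncard by rw [htot] <;> norm_num)
        (hkill 2011 (by norm_num) (by norm_num) fun k h1 h2 => by interval_cases k <;> norm_num)
  obtain ⟨rfl, rfl⟩ := hcase
  have hall : ∀ l ∈ c.L0, c.im l ≠ 1 → (IsConj z l ↔ ¬ IsConj z (l * z)) ∧
      Set.ncard {x : G | x ∈ c.W ∧ c.im x = c.im l ∧ IsConj z x ∧ IsConj z (x * z)} = 96 := by
    intro l hl hli
    obtain ⟨a', b', ha', hb', h1, h2, h3⟩ := c.fibre_count hl hli
    have e := hF _ (hI1 l hl) hli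
    change Set.ncard {x : G | x ∈ c.W ∧ c.im x = c.im l ∧ IsConj z x} = _ at e
    rw [h1] at e
    have hab : a' = 1 ∧ b' = 1 := by omega
    exact ⟨h2.1 hab.2, by rw [h3 (by omega), hab.1]⟩
  refine ⟨fun x hx hc => c.fusion_W (Subgroup.mem_sup_right c.z_mem_L0) hx hc, by rw [← hO, htot], c.card_Ut_conj hG,
    fun x hx hc hne => c.Ut_pair hx hc hne, fun i hi hi1 => hF i hi hi1, fun i hi hi1 => ?_,
    fun l hl hli => (hall l hl hli).1⟩
  obtain ⟨l, hl, rfl⟩ := c.exists_L0 hi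
  exact (hall l hl hi1).2

end CfsgLib.Spor.JFourType.Ctx
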