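import Cfsg.Agent.Lib.Spor.JFourType.SplitUse

/-!
# The two orbits of the normalizer of `W`

An element of order 23 moves every involution of `W`, so the 276 non-conjugates of `z` form one orbit; the
centralizer in `H` of such an involution normalizes `W`.
-/

set_option autoImplicit false
set_option linter.style.haveILetI false

namespace CfsgLib.Spor.JFourType.Ctx

open Subgroup

universe u

variable {G : Type u} [Group G] [Finite G] {A : Type} [Group A] {J I R : Subgroup A}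
  {z : G} {P : Subgroup G} (c : Ctx J I R z P)
include c

omit [Finite G] in
theorem mem_H_iff_fix {g : G} : g ∈ c.H ↔ g * z * g⁻¹ = z := by
  rw [mem_centralizer_singleton_iff, mul_inv_eq_iff_eq_mul]

omit c [Finite G] in
theorem ncard_orbit_mul (K : Subgroup G) (x : G) :
    {y | ∃ k ∈ K, k * x * k⁻¹ = y}.ncard * Nat.card ↥(K ⊓ centralizer ({x} : Set G) : Subgroup G) = Nat.card ↥K := by
  letI : MulAction ↥K G := MulAction.compHom G ((MulAut.conj : G →* MulAut G).comp K.subtype)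
  have ho : MulAction.orbit ↥K x = {y | ∃ k ∈ K, k * x * k⁻¹ = y} := by
    ext y
    exact ⟨fun ⟨k, e⟩ => ⟨k, k.2, e⟩, fun ⟨k, hk, e⟩ => ⟨⟨k, hk⟩, e⟩⟩
  have e : MulAction.stabilizer ↥K x = (K ⊓ centralizer ({x} : Set G)).subgroupOf K := by
    ext k
    rw [MulAction.mem_stabilizer_iff, mem_subgroupOf, mem_inf]
    show (k : G) * x * (k : G)⁻¹ = x ↔ _
    rw [mem_centralizer_singleton_iff, mul_inv_eq_iff_eq_mul]
    exact ⟨fun h => ⟨k.2, h⟩, fun h => h.2⟩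
  have h := (MulAction.stabilizer ↥K x).card_mul_index
  rw [MulAction.index_stabilizer, ho, e, Nat.card_congr (subgroupOfEquivOfLe inf_le_left).toEquiv, mul_comm] at h
  exact h

theorem conj_Tset {n x : G} (hn : n ∈ normalizer (c.W : Set G)) (hx : x ∈ c.Tset) : n * x * n⁻¹ ∈ c.Tset :=
  ⟨(mem_normalizer_iff.1 hn x).1 hx.1, fun h => hx.2.1 (conj_eq_one_iff.1 h),
    fun h => hx.2.2 ((c.isConj_z_conj n x).1 h)⟩

theorem conj_Ut {h x : G} (hh : h ∈ c.H) (hn : h ∈ normalizer (c.W : Set G)) (hx : x ∈ c.Ut) :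
    h * x * h⁻¹ ∈ c.Ut :=
  c.W_inf_E ((mem_normalizer_iff.1 hn x).1 (c.Ut_sub_W hx)) (c.conj_E hh hx.1)

theorem orbit_z (hs : c.Split) :
    {y | ∃ n ∈ normalizer (c.W : Set G), n * z * n⁻¹ = y} = {x | x ∈ c.W ∧ IsConj z x} := by
  ext y
  constructor
  · rintro ⟨n, hn, rfl⟩
    exact ⟨(mem_normalizer_iff.1 hn z).1 c.z_mem_W', isConj_iff.2 ⟨n, rfl⟩⟩
  · rintro ⟨hy, hc⟩
    exact hs.fusion y hy hc

theorem exists_ord23 (hs : c.Split) :
    ∃ s ∈ normalizer (c.W : Set G), orderOf s = 23 := by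
  haveI : Fact (Nat.Prime 23) := ⟨by norm_num⟩
  have h := ncard_orbit_mul (normalizer (c.W : Set G)) z
  rw [c.orbit_z hs, hs.card_conj] at h
  obtain ⟨s, hs'⟩ := exists_prime_orderOf_dvd_card' (G := ↥(normalizer (c.W : Set G))) 23
    (h ▸ Dvd.dvd.mul_right (by norm_num) _)
  exact ⟨s, s.2, by rw [← Subgroup.orderOf_coe] at hs'; exact hs'⟩

theorem not_dvd_card_H : ¬ 23 ∣ Nat.card ↥c.H := by
  have h := c.pr.ker.card_mul_index
  rw [Subgroup.index_ker, c.pr.range_eq_top_of_surjective c.pr_surj, card_top, c.card_ker, c.natCard_A] at h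
  rw [← h]
  norm_num

/-- An element of order 23 moves every involution of `W`. -/
theorem dvd_card_invariant (hs : c.Split) (S : Set G) (hSW : S ⊆ (c.W : Set G)) (h1 : (1 : G) ∉ S)
    (hS : ∀ n ∈ normalizer (c.W : Set G), ∀ x ∈ S, n * x * n⁻¹ ∈ S) : 23 ∣ S.ncard := by
  haveI : Fact (Nat.Prime 23) := ⟨by norm_num⟩
  obtain ⟨s, hsN, hso⟩ := c.exists_ord23 hs
  have hp : IsPGroup 23 ↥(zpowers s) := IsPGroup.of_card (n := 1) (by rw [Nat.card_zpowers, hso, pow_one])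
  have hsN' : ∀ g : ↥(zpowers s), (g : G) ∈ normalizer (c.W : Set G) := fun g => zpowers_le.2 hsN g.2
  by_contra hnd
  -- a fixed involution
  letI : MulAction ↥(zpowers s) ↥S :=
    { smul := fun g x => ⟨(g : G) * x * (g : G)⁻¹, hS g (hsN' g) x x.2⟩
      one_smul := fun x => Subtype.ext (by show (1 : G) * x * (1 : G)⁻¹ = x; group)
      mul_smul := fun g k x => Subtype.ext (by
        show ((g : G) * k) * x * ((g : G) * k)⁻¹ = g * ((k : G) * x * (k : G)⁻¹) * (g : G)⁻¹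
        group) }
  obtain ⟨x, hx⟩ := hp.nonempty_fixed_point_of_prime_not_dvd_card ↥S (by rwa [Nat.card_coe_set_eq])
  have hxs : s * x * s⁻¹ = x := congrArg Subtype.val (hx ⟨s, mem_zpowers s⟩)
  set K := c.W ⊓ centralizer ({s} : Set G) with hK
  letI : MulAction ↥(zpowers s) ↥c.W :=
    { smul := fun g x => ⟨(g : G) * x * (g : G)⁻¹, (mem_normalizer_iff.1 (hsN' g) x).1 x.2⟩
      one_smul := fun x => Subtype.ext (by show (1 : G) * x * (1 : G)⁻¹ = x; group)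
      mul_smul := fun g k x => Subtype.ext (by
        show ((g : G) * k) * x * ((g : G) * k)⁻¹ = g * ((k : G) * x * (k : G)⁻¹) * (g : G)⁻¹
        group) }
  have hmod := hp.card_modEq_card_fixedPoints ↥c.W
  have efix : Nat.card ↥(MulAction.fixedPoints ↥(zpowers s) ↥c.W) = Nat.card ↥K := by
    refine Nat.card_congr
      { toFun := fun w => ⟨((w : ↥c.W) : G), (w : ↥c.W).2, mem_centralizer_singleton_iff.2 ?_⟩
        invFun := fun w => ⟨⟨w, w.2.1⟩, fun g => Subtype.ext ?_⟩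
        left_inv := fun w => rfl
        right_inv := fun w => rfl }
    · have h := congrArg Subtype.val (w.2 ⟨s, mem_zpowers s⟩)
      change s * ((w : ↥c.W) : G) * s⁻¹ = w at h
      exact (mul_inv_eq_iff_eq_mul.1 h).symm
    · show (g : G) * w * (g : G)⁻¹ = w
      obtain ⟨k, hk⟩ := mem_zpowers_iff.1 g.2
      have hc : Commute s (w : G) := (mem_centralizer_singleton_iff.1 w.2.2).symm
      rw [← hk, (hc.zpow_left k).eq, mul_inv_cancel_right]
  rw [efix, c.card_W] at hmod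
  obtain ⟨k, hk, hck⟩ := (Nat.dvd_prime_pow Nat.prime_two).1
    (c.card_W ▸ card_dvd_of_le (inf_le_left : K ≤ c.W))
  rw [hck] at hmod
  have hk' : k = 0 ∨ k = 11 := by
    rw [Nat.ModEq] at hmod
    interval_cases k <;> simp_all
  rcases hk' with rfl | rfl
  · have : (x : G) ∈ K := ⟨hSW x.2, mem_centralizer_singleton_iff.2 (mul_inv_eq_iff_eq_mul.1 hxs).symm⟩
    rw [eq_bot_of_card_eq K (by rw [hck, pow_zero]), mem_bot] at this
    exact h1 (this ▸ x.2)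
  · have hKW : K = c.W := eq_of_le_of_card_ge inf_le_left (by rw [hck, c.card_W])
    have hz : z ∈ K := hKW ▸ c.z_mem_W'
    have hsH : s ∈ c.H := mem_centralizer_singleton_iff.2 (mem_centralizer_singleton_iff.1 hz.2).symm
    refine c.not_dvd_card_H ?_
    rw [← hso, ← Subgroup.orderOf_mk _ hsH]
    exact orderOf_dvd_natCard _

theorem card_Tset (hs : c.Split) : c.Tset.ncard = 276 := by
  have e : c.Tset = (c.W : Set G) \ insert 1 {x | x ∈ c.W ∧ IsConj z x} := by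
    ext x
    exact ⟨fun h => ⟨h.1, fun h' => h'.elim h.2.1 fun h' => h.2.2 h'.2⟩,
      fun h => ⟨h.1, fun e => h.2 (Or.inl e), fun e => h.2 (Or.inr ⟨h.1, e⟩)⟩⟩
  rw [e, Set.ncard_sdiff (Set.insert_subset (one_mem c.W) fun x hx => hx.1) (Set.toFinite _),
    Set.ncard_insert_of_notMem (fun h : (1 : G) ∈ {x | x ∈ c.W ∧ IsConj z x} => c.not_isConj_z_one h.2)
      (Set.toFinite _), hs.card_conj,
    show (c.W : Set G).ncard = 2 ^ 11 from (Nat.card_coe_set_eq _).symm.trans c.card_W]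
  norm_num

theorem card_Tset_Ut (hs : c.Split) : {x | x ∈ c.Tset ∧ x ∈ c.Ut}.ncard = 36 := by
  have e : {x | x ∈ c.Tset ∧ x ∈ c.Ut} = (c.Ut : Set G) \ insert 1 {x | x ∈ c.Ut ∧ IsConj z x} := by
    ext x
    exact ⟨fun h => ⟨h.2, fun h' => h'.elim h.1.2.1 fun h' => h.1.2.2 h'.2⟩,
      fun h => ⟨⟨c.Ut_sub_W h.1, fun e => h.2 (Or.inl e), fun e => h.2 (Or.inr ⟨h.1, e⟩)⟩, h.1⟩⟩
  rw [e, Set.ncard_sdiff (Set.insert_subset (one_mem c.Ut) fun x hx => hx.1) (Set.toFinite _),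
    Set.ncard_insert_of_notMem (fun h : (1 : G) ∈ {x | x ∈ c.Ut ∧ IsConj z x} => c.not_isConj_z_one h.2)
      (Set.toFinite _), hs.card_Ut_conj,
    show (c.Ut : Set G).ncard = 2 ^ 7 from (Nat.card_coe_set_eq _).symm.trans c.card_Ut]
  norm_num

/-- Inside `Ut` the normalizer in the centralizer is transitive. -/
theorem trans_Tset_Ut (hs : c.Split) {x y : G} (hx : x ∈ c.Ut) (hxT : x ∈ c.Tset) (hy : y ∈ c.Ut) (hyT : y ∈ c.Tset) :
    ∃ h ∈ c.H, h ∈ normalizer (c.W : Set G) ∧ h * x * h⁻¹ = y := by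
  let S : Set c.Vs := {v | ∃ h ∈ c.H, h ∈ normalizer (c.W : Set G) ∧ c.pv (h * x * h⁻¹) = v}
  have hinv : ∀ g ∈ c.C0, c.im g ∈ normalizer (I : Set A) → ∀ v ∈ S, c.act g v ∈ S := by
    rintro g hg hn _ ⟨h, hh, hhn, rfl⟩
    refine ⟨g * h, mul_mem hg.1 hh, mul_mem (c.normW_of_im hg.1 hn) hhn, ?_⟩
    rw [← c.pv_conj hg.1 (c.conj_E hh hx.1)]
    congr 1
    group
  obtain ⟨h, hh, hhn, hv⟩ := c.isN_invariant S hinv ((c.Tset_Ut_iff hs hx).1 hxT) ((c.Tset_Ut_iff hs hy).1 hyT)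
    ⟨1, one_mem _, one_mem _, by rw [one_mul, inv_one, mul_one]⟩
  rcases (c.pv_eq_iff (c.conj_E hh hx.1) hy.1).1 hv with e | e
  · exact ⟨h, hh, hhn, e⟩
  -- exchange the pair
  obtain ⟨q, hq⟩ : ∃ q, c.Bf q (c.pv y) ≠ 0 := by
    by_contra hcon
    push Not at hcon
    exact ((c.Tset_Ut_iff hs hy).1 hyT).2.1 (c.Bf_nondeg fun w => by rw [c.Bf_symm]; exact hcon w)
  obtain ⟨f, hf, rfl⟩ := c.pv_surj q
  refine ⟨f * h, mul_mem (c.E_le hf) hh, mul_mem (c.normW_of_im (c.E_le hf) (by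
    rw [c.im_E hf]; exact one_mem _)) hhn, ?_⟩
  rw [show f * h * x * (f * h)⁻¹ = f * (h * x * h⁻¹) * f⁻¹ by group, e, ← conj_mul, (c.E_conj_eq hf hy.1).2 hq,
    c.mem_H_iff_fix.1 (c.E_le hf), ← mul_assoc, ← c.comm_z (c.E_le hy.1), mul_assoc, c.zz, mul_one]

/-- The non-conjugates of `z` form one orbit. -/
theorem trans_Tset (hs : c.Split) {x y : G} (hx : x ∈ c.Tset) (hy : y ∈ c.Tset) :
    ∃ n ∈ normalizer (c.W : Set G), n * x * n⁻¹ = y := by
  set S := {w | ∃ n ∈ normalizer (c.W : Set G), n * x * n⁻¹ = w} with hS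
  have hST : S ⊆ c.Tset := fun w ⟨n, hn, e⟩ => e ▸ c.conj_Tset hn hx
  have hinv : ∀ n ∈ normalizer (c.W : Set G), ∀ w ∈ S, n * w * n⁻¹ ∈ S := by
    rintro n hn w ⟨m, hm, rfl⟩
    exact ⟨n * m, mul_mem hn hm, by group⟩
  have hin : ∀ w ∈ S, w ∈ c.Ut → {v | v ∈ c.Tset ∧ v ∈ c.Ut} ⊆ S := by
    intro w hw hwU v hv
    obtain ⟨h, -, hn, e⟩ := c.trans_Tset_Ut hs hwU (hST hw) hv.2 hv.1
    exact e ▸ hinv h hn w hw
  have hout : ∀ w ∈ S, w ∉ c.Ut → c.Tset \ {v | v ∈ c.Tset ∧ v ∈ c.Ut} ⊆ S := by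
    intro w hw hwU v hv
    have hwT := hST hw
    set i : ↥I := ⟨c.im w, c.im_mem_I_of_W hwT.1⟩
    set j : ↥I := ⟨c.im v, c.im_mem_I_of_W hv.1.1⟩
    have hi : i ≠ 1 := fun h => hwU (c.mem_Ut_of_im_W hwT.1 (congrArg Subtype.val h))
    have hj : j ≠ 1 := fun h => hv.2 ⟨hv.1, c.mem_Ut_of_im_W hv.1.1 (congrArg Subtype.val h)⟩
    obtain ⟨k, hkJ, hkn, hki⟩ := c.facts.I_trans _ i.2 _ j.2 (fun h => hi (Subtype.ext h))
      (fun h => hj (Subtype.ext h))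
    obtain ⟨g, hg, rfl⟩ := c.exists_C0_im hkJ
    have hgn := c.normW_of_im hg.1 (isConjugateBy_self_iff.1 hkn)
    have hgw := hinv g hgn w hw
    obtain ⟨e, he, hev⟩ := c.E_trans_fibre hs (hST hgw) hv.1 (i := j)
      ((c.im_conj hg.1 (c.W_le_H hwT.1)).trans hki) rfl hj
    exact hev ▸ hinv e (c.normW_of_im (c.E_le he) (by rw [c.im_E he]; exact one_mem _)) _ hgw
  suffices h : c.Tset ⊆ S by exact h hy
  by_contra hne
  have h23 := c.dvd_card_invariant hs S (fun w hw => (hST hw).1) (fun h => (hST h).2.1 rfl) hinv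
  have hxS : x ∈ S := ⟨1, one_mem _, by group⟩
  have hd : (c.Tset \ {v | v ∈ c.Tset ∧ v ∈ c.Ut}).ncard = 240 := by
    rw [Set.ncard_sdiff (fun v hv => hv.1) (Set.toFinite _), c.card_Tset hs, c.card_Tset_Ut hs]
  by_cases hxU : x ∈ c.Ut
  · have e : S = {v | v ∈ c.Tset ∧ v ∈ c.Ut} := by
      refine le_antisymm (fun w hw => ⟨hST hw, ?_⟩) (hin x hxS hxU)
      by_contra hwU
      exact hne fun v hv => by
        by_cases hvU : v ∈ c.Ut
        exacts [hin x hxS hxU ⟨hv, hvU⟩, hout w hw hwU ⟨hv, fun h => hvU h.2⟩]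
    rw [e, c.card_Tset_Ut hs] at h23
    norm_num at h23
  · have e : S = c.Tset \ {v | v ∈ c.Tset ∧ v ∈ c.Ut} := by
      refine le_antisymm (fun w hw => ⟨hST hw, fun hwU => ?_⟩) (hout x hxS hxU)
      exact hne fun v hv => by
        by_cases hvU : v ∈ c.Ut
        exacts [hin w hw hwU.2 ⟨hv, hvU⟩, hout x hxS hxU ⟨hv, fun h => hvU h.2⟩]
    rw [e, hd] at h23
    norm_num at h23

/-- The centralizer in `H` of a non-conjugate normalizes `W`. -/
theorem H_cent_Tset (hs : c.Split) {x h : G} (hx : x ∈ c.Tset) (hh : h ∈ c.H) (hhx : h * x * h⁻¹ = x) :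
    c.im h ∈ normalizer (I : Set A) := by
  by_cases hU : x ∈ c.Ut
  · refine c.normalizer_of_isN ((c.Tset_Ut_iff hs hU).1 hx) hh ?_
    rw [← c.pv_conj hh hU.1, hhx]
    exact (c.Tset_Ut_iff hs hU).1 hx
  · have hI := c.im_mem_I_of_W hx.1
    refine c.normalizer_of_inv (a := ⟨c.im x, hI⟩)
      (fun e => hU (c.mem_Ut_of_im_W hx.1 (congrArg Subtype.val e))) ?_
    have e : c.im h * c.im x * (c.im h)⁻¹ = c.im x := by rw [← c.im_conj hh (c.W_le_H hx.1), hhx]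
    show (c.im h)⁻¹ * c.im x * c.im h ∈ I
    rw [show (c.im h)⁻¹ * c.im x * c.im h = (c.im h)⁻¹ * (c.im h * c.im x * (c.im h)⁻¹) * c.im h by rw [e]]
    rwa [show (c.im h)⁻¹ * (c.im h * c.im x * (c.im h)⁻¹) * c.im h = c.im x by group]

/-- An element fixing a conjugate of `z` and a non-conjugate in `W` normalizes `W`. -/
theorem normW_of_fix (hs : c.Split) {t x g : G} (ht : t ∈ c.Tset) (hx : x ∈ c.W) (hc : IsConj z x)
    (hgt : g * t * g⁻¹ = t) (hgx : g * x * g⁻¹ = x) : g ∈ normalizer (c.W : Set G) := by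
  obtain ⟨n, hn, rfl⟩ := hs.fusion x hx hc
  have hk : n⁻¹ * g * n ∈ c.H := c.mem_H_iff_fix.2 (by
    calc n⁻¹ * g * n * z * (n⁻¹ * g * n)⁻¹ = n⁻¹ * (g * (n * z * n⁻¹) * g⁻¹) * n := by group
      _ = z := by rw [hgx]; group)
  have h := c.normW_of_im hk (c.H_cent_Tset hs (c.conj_Tset (inv_mem hn) ht) hk (by
    calc n⁻¹ * g * n * (n⁻¹ * t * n⁻¹⁻¹) * (n⁻¹ * g * n)⁻¹ = n⁻¹ * (g * t * g⁻¹) * n⁻¹⁻¹ := by group
      _ = _ := by rw [hgt]))
  rw [show g = n * (n⁻¹ * g * n) * n⁻¹ by group]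
  exact mul_mem (mul_mem hn h) (inv_mem hn)

/-- Inside its normalizer `W` has no other conjugate. -/
theorem normW_of_conj_le {g : G} (hg : ∀ w ∈ c.W, g * w * g⁻¹ ∈ normalizer (c.W : Set G)) :
    g ∈ normalizer (c.W : Set G) := by
  haveI : Fact (Nat.Prime 2) := ⟨Nat.prime_two⟩
  set S := c.W.map (MulAut.conj g).toMonoidHom with hS
  have hconj : ∀ y ∈ S, ∃ w ∈ c.W, y = g * w * g⁻¹ := by
    rintro y ⟨w, hw, rfl⟩
    exact ⟨w, hw, rfl⟩
  have hcard : Nat.card ↥S = 2 ^ 11 := by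
    rw [← c.card_W]; exact (Nat.card_congr (equivMapOfInjective _ _ (MulAut.conj g).injective).toEquiv).symm
  have hE : Cfsg.IsElementaryAbelian 2 S := by
    refine ⟨⟨⟨fun a b => Subtype.ext ?_⟩⟩, fun y hy => ?_⟩
    · obtain ⟨w, hw, ea⟩ := hconj a a.2
      obtain ⟨v, hv, eb⟩ := hconj b b.2
      show (a : G) * b = b * a
      rw [ea, eb, conj_mul, conj_mul, c.W_comm hw hv]
    · obtain ⟨w, hw, rfl⟩ := hconj y hy
      rw [pow_two, conj_mul, c.W_sq hw, mul_one, mul_inv_cancel]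
  have hSN : S ≤ normalizer (c.W : Set G) := fun y hy => by
    obtain ⟨w, hw, rfl⟩ := hconj y hy
    exact hg w hw
  obtain ⟨T, hT⟩ := ((IsPGroup.of_card hcard).to_sup_of_normal_right' c.W_isPGroup hSN).exists_le_sylow
  obtain ⟨V, -, hV⟩ := c.sylow_eleven_unique T
  have hSW : S = c.W := (hV S ⟨le_sup_left.trans hT, hE, hcard⟩).trans
    (hV c.W ⟨le_sup_right.trans hT, c.W_elementary, c.card_W⟩).symm
  refine mem_normalizer_iff.2 fun w => ⟨fun hw => hSW ▸ ⟨w, hw, rfl⟩, fun hw => ?_⟩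
  obtain ⟨v, hv, e⟩ := hconj _ (hSW.symm ▸ hw : g * w * g⁻¹ ∈ S)
  rwa [mul_left_cancel (mul_right_cancel e)]

/-- Fusion in the centralizer of a non-conjugate. -/
theorem normW_of_fusion (hs : c.Split) {t x g : G} (ht : t ∈ c.Tset) (hx : x ∈ c.W) (hc : IsConj z x)
    (hgt : g * t * g⁻¹ = t) (hgx : g * x * g⁻¹ ∈ c.W) : g ∈ normalizer (c.W : Set G) := by
  refine inv_mem_iff.1 (c.normW_of_conj_le fun w hw => c.normW_of_fix hs ht hx hc ?_ ?_)
  · have e : g⁻¹ * t * g = t := by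
      conv_lhs => rw [← hgt]
      group
    calc g⁻¹ * w * g⁻¹⁻¹ * t * (g⁻¹ * w * g⁻¹⁻¹)⁻¹ = g⁻¹ * (w * (g * t * g⁻¹) * w⁻¹) * g := by group
      _ = _ := by rw [hgt, c.W_comm hw ht.1, mul_inv_cancel_right, e]
  · calc g⁻¹ * w * g⁻¹⁻¹ * x * (g⁻¹ * w * g⁻¹⁻¹)⁻¹ = g⁻¹ * (w * (g * x * g⁻¹) * w⁻¹) * g := by group
      _ = _ := by rw [c.W_comm hw hgx, mul_inv_cancel_right]; group

/-- The stabilizer of `t` in the normalizer of `W`. -/
def Mt (t : G) : Subgroup G := normalizer (c.W : Set G) ⊓ centralizer ({t} : Set G)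

/-- The orbit of `z` under it. -/
def Xone (t : G) : Set G := {x | ∃ m ∈ c.Mt t, m * z * m⁻¹ = x}

theorem mem_Mt {t g : G} : g ∈ c.Mt t ↔ g ∈ normalizer (c.W : Set G) ∧ g * t * g⁻¹ = t := by
  rw [Mt, mem_inf, mem_centralizer_singleton_iff, mul_inv_eq_iff_eq_mul]

theorem Xone_sub {t x : G} (hx : x ∈ c.Xone t) : x ∈ c.W ∧ IsConj z x := by
  obtain ⟨m, hm, rfl⟩ := hx
  exact ⟨(mem_normalizer_iff.1 (c.mem_Mt.1 hm).1 z).1 c.z_mem_W', isConj_iff.2 ⟨m, rfl⟩⟩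

theorem z_mem_Xone (t : G) : z ∈ c.Xone t := ⟨1, one_mem _, by group⟩

theorem conj_Xone {t x m : G} (hm : m ∈ c.Mt t) (hx : x ∈ c.Xone t) : m * x * m⁻¹ ∈ c.Xone t := by
  obtain ⟨k, hk, rfl⟩ := hx
  exact ⟨m * k, mul_mem hm hk, by group⟩

theorem Xone_mul_t (hs : c.Split) {t x : G} (ht : t ∈ c.Ut) (htT : t ∈ c.Tset) (hx : x ∈ c.Xone t) :
    ¬ IsConj z (x * t) := by
  obtain ⟨m, hm, rfl⟩ := hx
  have hmt := (c.mem_Mt.1 hm).2
  have hzt : z * t ∈ c.Ut := mul_mem c.z_mem_Ut' ht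
  have hT : z * t ∈ c.Tset := (c.Tset_Ut_iff hs hzt).2 (by
    rw [c.pv_mul c.z_mem_E ht.1, c.pv_z, zero_add]; exact (c.Tset_Ut_iff hs ht).1 htT)
  intro h
  rw [← hmt, conj_mul, c.isConj_z_conj] at h
  exact hT.2.2 h

/-- There are 231 conjugates of `z` in the orbit. -/
theorem card_Xone (hs : c.Split) {t : G} (ht : t ∈ c.Ut) (htT : t ∈ c.Tset) : (c.Xone t).ncard = 231 := by
  set N := normalizer (c.W : Set G)
  have h1 := ncard_orbit_mul N z
  rw [c.orbit_z hs, hs.card_conj] at h1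
  have h2 := ncard_orbit_mul N t
  have e2 : {y | ∃ k ∈ N, k * t * k⁻¹ = y} = c.Tset := by
    ext y
    exact ⟨fun ⟨k, hk, e⟩ => e ▸ c.conj_Tset hk htT, fun hy => c.trans_Tset hs htT hy⟩
  rw [e2, c.card_Tset hs] at h2
  have h3 := ncard_orbit_mul (N ⊓ c.H) t
  have e3 : {y | ∃ k ∈ N ⊓ c.H, k * t * k⁻¹ = y} = {x | x ∈ c.Tset ∧ x ∈ c.Ut} := by
    ext y
    constructor
    · rintro ⟨k, hk, rfl⟩
      exact ⟨c.conj_Tset hk.1 htT, c.conj_Ut hk.2 hk.1 ht⟩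
    · rintro ⟨hy, hyU⟩
      obtain ⟨h, hh, hn, e⟩ := c.trans_Tset_Ut hs ht htT hyU hy
      exact ⟨h, ⟨hn, hh⟩, e⟩
  rw [e3, c.card_Tset_Ut hs] at h3
  have h4 : (c.Xone t).ncard * Nat.card ↥(c.Mt t ⊓ c.H : Subgroup G) = Nat.card ↥(c.Mt t) :=
    ncard_orbit_mul (c.Mt t) z
  rw [show c.Mt t ⊓ c.H = N ⊓ c.H ⊓ centralizer ({t} : Set G) from inf_right_comm _ _ _] at h4
  have h2' : 276 * Nat.card ↥(c.Mt t) = Nat.card ↥N := h2
  have h1' : 1771 * Nat.card ↥(N ⊓ c.H : Subgroup G) = Nat.card ↥N := h1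
  have key : 276 * (c.Xone t).ncard * Nat.card ↥(N ⊓ c.H ⊓ centralizer ({t} : Set G) : Subgroup G) =
      276 * 231 * Nat.card ↥(N ⊓ c.H ⊓ centralizer ({t} : Set G) : Subgroup G) := by
    rw [mul_assoc, h4, h2', ← h1', ← h3]
    ring
  exact Nat.eq_of_mul_eq_mul_left (by norm_num) (Nat.eq_of_mul_eq_mul_right Nat.card_pos key)

end CfsgLib.Spor.JFourType.Ctx
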