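import Cfsg.Agent.Lib.Spor.JFourType.TenCount
import Cfsg.Agent.Lib.Spor.JFourType.SplitW

/-!
# The normalizer of the octad subgroup is a split extension by the linear group

Its quotient acts on the two-vectors preserving the decomposable ones, and is the whole group of these
permutations by its order.  A twisted copy of the stabilizer of the octad and Gaschütz's theorem give a complement.
-/

set_option autoImplicit false
set_option linter.style.haveILetI false

namespace CfsgLib.Spor.JFourType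

open Subgroup Cfsg CfsgLib.Spor CfsgLib.Spor.JFourType.TenData CfsgLib.Spor.JFourType.TenCode
open scoped Pointwise

universe u

namespace WModel

variable {G : Type u} [Group G] {z : G} {W : Subgroup G} (M : WModel z W)
include M

omit M in
theorem idx_parts {v : ℕ} (hv : v < 1024) : idx v &&& 63 < 64 ∧ idx v >>> 6 < 16 := by
  have := (idx_lt v hv).1
  refine ⟨Nat.lt_succ_of_le Nat.and_le_right, ?_⟩
  rw [Nat.shiftRight_eq_div_pow]
  omega

theorem psiV_mem {v : ℕ} (hv : v < 1024) : M.psiV v ∈ M.A1 := M.el_mem (idx_parts hv).1 (idx_parts hv).2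

theorem psiV_xor {v w : ℕ} (hv : v < 1024) (hw : w < 1024) : M.psiV (v ^^^ w) = M.psiV v * M.psiV w := by
  rw [psiV, psiV, psiV, M.el_mul (idx_parts hw).1 (idx_parts hv).2 (idx_parts hw).2,
    show idx (v ^^^ w) = idx v ^^^ idx w from lin_xor _ _ _, Nat.and_xor_distrib_right,
    Nat.shiftRight_xor_distrib]

variable [Finite G]

theorem psiV_inj {v w : ℕ} (hv : v < 1024) (hw : w < 1024) (h : M.psiV v = M.psiV w) : v = w := by
  obtain ⟨e1, e2⟩ := M.el_inj (idx_parts hv).1 (idx_parts hw).1 (idx_parts hv).2 (idx_parts hw).2 h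
  have e : ∀ x : ℕ, x = (x >>> 6) * 64 + (x &&& 63) := fun x => by
    rw [Nat.shiftRight_eq_div_pow, show (63 : ℕ) = 2 ^ 6 - 1 from rfl, Nat.and_two_pow_sub_one_eq_mod]
    omega
  have hidx : idx v = idx w := by rw [e (idx v), e (idx w), e1, e2]
  rw [← (idx_lt v hv).2, hidx, (idx_lt w hw).2]

/-- The two-vectors as the subgroup. -/
noncomputable def psiEquiv : Fin 1024 ≃ ↥M.A1 :=
  Equiv.ofBijective (fun v => ⟨M.psiV v, M.psiV_mem v.2⟩)
    ((Nat.bijective_iff_injective_and_card _).2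
      ⟨fun v w h => Fin.ext (M.psiV_inj v.2 w.2 (congrArg Subtype.val h)),
        by rw [M.card_A1, Nat.card_fin]; norm_num⟩)

theorem psiEquiv_coe (v : Fin 1024) : (M.psiEquiv v : G) = M.psiV v := rfl

/-- The action of the normalizer on the two-vectors. -/
noncomputable def rho : ↥(normalizer (M.A1 : Set G)) →* Equiv.Perm (Fin 1024) :=
  MonoidHom.mk' (fun x =>
    { toFun := fun v => M.psiEquiv.symm ⟨(x : G) * M.psiEquiv v * (x : G)⁻¹,
        (mem_normalizer_iff.1 x.2 _).1 (M.psiEquiv v).2⟩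
      invFun := fun v => M.psiEquiv.symm ⟨(x : G)⁻¹ * M.psiEquiv v * (x : G), by
        have := (mem_normalizer_iff.1 (inv_mem x.2) _).1 (M.psiEquiv v).2
        rwa [inv_inv] at this⟩
      left_inv := fun v => by
        refine M.psiEquiv.injective (Subtype.ext ?_)
        simp only [Equiv.apply_symm_apply]
        group
      right_inv := fun v => by
        refine M.psiEquiv.injective (Subtype.ext ?_)
        simp only [Equiv.apply_symm_apply]
        group })
    fun x y => Equiv.ext fun v => by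
      refine M.psiEquiv.injective (Subtype.ext ?_)
      simp only [Equiv.Perm.mul_apply, Equiv.coe_fn_mk, Equiv.apply_symm_apply, Subgroup.coe_mul]
      group

theorem rho_spec (x : ↥(normalizer (M.A1 : Set G))) (v : Fin 1024) :
    M.psiV (M.rho x v) = (x : G) * M.psiV v * (x : G)⁻¹ :=
  congrArg Subtype.val (M.psiEquiv.apply_symm_apply _)

variable (hz : z ≠ 1)
  (hN : Nat.card ↥(normalizer (M.A1 : Set G)) = M.Zs.ncard * (2 ^ 20 * 63))
include hz hN

theorem Zs_eq_dec : ∀ v : Fin 1024, IsConj z (M.psiV v) ↔ TenPlane.dec v = true := by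
  classical
  have hcount : (Finset.univ.filter fun v : Fin 1024 => TenPlane.dec v = true).card = 155 := by decide +kernel
  have hsub : (fun v : Fin 1024 => M.psiV v) '' {v | TenPlane.dec v = true} ⊆ M.Zs := by
    rintro _ ⟨v, hv, rfl⟩
    exact ⟨M.psiV_mem v.2, M.dec_conj hz hN v.2 hv⟩
  have hinj : Function.Injective fun v : Fin 1024 => M.psiV v := fun v w h => Fin.ext (M.psiV_inj v.2 w.2 h)
  have heq := Set.eq_of_subset_of_ncard_le hsub (by
    rw [(M.ncard_Zs hz hN).1, Set.ncard_image_of_injective _ hinj, Set.ncard_eq_toFinset_card',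
      Set.toFinset_setOf, hcount]) (Set.toFinite _)
  intro v
  refine ⟨fun h => ?_, fun h => M.dec_conj hz hN v.2 h⟩
  obtain ⟨w, hw, e⟩ := heq.ge ⟨M.psiV_mem v.2, h⟩
  exact hinj e ▸ hw

theorem rho_mem (x : ↥(normalizer (M.A1 : Set G))) : M.rho x ∈ TenPlane.autDec := by
  refine ⟨fun a b => Fin.ext (M.psiV_inj (Fin.is_lt _) (Fin.is_lt _) ?_), fun v => ?_⟩
  · rw [M.rho_spec]
    show _ * M.psiV (a.val ^^^ b.val) * _ = M.psiV ((M.rho x a).val ^^^ (M.rho x b).val)
    rw [M.psiV_xor a.2 b.2, M.psiV_xor (Fin.is_lt _) (Fin.is_lt _), M.rho_spec, M.rho_spec]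
    group
  · rw [Bool.eq_iff_iff, ← M.Zs_eq_dec hz hN, ← M.Zs_eq_dec hz hN, M.rho_spec]
    exact isConj_conj_iff

/-- The quotient is the linear group. -/
theorem exists_rep : ∃ f : ↥(normalizer (M.A1 : Set G)) →* Matrix.SpecialLinearGroup (Fin 5) (ZMod 2),
    Function.Surjective f ∧ f.ker = M.A1.subgroupOf (normalizer (M.A1 : Set G)) := by
  obtain ⟨⟨eSL⟩, hcard⟩ := TenPlane.autDec_iso
  let f0 : ↥(normalizer (M.A1 : Set G)) →* ↥TenPlane.autDec := M.rho.codRestrict _ (M.rho_mem hz hN)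
  have hker : f0.ker = M.A1.subgroupOf (normalizer (M.A1 : Set G)) := by
    ext x
    rw [MonoidHom.mem_ker, mem_subgroupOf]
    constructor
    · intro hx
      refine (M.isTen_A1 hz).self.le (mem_centralizer_iff.2 fun y hy => ?_)
      have h := M.rho_spec x (M.psiEquiv.symm ⟨y, hy⟩)
      rw [show M.rho x = 1 from congrArg Subtype.val hx, Equiv.Perm.one_apply, ← M.psiEquiv_coe,
        Equiv.apply_symm_apply] at h
      calc y * (x : G) = (x : G) * y * (x : G)⁻¹ * x := by rw [← h]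
        _ = _ := by group
    · intro hx
      refine Subtype.ext (Equiv.ext fun v => Fin.ext (M.psiV_inj (Fin.is_lt _) v.2 ?_))
      show M.psiV (M.rho x v) = M.psiV v
      rw [M.rho_spec, M.A1_comm hx (M.psiV_mem v.2), mul_inv_cancel_right]
  have hsurj : Function.Surjective f0 := by
    rw [← MonoidHom.range_eq_top]
    refine eq_top_of_le_card _ ?_
    have h := f0.ker.card_mul_index
    rw [Subgroup.index_ker, hker, Nat.card_congr (subgroupOfEquivOfLe le_normalizer).toEquiv, M.card_A1, hN,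
      (M.ncard_Zs hz hN).1] at h
    rw [hcard]
    omega
  refine ⟨eSL.symm.toMonoidHom.comp f0, eSL.symm.surjective.comp hsurj, ?_⟩
  rw [← hker]
  ext x
  rw [MonoidHom.mem_ker, MonoidHom.mem_ker, MonoidHom.comp_apply]
  exact EmbeddingLike.map_eq_one_iff (f := eSL.symm)

omit hz hN in
/-- The twisting. -/
theorem exists_twisted : ∃ F : ↥octStab →* G, Function.Injective F ∧ F.range ≤ normalizer (M.A1 : Set G) ∧
    M.A1 ⊓ F.range = ⊥ := by
  classical
  let pm : ↥M24 → ℕ := fun g => 2 ^ pOut ^^^ 2 ^ ptIdx ((g : Equiv.Perm GolayPt) (idxPt pOut))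
  have hev : ∀ g, pop 24 (pm g) % 2 = 0 := fun g => pop_pair_even pOut_notMem.1 (ptIdx_lt _)
  have hmul : ∀ g h : ↥M24, M.Φ (pm g) * M.m g * (M.Φ (pm h) * M.m h) = M.Φ (pm (g * h)) * M.m (g * h) := by
    intro g h
    have hc := M.Φ_conj g (pm h) _ (hev h) (smul_pair (g : Equiv.Perm GolayPt) pOut_notMem.1 (ptIdx_lt _))
    have e : pm (g * h) = pm g ^^^ (2 ^ ptIdx ((g : Equiv.Perm GolayPt) (idxPt pOut)) ^^^
        2 ^ ptIdx ((g : Equiv.Perm GolayPt) (idxPt (ptIdx ((h : Equiv.Perm GolayPt) (idxPt pOut)))))) := by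
      simp only [pm, idxPt_ptIdx, Subgroup.coe_mul, Equiv.Perm.mul_apply]
      rw [Nat.xor_assoc, ← Nat.xor_assoc (2 ^ ptIdx ((g : Equiv.Perm GolayPt) (idxPt pOut))), Nat.xor_self,
        Nat.zero_xor]
    rw [e, M.Φ_add (pm g) _, hc, map_mul]
    group
  let F : ↥octStab →* G := MonoidHom.mk' (fun g => M.Φ (pm g) * M.m g) fun g h => (hmul g h).symm
  refine ⟨F, ?_, ?_, ?_⟩
  · rw [← MonoidHom.ker_eq_bot_iff, eq_bot_iff]
    intro g hg
    refine mem_bot.2 (Subtype.ext (M.m_disj _ ((mul_mem_cancel_left (M.Φ_mem (pm g))).1 ?_)))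
    rw [show M.Φ (pm g) * M.m g = 1 from hg]
    exact one_mem _
  · rintro _ ⟨g, rfl⟩
    refine mul_mem (M.pairOut_normalizes pOut_notMem.1 (ptIdx_lt _) pOut_notMem.2 ?_) (M.octStab_normalizes g.2)
    by_contra hb
    rw [Bool.not_eq_false] at hb
    have hmem := (octStab_apply g.2).1 (mem_pts.2 hb)
    rw [mem_pts, ptIdx_idxPt _ pOut_notMem.1, pOut_notMem.2] at hmem
    exact Bool.false_ne_true hmem
  · rw [eq_bot_iff]
    rintro x ⟨hxA, g, rfl⟩
    obtain ⟨a, ha, i, hi, e⟩ := id hxA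
    rw [mem_bot]
    have e' : M.Φ (pm g) * M.m g = M.Φ (aMask a) * M.m (qPerm i) := e
    have hg : (g : ↥M24) = qPerm i := by
      refine mul_inv_eq_one.1 (M.m_disj _ ?_)
      rw [map_mul, map_inv, show M.m g = (M.Φ (pm g))⁻¹ * (M.Φ (aMask a) * M.m (qPerm i)) by
        rw [← e', inv_mul_cancel_left], mul_assoc, mul_assoc, mul_inv_cancel, mul_one]
      exact mul_mem (inv_mem (M.Φ_mem _)) (M.Φ_mem _)
    have hw := M.mem_w6_of (pair_lt pOut_notMem.1 (ptIdx_lt _)) (hev g) hi (by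
      show M.Φ (pm g) * M.m (qPerm i) ∈ M.A1
      rw [← hg]
      exact hxA)
    have hp : pm g = 2 ^ pOut ^^^ 2 ^ permFn (qN i) pOut := by
      simp only [pm, hg, qPerm_coe hi, permOf_idxPt (isPermCode_of_isM24Code (qs_perm i hi)) pOut_notMem.1,
        ptIdx_idxPt _ (permFn_lt (isPermCode_of_isM24Code (qs_perm i hi)) pOut_notMem.1)]
    change w6.contains (clear (pm g)) = true at hw
    rw [hp] at hw
    have hi0 := pOut_moved i hi hw
    subst hi0
    show M.Φ (pm g) * M.m g = 1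
    have hg1 : (g : ↥M24) = 1 := hg.trans qPerm_zero
    rw [show pm g = 0 by simp only [pm, hg1, OneMemClass.coe_one, Equiv.Perm.one_apply,
      ptIdx_idxPt _ pOut_notMem.1, Nat.xor_self], M.Φ_zero, hg1, map_one, mul_one]

/-- The normalizer splits. -/
theorem exists_complement : ∃ B : Subgroup G, B ≤ normalizer (M.A1 : Set G) ∧ B ⊓ M.A1 = ⊥ ∧
    B ⊔ M.A1 = normalizer (M.A1 : Set G) ∧ Nonempty (↥B ≃* Matrix.SpecialLinearGroup (Fin 5) (ZMod 2)) := by
  classical
  set N := normalizer (M.A1 : Set G) with hNdef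
  obtain ⟨f, hf, hfk⟩ := M.exists_rep hz hN
  obtain ⟨F, hFinj, hFN, hFA⟩ := M.exists_twisted
  have hAN : M.A1 ≤ N := le_normalizer
  set K := M.A1.subgroupOf N with hKdef
  haveI : K.Normal := normal_subgroupOf_of_le_normalizer le_rfl
  haveI : IsMulCommutative ↥K := ⟨⟨fun a b => Subtype.ext (Subtype.ext (M.A1_comm a.2 b.2))⟩⟩
  have hinf : F.range.subgroupOf N ⊓ K = ⊥ := by
    rw [eq_bot_iff]
    intro v hv
    rw [mem_bot]
    refine Subtype.ext ?_
    have : (v : G) ∈ M.A1 ⊓ F.range := mem_inf.2 ⟨(mem_inf.1 hv).2, (mem_inf.1 hv).1⟩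
    rwa [hFA, mem_bot] at this
  have hD : CfsgLib.Coprime.GzData K ((M.A1 ⊔ F.range).subgroupOf N) (F.range.subgroupOf N) :=
    ⟨fun v hv => mem_sup_right (mem_subgroupOf.1 hv), hinf, (subgroupOf_sup hAN hFN).symm⟩
  have hUcard : Nat.card ↥((M.A1 ⊔ F.range).subgroupOf N) = 2 ^ 10 * 322560 := by
    rw [Nat.card_congr (subgroupOfEquivOfLe (sup_le hAN hFN)).toEquiv,
      Ctx.card_sup_product hFN hFA, M.card_A1,
      ← Nat.card_congr (F.ofInjective hFinj).toEquiv, card_octStab]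
  have hidx : ((M.A1 ⊔ F.range).subgroupOf N).index = 31 := by
    have h := ((M.A1 ⊔ F.range).subgroupOf N).card_mul_index
    rw [hUcard, hN, (M.ncard_Zs hz hN).1] at h
    omega
  obtain ⟨L, hL⟩ := CfsgLib.Coprime.gaschutz_exists hD (by
    rw [hidx, hKdef, Nat.card_congr (subgroupOfEquivOfLe hAN).toEquiv, M.card_A1]
    exact Nat.Coprime.pow_left _ (by norm_num))
  refine ⟨L.map N.subtype, map_subtype_le _, ?_, ?_, ?_⟩
  · rw [eq_bot_iff]
    rintro v hv
    obtain ⟨⟨l, hl, rfl⟩, hlW⟩ := mem_inf.1 hv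
    have : l ∈ K ⊓ L := mem_inf.2 ⟨hlW, hl⟩
    rw [hL.disjoint.eq_bot, mem_bot] at this
    subst this
    exact one_mem _
  · refine le_antisymm (sup_le (map_subtype_le _) hAN) fun v hv => ?_
    have hmem : (⟨v, hv⟩ : ↥N) ∈ L ⊔ K := hL.symm.sup_eq_top ▸ mem_top _
    have hle : L ⊔ K ≤ (L.map N.subtype ⊔ M.A1).comap N.subtype :=
      sup_le (fun l hl => mem_sup_left ⟨l, hl, rfl⟩) fun k hk => mem_sup_right hk
    exact hle hmem
  · refine ⟨(equivMapOfInjective L N.subtype N.subtype_injective).symm.trans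
      (MulEquiv.ofBijective (f.comp L.subtype) ⟨?_, ?_⟩)⟩
    · rw [← MonoidHom.ker_eq_bot_iff, eq_bot_iff]
      intro l hl
      have h1 : (l : ↥N) ∈ K ⊓ L := mem_inf.2 ⟨hfk.le (show (l : ↥N) ∈ f.ker from hl), l.2⟩
      rw [hL.disjoint.eq_bot, mem_bot] at h1
      exact mem_bot.2 (Subtype.ext h1)
    · intro y
      obtain ⟨n, rfl⟩ := hf y
      have hn : n ∈ (L : Subgroup ↥N) ⊔ K := hL.symm.sup_eq_top ▸ mem_top _
      rw [← SetLike.mem_coe, mul_normal L K] at hn
      obtain ⟨l, hl, k, hk, rfl⟩ := hn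
      refine ⟨⟨l, hl⟩, ?_⟩
      have hk1 : f k = 1 := hfk.ge hk
      show f l = f (l * k)
      rw [map_mul, hk1, mul_one]

/-- No invariant subgroup in between. -/
theorem irreducible (hfus : ∀ x ∈ M.Zs, ∀ y ∈ M.Zs, ∃ n ∈ normalizer (M.A1 : Set G), n * x * n⁻¹ = y)
    {V : Subgroup G} (hV : V ≤ M.A1) (hinv : normalizer (M.A1 : Set G) ≤ normalizer (V : Set G)) :
    V = ⊥ ∨ V = M.A1 := by
  classical
  obtain ⟨t, ht, ht1, htz, -, horb⟩ := M.exists_orbit_other hz hN
  set Ot := ((M.A1 : Set G) \ {1}) \ M.Zs with hOt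
  have hconjV : ∀ x ∈ V, ∀ n ∈ normalizer (M.A1 : Set G), n * x * n⁻¹ ∈ V :=
    fun x hx n hn => (mem_normalizer_iff.1 (hinv hn) x).1 hx
  have hZ : (∀ x ∈ M.Zs, x ∈ V) ∨ ∀ x ∈ M.Zs, x ∉ V := by
    by_cases h : ∃ x ∈ M.Zs, x ∈ V
    · obtain ⟨x, hxZ, hxV⟩ := h
      refine Or.inl fun y hy => ?_
      obtain ⟨n, hn, rfl⟩ := hfus x hxZ y hy
      exact hconjV x hxV n hn
    · exact Or.inr fun x hx hxV => h ⟨x, hx, hxV⟩
  have hT : (∀ x ∈ Ot, x ∈ V) ∨ ∀ x ∈ Ot, x ∉ V := by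
    by_cases h : t ∈ V
    · refine Or.inl fun y hy => ?_
      rw [← horb] at hy
      obtain ⟨n, hn, rfl⟩ := hy
      exact hconjV t h n hn
    · refine Or.inr fun y hy hyV => h ?_
      rw [← horb] at hy
      obtain ⟨n, hn, rfl⟩ := hy
      have := hconjV _ hyV n⁻¹ (inv_mem hn)
      rwa [show n⁻¹ * (n * t * n⁻¹) * n⁻¹⁻¹ = t by group] at this
  have hn := (M.ncard_Zs hz hN).1
  have hsub : M.Zs ⊆ (M.A1 : Set G) \ {1} := fun x hx => ⟨hx.1, fun h => hz (by
    rw [Set.mem_singleton_iff] at h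
    exact isConj_one_left.1 (h ▸ hx.2))⟩
  have hd : Nat.card ↥V ∣ 2 ^ 10 := M.card_A1 ▸ Subgroup.card_dvd_of_le hV
  have key : ∀ S : Set G, (V : Set G) \ {1} = S → Nat.card ↥V = S.ncard + 1 := fun S hS => by
    rw [← hS, Set.ncard_sdiff_singleton_of_mem (show (1 : G) ∈ (V : Set G) from one_mem _), ← Nat.card_coe_set_eq,
      SetLike.coe_sort_coe]
    have : 0 < Nat.card ↥V := Nat.card_pos
    omega
  rcases hZ with hZ | hZ <;> rcases hT with hT | hT
  · refine Or.inr (le_antisymm hV fun x hx => ?_)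
    by_cases h1 : x = 1
    · rw [h1]; exact one_mem _
    by_cases hxZ : x ∈ M.Zs
    · exact hZ x hxZ
    · exact hT x ⟨⟨hx, h1⟩, hxZ⟩
  · exfalso
    rw [key M.Zs (Set.ext fun x => ⟨fun hx => ?_, fun hx => ⟨hZ x hx, (hsub hx).2⟩⟩), hn] at hd
    · revert hd; decide +kernel
    · by_contra hxZ
      exact hT x ⟨⟨hV hx.1, hx.2⟩, hxZ⟩ hx.1
  · exfalso
    rw [key Ot (Set.ext fun x => ⟨fun hx => ⟨⟨hV hx.1, hx.2⟩, fun hxZ => hZ x hxZ hx.1⟩,
      fun hx => ⟨hT x hx, hx.1.2⟩⟩), hOt, M.ncard_others hz, hn] at hd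
    revert hd; decide +kernel
  · refine Or.inl ((Subgroup.eq_bot_iff_forall _).2 fun x hx => ?_)
    by_contra h1
    by_cases hxZ : x ∈ M.Zs
    · exact hZ x hxZ hx
    · exact hT x ⟨⟨hV hx, h1⟩, hxZ⟩ hx

end WModel

end CfsgLib.Spor.JFourType
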