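import Cfsg.Agent.Lib.Spor.M24Aut
import Mathlib

/-!
# An elementary abelian group of order `2 ^ 11` as the even sets of points modulo the code

`Φ` sends a set of points, as a number below `2 ^ 24`, to the group; the rows go to one.  Every number reduces by
the rows to one with the first twelve digits zero, so the value of an even number determines its reduction.
-/

set_option autoImplicit false
set_option linter.style.haveILetI false

namespace CfsgLib.Spor.JFourType

open Subgroup Cfsg
open scoped Pointwise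

universe u

/-- An elementary abelian normal part of an extension by `M24`, seen on the sets of points. -/
structure WModel {G : Type u} [Group G] (z : G) (W : Subgroup G) : Type u where
  Φ : ℕ → G
  m : ↥M24 →* G
  W_comm : ∀ x ∈ W, ∀ y ∈ W, x * y = y * x
  W_sq : ∀ x ∈ W, x * x = 1
  card_W : Nat.card ↥W = 2 ^ 11
  Φ_mem : ∀ a, Φ a ∈ W
  Φ_add : ∀ a b, Φ (a ^^^ b) = Φ a * Φ b
  Φ_row : ∀ r ∈ CfsgLib.Spor.rows, Φ r = 1
  Φ_surj : ∀ w ∈ W, ∃ a, a < 2 ^ 24 ∧ pop 24 a % 2 = 0 ∧ Φ a = w
  Φ_conj : ∀ (g : ↥M24) (a b : ℕ), pop 24 a % 2 = 0 → pts b = (g : Equiv.Perm GolayPt) • pts a →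
    Φ b = m g * Φ a * (m g)⁻¹
  pair : ∀ a, pop 24 a = 2 → ¬ IsConj z (Φ a) ∧ centralizer ({Φ a} : Set G) ≤ normalizer (W : Set G)
  four : ∀ a, pop 24 a = 4 → IsConj z (Φ a)
  fusion : ∀ x ∈ W, ∀ y ∈ W, IsConj x y → ∃ n ∈ normalizer (W : Set G), n * x * n⁻¹ = y
  m_norm : ∀ g, m g ∈ normalizer (W : Set G)
  m_disj : ∀ g, m g ∈ W → g = 1
  m_cover : ∀ n ∈ normalizer (W : Set G), ∃ g, n * (m g)⁻¹ ∈ W

namespace TenCode

/-- One step of the reduction. -/
def step (a j : ℕ) : ℕ := if a.testBit j then a ^^^ rows.getD j 0 else a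

/-- The reduction by the rows. -/
def clear (a : ℕ) : ℕ := (List.range 12).foldl step a

theorem rows_pivot : ∀ j < 12, ∀ i < 12, (rows.getD j 0).testBit i = decide (i = j) := by decide +kernel

theorem rows_lt : ∀ j < 12, rows.getD j 0 < 2 ^ 24 := by decide +kernel

theorem rows_even : ∀ j < 12, pop 24 (rows.getD j 0) % 2 = 0 := by decide +kernel

theorem rows_getD_mem : ∀ j < 12, rows.getD j 0 ∈ rows := by decide +kernel

theorem pop_xor_parity (a b : ℕ) : pop 24 (a ^^^ b) % 2 = (pop 24 a + pop 24 b) % 2 := by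
  unfold pop
  simp only [Nat.testBit_xor]
  induction List.range 24 with
  | nil => rfl
  | cons i l ih =>
    simp only [List.countP_cons]
    cases a.testBit i <;> cases b.testBit i <;> simp only [Bool.xor_self, Bool.xor_false, Bool.false_xor, Bool.true_xor,
      Bool.not_false, Bool.not_true, if_true, Bool.false_eq_true, if_false] <;> omega

theorem clear_spec {a : ℕ} (ha : a < 2 ^ 24) (he : pop 24 a % 2 = 0) : ∀ n ≤ 12,
    (List.range n).foldl step a < 2 ^ 24 ∧ pop 24 ((List.range n).foldl step a) % 2 = 0 ∧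
      ∀ i < n, ((List.range n).foldl step a).testBit i = false := by
  intro n hn
  induction n with
  | zero => exact ⟨ha, he, fun i hi => absurd hi (Nat.not_lt_zero i)⟩
  | succ n ih =>
    obtain ⟨h1, h2, h3⟩ := ih (by omega)
    rw [List.range_succ, List.foldl_append, List.foldl_cons, List.foldl_nil]
    set b := (List.range n).foldl step a
    have hn' : n < 12 := by omega
    rw [step]
    split_ifs with hb
    · refine ⟨Nat.xor_lt_two_pow h1 (rows_lt n hn'), by rw [pop_xor_parity, Nat.add_mod, h2, rows_even n hn'],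
        fun i hi => ?_⟩
      rw [Nat.testBit_xor, rows_pivot n hn' i (by omega)]
      rcases Nat.lt_succ_iff_lt_or_eq.1 hi with h | rfl
      · simp [h3 i h, Nat.ne_of_lt h]
      · simp [hb]
    · refine ⟨h1, h2, fun i hi => ?_⟩
      rcases Nat.lt_succ_iff_lt_or_eq.1 hi with h | rfl
      · exact h3 i h
      · simpa using hb

/-- The reduced numbers. -/
def reps : List ℕ := ((List.range 4096).filter fun h => pop 24 h % 2 == 0).map (· <<< 12)

theorem reps_length : reps.length = 2048 := by decide +kernel

theorem clear_mem {a : ℕ} (ha : a < 2 ^ 24) (he : pop 24 a % 2 = 0) : clear a ∈ reps := by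
  obtain ⟨h1, h2, h3⟩ := clear_spec ha he 12 le_rfl
  change clear a < 2 ^ 24 at h1
  have hshift : clear a = (clear a >>> 12) <<< 12 := by
    refine Nat.eq_of_testBit_eq fun i => ?_
    rw [Nat.testBit_shiftLeft, Nat.testBit_shiftRight]
    by_cases hi : 12 ≤ i
    · rw [show 12 + (i - 12) = i by omega]
      simp [hi]
    · simp only [ge_iff_le, hi, decide_false, Bool.false_and]
      exact h3 i (by omega)
  refine List.mem_map.2 ⟨clear a >>> 12, List.mem_filter.2 ⟨List.mem_range.2 ?_, ?_⟩, hshift.symm⟩
  · rw [Nat.shiftRight_eq_div_pow]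
    omega
  · rw [beq_iff_eq]
    have e : pop 24 (clear a >>> 12) = pop 24 (clear a) := by
      rw [← card_pts, ← card_pts]
      refine Finset.card_bij' (fun p _ => idxPt (ptIdx p + 12)) (fun p _ => idxPt (ptIdx p - 12)) ?_ ?_ ?_ ?_
      all_goals intro p hp
      all_goals rw [mem_pts] at hp
      · rw [Nat.testBit_shiftRight] at hp
        have hlt : 12 + ptIdx p < 24 := by
          by_contra hge
          rw [Nat.testBit_eq_false_of_lt (h1.trans_le (Nat.pow_le_pow_right (by norm_num) (by omega)))] at hp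
          exact Bool.false_ne_true hp
        rw [mem_pts, ptIdx_idxPt _ (by omega), add_comm]
        exact hp
      · have hge : 12 ≤ ptIdx p := by
          by_contra hlt
          rw [show (clear a).testBit (ptIdx p) = false from h3 _ (by omega)] at hp
          exact Bool.false_ne_true hp
        have := ptIdx_lt p
        rw [mem_pts, Nat.testBit_shiftRight, ptIdx_idxPt _ (by omega), show 12 + (ptIdx p - 12) = ptIdx p by omega]
        exact hp
      · have hlt : 12 + ptIdx p < 24 := by
          by_contra hge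
          rw [Nat.testBit_shiftRight,
            Nat.testBit_eq_false_of_lt (h1.trans_le (Nat.pow_le_pow_right (by norm_num) (by omega)))] at hp
          exact Bool.false_ne_true hp
        rw [ptIdx_idxPt _ (by omega), show ptIdx p + 12 - 12 = ptIdx p by omega, idxPt_ptIdx]
      · have hge : 12 ≤ ptIdx p := by
          by_contra hlt
          rw [show (clear a).testBit (ptIdx p) = false from h3 _ (by omega)] at hp
          exact Bool.false_ne_true hp
        have := ptIdx_lt p
        rw [ptIdx_idxPt _ (by omega), show ptIdx p - 12 + 12 = ptIdx p by omega, idxPt_ptIdx]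
    rw [e]
    exact h2

end TenCode

namespace WModel

variable {G : Type u} [Group G] {z : G} {W : Subgroup G} (M : WModel z W)
include M

theorem Φ_zero : M.Φ 0 = 1 := by
  have h := M.Φ_add 0 0
  rw [Nat.xor_self, M.W_sq _ (M.Φ_mem 0)] at h
  exact h

theorem Φ_clear (a : ℕ) : M.Φ (TenCode.clear a) = M.Φ a := by
  have h : ∀ n ≤ 12, M.Φ ((List.range n).foldl TenCode.step a) = M.Φ a := by
    intro n hn
    induction n with
    | zero => rfl
    | succ n ih =>
      rw [List.range_succ, List.foldl_append, List.foldl_cons, List.foldl_nil, TenCode.step]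
      split_ifs
      · rw [M.Φ_add, M.Φ_row _ (TenCode.rows_getD_mem n (by omega)), mul_one, ih (by omega)]
      · exact ih (by omega)
  exact h 12 le_rfl

theorem Φ_eq_of_clear {a b : ℕ} (h : TenCode.clear a = TenCode.clear b) : M.Φ a = M.Φ b := by
  rw [← M.Φ_clear a, h, M.Φ_clear]

variable [Finite G]

/-- The value determines the reduction. -/
theorem clear_eq_of_Φ {a b : ℕ} (ha : a < 2 ^ 24) (hb : b < 2 ^ 24) (hae : pop 24 a % 2 = 0)
    (hbe : pop 24 b % 2 = 0) (h : M.Φ a = M.Φ b) : TenCode.clear a = TenCode.clear b := by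
  classical
  let S : Finset ℕ := TenCode.reps.toFinset
  let f : ↥S → ↥W := fun r => ⟨M.Φ r, M.Φ_mem _⟩
  have hs : Function.Surjective f := by
    rintro ⟨w, hw⟩
    obtain ⟨c, hc, hce, rfl⟩ := M.Φ_surj w hw
    exact ⟨⟨TenCode.clear c, List.mem_toFinset.2 (TenCode.clear_mem hc hce)⟩, Subtype.ext (M.Φ_clear c)⟩
  have hle : Nat.card ↥S ≤ Nat.card ↥W := by
    rw [M.card_W, Nat.card_eq_fintype_card, Fintype.card_coe]
    exact (List.toFinset_card_le _).trans (by rw [TenCode.reps_length]; norm_num)
  have hbij := (Nat.bijective_iff_surjective_and_card f).2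
    ⟨hs, le_antisymm hle (Nat.card_le_card_of_surjective f hs)⟩
  have := @hbij.1 ⟨_, List.mem_toFinset.2 (TenCode.clear_mem ha hae)⟩ ⟨_, List.mem_toFinset.2 (TenCode.clear_mem hb hbe)⟩
    (Subtype.ext (show M.Φ (TenCode.clear a) = M.Φ (TenCode.clear b) by rw [M.Φ_clear, M.Φ_clear, h]))
  exact congrArg Subtype.val this

end WModel

end CfsgLib.Spor.JFourType
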