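import Cfsg.Agent.Lib.Spor.JFourType.CodeM24
import Cfsg.Agent.Lib.Spor.JFourType.SplitW
import Cfsg.Agent.Lib.Spor.JFourType.CentT
import Cfsg.Agent.Lib.Spor.JFourType.Orbit
import Cfsg.Agent.Lib.Spor.JFourType.TenCode

/-!
# The normalizer of `W` on the sets of points

A complement gives a copy of `M24`; the products over the stars become a function on sets of points.
-/

set_option autoImplicit false
set_option linter.style.haveILetI false

namespace CfsgLib.Spor.JFourType.Ctx

open Subgroup Cfsg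
open scoped Pointwise symmDiff

universe u

variable {G : Type u} [Group G] [Finite G] {A : Type} [Group A] {J I R : Subgroup A}
  {z : G} {P : Subgroup G} (c : Ctx J I R z P)
include c

theorem nonempty_wModel (hs : c.Split) (he : Extra J I R) : Nonempty (WModel z c.W) := by
  classical
  haveI : Fintype c.Star := Fintype.ofFinite _
  have hNI := he.card_NI
  obtain ⟨φ, e, o, hker, hsurj, hN, hequiv, hblocks⟩ := c.exists_hom_M24_blocks hs hNI
  obtain ⟨K, hKN, hKW, hKsup⟩ := c.exists_complement_W hs he hN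
  let ψ : ↥K →* ↥M24 := φ.comp (inclusion hKN)
  have hmul : ∀ n ∈ normalizer (c.W : Set G), ∃ k ∈ K, n * k⁻¹ ∈ c.W := by
    intro n hn
    rw [← hKsup, sup_comm, ← SetLike.mem_coe, Subgroup.coe_mul_of_right_le_normalizer_left _ _ hKN] at hn
    obtain ⟨w, hw, k, hk, rfl⟩ := hn
    exact ⟨k, hk, by rwa [mul_inv_cancel_right]⟩
  have hψ : Function.Bijective ψ := by
    refine ⟨?_, fun g => ?_⟩
    · rw [← MonoidHom.ker_eq_bot_iff, eq_bot_iff]
      intro k hk
      have hkW : (k : G) ∈ c.W := by
        have : inclusion hKN k ∈ φ.ker := hk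
        rw [hker] at this
        exact this
      exact mem_bot.2 (Subtype.ext (mem_bot.1 (hKW ▸ mem_inf.2 ⟨k.2, hkW⟩)))
    · obtain ⟨⟨n, hn⟩, rfl⟩ := hsurj g
      obtain ⟨k, hk, hnk⟩ := hmul n hn
      refine ⟨⟨k, hk⟩, ?_⟩
      have h1 : (⟨n, hn⟩ : ↥(normalizer (c.W : Set G))) * (inclusion hKN ⟨k, hk⟩)⁻¹ ∈ φ.ker := by
        rw [hker]
        exact hnk
      rw [MonoidHom.mem_ker, map_mul, map_inv, mul_inv_eq_one] at h1
      exact h1.symm
  let eq' : ↥K ≃* ↥M24 := MulEquiv.ofBijective ψ hψ
  let m : ↥M24 →* G := K.subtype.comp eq'.symm.toMonoidHom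
  have hmN : ∀ g, m g ∈ normalizer (c.W : Set G) := fun g => hKN (eq'.symm g).2
  have hφm : ∀ g, φ ⟨m g, hmN g⟩ = g := fun g => eq'.apply_symm_apply g
  let Φ : ℕ → G := fun a => c.psi hs o ((pts a).image e.symm)
  have hcard : ∀ a, ((pts a).image e.symm).card = pop 24 a := fun a => by
    rw [Finset.card_image_of_injective _ e.symm.injective, card_pts]
  have hpts : ∀ S : Finset c.Star, ((pts (maskPts (S.image e))).image e.symm) = S := fun S => by
    rw [pts_maskPts, Finset.image_image, e.symm_comp_self, Finset.image_id]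
  have hpop : ∀ S : Finset c.Star, pop 24 (maskPts (S.image e)) = S.card := fun S => by
    rw [← card_pts, pts_maskPts, Finset.card_image_of_injective _ e.injective]
  refine ⟨{ Φ := Φ, m := m, W_comm := fun x hx y hy => c.W_comm hx hy, W_sq := fun x hx => c.W_sq hx
            card_W := c.card_W, Φ_mem := fun a => c.psi_W hs o _, m_norm := hmN
            fusion := fun x hx y hy h => c.fusion_W hx hy h
            Φ_add := ?_, Φ_row := ?_, Φ_surj := ?_, Φ_conj := ?_, pair := ?_, four := ?_, m_disj := ?_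
            m_cover := ?_ }⟩
  · intro a b
    show c.psi hs o _ = c.psi hs o _ * c.psi hs o _
    rw [← c.psi_symmDiff, ← Finset.image_symmDiff _ _ e.symm.injective]
    congr 2
    ext p
    simp only [Finset.mem_symmDiff, mem_pts, Nat.testBit_xor]
    cases a.testBit (ptIdx p) <;> cases b.testBit (ptIdx p) <;> simp
  · intro r hr
    have ho : pts r ∈ octads :=
      ⟨⟨word r, word_row_mem hr, support₂_word r⟩, by rw [card_pts, rows_octads r hr]⟩
    rw [← hblocks] at ho
    obtain ⟨B, hB, hBe⟩ := ho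
    show c.psi hs o ((pts r).image e.symm) = 1
    rw [← hBe, Finset.image_image, e.symm_comp_self, Finset.image_id]
    exact hB.2
  · intro w hw
    have key : ∀ S : Finset c.Star, Even S.card → c.psi hs o S = w →
        ∃ a, a < 2 ^ 24 ∧ pop 24 a % 2 = 0 ∧ Φ a = w := fun S hS h =>
      ⟨maskPts (S.image e), maskPts_lt _, by rw [hpop]; exact Nat.even_iff.1 hS, by
        show c.psi hs o _ = w
        rw [hpts, h]⟩
    by_cases h1 : w = 1
    · exact key ∅ (by simp) (by rw [c.psi_empty, h1])
    by_cases hT : w ∈ c.Tset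
    · obtain ⟨a, b, hab, hw'⟩ := c.exists_tau hs hT
      exact key {a, b} (by rw [Finset.card_pair hab]; decide) (by rw [c.psi_pair hs hNI o hab, hw'])
    · obtain ⟨F, hF, hw', -⟩ := c.four_classes hs hNI o ⟨hw, h1, hT⟩ o
      exact key F (by rw [hF]; decide) hw'
  · intro g a b ha hb
    let n : ↥(normalizer (c.W : Set G)) := ⟨m g, hmN g⟩
    have himg : (pts b).image e.symm = ((pts a).image e.symm).image (c.starHom hs hNI n) := by
      rw [hb, Finset.smul_finset_def, Finset.image_image, Finset.image_image]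
      refine Finset.image_congr fun p _ => ?_
      show e.symm ((g : Equiv.Perm GolayPt) p) = c.starHom hs hNI n (e.symm p)
      rw [Equiv.symm_apply_eq, ← hequiv, hφm, e.apply_symm_apply]
    show c.psi hs o _ = m g * c.psi hs o _ * (m g)⁻¹
    have h := c.psi_starHom hs hNI o n ((pts a).image e.symm)
    rw [c.psi_origin hs hNI o (c.starHom hs hNI n o), if_pos, one_mul] at h
    · rw [himg]
      exact h
    · rw [Finset.card_image_of_injective _ (c.starHom hs hNI n).injective, hcard]
      exact Nat.even_iff.2 ha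
  · intro a ha
    obtain ⟨p, q, hpq, he'⟩ := Finset.card_eq_two.1 ((hcard a).trans ha)
    show ¬ IsConj z (c.psi hs o _) ∧ _
    rw [he', c.psi_pair hs hNI o hpq]
    have e2 : Φ a = c.tau hs p q := by
      show c.psi hs o _ = _
      rw [he', c.psi_pair hs hNI o hpq]
    rw [e2]
    exact ⟨(c.tau_Tset hs hpq).2.2, c.cent_Tset_le hs (c.tau_Tset hs hpq)⟩
  · intro a ha
    by_contra hcon
    obtain ⟨hW, h1, hT⟩ := c.four_Sset hs hNI o ((hcard a).trans ha)
    exact hT ⟨hW, h1, hcon⟩
  · intro g hg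
    refine eq'.symm.injective (?_ : eq'.symm g = eq'.symm 1)
    rw [map_one]
    exact Subtype.ext (mem_bot.1 (hKW ▸ mem_inf.2 ⟨(eq'.symm g).2, hg⟩))
  · intro n hn
    obtain ⟨k, hk, hnk⟩ := hmul n hn
    refine ⟨eq' ⟨k, hk⟩, ?_⟩
    have : m (eq' ⟨k, hk⟩) = k := congrArg Subtype.val (eq'.symm_apply_apply ⟨k, hk⟩)
    rw [this]
    exact hnk

end CfsgLib.Spor.JFourType.Ctx
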