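import Cfsg.Agent.Lib.Spor.JFourType.TenSpread
import Cfsg.Agent.Lib.Spor.JFourType.TenWModel
import Cfsg.Agent.Lib.Spor.JFourType.TenSplit

/-!
# Self-centralizing elementary abelian subgroups of order `2 ^ 10`

Existence, conjugacy, the split normalizer and its two orbits, transported from the octad subgroup.
-/

set_option autoImplicit false
set_option linter.style.haveILetI false

namespace CfsgLib.Spor.JFourType.Ctx

open Subgroup Cfsg

universe u

variable {G : Type u} [Group G] [Finite G] {A : Type} [Group A] {J I R : Subgroup A}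
  {z : G} {P : Subgroup G} (c : Ctx J I R z P)
include c

omit c [Finite G] in
theorem normalizer_map_conj (S : Subgroup G) (g : G) :
    normalizer ((S.map (MulAut.conj g).toMonoidHom : Subgroup G) : Set G) =
      (normalizer (S : Set G)).map (MulAut.conj g).toMonoidHom :=
  (map_equiv_normalizer_eq S (MulAut.conj g)).symm

/-- What holds for the octad subgroup. -/
theorem ten_model (hs : c.Split) (he : Extra J I R) (hx : SpreadFacts J I) :
    ∃ M : WModel z c.W, Nat.card ↥(normalizer (M.A1 : Set G)) = M.Zs.ncard * (2 ^ 20 * 63) ∧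
      ∀ x ∈ M.Zs, ∀ y ∈ M.Zs, ∃ n ∈ normalizer (M.A1 : Set G), n * x * n⁻¹ = y := by
  obtain ⟨M⟩ := c.nonempty_wModel hs he
  have hT := M.isTen_A1 c.z_ne
  obtain ⟨g, hg⟩ := c.ten_exists_conj_z hT
  set S := M.A1.map (MulAut.conj g).toMonoidHom with hS
  have hcard := c.ten_card_normalizer (hT.map g) hg hx
  have hset : {x : G | x ∈ S ∧ IsConj z x} = (fun x => g * x * g⁻¹) '' M.Zs := by
    ext x
    constructor
    · rintro ⟨hxS, hc⟩
      exact ⟨g⁻¹ * x * g, ⟨mem_map_conj.1 hxS, hc.trans (isConj_iff.2 ⟨g⁻¹, by group⟩)⟩, by group⟩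
    · rintro ⟨y, ⟨hy, hc⟩, rfl⟩
      exact ⟨⟨y, hy, rfl⟩, hc.trans (isConj_iff.2 ⟨g, rfl⟩)⟩
  refine ⟨M, ?_, fun x hxZ y hyZ => ?_⟩
  · rw [hset, Set.ncard_image_of_injective _ fun a b e => mul_left_cancel (mul_right_cancel e),
      normalizer_map_conj, ← Nat.card_congr (equivMapOfInjective _ _ (MulAut.conj g).injective).toEquiv] at hcard
    exact hcard
  · obtain ⟨n1, hn1, e1⟩ := c.ten_fusion (hT.map g) hg hx ⟨x, hxZ.1, rfl⟩ (hxZ.2.trans (isConj_iff.2 ⟨g, rfl⟩))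
    obtain ⟨n2, hn2, e2⟩ := c.ten_fusion (hT.map g) hg hx ⟨y, hyZ.1, rfl⟩ (hyZ.2.trans (isConj_iff.2 ⟨g, rfl⟩))
    have hn : n2 * n1⁻¹ ∈ normalizer (S : Set G) := mul_mem hn2 (inv_mem hn1)
    rw [hS, normalizer_map_conj] at hn
    refine ⟨g⁻¹ * (n2 * n1⁻¹) * g, mem_map_conj.1 hn, ?_⟩
    have e1' : n1 * z * n1⁻¹ = g * x * g⁻¹ := e1
    have e2' : n2 * z * n2⁻¹ = g * y * g⁻¹ := e2
    calc g⁻¹ * (n2 * n1⁻¹) * g * x * (g⁻¹ * (n2 * n1⁻¹) * g)⁻¹
        = g⁻¹ * (n2 * n1⁻¹ * (g * x * g⁻¹) * n1 * n2⁻¹) * g := by group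
      _ = g⁻¹ * (n2 * n1⁻¹ * (n1 * z * n1⁻¹) * n1 * n2⁻¹) * g := by rw [e1']
      _ = g⁻¹ * (n2 * z * n2⁻¹) * g := by group
      _ = y := by rw [e2']; group

/-- The two orbits. -/
theorem ten_orbits (hs : c.Split) (he : Extra J I R) (hx : SpreadFacts J I) {S : Subgroup G} (hT : IsTen S) :
    ∃ a b : G, a ∈ S ∧ b ∈ S ∧ Set.ncard {v : G | ∃ n ∈ normalizer (S : Set G), n * a * n⁻¹ = v} = 155 ∧
      Set.ncard {v : G | ∃ n ∈ normalizer (S : Set G), n * b * n⁻¹ = v} = 868 := by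
  obtain ⟨M, hN, hfus⟩ := c.ten_model hs he hx
  obtain ⟨g, rfl⟩ := c.ten_conj hx (M.isTen_A1 c.z_ne) hT
  obtain ⟨h155, -⟩ := M.ncard_Zs c.z_ne hN
  obtain ⟨a, ha⟩ : M.Zs.Nonempty := Set.nonempty_of_ncard_ne_zero (by omega)
  obtain ⟨b, hb, -, -, h868, -⟩ := M.exists_orbit_other c.z_ne hN
  have horb : {v : G | ∃ n ∈ normalizer (M.A1 : Set G), n * a * n⁻¹ = v} = M.Zs := by
    ext v
    constructor
    · rintro ⟨n, hn, rfl⟩
      exact ⟨(mem_normalizer_iff.1 hn a).1 ha.1, ha.2.trans (isConj_iff.2 ⟨n, rfl⟩)⟩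
    · exact fun hv => hfus a ha v hv
  have hmap : ∀ x : G, Set.ncard {v : G | ∃ n ∈ normalizer ((M.A1.map (MulAut.conj g).toMonoidHom : Subgroup G) : Set G),
      n * (g * x * g⁻¹) * n⁻¹ = v} = Set.ncard {v : G | ∃ n ∈ normalizer (M.A1 : Set G), n * x * n⁻¹ = v} := fun x => by
    rw [← Set.ncard_image_of_injective {v : G | ∃ n ∈ normalizer (M.A1 : Set G), n * x * n⁻¹ = v}
      (fun p q e => mul_left_cancel (mul_right_cancel e) : Function.Injective fun v => g * v * g⁻¹)]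
    congr 1
    ext v
    constructor
    · rintro ⟨n, hn, rfl⟩
      rw [normalizer_map_conj] at hn
      refine ⟨_, ⟨_, mem_map_conj.1 hn, rfl⟩, ?_⟩
      group
    · rintro ⟨_, ⟨n, hn, rfl⟩, rfl⟩
      refine ⟨g * n * g⁻¹, by rw [normalizer_map_conj]; exact ⟨n, hn, rfl⟩, ?_⟩
      group
  exact ⟨g * a * g⁻¹, g * b * g⁻¹, ⟨a, ha.1, rfl⟩, ⟨b, hb, rfl⟩, by rw [hmap, horb, h155], by rw [hmap, h868]⟩

/-- The split normalizer and irreducibility. -/
theorem ten_split (hs : c.Split) (he : Extra J I R) (hx : SpreadFacts J I) {S : Subgroup G} (hT : IsTen S) :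
    (∃ B : Subgroup G, B ≤ normalizer (S : Set G) ∧ B ⊓ S = ⊥ ∧ B ⊔ S = normalizer (S : Set G) ∧
      Nonempty (↥B ≃* Matrix.SpecialLinearGroup (Fin 5) (ZMod 2))) ∧
    ∀ V : Subgroup G, V ≤ S → normalizer (S : Set G) ≤ normalizer (V : Set G) → V = ⊥ ∨ V = S := by
  obtain ⟨M, hN, hfus⟩ := c.ten_model hs he hx
  obtain ⟨g, rfl⟩ := c.ten_conj hx (M.isTen_A1 c.z_ne) hT
  obtain ⟨B, hB1, hB2, hB3, ⟨eB⟩⟩ := M.exists_complement c.z_ne hN
  refine ⟨⟨B.map (MulAut.conj g).toMonoidHom, ?_, ?_, ?_, ⟨?_⟩⟩, fun V hV hinv => ?_⟩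
  · rw [normalizer_map_conj]
    exact map_mono hB1
  · rw [← map_inf _ _ _ (MulAut.conj g).injective, hB2, Subgroup.map_bot]
  · rw [normalizer_map_conj, ← Subgroup.map_sup, hB3]
  · exact (equivMapOfInjective B (MulAut.conj g).toMonoidHom (MulAut.conj g).injective).symm.trans eB
  · have hV' : V.map (MulAut.conj g⁻¹).toMonoidHom ≤ M.A1 := by
      rintro x ⟨y, hy, rfl⟩
      have := mem_map_conj.1 (hV hy)
      simpa [mul_assoc] using this
    have hback : (V.map (MulAut.conj g⁻¹).toMonoidHom).map (MulAut.conj g).toMonoidHom = V := by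
      rw [map_conj_conj, mul_inv_cancel]
      ext x
      rw [mem_map_conj, inv_one, one_mul, mul_one]
    have hinv' : normalizer (M.A1 : Set G) ≤ normalizer ((V.map (MulAut.conj g⁻¹).toMonoidHom : Subgroup G) : Set G) := by
      intro n hn
      have h1 : g * n * g⁻¹ ∈ normalizer (V : Set G) := hinv (by rw [normalizer_map_conj]; exact ⟨n, hn, rfl⟩)
      rw [normalizer_map_conj, mem_map_conj, inv_inv]
      exact h1
    rcases M.irreducible c.z_ne hN hfus hV' hinv' with h | h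
    · exact Or.inl (by rw [← hback, h, Subgroup.map_bot])
    · exact Or.inr (by rw [← hback, h])

end CfsgLib.Spor.JFourType.Ctx
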