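import Mathlib

/-!
# Facts on the symmetric group of degree five

It has no non-trivial normal 2-subgroup and trivial center, and its only automorphism of order dividing seven is
the identity.
-/

set_option autoImplicit false

namespace CfsgLib.Spor.JFourType

open Equiv

theorem perm_five_small (σ : Perm (Fin 5)) (h : ∀ τ : Perm (Fin 5), (τ * σ * τ⁻¹ * σ⁻¹) ^ 4 = 1) : σ = 1 := by
  revert σ
  decide +kernel

theorem perm_five_center (σ : Perm (Fin 5)) (h : ∀ τ : Perm (Fin 5), τ * σ = σ * τ) : σ = 1 :=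
  perm_five_small σ fun τ => by rw [h τ]; group

/-- A normal 2-subgroup is trivial. -/
theorem perm_five_two_normal {N : Subgroup (Perm (Fin 5))} (hn : ∀ τ : Perm (Fin 5), ∀ σ ∈ N, τ * σ * τ⁻¹ ∈ N)
    (hp : ∀ σ ∈ N, ∃ k : ℕ, σ ^ 2 ^ k = 1) : N = ⊥ := by
  refine (Subgroup.eq_bot_iff_forall _).2 fun σ hσ => perm_five_small σ fun τ => ?_
  set w := τ * σ * τ⁻¹ * σ⁻¹
  obtain ⟨k, hk⟩ := hp w (N.mul_mem (hn τ σ hσ) (N.inv_mem hσ))
  have key : ∀ v : Perm (Fin 5), v ^ 8 = 1 → v ^ 4 = 1 := by decide +kernel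
  have h120 : w ^ 120 = 1 := by
    have := pow_card_eq_one' (x := w)
    rwa [Nat.card_perm, Nat.card_fin] at this
  refine key w (orderOf_dvd_iff_pow_eq_one.1 ?_)
  have h1 : orderOf w ∣ Nat.gcd (2 ^ k) 120 :=
    Nat.dvd_gcd (orderOf_dvd_of_pow_eq_one hk) (orderOf_dvd_of_pow_eq_one h120)
  refine h1.trans ?_
  obtain ⟨i, -, hi⟩ := (Nat.dvd_prime_pow Nat.prime_two).1 (Nat.gcd_dvd_left (2 ^ k) 120)
  have h2 := Nat.gcd_dvd_right (2 ^ k) 120
  rw [hi] at h2 ⊢
  have : i ≤ 3 := by
    by_contra h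
    exact absurd ((pow_dvd_pow 2 (show 4 ≤ i by omega)).trans h2) (by norm_num)
  exact (pow_dvd_pow 2 this).trans (by norm_num)

/-- The involutions completing `finRotate 5` to a standard pair of generators. -/
def stdInv : Finset (Perm (Fin 5)) := Finset.univ.filter fun a =>
  a * a = 1 ∧ a ≠ 1 ∧ (a * finRotate 5) ^ 4 = 1 ∧ (a * finRotate 5 * a * (finRotate 5)⁻¹) ^ 3 = 1

theorem mem_stdInv {a : Perm (Fin 5)} : a ∈ stdInv ↔
    a * a = 1 ∧ a ≠ 1 ∧ (a * finRotate 5) ^ 4 = 1 ∧ (a * finRotate 5 * a * (finRotate 5)⁻¹) ^ 3 = 1 := by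
  simp only [stdInv, Finset.mem_filter, Finset.mem_univ, true_and]

theorem card_stdInv : stdInv.card = 5 := by decide +kernel

theorem swap_mem_stdInv : Equiv.swap (0 : Fin 5) (finRotate 5 0) ∈ stdInv := by decide +kernel

attribute [irreducible] stdInv

theorem exists_conj_rotate (σ : Perm (Fin 5)) (h : σ ^ 5 = 1) :
    σ = 1 ∨ ∃ τ : Perm (Fin 5), τ * σ * τ⁻¹ = finRotate 5 := by
  revert σ
  decide +kernel

/-- An automorphism of order dividing seven fixing an element of order five is trivial. -/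
theorem perm_five_aut_seven (e : MulAut (Perm (Fin 5))) (he : e ^ 7 = 1) {b : Perm (Fin 5)} (hb : b ^ 5 = 1)
    (hb1 : b ≠ 1) (hfix : e b = b) : e = 1 := by
  haveI : Fact (Nat.Prime 7) := ⟨by norm_num⟩
  obtain ⟨τ, hτ⟩ := (exists_conj_rotate b hb).resolve_left hb1
  set e' : MulAut (Perm (Fin 5)) := MulAut.conj τ * e * (MulAut.conj τ)⁻¹ with he'
  have he7 : e' ^ 7 = 1 := by rw [he', conj_pow, he]; group
  have hf : e' (finRotate 5) = finRotate 5 := by
    rw [← hτ, he']
    simp [MulAut.mul_apply, MulAut.conj_apply, mul_assoc, hfix]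
  have hmap : ∀ a ∈ stdInv, e' a ∈ stdInv := by
    intro a ha
    rw [mem_stdInv] at ha ⊢
    obtain ⟨h1, h2, h3, h4⟩ := ha
    refine ⟨by rw [← map_mul, h1, map_one], fun h => h2 ((map_eq_one_iff e' e'.injective).1 h), ?_, ?_⟩
    · conv_lhs => rw [← hf]
      rw [← map_mul, ← map_pow, h3, map_one]
    · conv_lhs => rw [← hf]
      rw [← map_inv, ← map_mul, ← map_mul, ← map_mul, ← map_pow, h4, map_one]
  have hiff : ∀ a, e' a ∈ stdInv ↔ a ∈ stdInv := fun a => by
    refine ⟨fun h => ?_, hmap a⟩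
    have hpow : ∀ k : ℕ, ∀ b ∈ stdInv, (e' ^ k) b ∈ stdInv := fun k => by
      induction k with
      | zero => intro b hb; simpa using hb
      | succ k ih => intro b hb; rw [pow_succ, MulAut.mul_apply]; exact ih _ (hmap b hb)
    have h6 := hpow 6 _ h
    rwa [← MulAut.mul_apply, ← pow_succ, he7] at h6
  let π : Perm {a // a ∈ stdInv} := Equiv.Perm.subtypePerm e'.toEquiv hiff
  have hval : ∀ a : {a // a ∈ stdInv}, (π a : Perm (Fin 5)) = e' a := fun a => rfl
  have hπ : π ^ 7 = 1 := by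
    refine Equiv.ext fun a => Subtype.ext ?_
    have key : ∀ k : ℕ, ((π ^ k) a : Perm (Fin 5)) = (e' ^ k) a := fun k => by
      induction k with
      | zero => rfl
      | succ k ih =>
        rw [pow_succ', pow_succ', Perm.mul_apply, MulAut.mul_apply, ← ih]
        exact hval _
    rw [key, he7]
    rfl
  have hπ1 : π = 1 := by
    rw [← orderOf_eq_one_iff]
    refine Nat.eq_one_of_dvd_coprimes (show Nat.Coprime 7 (Nat.factorial 5) by decide) (orderOf_dvd_of_pow_eq_one hπ) ?_
    have h := orderOf_dvd_natCard π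
    rwa [Nat.card_perm, Nat.card_eq_fintype_card, Fintype.card_coe, card_stdInv] at h
  have hfixa : ∀ a ∈ stdInv, e' a = a := fun a ha => by
    have h := hval ⟨a, ha⟩
    rw [hπ1] at h
    exact h.symm
  have htop : Subgroup.closure {finRotate 5, Equiv.swap (0 : Fin 5) (finRotate 5 0)} = ⊤ :=
    Perm.closure_cycle_adjacent_swap isCycle_finRotate support_finRotate 0
  have he'1 : e' = 1 := MulEquiv.ext fun v => by
    have hv : v ∈ Subgroup.closure {finRotate 5, Equiv.swap (0 : Fin 5) (finRotate 5 0)} := htop ▸ Subgroup.mem_top v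
    induction hv using Subgroup.closure_induction with
    | mem w hw =>
      rcases hw with rfl | rfl
      exacts [hf, hfixa _ swap_mem_stdInv]
    | one => rw [map_one, map_one]
    | mul a b _ _ iha ihb => rw [map_mul, map_mul, iha, ihb]
    | inv a _ iha => rw [map_inv, map_inv, iha]
  rw [he', mul_inv_eq_one] at he'1
  exact mul_left_cancel (he'1.trans (mul_one _).symm)

end CfsgLib.Spor.JFourType
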