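import Cfsg.Agent.Lib.Spor.JFourType.FiveStructure
import Cfsg.Agent.Lib.Spor.JFourType.PermFive

/-!
# The normalizer of the eight-group

Its part in `H` is the preimage of the normalizer of `R`, it induces `SL₃(2)` on the eight-group, and the centralizer
is an extension of a group of order `2 ^ 15` by the symmetric group of degree five.
-/

set_option autoImplicit false
set_option linter.style.haveILetI false

namespace CfsgLib.Spor.JFourType.Ctx

open Subgroup

universe u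

variable {G : Type u} [Group G] [Finite G] {A : Type} [Group A] {J I R : Subgroup A}
  {z : G} {P : Subgroup G} (c : Ctx J I R z P)
include c

/-- The eight-group. -/
noncomputable abbrev Pe (c : Ctx J I R z P) : Subgroup G := c.lift c.KR

/-- The group of order `2 ^ 15`. -/
noncomputable def Pl (c : Ctx J I R z P) : Subgroup G := c.pre R ⊓ centralizer (c.Pe : Set G)

/-- What is used for the pentad subgroup. -/
structure PentadCtx (x n s : G) : Prop where
  full : c.FiveFull x n s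
  split : c.Split
  quot : ∃ f : ↥(normalizer (R : Set A) ⊓ J) →* Equiv.Perm (Fin 5),
    Function.Surjective f ∧ f.ker = R.subgroupOf (normalizer (R : Set A) ⊓ J)

omit c in
/-- An element carrying a finite subgroup into itself normalizes it. -/
theorem mem_normalizer_of_maps {B : Type*} [Group B] [Finite B] {g : B} {K : Subgroup B}
    (h : ∀ a ∈ K, g * a * g⁻¹ ∈ K) : g ∈ normalizer (K : Set B) := by
  have hle : K.map (MulAut.conj g).toMonoidHom ≤ K := by rintro _ ⟨a, ha, rfl⟩; exact h a ha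
  have heq := eq_of_le_of_card_ge hle
    (le_of_eq (Nat.card_congr (equivMapOfInjective _ _ (MulAut.conj g).injective).toEquiv))
  refine mem_normalizer_iff.2 fun w => ⟨fun hw => h w hw, fun hw => ?_⟩
  obtain ⟨w', hw', he⟩ := heq.symm.le hw
  rwa [← (MulAut.conj g).injective he]

theorem im_pg : c.im c.pg = 1 := by rw [c.im_eq c.pg_H, c.pr_P c.pg_mem]

/-- Elements over the normalizer of `R` normalize the eight-group. -/
theorem pre_le_normalizer_Pe : c.pre (normalizer (R : Set A)) ≤ normalizer (c.Pe : Set G) := by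
  intro h hh
  obtain ⟨hH, hn⟩ := c.mem_pre.1 hh
  refine mem_normalizer_of_maps fun a ha => ⟨c.conj_E hH ha.1, ?_⟩
  show c.pv (h * a * h⁻¹) ∈ c.KR
  rw [c.pv_conj hH ha.1]
  exact c.KR_invariant hH hn ha.2

variable {c} {x n s : G}

/-- A point attached to `R`. -/
theorem FiveCtx.exists_rpoint' (f : c.FiveCtx x n) (hS : c.Split) :
    ∃ u, c.RPoint u ∧ u ∈ c.Pe ∧ c.pv u ≠ 0 := by
  obtain ⟨u, hu, hne⟩ := Set.exists_ne_of_one_lt_ncard (by rw [hS.card_Ut_conj]; norm_num : 1 < Set.ncard _) z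
  obtain ⟨g, hg⟩ := isConj_iff.1 hu.2
  obtain ⟨j, hj, -, hmove⟩ := c.exists_rPoint hg hu.1.1 hne
  obtain ⟨h, hh, hhi⟩ := c.exists_C0_im (inv_mem hj)
  have hR := hmove h hh hhi
  refine ⟨_, hR, ⟨hR.1, RPoint.pv_mem c hR⟩, fun e => ?_⟩
  rcases (c.pv_eq_zero hR.1).1 e with e' | e'
  · have : u = 1 := conj_eq_one_iff.1 e'
    exact c.z_ne (by simpa [this] using hg)
  · exact hR.2.1 e'

namespace PentadCtx

variable (q : c.PentadCtx x n s)
include q

theorem normalizer_inf_H : c.H ⊓ normalizer (c.Pe : Set G) = c.pre (normalizer (R : Set A)) := by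
  refine le_antisymm ?_ (le_inf (c.pre_le _) c.pre_le_normalizer_Pe)
  rintro h ⟨hH, hn⟩
  refine c.mem_pre.2 ⟨hH, ?_⟩
  obtain ⟨u, hu, huB, hv0⟩ := q.full.base.exists_rpoint' q.split
  have hv : c.act h (c.pv u) ∈ c.KR := by
    rw [← c.pv_conj hH huB.1]
    exact ((mem_normalizer_iff.1 hn u).1 huB).2
  rcases c.eq_or_of_card_four (K := c.KR) (fun v hv => c.KR_om hv) c.card_KR.le huB.2 hv0 hv with e | e | e | e
  · exact absurd (c.act_injective hH (e.trans (map_zero _).symm)) hv0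
  · exact RPoint.normalizes c hu hH e
  · have h' := RPoint.normalizes c hu (mul_mem (inv_mem c.pg_H) hH) (x := c.pg⁻¹ * h) (by
      rw [c.act_apply_mul (inv_mem c.pg_H) hH, e, c.act_pg_inv, c.om_cube])
    rwa [c.im_mul (inv_mem c.pg_H) hH, c.im_inv c.pg_H, c.im_pg, inv_one, one_mul] at h'
  · have h' := RPoint.normalizes c hu (mul_mem c.pg_H hH) (x := c.pg * h) (by
      rw [c.act_apply_mul c.pg_H hH, e]; exact c.om_cube _)
    rwa [c.im_mul c.pg_H hH, c.im_pg, one_mul] at h'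

theorem s_norm : s ∈ normalizer (c.Pe : Set G) :=
  mem_normalizer_of_maps fun _ ha => q.full.conj_mem q.split q.full.s_mem q.full.s_comm ha

/-- The normalizer of `R` has order 3840. -/
theorem card_NA : Nat.card ↥(normalizer (R : Set A)) = 3840 := by
  haveI := c.finite_A
  haveI : J.Normal := normal_of_index_eq_two c.facts.index_J
  set N := normalizer (R : Set A)
  have hs : c.im s ∈ N := (c.mem_pre.1 (q.normalizer_inf_H.le ⟨q.full.s_mem, q.s_norm⟩)).2
  have hsJ : c.im s ∉ J := fun h => q.full.s_out (c.mem_M.2 ⟨q.full.s_mem, by rwa [← c.im_eq]⟩)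
  have h2 : (J.subgroupOf N).index = 2 := by
    refine ((Nat.dvd_prime Nat.prime_two).1 ?_).resolve_left fun h => hsJ ?_
    · rw [← c.facts.index_J]; exact J.relIndex_dvd_index_of_normal N
    · exact (index_eq_one.1 h).symm.le (mem_top ⟨_, hs⟩)
  have h := (J.subgroupOf N).card_mul_index
  rw [h2, ← inf_subgroupOf_left, Nat.card_congr (subgroupOfEquivOfLe inf_le_left).toEquiv, q.full.card_NR] at h
  exact h.symm

theorem card_normalizer_inf : Nat.card ↥(c.H ⊓ normalizer (c.Pe : Set G)) = 3 * 2 ^ 13 * 3840 := by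
  rw [q.normalizer_inf_H, c.card_pre, q.card_NA]

theorem exists_move {a : G} (ha : a ∈ c.Pe) (h1 : a ≠ 1) :
    ∃ g ∈ normalizer (c.Pe : Set G), g * z * g⁻¹ = a := by
  obtain ⟨g, -, hga, hgn⟩ := q.full.exists_fusion q.split ha h1
  exact ⟨g⁻¹, inv_mem (mem_normalizer_of_maps hgn), by rw [← hga]; group⟩

theorem card_normalizer : Nat.card ↥(normalizer (c.Pe : Set G)) = 7 * (3 * 2 ^ 13 * 3840) := by
  rw [card_eq_orbit_mul (K := normalizer (c.Pe : Set G)) (a := z) (S := (c.Pe : Set G) \ {1}),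
    show normalizer (c.Pe : Set G) ⊓ centralizer ({z} : Set G) = c.H ⊓ normalizer (c.Pe : Set G) from inf_comm _ _,
    q.card_normalizer_inf, Set.ncard_sdiff (Set.singleton_subset_iff.2 (one_mem _)) (Set.toFinite _),
    Set.ncard_singleton, show (c.Pe : Set G).ncard = Nat.card ↥c.Pe from rfl, FiveFull.card_lift_KR]
  · exact fun g hg => ⟨(mem_normalizer_iff.1 hg z).1 (c.z_mem_lift _), fun h => c.z_ne (conj_eq_one_iff.1 h)⟩
  · rintro b ⟨hb, hb1⟩
    exact q.exists_move hb hb1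

theorem comm_Pe {a b : G} (ha : a ∈ c.Pe) (hb : b ∈ c.Pe) : a * b = b * a := by
  haveI := (q.full.base.elementary q.split).1
  exact congrArg Subtype.val (mul_comm' (⟨a, ha⟩ : ↥c.Pe) ⟨b, hb⟩)

/-- The action on the eight-group. -/
theorem exists_action : ∃ φ : ↥(normalizer (c.Pe : Set G)) →* Matrix.SpecialLinearGroup (Fin 3) (ZMod 2),
    Function.Surjective φ ∧ ∀ g : ↥(normalizer (c.Pe : Set G)), φ g = 1 ↔ (g : G) ∈ centralizer (c.Pe : Set G) := by
  classical
  set N := normalizer (c.Pe : Set G) with hN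
  obtain ⟨φ, hφ⟩ := exists_sl_hom (K := N) (q.full.base.elementary q.split) FiveFull.card_lift_KR
    fun g hg a ha => (mem_normalizer_iff.1 hg a).1 ha
  refine ⟨φ, ?_, fun g => (hφ g).trans ⟨fun h => mem_centralizer_iff.2 fun a ha => (h a ha).symm,
    fun h a ha => (mem_centralizer_iff.1 h a ha).symm⟩⟩
  obtain ⟨K, hBK, hprod, hKC, hK, hKB, -, -⟩ := q.full.exists_core q.split
  rw [← MonoidHom.range_eq_top]
  refine eq_top_of_card_eq _ ?_
  let φK : ↥K →* Matrix.SpecialLinearGroup (Fin 3) (ZMod 2) := φ.comp (Subgroup.inclusion hKB)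
  have hker : Nat.card ↥φK.ker ≤ 8 := by
    rw [← FiveFull.card_lift_KR (c := c)]
    refine Nat.card_le_card_of_injective (fun k : ↥φK.ker => (⟨((k : ↥K) : G), ?_⟩ : ↥c.Pe)) fun a b h =>
      Subtype.ext (Subtype.ext (congrArg Subtype.val h :))
    obtain ⟨a, ha, i, hi⟩ := q.full.centralizing q.split (mem_centralizer_singleton_iff.1 (hKC (k : ↥K).2))
      ((hφ _).1 k.2)
    have hx : x ^ i ∈ zpowers x ⊓ K := mem_inf.2 ⟨npow_mem_zpowers x i, by
      rw [show x ^ i = a⁻¹ * ((k : ↥K) : G) by rw [hi, inv_mul_cancel_left]]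
      exact mul_mem (inv_mem (hBK ha)) (k : ↥K).2⟩
    rw [hprod.2.2.2.1, mem_bot] at hx
    rwa [hi, hx, mul_one]
  have h := φK.ker.card_mul_index
  rw [Subgroup.index_ker, hK] at h
  have h168 : 168 ≤ Nat.card ↥φK.range := by
    by_contra hlt
    push Not at hlt
    have := Nat.mul_le_mul hker (Nat.le_pred_of_lt hlt)
    rw [h] at this
    norm_num at this
  have hle : Nat.card ↥φK.range ≤ Nat.card ↥φ.range :=
    card_le_of_le (by rintro _ ⟨k, rfl⟩; exact ⟨_, rfl⟩)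
  have hle' : Nat.card ↥φ.range ≤ 168 := by
    rw [← CfsgLib.Spor.MonsterType.Seven.sl_card]
    exact Nat.card_le_card_of_injective _ φ.range.subtype_injective
  rw [CfsgLib.Spor.MonsterType.Seven.sl_card]
  omega

theorem centralizer_le_H : centralizer (c.Pe : Set G) ≤ c.H := fun _ hg =>
  mem_centralizer_singleton_iff.2 (mem_centralizer_iff.1 hg z (c.z_mem_lift _)).symm

theorem centralizer_le : centralizer (c.Pe : Set G) ≤ normalizer (c.Pe : Set G) := centralizer_le_normalizer _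

theorem card_centralizer : Nat.card ↥(centralizer (c.Pe : Set G)) = 2 ^ 15 * 120 := by
  obtain ⟨φ, hs, hφ⟩ := q.exists_action
  have hker : φ.ker = (centralizer (c.Pe : Set G)).subgroupOf (normalizer (c.Pe : Set G)) := by
    ext g; rw [MonoidHom.mem_ker, hφ, mem_subgroupOf]
  have h := φ.ker.card_mul_index
  rw [Subgroup.index_ker, MonoidHom.range_eq_top.2 hs, Subgroup.card_top, CfsgLib.Spor.MonsterType.Seven.sl_card,
    hker, Nat.card_congr (subgroupOfEquivOfLe q.centralizer_le).toEquiv, q.card_normalizer] at h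
  omega

theorem act_fixed {g : G} (hg : g ∈ centralizer (c.Pe : Set G)) {v : c.Vs} (hv : v ∈ c.KR) : c.act g v = v := by
  obtain ⟨a, ha, rfl⟩ := c.pv_surj v
  rw [← c.pv_conj (q.centralizer_le_H hg) ha, ← mem_centralizer_iff.1 hg a ⟨ha, hv⟩, mul_inv_cancel_right]

theorem exists_vec : ∃ v ∈ c.KR, v ≠ 0 := by
  obtain ⟨u, -, huB, hv0⟩ := q.full.base.exists_rpoint' q.split
  exact ⟨_, huB.2, hv0⟩

theorem centralizer_le_M : centralizer (c.Pe : Set G) ≤ c.M := by
  intro g hg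
  by_contra hM
  obtain ⟨v, hv, hv0⟩ := q.exists_vec
  have h := c.om_outer (q.centralizer_le_H hg) hM v
  rw [q.act_fixed hg hv, q.act_fixed hg (c.KR_om hv)] at h
  exact hv0 (c.om_fixed (c.om_injective h.symm))

theorem im_mem {g : G} (hg : g ∈ centralizer (c.Pe : Set G)) : c.im g ∈ normalizer (R : Set A) ⊓ J := by
  refine ⟨(c.mem_pre.1 (q.normalizer_inf_H.le ⟨q.centralizer_le_H hg, q.centralizer_le hg⟩)).2, ?_⟩
  obtain ⟨h, hj⟩ := c.mem_M.1 (q.centralizer_le_M hg)
  rwa [c.im_eq h]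

theorem ker_part {g : G} : g ∈ centralizer (c.Pe : Set G) ∧ c.im g = 1 ↔ g ∈ c.lift (c.perp c.KR) := by
  constructor
  · rintro ⟨hg, hi⟩
    have hgH := q.centralizer_le_H hg
    rw [c.im_eq hgH] at hi
    obtain ⟨e, he, p, hp, rfl⟩ := c.ker_decomp hgH hi
    have hpfix : ∀ v ∈ c.KR, c.act p v = v := fun v hv => by
      have h1 := q.act_fixed hg hv
      rwa [c.act_apply_mul (c.E_le he) (c.P_le_C0 hp).1, (c.act_eq_one (c.E_le he)).2 he] at h1
    obtain ⟨v, hv, hv0⟩ := q.exists_vec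
    have h := hpfix v hv
    have hp1 : p = 1 := by
      rcases c.mem_P hp with h1 | h1 | h1
      · exact h1
      · rw [h1] at h; exact absurd (c.om_fixed h) hv0
      · rw [h1, c.act_pg_inv] at h
        have e := congrArg c.om h
        rw [c.om_cube] at e
        exact absurd (c.om_fixed e.symm) hv0
    rw [hp1, mul_one] at hg ⊢
    refine ⟨he, c.mem_perp.2 fun w hw => ?_⟩
    obtain ⟨a, ha, rfl⟩ := c.pv_surj w
    exact (c.Bf_comm ha he).2 (mem_centralizer_iff.1 hg a ⟨ha, hw⟩)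
  · rintro ⟨hg, hv⟩
    exact ⟨mem_centralizer_iff.2 fun a ha => (c.Bf_comm ha.1 hg).1 (c.mem_perp.1 hv _ ha.2), c.im_E hg⟩

theorem card_perp_KR : Nat.card ↥(c.perp c.KR) = 2 ^ 10 := by
  have h := c.card_perp c.KR
  rw [c.card_KR] at h
  omega

/-- The map onto the symmetric group of degree five. -/
theorem exists_psi : ∃ ψ : ↥(centralizer (c.Pe : Set G)) →* Equiv.Perm (Fin 5),
    Function.Surjective ψ ∧ ∀ g : ↥(centralizer (c.Pe : Set G)), ψ g = 1 ↔ (g : G) ∈ c.Pl := by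
  classical
  haveI := c.finite_A
  obtain ⟨f, hfs, hfk⟩ := q.quot
  let ω : ↥(centralizer (c.Pe : Set G)) →* A := c.pr.comp (Subgroup.inclusion q.centralizer_le_H)
  have hω : ∀ g : ↥(centralizer (c.Pe : Set G)), ω g = c.im (g : G) := fun g => (c.im_eq _).symm
  have hle : ω.range ≤ normalizer (R : Set A) ⊓ J := by
    rintro _ ⟨g, rfl⟩; rw [hω]; exact q.im_mem g.2
  have hker : Nat.card ↥ω.ker = 2 ^ 11 := by
    rw [show (2 : ℕ) ^ 11 = 2 * 2 ^ 10 by norm_num, ← q.card_perp_KR, ← c.card_lift]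
    refine Nat.card_congr
      { toFun := fun g => ⟨((g : ↥(centralizer (c.Pe : Set G))) : G),
          q.ker_part.1 ⟨(g : ↥(centralizer (c.Pe : Set G))).2, (hω _).symm.trans g.2⟩⟩
        invFun := fun e => ⟨⟨e, (q.ker_part.2 e.2).1⟩, (hω _).trans (q.ker_part.2 e.2).2⟩
        left_inv := fun g => rfl
        right_inv := fun e => rfl }
  have heq : ω.range = normalizer (R : Set A) ⊓ J := by
    refine eq_of_le_of_card_ge hle ?_
    have h := ω.ker.card_mul_index
    rw [Subgroup.index_ker, hker, q.card_centralizer] at h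
    rw [q.full.card_NR]
    omega
  let ω' : ↥(centralizer (c.Pe : Set G)) →* ↥(normalizer (R : Set A) ⊓ J) :=
    ω.codRestrict _ fun g => hle ⟨g, rfl⟩
  have hω's : Function.Surjective ω' := by
    rintro ⟨a, ha⟩
    obtain ⟨g, rfl⟩ := heq.ge ha
    exact ⟨g, rfl⟩
  refine ⟨f.comp ω', hfs.comp hω's, fun g => ?_⟩
  rw [MonoidHom.comp_apply, ← MonoidHom.mem_ker, hfk, mem_subgroupOf, Pl, mem_inf, c.mem_pre]
  show ω g ∈ R ↔ _
  rw [hω]
  exact ⟨fun h => ⟨⟨q.centralizer_le_H g.2, h⟩, g.2⟩, fun h => h.1.2⟩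

theorem Pl_le : c.Pl ≤ centralizer (c.Pe : Set G) := inf_le_right

theorem Pl_le_H : c.Pl ≤ c.H := inf_le_left.trans (c.pre_le _)

theorem card_Pl : Nat.card ↥c.Pl = 2 ^ 15 := by
  obtain ⟨ψ, hs, hψ⟩ := q.exists_psi
  have hker : ψ.ker = c.Pl.subgroupOf (centralizer (c.Pe : Set G)) := by
    ext g; rw [MonoidHom.mem_ker, hψ, mem_subgroupOf]
  have h := ψ.ker.card_mul_index
  rw [Subgroup.index_ker, MonoidHom.range_eq_top.2 hs, Subgroup.card_top, Nat.card_perm, Nat.card_fin, hker,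
    Nat.card_congr (subgroupOfEquivOfLe q.Pl_le).toEquiv, q.card_centralizer] at h
  rw [show Nat.factorial 5 = 120 from rfl] at h
  omega

theorem Pl_two : IsPGroup 2 ↥c.Pl := IsPGroup.of_card (n := 15) q.card_Pl

theorem Pe_le_Pl : c.Pe ≤ c.Pl := fun a ha =>
  ⟨c.mem_pre.2 ⟨c.E_le ha.1, by rw [c.im_E ha.1]; exact one_mem _⟩,
    mem_centralizer_iff.2 fun _ hb => q.comm_Pe hb ha⟩

/-- The normalizer of the eight-group keeps the group of order `2 ^ 15`. -/
theorem normalizer_le : normalizer (c.Pe : Set G) ≤ normalizer (c.Pl : Set G) := by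
  intro g hg
  obtain ⟨ψ, hs, hψ⟩ := q.exists_psi
  have hC : ∀ h ∈ normalizer (c.Pe : Set G), ∀ t ∈ centralizer (c.Pe : Set G),
      h * t * h⁻¹ ∈ centralizer (c.Pe : Set G) := fun h hh t ht => mem_centralizer_iff.2 fun a ha => by
    have h' := mem_centralizer_iff.1 ht _ ((mem_normalizer_iff''.1 hh a).1 ha)
    calc a * (h * t * h⁻¹) = h * ((h⁻¹ * a * h) * t) * h⁻¹ := by group
      _ = h * (t * (h⁻¹ * a * h)) * h⁻¹ := by rw [h']
      _ = _ := by group
  refine mem_normalizer_of_maps fun a ha => ?_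
  let T : Subgroup (Equiv.Perm (Fin 5)) :=
    ((c.Pl.map (MulAut.conj g).toMonoidHom).subgroupOf (centralizer (c.Pe : Set G))).map ψ
  have hTn : ∀ τ : Equiv.Perm (Fin 5), ∀ σ ∈ T, τ * σ * τ⁻¹ ∈ T := by
    rintro τ _ ⟨t, ht, rfl⟩
    obtain ⟨l, hl, hlt⟩ := ht
    obtain ⟨k, rfl⟩ := hs τ
    refine ⟨k * t * k⁻¹, ⟨g⁻¹ * k * g * l * (g⁻¹ * k * g)⁻¹, ?_, ?_⟩, by rw [map_mul, map_mul, map_inv]⟩
    · have hk' : g⁻¹ * (k : G) * g ∈ centralizer (c.Pe : Set G) := by
        have := hC g⁻¹ (inv_mem hg) k k.2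
        rwa [inv_inv] at this
      exact (hψ ⟨_, mul_mem (mul_mem hk' (q.Pl_le hl)) (inv_mem hk')⟩).1 (by
        rw [show (⟨_, mul_mem (mul_mem hk' (q.Pl_le hl)) (inv_mem hk')⟩ : ↥(centralizer (c.Pe : Set G))) =
          ⟨_, hk'⟩ * ⟨l, q.Pl_le hl⟩ * ⟨_, hk'⟩⁻¹ from rfl, map_mul, map_mul, map_inv,
          (hψ ⟨l, q.Pl_le hl⟩).2 hl, mul_one, mul_inv_cancel])
    · show g * (g⁻¹ * (k : G) * g * l * (g⁻¹ * (k : G) * g)⁻¹) * g⁻¹ = (k : G) * t * (k : G)⁻¹
      rw [show (t : G) = g * l * g⁻¹ from hlt.symm]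
      group
  have hT2 : ∀ σ ∈ T, ∃ k : ℕ, σ ^ 2 ^ k = 1 := by
    rintro _ ⟨t, ht, rfl⟩
    obtain ⟨l, hl, hlt⟩ := ht
    obtain ⟨k, hk⟩ := q.Pl_two ⟨l, hl⟩
    refine ⟨k, ?_⟩
    rw [← map_pow, show t ^ 2 ^ k = 1 from Subtype.ext (by
      rw [SubgroupClass.coe_pow]
      show (t : G) ^ 2 ^ k = 1
      rw [show (t : G) = g * l * g⁻¹ from hlt.symm, conj_pow, show l ^ 2 ^ k = 1 from congrArg Subtype.val hk,
        mul_one, mul_inv_cancel]), map_one]
  have hbot := perm_five_two_normal hTn hT2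
  have hm : ψ ⟨g * a * g⁻¹, hC g hg a (q.Pl_le ha)⟩ ∈ T := ⟨_, ⟨a, ha, rfl⟩, rfl⟩
  rw [hbot, mem_bot] at hm
  exact (hψ _).1 hm

end PentadCtx

end CfsgLib.Spor.JFourType.Ctx
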