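import Cfsg.Agent.Lib.Spor.JFourType.PentadGroup
import Cfsg.Agent.Lib.Spor.JFourType.FiveNonsplit

/-!
# No subgroup of order 168 in the centralizer of an element of order five misses the eight-group

A reformulation of the non-split extension used for the pentad subgroup.
-/

set_option autoImplicit false
set_option linter.style.haveILetI false

namespace CfsgLib.Spor.JFourType.Ctx

open Subgroup

universe u

variable {G : Type u} [Group G] [Finite G] {A : Type} [Group A] {J I R : Subgroup A}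
  {z : G} {P : Subgroup G} {c : Ctx J I R z P} {x n s : G}

theorem FiveFull.no_sl_subgroup (f : c.FiveFull x n s) (hS : c.Split)
    {h₀ : G} (hh₀ : h₀ ∈ c.C0) (hxI : c.im (h₀⁻¹ * x * h₀) ∈ normalizer (I : Set A))
    (hw : ∃ w ∈ closure ((fun i => c.im h₀ * i * (c.im h₀)⁻¹) '' (I : Set A) ∪
      (fun i => c.im s * (c.im h₀ * i * (c.im h₀)⁻¹) * (c.im s)⁻¹) '' (I : Set A)), orderOf w = 7)
    (hI : ∃ i ∈ I, c.im h₀ * i * (c.im h₀)⁻¹ ∉ normalizer (R : Set A))
    (S : Subgroup G) (hSC : S ≤ centralizer ({x} : Set G)) (hdis : S ⊓ c.Pe = ⊥) : Nat.card ↥S ≠ 168 := by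
  intro hS168
  obtain ⟨K, hBK, hprod, hKC, hK, -, hmem, -⟩ := f.exists_core hS
  have hSK : S ≤ K := fun g hg => hmem g (hSC hg) (Nat.Coprime.coprime_dvd_left
    (hS168 ▸ (Subgroup.orderOf_mk g hg ▸ orderOf_dvd_natCard (⟨g, hg⟩ : ↥S))) (by norm_num))
  refine f.nonsplit hS hh₀ hxI hw hI hBK hprod hKC hmem (S.subgroupOf K)
    (Subgroup.isComplement'_of_card_mul_and_disjoint ?_ ?_)
  · rw [Nat.card_congr (subgroupOfEquivOfLe hBK).toEquiv, Nat.card_congr (subgroupOfEquivOfLe hSK).toEquiv,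
      FiveFull.card_lift_KR, hS168, hK]
  · rw [disjoint_iff, eq_bot_iff]
    rintro g ⟨hgB, hgS⟩
    have hg : (g : G) ∈ S ⊓ c.Pe := ⟨hgS, hgB⟩
    rw [hdis, mem_bot] at hg
    exact mem_bot.2 (Subtype.ext hg)

end CfsgLib.Spor.JFourType.Ctx
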