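import Cfsg.Agent.Lib.Spor.JFourType.PentadQuot
import Cfsg.Agent.Lib.Spor.JFourType.OctadSplit
import Cfsg.Agent.Lib.Spor.JFourType.LocalThree
import Cfsg.Agent.Lib.Coprime.Action

/-!
# Subgroups of the pentad subgroup

Given the orders of the centralizer and the normalizer of a subgroup of order seven, it contains the normalizers of
Sylow subgroups for five and seven, a symmetric group of degree five and, inside the centralizer of an element of order
three of the latter, an `SL₃(2)`.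
-/

set_option autoImplicit false
set_option linter.style.haveILetI false

namespace CfsgLib.Spor.JFourType.Ctx

open Subgroup

universe u

variable {G : Type u} [Group G] [Finite G] {A : Type} [Group A] {J I R : Subgroup A}
  {z : G} {P : Subgroup G}

omit [Finite G] in
/-- The elements commuting with all powers. -/
theorem centralizer_zpowers' (w : G) : centralizer (zpowers w : Set G) = centralizer ({w} : Set G) := by
  rw [zpowers_eq_closure, centralizer_closure]

variable {c : Ctx J I R z P} {x n s : G}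

namespace PentadCtx

variable (q : c.PentadCtx x n s)
include q

/-- A subgroup of odd prime order centralizing the quotient by the group of order `2 ^ 15` has fixed lifts. -/
theorem exists_fixed_lift {w g : G} {p : ℕ} (hp : p.Prime) (hp2 : p ≠ 2) (hw : orderOf w = p)
    (hwL : w ∈ normalizer (c.Pl : Set G)) (hg : g ∈ normalizer (c.Pl : Set G))
    (hfix : w * g * w⁻¹ * g⁻¹ ∈ c.Pl) : ∃ a ∈ c.Pl, g * a ∈ centralizer ({w} : Set G) := by
  have hall : ∀ b ∈ zpowers w, b * g * b⁻¹ * g⁻¹ ∈ c.Pl := by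
    intro b hb
    obtain ⟨k, rfl⟩ := mem_powers_iff_mem_zpowers.2 hb
    show w ^ k * g * (w ^ k)⁻¹ * g⁻¹ ∈ c.Pl
    induction k with
    | zero => simp
    | succ k ih =>
      rw [show w ^ (k + 1) * g * (w ^ (k + 1))⁻¹ * g⁻¹ =
        w * (w ^ k * g * (w ^ k)⁻¹ * g⁻¹) * w⁻¹ * (w * g * w⁻¹ * g⁻¹) by rw [pow_succ']; group]
      exact mul_mem ((mem_normalizer_iff.1 hwL _).1 (ih (npow_mem_zpowers w k))) hfix
  have hsol : Group.IsSolvable ↥(zpowers w) := by
    haveI : IsMulCommutative ↥(zpowers w) := inferInstance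
    exact Group.isSolvable_of_comm fun a b => mul_comm' a b
  obtain ⟨a, ha, hga⟩ := CfsgLib.Coprime.exists_fixed_in_coset (A := zpowers w) (N := c.Pl) (zpowers_le.2 hwL)
    (by
      rw [Nat.card_zpowers, hw, q.card_Pl]
      exact Nat.Coprime.pow_right 15 ((Nat.coprime_primes hp Nat.prime_two).2 hp2))
    (Or.inl hsol) hg hall
  exact ⟨a, ha, by rwa [centralizer_zpowers'] at hga⟩

theorem factorization_N {p : ℕ} (hp : p.Prime) (h : Nat.card ↥(normalizer (c.Pl : Set G)) = 2 ^ 15 * 20160)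
    (hd : p ∣ 20160) (hd2 : ¬ p ^ 2 ∣ 2 ^ 15 * 20160) :
    (Nat.card ↥(normalizer (c.Pl : Set G))).factorization p = 1 := by
  have h1 := (hp.dvd_iff_one_le_factorization Nat.card_pos.ne').1 (h ▸ Dvd.dvd.mul_left hd _)
  by_contra hne
  exact hd2 (h ▸ (hp.pow_dvd_iff_le_factorization Nat.card_pos.ne').2 (by omega))

theorem card_N : Nat.card ↥(normalizer (c.Pl : Set G)) = 2 ^ 15 * 20160 := by
  rw [q.normalizer_eq, q.card_normalizer]
  norm_num

/-- The fixed points of the element of order seven in the centralizer of the eight-group. -/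
theorem seven_parts {w : G} (hwx : w * x = x * w) (ho : orderOf w = 7)
    (h840 : Nat.card ↥(centralizer ({w} : Set G)) = 840) :
    (∀ a ∈ c.Pl, w * a = a * w → a = 1) ∧
    Nonempty (↥(centralizer ({w} : Set G) ⊓ centralizer (c.Pe : Set G)) ≃* Equiv.Perm (Fin 5)) ∧
    centralizer ({w} : Set G) ≤ normalizer (c.Pl : Set G) := by
  classical
  haveI : Fact (Nat.Prime 2) := ⟨Nat.prime_two⟩
  have hwZ := q.seven_mem_Pz hwx (ho ▸ pow_orderOf_eq_one w)
  obtain ⟨ψ, hs, hψ⟩ := q.exists_psi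
  set I' := centralizer ({w} : Set G) ⊓ centralizer (c.Pe : Set G) with hI
  let ψ' : ↥I' →* Equiv.Perm (Fin 5) := ψ.comp (Subgroup.inclusion inf_le_right)
  have hs' : Function.Surjective ψ' := by
    intro σ
    obtain ⟨t, rfl⟩ := hs σ
    obtain ⟨a, ha, hta⟩ := q.exists_fixed_lift (by norm_num : Nat.Prime 7) (by norm_num) ho (mem_Pz.1 hwZ).1.2
      (q.normalizer_le (q.centralizer_le t.2)) ((mem_Pz.1 hwZ).2 t t.2)
    refine ⟨⟨(t : G) * a, hta, mul_mem t.2 (q.Pl_le ha)⟩, ?_⟩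
    show ψ (t * ⟨a, q.Pl_le ha⟩) = ψ t
    rw [map_mul, (hψ ⟨a, q.Pl_le ha⟩).2 ha, mul_one]
  have h := ψ'.ker.card_mul_index
  rw [Subgroup.index_ker, MonoidHom.range_eq_top.2 hs', Subgroup.card_top, Nat.card_perm, Nat.card_fin,
    show Nat.factorial 5 = 120 from rfl] at h
  have hk : Nat.card ↥ψ'.ker ∣ 2 ^ 15 := by
    rw [← q.card_Pl]
    exact Subgroup.card_dvd_of_injective (f := (((Subgroup.subtype I').comp ψ'.ker.subtype).codRestrict c.Pl
      fun k => (hψ _).1 k.2)) fun a b hab => Subtype.ext (Subtype.ext (congrArg Subtype.val hab :))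
  have hd := card_dvd_of_le (inf_le_left : I' ≤ centralizer ({w} : Set G))
  rw [h840, ← h, show (840 : ℕ) = 7 * 120 from rfl] at hd
  have hk1 : Nat.card ↥ψ'.ker = 1 :=
    Nat.eq_one_of_dvd_coprimes (by norm_num : Nat.Coprime 7 (2 ^ 15)) (Nat.dvd_of_mul_dvd_mul_right (by norm_num) hd) hk
  have hinj : Function.Injective ψ' := (MonoidHom.ker_eq_bot_iff _).1 (Subgroup.card_eq_one.1 hk1)
  refine ⟨fun a ha hwa => ?_, ⟨MulEquiv.ofBijective ψ' ⟨hinj, hs'⟩⟩, ?_⟩
  · have haI : a ∈ I' := ⟨mem_centralizer_singleton_iff.2 hwa.symm, q.Pl_le ha⟩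
    have h1 : (⟨a, haI⟩ : ↥I') = 1 := hinj (by rw [map_one]; exact (hψ _).2 ha)
    exact congrArg Subtype.val h1
  · have hle : I' ≤ centralizer ({w} : Set G) ⊓ normalizer (c.Pl : Set G) :=
      le_inf inf_le_left (inf_le_right.trans (q.centralizer_le.trans q.normalizer_le))
    have h120 : 120 ∣ Nat.card ↥(centralizer ({w} : Set G) ⊓ normalizer (c.Pl : Set G)) := by
      have := card_dvd_of_le hle
      rwa [← h, hk1, one_mul] at this
    have h7 : 7 ∣ Nat.card ↥(centralizer ({w} : Set G) ⊓ normalizer (c.Pl : Set G)) := by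
      rw [← ho, ← Nat.card_zpowers]
      exact card_dvd_of_le (zpowers_le.2 ⟨mem_centralizer_singleton_iff.2 rfl, (mem_Pz.1 hwZ).1.2⟩)
    have he := eq_of_le_of_card_ge (inf_le_left : centralizer ({w} : Set G) ⊓ normalizer (c.Pl : Set G) ≤ _) (by
      rw [h840]
      exact Nat.le_of_dvd Nat.card_pos (Nat.Coprime.mul_dvd_of_dvd_of_dvd (by norm_num) h7 h120 : 7 * 120 ∣ _))
    exact he.ge.trans inf_le_right

/-- The normalizer of a Sylow 7-subgroup. -/
theorem seven_normalizer {w : G} (hwx : w * x = x * w) (ho : orderOf w = 7)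
    (h840 : Nat.card ↥(centralizer ({w} : Set G)) = 840)
    (h2520 : Nat.card ↥(normalizer (zpowers w : Set G)) = 2520) :
    normalizer (zpowers w : Set G) ≤ normalizer (c.Pl : Set G) := by
  classical
  haveI : Fact (Nat.Prime 7) := ⟨by norm_num⟩
  set N := normalizer (c.Pl : Set G) with hN
  obtain ⟨-, -, hCN⟩ := q.seven_parts hwx ho h840
  set M₁ := normalizer (zpowers w : Set G) ⊓ N with hM
  have hwN : w ∈ N := hCN (mem_centralizer_singleton_iff.2 rfl)
  have hCM : centralizer ({w} : Set G) ≤ M₁ :=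
    le_inf (by rw [← centralizer_zpowers']; exact centralizer_le_normalizer _) hCN
  have h1 := card_dvd_of_le hCM
  have h2 := card_dvd_of_le (inf_le_left : M₁ ≤ normalizer (zpowers w : Set G))
  rw [h840] at h1
  rw [h2520] at h2
  obtain ⟨k, hk⟩ := h1
  rw [hk] at h2
  have hk3 : k ∣ 3 := Nat.dvd_of_mul_dvd_mul_left (by norm_num : 0 < 840) h2
  rcases (Nat.dvd_prime Nat.prime_three).1 hk3 with rfl | rfl
  · exfalso
    let S : Sylow 7 ↥N := Sylow.ofCard ((zpowers w).subgroupOf N) (by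
      rw [q.factorization_N (by norm_num) q.card_N (by norm_num) (by norm_num), pow_one,
        Nat.card_congr (subgroupOfEquivOfLe (zpowers_le.2 hwN)).toEquiv, Nat.card_zpowers, ho])
    have hS : Nat.card ↥(normalizer ((S : Subgroup ↥N) : Set ↥N)) = 840 := by
      rw [mul_one] at hk
      have e : normalizer ((S : Subgroup ↥N) : Set ↥N) = M₁.subgroupOf N := by
        ext g
        rw [Sylow.coe_ofCard, mem_subgroupOf, hM, mem_inf]
        refine ⟨fun hg => ⟨mem_normalizer_zpowers ?_, g.2⟩, fun hg => ?_⟩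
        · exact (mem_normalizer_iff.1 hg ⟨w, hwN⟩).1 (mem_zpowers w)
        · exact mem_normalizer_iff.2 fun a => mem_normalizer_iff.1 hg.1 (a : G)
      rw [e, Nat.card_congr (subgroupOfEquivOfLe inf_le_right).toEquiv, ← hk]
    have h3 := (normalizer ((S : Subgroup ↥N) : Set ↥N)).card_mul_index
    have h5 : Nat.card (Sylow 7 ↥N) = (normalizer ((S : Subgroup ↥N) : Set ↥N)).index :=
      Sylow.card_eq_index_normalizer S
    rw [hS, ← h5, q.card_N] at h3
    have h4 : Nat.card (Sylow 7 ↥N) % 7 = 1 := card_sylow_modEq_one 7 ↥N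
    omega
  · exact (eq_of_le_of_card_ge inf_le_left (by rw [h2520, hk])).ge.trans inf_le_right

/-- The subgroup `SL₃(2)`. -/
theorem exists_sl {w : G} (hwx : w * x = x * w) (ho : orderOf w = 7)
    (h840 : Nat.card ↥(centralizer ({w} : Set G)) = 840) :
    ∃ K : Subgroup G, K ≤ normalizer (c.Pl : Set G) ∧
      Nonempty (↥K ≃* Matrix.SpecialLinearGroup (Fin 3) (ZMod 2)) := by
  classical
  haveI := c.finite_A
  haveI : Fact (Nat.Prime 3) := ⟨Nat.prime_three⟩
  haveI : Fact (Nat.Prime 2) := ⟨Nat.prime_two⟩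
  have hwZ := q.seven_mem_Pz hwx (ho ▸ pow_orderOf_eq_one w)
  obtain ⟨hfree, ⟨ι⟩, -⟩ := q.seven_parts hwx ho h840
  -- an element of order three
  obtain ⟨t', ht'⟩ := exists_prime_orderOf_dvd_card'
    (G := ↥(centralizer ({w} : Set G) ⊓ centralizer (c.Pe : Set G))) 3
    (by rw [Nat.card_congr ι.toEquiv, Nat.card_perm, Nat.card_fin]; decide)
  rw [← Subgroup.orderOf_coe] at ht'
  set t : G := (t' : G) with htdef
  have htw : t * w = w * t := mem_centralizer_singleton_iff.1 t'.2.1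
  have htC : t ∈ centralizer (c.Pe : Set G) := t'.2.2
  have htN : t ∈ normalizer (c.Pl : Set G) := q.normalizer_le (q.centralizer_le htC)
  have ht3 : t ^ 3 = 1 := ht' ▸ pow_orderOf_eq_one t
  obtain ⟨g, hg⟩ := isConj_iff.1 (c.isConj_three q.split c.ord_pg ht')
  -- its centralizer among the elements centralizing the quotient
  set Zt := c.Pz ⊓ centralizer ({t} : Set G) with hZt
  have hwZt : w ∈ Zt := ⟨hwZ, mem_centralizer_singleton_iff.2 htw.symm⟩
  obtain ⟨Φ, hΦs, hΦ, hΦ1, hΦ2⟩ := q.exists_quot_hom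
  let ρ : ↥Zt →* Matrix.SpecialLinearGroup (Fin 3) (ZMod 2) := (MonoidHom.snd _ _).comp
    (Φ.comp (Subgroup.inclusion fun a ha => (mem_Pz.1 (mem_inf.1 ha).1).1.2))
  have hρ : ∀ a : ↥Zt, ρ a = 1 ↔ (a : G) ∈ centralizer (c.Pe : Set G) := fun a => hΦ2 _
  have hρs : Function.Surjective ρ := by
    intro m
    obtain ⟨p, hp⟩ := hΦs (1, m)
    have hpZ : (p : G) ∈ c.Pz := (hΦ1 p).1 (by rw [hp])
    have hfix : t * (p : G) * t⁻¹ * (p : G)⁻¹ ∈ c.Pl := by
      have := inv_mem ((mem_Pz.1 hpZ).2 t htC)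
      rwa [show ((p : G) * t * (p : G)⁻¹ * t⁻¹)⁻¹ = t * (p : G) * t⁻¹ * (p : G)⁻¹ by group] at this
    obtain ⟨a, ha, hpa⟩ := q.exists_fixed_lift Nat.prime_three (by norm_num) ht' htN p.2 hfix
    refine ⟨⟨(p : G) * a, mul_mem hpZ (q.Pz_inf.2 ha).1, hpa⟩, ?_⟩
    show (Φ (p * ⟨a, le_normalizer ha⟩)).2 = m
    rw [map_mul, (hΦ ⟨a, le_normalizer ha⟩).2 ha, mul_one, hp]
  -- its map into the simple group
  have hconjC : ∀ a ∈ Zt, g⁻¹ * a * g ∈ c.C0 := by
    intro a ha
    rw [← c.centralizer_P_eq q.split, c.centralizer_P, mem_centralizer_singleton_iff]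
    have h := mem_centralizer_singleton_iff.1 ha.2
    have hpg : c.pg = g⁻¹ * t * g := by rw [← hg]; group
    rw [hpg]
    calc g⁻¹ * a * g * (g⁻¹ * t * g) = g⁻¹ * (a * t) * g := by group
      _ = g⁻¹ * (t * a) * g := by rw [h]
      _ = _ := by group
  let θ : ↥Zt →* ↥J := MonoidHom.mk' (fun a => ⟨c.im (g⁻¹ * a * g), c.im_C0 (hconjC a a.2)⟩) fun a b => Subtype.ext (by
    show c.im (g⁻¹ * ((a : G) * b) * g) = c.im (g⁻¹ * a * g) * c.im (g⁻¹ * b * g)
    rw [← c.im_mul (hconjC a a.2).1 (hconjC b b.2).1]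
    congr 1
    group)
  have hθ : Function.Injective θ := by
    refine (injective_iff_map_eq_one _).2 fun a ha => ?_
    have haC := hconjC a a.2
    have hi : c.im (g⁻¹ * a * g) = 1 := congrArg Subtype.val ha
    rw [c.im_eq haC.1] at hi
    obtain ⟨p, hp, hd⟩ := c.ker_C0 haC hi
    have hcyc : g * p * g⁻¹ ∈ zpowers t := by
      obtain ⟨i, rfl⟩ := mem_zpowers_iff.1 (c.zpowers_pg.symm ▸ hp : p ∈ zpowers c.pg)
      exact mem_zpowers_iff.2 ⟨i, by rw [← hg, conj_zpow]⟩
    have hpCe : g * p * g⁻¹ ∈ centralizer (c.Pe : Set G) := zpowers_le.2 htC hcyc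
    have hone : ∀ b ∈ c.Pz, b ∈ zpowers t → b = 1 := by
      intro b hb hbt
      have hbL : b ∈ c.Pl := q.Pz_inf.1 ⟨hb, zpowers_le.2 htC hbt⟩
      have h3 : orderOf b ∣ 3 := ht' ▸ orderOf_dvd_of_mem_zpowers hbt
      have h2 : orderOf b ∣ 2 ^ 15 := by
        rw [← q.card_Pl, ← Subgroup.orderOf_mk b hbL]; exact orderOf_dvd_natCard _
      exact orderOf_eq_one_iff.1 (Nat.eq_one_of_dvd_coprimes (by norm_num) h3 h2)
    refine Subtype.ext ?_
    rcases hd with hd | hd
    · have e : (a : G) = g * p * g⁻¹ := by rw [← hd]; group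
      exact hone a a.2.1 (e ▸ hcyc)
    · exfalso
      set z' := g * z * g⁻¹ with hz'
      have e : (a : G) = z' * (g * p * g⁻¹) := by
        rw [hz', show g * z * g⁻¹ * (g * p * g⁻¹) = g * (z * p) * g⁻¹ by group, ← hd]; group
      have hz2 : z' * z' = 1 := by
        rw [hz', show g * z * g⁻¹ * (g * z * g⁻¹) = g * (z * z) * g⁻¹ by group, c.zz, mul_one, mul_inv_cancel]
      have hcz : ∀ b ∈ Zt, z' * b = b * z' := fun b hb => by
        have h := c.comm_z (hconjC b hb).1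
        calc z' * b = g * (z * (g⁻¹ * b * g)) * g⁻¹ := by rw [hz']; group
          _ = g * ((g⁻¹ * b * g) * z) * g⁻¹ := by rw [h]
          _ = _ := by rw [hz']; group
      have hp3 : (g * p * g⁻¹) ^ 3 = 1 := by
        obtain ⟨i, hi⟩ := mem_zpowers_iff.1 hcyc
        rw [← hi, ← zpow_natCast, ← zpow_mul, mul_comm, zpow_mul, zpow_natCast, ht3, one_zpow]
      have htZ : t * z' = z' * t := by
        have h := c.comm_z (c.pg_H)
        rw [← hg, hz']
        calc g * c.pg * g⁻¹ * (g * z * g⁻¹) = g * (c.pg * z) * g⁻¹ := by group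
          _ = g * (z * c.pg) * g⁻¹ := by rw [h]
          _ = _ := by group
      have hcomm : Commute z' (g * p * g⁻¹) := by
        obtain ⟨i, hi⟩ := mem_zpowers_iff.1 hcyc
        rw [← hi]
        exact ((show Commute t z' from htZ).zpow_left i).symm
      have hz'Zt : z' ∈ Zt := by
        have h3 : (a : G) ^ 3 = z' := by
          rw [e, hcomm.mul_pow, hp3, mul_one, pow_succ, pow_two, hz2, one_mul]
        exact h3 ▸ pow_mem a.2 3
      have hz1 : z' ≠ 1 := fun h => c.z_ne (conj_eq_one_iff.1 h)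
      have hzC : z' ∈ centralizer (c.Pe : Set G) := by
        refine (hρ ⟨z', hz'Zt⟩).1 (sl_three_two_center _ fun b => ?_)
        obtain ⟨b', rfl⟩ := hρs b
        rw [← map_mul, ← map_mul]
        exact congrArg ρ (Subtype.ext (hcz b' b'.2).symm)
      exact hz1 (hfree z' (q.Pz_inf.1 ⟨hz'Zt.1, hzC⟩) (hcz w hwZt).symm)
  -- the part in the group of order `2 ^ 15`
  set Lt := c.Pl ⊓ centralizer ({t} : Set G) with hLt
  have hBLt : c.Pe ≤ Lt :=
    le_inf q.Pe_le_Pl fun a ha => mem_centralizer_singleton_iff.2 (mem_centralizer_iff.1 htC a ha)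
  have hkerρ : ρ.ker = Lt.subgroupOf Zt := by
    ext a
    rw [MonoidHom.mem_ker, hρ, mem_subgroupOf, hLt, mem_inf]
    exact ⟨fun h => ⟨q.Pz_inf.1 ⟨a.2.1, h⟩, a.2.2⟩, fun h => q.Pl_le h.1⟩
  have hLtZ : Lt ≤ Zt := le_inf (fun a ha => (q.Pz_inf.2 (mem_inf.1 ha).1).1) inf_le_right
  obtain ⟨a, -, hLtc⟩ := (Nat.dvd_prime_pow Nat.prime_two).1 (q.card_Pl ▸ card_dvd_of_le (inf_le_left : Lt ≤ c.Pl))
  have hZc : Nat.card ↥Zt = 168 * 2 ^ a := by
    rw [← ρ.ker.card_mul_index, Subgroup.index_ker, MonoidHom.range_eq_top.2 hρs, Subgroup.card_top,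
      CfsgLib.Spor.MonsterType.Seven.sl_card, hkerρ, Nat.card_congr (subgroupOfEquivOfLe hLtZ).toEquiv, hLtc,
      mul_comm]
  have hLt8 : a = 3 := by
    have h3 : 8 ∣ 2 ^ a := by
      rw [← hLtc, ← FiveFull.card_lift_KR (c := c)]; exact card_dvd_of_le hBLt
    have ha3 : 3 ≤ a := (Nat.pow_dvd_pow_iff_le_right (by norm_num : 1 < 2)).1 (show 2 ^ 3 ∣ 2 ^ a from h3)
    have hdJ : 168 * 2 ^ a ∣ 443520 := by
      rw [← hZc, ← c.facts.card_J]; exact Subgroup.card_dvd_of_injective (f := θ) hθ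
    have ha4 : a ≤ 4 := by
      by_contra h
      exact absurd ((Nat.mul_dvd_mul_left 168 (pow_dvd_pow 2 (show 5 ≤ a by omega))).trans hdJ) (by norm_num)
    by_contra hne
    have ha : a = 4 := by omega
    -- seven acts without fixed points
    haveI : Fact (Nat.Prime 7) := ⟨by norm_num⟩
    have hwn : ∀ l ∈ Lt, w * l * w⁻¹ ∈ Lt := fun l hl =>
      ⟨(mem_normalizer_iff.1 (mem_Pz.1 hwZ).1.2 l).1 hl.1,
        (centralizer ({t} : Set G)).mul_mem ((centralizer ({t} : Set G)).mul_mem hwZt.2 hl.2)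
          ((centralizer ({t} : Set G)).inv_mem hwZt.2)⟩
    let σ : Equiv.Perm ↥Lt := Equiv.ofBijective (fun l : ↥Lt => (⟨w * l * w⁻¹, hwn l l.2⟩ : ↥Lt))
      (Finite.injective_iff_bijective.1 fun u v h => Subtype.ext
        (mul_left_cancel (mul_right_cancel (congrArg Subtype.val h :))))
    have hσ : σ ^ 7 ^ 1 = 1 := by
      refine Equiv.ext fun l => Subtype.ext ?_
      have key : ∀ k : ℕ, (((σ ^ k) l : ↥Lt) : G) = w ^ k * l * (w ^ k)⁻¹ := fun k => by
        induction k with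
        | zero => simp
        | succ k ih =>
          rw [pow_succ', Equiv.Perm.mul_apply]
          show w * (((σ ^ k) l : ↥Lt) : G) * w⁻¹ = _
          rw [ih, pow_succ']; group
      rw [key, pow_one, ← ho, pow_orderOf_eq_one]
      simp
    haveI : Fintype ↥Lt := Fintype.ofFinite _
    have h7 := Equiv.Perm.card_compl_support_modEq hσ
    have hone : σ.supportᶜ = {1} := by
      ext u
      simp only [Finset.mem_compl, Equiv.Perm.mem_support, ne_eq, not_not, Finset.mem_singleton]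
      constructor
      · intro h
        have h' : w * (u : G) * w⁻¹ = u := congrArg Subtype.val h
        exact Subtype.ext (hfree u u.2.1 (mul_inv_eq_iff_eq_mul.1 h'))
      · rintro rfl
        refine Subtype.ext ?_
        show w * ((1 : ↥Lt) : G) * w⁻¹ = ((1 : ↥Lt) : G)
        rw [OneMemClass.coe_one, mul_one, mul_inv_cancel]
    rw [hone, Finset.card_singleton, ← Nat.card_eq_fintype_card, hLtc, ha] at h7
    exact absurd h7 (by decide)
  subst hLt8
  have hLB : Lt = c.Pe :=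
    (eq_of_le_of_card_ge hBLt (by rw [hLtc, FiveFull.card_lift_KR]; norm_num)).symm
  -- into the permutations
  obtain ⟨η⟩ := c.facts.iso_J
  let Θ : ↥Zt →* Equiv.Perm Cfsg.GolayPt := (Cfsg.Spor.M22).subtype.comp (η.toMonoidHom.comp θ)
  have hΘ : Function.Injective Θ := (Cfsg.Spor.M22).subtype_injective.comp (η.injective.comp hθ)
  set K := Θ.range with hK
  set B := (c.Pe.subgroupOf Zt).map Θ with hB
  have hPeZ : c.Pe ≤ Zt := hBLt.trans hLtZ
  obtain ⟨S, hSK, hSB, hSc⟩ := exists_complement_of_perm (K := K) (B := B) (w := Θ ⟨w, hwZt⟩)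
    (by rintro _ ⟨a, rfl⟩; exact (η (θ a)).2) (by rintro _ ⟨a, -, rfl⟩; exact ⟨a, rfl⟩)
    (by
      rintro _ ⟨k, rfl⟩ _ ⟨b, hb, rfl⟩
      exact ⟨k * b * k⁻¹, (mem_normalizer_iff.1 (mem_Pz.1 k.2.1).1.1 (b : G)).1 hb, by
        rw [map_mul, map_mul, map_inv]⟩)
    (by rw [hB, ← Nat.card_congr (equivMapOfInjective _ _ hΘ).toEquiv,
      Nat.card_congr (subgroupOfEquivOfLe hPeZ).toEquiv, FiveFull.card_lift_KR])
    (by rw [hK, Nat.card_congr (MonoidHom.ofInjective hΘ).symm.toEquiv, hZc]; norm_num)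
    ⟨_, rfl⟩ (by rw [orderOf_injective Θ hΘ, ← Subgroup.orderOf_coe]; exact ho)
    (by
      rintro _ ⟨b, hb, rfl⟩ h
      rw [← map_mul, ← map_mul] at h
      have h1 : (b : G) = 1 := hfree b (q.Pe_le_Pl hb) (congrArg Subtype.val (hΘ h))
      rw [show b = 1 from Subtype.ext h1, map_one])
  set S' := S.comap Θ with hS'
  have hS'c : Nat.card ↥S' = 168 := by
    rw [← hSc]
    exact Nat.card_congr
      { toFun := fun a => ⟨Θ a, a.2⟩
        invFun := fun v => ⟨(hSK v.2).choose, by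
          show Θ _ ∈ S
          rw [(hSK v.2).choose_spec]; exact v.2⟩
        left_inv := fun a => Subtype.ext (hΘ (hSK a.2).choose_spec)
        right_inv := fun v => Subtype.ext (hSK v.2).choose_spec }
  let ρ' : ↥S' →* Matrix.SpecialLinearGroup (Fin 3) (ZMod 2) := ρ.comp S'.subtype
  have hρ' : Function.Injective ρ' := (injective_iff_map_eq_one _).2 fun a ha => by
    have hk : (a : ↥Zt) ∈ Lt.subgroupOf Zt := hkerρ ▸ MonoidHom.mem_ker.2 ha
    rw [mem_subgroupOf, hLB] at hk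
    have h0 : Θ a ∈ S ⊓ B := ⟨a.2, ⟨_, hk, rfl⟩⟩
    rw [hSB, mem_bot] at h0
    exact Subtype.ext (hΘ (h0.trans (map_one Θ).symm))
  refine ⟨S'.map Zt.subtype, fun a ha => ?_, ⟨((equivMapOfInjective S' _ Zt.subtype_injective).symm).trans
    (MulEquiv.ofBijective ρ' ((Nat.bijective_iff_injective_and_card _).2
      ⟨hρ', by rw [hS'c, CfsgLib.Spor.MonsterType.Seven.sl_card]⟩))⟩⟩
  obtain ⟨b, -, rfl⟩ := ha
  exact (mem_Pz.1 b.2.1).1.2

/-- The normalizer of the subgroup of order five. -/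
theorem five_normalizer : normalizer (zpowers x : Set G) ≤ normalizer (c.Pl : Set G) :=
  (q.full.card_normalizer q.split).2.trans q.normalizer_le

omit q in
theorem exists_sylow {B : Type*} [Group B] [Finite B] {p : ℕ} [hp : Fact p.Prime] {w : B} (hw : orderOf w = p)
    (h2 : ¬ p ^ 2 ∣ Nat.card B) : ∃ S : Sylow p B, (S : Subgroup B) = zpowers w := by
  refine ⟨Sylow.ofCard (zpowers w) ?_, Sylow.coe_ofCard _ _⟩
  have h1 := (hp.out.dvd_iff_one_le_factorization Nat.card_pos.ne').1 (hw ▸ orderOf_dvd_natCard w)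
  have h3 : ¬ 2 ≤ (Nat.card B).factorization p := fun h =>
    h2 ((hp.out.pow_dvd_iff_le_factorization Nat.card_pos.ne').2 h)
  rw [Nat.card_zpowers, hw, show (Nat.card B).factorization p = 1 by omega, pow_one]

/-- All the parts together, given the facts on order seven. -/
theorem pentad (hns : ∀ S : Subgroup G, S ≤ centralizer ({x} : Set G) → S ⊓ c.Pe = ⊥ → Nat.card ↥S ≠ 168)
    (h49 : ¬ 49 ∣ Nat.card G)
    (h7 : ∀ w : G, orderOf w = 7 → Nat.card ↥(centralizer ({w} : Set G)) = 840 ∧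
      Nat.card ↥(normalizer (zpowers w : Set G)) = 2520) :
    ∃ L : Subgroup G, Cfsg.IsSpecial 2 ↥L ∧ Nat.card ↥L = 2 ^ 15 ∧ Nat.card ↥(Subgroup.center ↥L) = 8 ∧
    Nonempty (↥(normalizer (L : Set G)) ⧸ L.subgroupOf (normalizer (L : Set G)) ≃*
      Equiv.Perm (Fin 5) × Matrix.SpecialLinearGroup (Fin 3) (ZMod 2)) ∧
    (∀ K : Subgroup ↥(normalizer (L : Set G)), ¬ (L.subgroupOf (normalizer (L : Set G))).IsComplement' K) ∧
    (∃ K₁ : Subgroup G, K₁ ≤ normalizer (L : Set G) ∧ Nonempty (↥K₁ ≃* Equiv.Perm (Fin 5))) ∧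
    (∃ K₂ : Subgroup G, K₂ ≤ normalizer (L : Set G) ∧
      Nonempty (↥K₂ ≃* Matrix.SpecialLinearGroup (Fin 3) (ZMod 2))) ∧
    (∃ Q : Sylow 5 G, normalizer ((Q : Subgroup G) : Set G) ≤ normalizer (L : Set G)) ∧
    (∃ S : Sylow 7 G, normalizer ((S : Subgroup G) : Set G) ≤ normalizer (L : Set G)) := by
  haveI : Fact (Nat.Prime 5) := ⟨by norm_num⟩
  haveI : Fact (Nat.Prime 7) := ⟨by norm_num⟩
  obtain ⟨w, hwx, hw7, hwC⟩ := q.exists_seven
  have ho : orderOf w = 7 := orderOf_eq_prime hw7 fun h => hwC (h ▸ one_mem _)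
  obtain ⟨h840, h2520⟩ := h7 w ho
  obtain ⟨-, hS5, -⟩ := q.seven_parts hwx ho h840
  obtain ⟨Q5, hQ5⟩ := exists_sylow q.full.base.ord_x
    (by rw [show (5 : ℕ) ^ 2 = 25 from rfl]; exact q.full.not_dvd q.split)
  obtain ⟨S7, hS7⟩ := exists_sylow ho (by rw [show (7 : ℕ) ^ 2 = 49 from rfl]; exact h49)
  refine ⟨c.Pl, q.special, q.card_Pl, q.card_center_Pl, q.quot_iso, q.no_complement hns,
    ⟨_, inf_le_right.trans (q.centralizer_le.trans q.normalizer_le), hS5⟩, q.exists_sl hwx ho h840,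
    ⟨Q5, by rw [hQ5]; exact q.five_normalizer⟩, ⟨S7, by rw [hS7]; exact q.seven_normalizer hwx ho h840 h2520⟩⟩

end PentadCtx

end CfsgLib.Spor.JFourType.Ctx
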