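import Cfsg.Agent.Lib.Spor.JFourType.PentadSpecial
import Cfsg.Agent.Lib.Classical.SLBasic

/-!
# The quotient by the group of order `2 ^ 15`

An element of order seven of the centralizer of `x` centralizes the quotient isomorphic to the symmetric group of
degree five, so the quotient is a direct product with `SL₃(2)`; the group has no complement.
-/

set_option autoImplicit false
set_option linter.style.haveILetI false

namespace CfsgLib.Spor.JFourType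

open Subgroup

theorem sl_three_two_center : ∀ a : Matrix.SpecialLinearGroup (Fin 3) (ZMod 2),
    (∀ b : Matrix.SpecialLinearGroup (Fin 3) (ZMod 2), b * a = a * b) → a = 1 := by decide +kernel

theorem sl_three_two_simple : IsSimpleGroup (Matrix.SpecialLinearGroup (Fin 3) (ZMod 2)) := by
  have hc : center (Matrix.SpecialLinearGroup (Fin 3) (ZMod 2)) = ⊥ :=
    (eq_bot_iff_forall _).2 fun a ha => sl_three_two_center a (mem_center_iff.1 ha)
  haveI : IsSimpleGroup (Matrix.ProjectiveSpecialLinearGroup (Fin 3) (ZMod 2)) :=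
    CfsgLib.Classical.psl_isSimple le_rfl
  exact ((QuotientGroup.quotientMulEquivOfEq hc).trans QuotientGroup.quotientBot).symm.isSimpleGroup

namespace Ctx

universe u

variable {G : Type u} [Group G] [Finite G] {A : Type} [Group A] {J I R : Subgroup A}
  {z : G} {P : Subgroup G}

/-- The elements centralizing the quotient isomorphic to the symmetric group. -/
def Pz (c : Ctx J I R z P) : Subgroup G where
  carrier := {g | (g ∈ normalizer (c.Pe : Set G) ∧ g ∈ normalizer (c.Pl : Set G)) ∧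
    ∀ t ∈ centralizer (c.Pe : Set G), g * t * g⁻¹ * t⁻¹ ∈ c.Pl}
  one_mem' := ⟨⟨one_mem _, one_mem _⟩, fun t _ => by simp⟩
  mul_mem' := by
    rintro g h ⟨⟨hg, hg'⟩, hgc⟩ ⟨⟨hh, hh'⟩, hhc⟩
    refine ⟨⟨mul_mem hg hh, mul_mem hg' hh'⟩, fun t ht => ?_⟩
    rw [show g * h * t * (g * h)⁻¹ * t⁻¹ = g * (h * t * h⁻¹ * t⁻¹) * g⁻¹ * (g * t * g⁻¹ * t⁻¹) by group]
    exact mul_mem ((mem_normalizer_iff.1 hg' _).1 (hhc t ht)) (hgc t ht)
  inv_mem' := by
    rintro g ⟨⟨hg, hg'⟩, hgc⟩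
    refine ⟨⟨inv_mem hg, inv_mem hg'⟩, fun t ht => ?_⟩
    rw [show g⁻¹ * t * g⁻¹⁻¹ * t⁻¹ = g⁻¹ * (g * t * g⁻¹ * t⁻¹)⁻¹ * g by group]
    exact (mem_normalizer_iff''.1 hg' _).1 (inv_mem (hgc t ht))

variable {c : Ctx J I R z P} {x n s : G}

theorem mem_Pz {g : G} : g ∈ c.Pz ↔ (g ∈ normalizer (c.Pe : Set G) ∧ g ∈ normalizer (c.Pl : Set G)) ∧
    ∀ t ∈ centralizer (c.Pe : Set G), g * t * g⁻¹ * t⁻¹ ∈ c.Pl := Iff.rfl

namespace PentadCtx

variable (q : c.PentadCtx x n s)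
include q

theorem conj_centralizer_mem {g : G} (hg : g ∈ normalizer (c.Pe : Set G)) {t : G}
    (ht : t ∈ centralizer (c.Pe : Set G)) : g * t * g⁻¹ ∈ centralizer (c.Pe : Set G) := by
  refine mem_centralizer_iff.2 fun a ha => ?_
  have h' := mem_centralizer_iff.1 ht _ ((mem_normalizer_iff''.1 hg a).1 ha)
  calc a * (g * t * g⁻¹) = g * ((g⁻¹ * a * g) * t) * g⁻¹ := by group
    _ = g * (t * (g⁻¹ * a * g)) * g⁻¹ := by rw [h']
    _ = _ := by group

theorem Pz_inf {g : G} : g ∈ c.Pz ∧ g ∈ centralizer (c.Pe : Set G) ↔ g ∈ c.Pl := by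
  obtain ⟨ψ, hs, hψ⟩ := q.exists_psi
  constructor
  · rintro ⟨hg, hgC⟩
    refine (hψ ⟨g, hgC⟩).1 (perm_five_center _ fun τ => ?_)
    obtain ⟨t, rfl⟩ := hs τ
    have h := (hψ _).2 (show ((⟨g, hgC⟩ * t * (⟨g, hgC⟩ : ↥(centralizer (c.Pe : Set G)))⁻¹ * t⁻¹ :
      ↥(centralizer (c.Pe : Set G))) : G) ∈ c.Pl from (mem_Pz.1 hg).2 t t.2)
    rw [map_mul, map_mul, map_mul, map_inv, map_inv, mul_inv_eq_one, mul_inv_eq_iff_eq_mul] at h
    exact h.symm
  · intro hg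
    refine ⟨mem_Pz.2 ⟨⟨q.centralizer_le (q.Pl_le hg), le_normalizer hg⟩, fun t ht => ?_⟩, q.Pl_le hg⟩
    rw [show g * t * g⁻¹ * t⁻¹ = g * (t * g⁻¹ * t⁻¹) by group]
    exact mul_mem hg ((mem_normalizer_iff.1 (q.normalizer_le (q.centralizer_le ht)) _).1 (inv_mem hg))

theorem x_mem : x ∈ centralizer (c.Pe : Set G) :=
  mem_centralizer_iff.2 fun _ ha => q.full.comm_x q.split ha

theorem x_notMem : x ∉ c.Pl := fun h => by
  have hd := orderOf_dvd_natCard (⟨x, h⟩ : ↥c.Pl)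
  rw [← Subgroup.orderOf_coe, q.full.base.ord_x, q.card_Pl] at hd
  norm_num at hd

/-- An element of order seven commuting with `x` centralizes the quotient. -/
theorem seven_mem_Pz {w : G} (hwx : w * x = x * w) (hw : w ^ 7 = 1) : w ∈ c.Pz := by
  classical
  have hwN : w ∈ normalizer (c.Pe : Set G) := q.full.cent_norm q.split hwx
  have hwL := q.normalizer_le hwN
  obtain ⟨ψ, hs, hψ⟩ := q.exists_psi
  let m : ↥(centralizer (c.Pe : Set G)) →* Equiv.Perm (Fin 5) :=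
    { toFun := fun t => ψ ⟨w * t * w⁻¹, q.conj_centralizer_mem hwN t.2⟩
      map_one' := by
        rw [show (⟨w * ((1 : ↥(centralizer (c.Pe : Set G))) : G) * w⁻¹, q.conj_centralizer_mem hwN (1 : ↥(centralizer (c.Pe : Set G))).2⟩ : ↥(centralizer (c.Pe : Set G))) = 1 from
          Subtype.ext (by simp), map_one]
      map_mul' := fun a b => by
        rw [← map_mul]
        exact congrArg ψ (Subtype.ext (by
          show w * ((a : G) * b) * w⁻¹ = w * a * w⁻¹ * (w * b * w⁻¹)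
          group)) }
  have hm : ∀ t : ↥(centralizer (c.Pe : Set G)), m t = 1 ↔ ψ t = 1 := fun t => by
    show ψ _ = 1 ↔ _
    rw [hψ, hψ]
    exact (mem_normalizer_iff.1 hwL _).symm
  let e₀ : Equiv.Perm (Fin 5) →* Equiv.Perm (Fin 5) :=
    MonoidHom.liftOfSurjective ψ hs ⟨m, fun t ht => MonoidHom.mem_ker.2 ((hm t).2 ht)⟩
  have he₀ : ∀ t, e₀ (ψ t) = m t := fun t => MonoidHom.liftOfRightInverse_comp_apply ψ _ _ _ t
  have hinj : Function.Injective e₀ := (injective_iff_map_eq_one _).2 fun σ h => by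
    obtain ⟨t, rfl⟩ := hs σ
    exact (hm t).1 ((he₀ t).symm.trans h)
  let e : MulAut (Equiv.Perm (Fin 5)) := MulEquiv.ofBijective e₀ (Finite.injective_iff_bijective.1 hinj)
  have hpow : ∀ k : ℕ, ∀ t : ↥(centralizer (c.Pe : Set G)), (e ^ k) (ψ t) =
      ψ ⟨w ^ k * t * (w ^ k)⁻¹, q.conj_centralizer_mem (pow_mem hwN k) t.2⟩ := by
    intro k
    induction k with
    | zero => intro t; rw [pow_zero]; exact congrArg ψ (Subtype.ext (by simp))
    | succ k ih =>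
      intro t
      rw [pow_succ', MulAut.mul_apply, ih]
      refine (he₀ _).trans (congrArg ψ (Subtype.ext ?_))
      show w * (w ^ k * (t : G) * (w ^ k)⁻¹) * w⁻¹ = w ^ (k + 1) * t * (w ^ (k + 1))⁻¹
      rw [pow_succ']; group
  have he7 : e ^ 7 = 1 := MulEquiv.ext fun σ => by
    obtain ⟨t, rfl⟩ := hs σ
    rw [hpow, MulAut.one_apply]
    exact congrArg ψ (Subtype.ext (by show w ^ 7 * (t : G) * (w ^ 7)⁻¹ = (t : G); rw [hw]; simp))
  have hx5 : ψ ⟨x, q.x_mem⟩ ^ 5 = 1 := by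
    rw [← map_pow, show (⟨x, q.x_mem⟩ : ↥(centralizer (c.Pe : Set G))) ^ 5 = 1 from Subtype.ext q.full.pow_five, map_one]
  have hfix : e (ψ ⟨x, q.x_mem⟩) = ψ ⟨x, q.x_mem⟩ :=
    (he₀ _).trans (congrArg ψ (Subtype.ext (by
      show w * x * w⁻¹ = x
      rw [hwx, mul_inv_cancel_right])))
  have he1 := perm_five_aut_seven e he7 hx5 (fun h => q.x_notMem ((hψ _).1 h)) hfix
  refine mem_Pz.2 ⟨⟨hwN, hwL⟩, fun t ht => ?_⟩
  have h : ψ ⟨w * t * w⁻¹, q.conj_centralizer_mem hwN ht⟩ = ψ ⟨t, ht⟩ := by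
    refine (he₀ ⟨t, ht⟩).symm.trans ?_
    show e (ψ ⟨t, ht⟩) = _
    rw [he1, MulAut.one_apply]
  rw [← mul_inv_eq_one, ← map_inv, ← map_mul, hψ] at h
  exact h

theorem exists_seven : ∃ w : G, w * x = x * w ∧ w ^ 7 = 1 ∧ w ∉ centralizer (c.Pe : Set G) := by
  haveI : Fact (Nat.Prime 7) := ⟨by norm_num⟩
  obtain ⟨K, -, -, hKC, hK, -, -, -⟩ := q.full.exists_core q.split
  obtain ⟨w, hw⟩ := exists_prime_orderOf_dvd_card' (G := ↥K) 7 (by rw [hK]; norm_num)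
  rw [← Subgroup.orderOf_coe] at hw
  refine ⟨w, mem_centralizer_singleton_iff.1 (hKC w.2), hw ▸ pow_orderOf_eq_one _, fun h => ?_⟩
  have hd := orderOf_dvd_natCard (⟨(w : G), h⟩ : ↥(centralizer (c.Pe : Set G)))
  rw [← Subgroup.orderOf_coe, hw, q.card_centralizer] at hd
  norm_num at hd

theorem conj_Pz {g : G} (hg : g ∈ normalizer (c.Pe : Set G)) {k : G} (hk : k ∈ c.Pz) : g * k * g⁻¹ ∈ c.Pz := by
  obtain ⟨⟨hk1, hk2⟩, hkc⟩ := mem_Pz.1 hk
  have hgL := q.normalizer_le hg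
  refine mem_Pz.2 ⟨⟨mul_mem (mul_mem hg hk1) (inv_mem hg), mul_mem (mul_mem hgL hk2) (inv_mem hgL)⟩, fun t ht => ?_⟩
  have ht' : g⁻¹ * t * g ∈ centralizer (c.Pe : Set G) := by
    have := q.conj_centralizer_mem (inv_mem hg) ht
    rwa [inv_inv] at this
  have h := (mem_normalizer_iff.1 hgL _).1 (hkc _ ht')
  rwa [show g * (k * (g⁻¹ * t * g) * k⁻¹ * (g⁻¹ * t * g)⁻¹) * g⁻¹ = g * k * g⁻¹ * t * (g * k * g⁻¹)⁻¹ * t⁻¹ by group]
    at h

/-- The elements centralizing the quotient induce all of `SL₃(2)`. -/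
theorem exists_lift_Pz {g : G} (hg : g ∈ normalizer (c.Pe : Set G)) :
    ∃ k ∈ c.Pz, k⁻¹ * g ∈ centralizer (c.Pe : Set G) := by
  obtain ⟨φ, hs, hφ⟩ := q.exists_action
  haveI := sl_three_two_simple
  set T := (c.Pz.subgroupOf (normalizer (c.Pe : Set G))).map φ with hT
  haveI hTn : T.Normal := ⟨by
    rintro _ ⟨k, hk, rfl⟩ a
    obtain ⟨b, rfl⟩ := hs a
    exact ⟨b * k * b⁻¹, q.conj_Pz b.2 hk, by rw [map_mul, map_mul, map_inv]⟩⟩
  have htop : T = ⊤ := by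
    refine (Normal.eq_bot_or_eq_top hTn).resolve_left fun h => ?_
    obtain ⟨w, hwx, hw7, hwC⟩ := q.exists_seven
    have hwZ := q.seven_mem_Pz hwx hw7
    have hm : φ ⟨w, (mem_Pz.1 hwZ).1.1⟩ ∈ T := ⟨_, hwZ, rfl⟩
    rw [h, mem_bot] at hm
    exact hwC ((hφ _).1 hm)
  obtain ⟨k, hk, hkg⟩ := htop.ge (mem_top (φ ⟨g, hg⟩))
  refine ⟨(k : G), hk, (hφ (k⁻¹ * ⟨g, hg⟩)).1 ?_⟩
  rw [map_mul, map_inv, hkg, inv_mul_cancel]

/-- The quotient map. -/
theorem exists_quot_hom :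
    ∃ Φ : ↥(normalizer (c.Pl : Set G)) →* Equiv.Perm (Fin 5) × Matrix.SpecialLinearGroup (Fin 3) (ZMod 2),
      Function.Surjective Φ ∧ (∀ g : ↥(normalizer (c.Pl : Set G)), Φ g = 1 ↔ (g : G) ∈ c.Pl) ∧
      (∀ g : ↥(normalizer (c.Pl : Set G)), (Φ g).1 = 1 ↔ (g : G) ∈ c.Pz) ∧
      ∀ g : ↥(normalizer (c.Pl : Set G)), (Φ g).2 = 1 ↔ (g : G) ∈ centralizer (c.Pe : Set G) := by
  classical
  obtain ⟨ψ, hψs, hψ⟩ := q.exists_psi
  obtain ⟨φ, hφs, hφ⟩ := q.exists_action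
  have hN : ∀ g : ↥(normalizer (c.Pl : Set G)), (g : G) ∈ normalizer (c.Pe : Set G) := fun g =>
    q.normalizer_eq.le g.2
  choose k hk hkC using fun g : ↥(normalizer (c.Pl : Set G)) => q.exists_lift_Pz (hN g)
  have huniq : ∀ (g : G) (a b : G) (_ : a ∈ c.Pz) (_ : b ∈ c.Pz) (ha : a⁻¹ * g ∈ centralizer (c.Pe : Set G)) (hb : b⁻¹ * g ∈ centralizer (c.Pe : Set G)),
      ψ ⟨a⁻¹ * g, ha⟩ = ψ ⟨b⁻¹ * g, hb⟩ := by
    intro g a b haZ hbZ ha hb
    have hab : a⁻¹ * b ∈ c.Pl := q.Pz_inf.1 ⟨mul_mem (inv_mem haZ) hbZ, by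
      rw [show a⁻¹ * b = (a⁻¹ * g) * (b⁻¹ * g)⁻¹ by group]
      exact mul_mem ha (inv_mem hb)⟩
    refine mul_inv_eq_one.1 ?_
    rw [← map_inv, ← map_mul, hψ]
    show a⁻¹ * g * (b⁻¹ * g)⁻¹ ∈ c.Pl
    rwa [show a⁻¹ * g * (b⁻¹ * g)⁻¹ = a⁻¹ * b by group]
  let χ : ↥(normalizer (c.Pl : Set G)) →* Equiv.Perm (Fin 5) := MonoidHom.mk' (fun g => ψ ⟨(k g)⁻¹ * g, hkC g⟩)
    fun g h => by
      set a := (k g)⁻¹ * (g : G) with ha
      set b := (k h)⁻¹ * (h : G) with hb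
      have hkh := (mem_Pz.1 (hk h)).1.1
      have ha' : (k h)⁻¹ * a * k h ∈ centralizer (c.Pe : Set G) := by
        have := q.conj_centralizer_mem (inv_mem hkh) (hkC g)
        rwa [inv_inv] at this
      have e1 : (k g * k h)⁻¹ * ((g : G) * h) = (k h)⁻¹ * a * k h * b := by rw [ha, hb]; group
      have hgh : (k g * k h)⁻¹ * ((g : G) * h) ∈ centralizer (c.Pe : Set G) := by rw [e1]; exact mul_mem ha' (hkC h)
      rw [huniq ((g * h : ↥(normalizer (c.Pl : Set G))) : G) _ (k g * k h) (hk _) (mul_mem (hk g) (hk h)) (hkC _) hgh,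
        show (⟨(k g * k h)⁻¹ * ((g * h : ↥(normalizer (c.Pl : Set G))) : G), hgh⟩ :
          ↥(centralizer (c.Pe : Set G))) = ⟨_, ha'⟩ * ⟨b, hkC h⟩ from Subtype.ext e1, map_mul]
      congr 1
      refine mul_inv_eq_one.1 ?_
      rw [← map_inv, ← map_mul, hψ]
      show (k h)⁻¹ * a * k h * a⁻¹ ∈ c.Pl
      have := (mem_Pz.1 (inv_mem (hk h))).2 a (hkC g)
      rwa [inv_inv] at this
  let φ' : ↥(normalizer (c.Pl : Set G)) →* Matrix.SpecialLinearGroup (Fin 3) (ZMod 2) :=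
    φ.comp (Subgroup.inclusion q.normalizer_eq.le)
  have h2 : ∀ g : ↥(normalizer (c.Pl : Set G)), φ' g = 1 ↔ (g : G) ∈ centralizer (c.Pe : Set G) := fun g => hφ _
  have hχ : ∀ (g : ↥(normalizer (c.Pl : Set G))) (a : G) (_ : a ∈ c.Pz) (ha : a⁻¹ * (g : G) ∈ centralizer (c.Pe : Set G)),
      χ g = ψ ⟨a⁻¹ * g, ha⟩ := fun g a haZ ha => huniq g _ a (hk g) haZ (hkC g) ha
  have h1 : ∀ g : ↥(normalizer (c.Pl : Set G)), χ g = 1 ↔ (g : G) ∈ c.Pz := by
    intro g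
    constructor
    · intro h
      have hl := (q.Pz_inf.2 ((hψ _).1 h)).1
      rw [show (g : G) = k g * ((k g)⁻¹ * g) by group]
      exact mul_mem (hk g) hl
    · intro hg
      rw [hχ g g hg (by rw [inv_mul_cancel]; exact one_mem _), hψ]
      show (g : G)⁻¹ * g ∈ c.Pl
      rw [inv_mul_cancel]; exact one_mem _
  refine ⟨χ.prod φ', ?_, fun g => ?_, h1, h2⟩
  · rintro ⟨σ, m⟩
    obtain ⟨t, rfl⟩ := hψs σ
    obtain ⟨p, hp⟩ := hφs m
    obtain ⟨a, haZ, haC⟩ := q.exists_lift_Pz p.2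
    have hgN : a * (t : G) ∈ normalizer (c.Pl : Set G) :=
      mul_mem (mem_Pz.1 haZ).1.2 (q.normalizer_le (q.centralizer_le t.2))
    refine ⟨⟨a * t, hgN⟩, Prod.ext ?_ ?_⟩
    · show χ ⟨a * (t : G), hgN⟩ = ψ t
      rw [hχ ⟨a * (t : G), hgN⟩ a haZ (by rw [inv_mul_cancel_left]; exact t.2)]
      exact congrArg ψ (Subtype.ext (inv_mul_cancel_left a (t : G)))
    · show φ ⟨a * (t : G), _⟩ = m
      rw [← hp, ← mul_inv_eq_one, ← map_inv, ← map_mul, hφ]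
      show a * (t : G) * (p : G)⁻¹ ∈ centralizer (c.Pe : Set G)
      have hpa : a * ((a⁻¹ * (p : G))⁻¹) * a⁻¹ ∈ centralizer (c.Pe : Set G) := q.conj_centralizer_mem (mem_Pz.1 haZ).1.1 (inv_mem haC)
      rw [show a * (t : G) * (p : G)⁻¹ = a * t * a⁻¹ * (a * ((a⁻¹ * (p : G))⁻¹) * a⁻¹) by group]
      exact mul_mem (q.conj_centralizer_mem (mem_Pz.1 haZ).1.1 t.2) hpa
  · rw [Prod.ext_iff]
    show χ g = 1 ∧ φ' g = 1 ↔ _
    rw [h1, h2]
    exact q.Pz_inf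

theorem quot_iso : Nonempty (↥(normalizer (c.Pl : Set G)) ⧸ c.Pl.subgroupOf (normalizer (c.Pl : Set G)) ≃*
    Equiv.Perm (Fin 5) × Matrix.SpecialLinearGroup (Fin 3) (ZMod 2)) := by
  obtain ⟨Φ, hs, hk, -, -⟩ := q.exists_quot_hom
  have hker : Φ.ker = c.Pl.subgroupOf (normalizer (c.Pl : Set G)) := by
    ext g; rw [MonoidHom.mem_ker, hk, mem_subgroupOf]
  exact ⟨(QuotientGroup.quotientMulEquivOfEq hker.symm).trans (QuotientGroup.quotientKerEquivOfSurjective Φ hs)⟩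

/-- There is no complement. -/
theorem no_complement (hns : ∀ S : Subgroup G, S ≤ centralizer ({x} : Set G) → S ⊓ c.Pe = ⊥ → Nat.card ↥S ≠ 168) :
    ∀ K : Subgroup ↥(normalizer (c.Pl : Set G)),
      ¬ (c.Pl.subgroupOf (normalizer (c.Pl : Set G))).IsComplement' K := by
  classical
  haveI : Fact (Nat.Prime 5) := ⟨by norm_num⟩
  set N := normalizer (c.Pl : Set G) with hN
  intro K hK
  obtain ⟨Φ, hΦs, hΦ, hΦ1, -⟩ := q.exists_quot_hom
  have hPc : Nat.card (Equiv.Perm (Fin 5) × Matrix.SpecialLinearGroup (Fin 3) (ZMod 2)) = 20160 := by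
    rw [Nat.card_prod, Nat.card_perm, Nat.card_fin, CfsgLib.Spor.MonsterType.Seven.sl_card]
    rfl
  have hkerc : Φ.ker = c.Pl.subgroupOf N := by ext g; rw [MonoidHom.mem_ker, hΦ, mem_subgroupOf]
  have hNc : Nat.card ↥N = 2 ^ 15 * 20160 := by
    rw [← Φ.ker.card_mul_index, Subgroup.index_ker, MonoidHom.range_eq_top.2 hΦs, Subgroup.card_top, hPc, hkerc,
      Nat.card_congr (subgroupOfEquivOfLe le_normalizer).toEquiv, q.card_Pl]
  have hKc : Nat.card ↥K = 20160 := by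
    have h := hK.card_mul_card
    rw [Nat.card_congr (subgroupOfEquivOfLe le_normalizer).toEquiv, q.card_Pl, hNc] at h
    omega
  -- a conjugate through `x`
  have hxN : x ∈ N := q.normalizer_le q.x_norm
  obtain ⟨y, hy⟩ := exists_prime_orderOf_dvd_card' (G := ↥K) 5 (by rw [hKc]; norm_num)
  rw [← Subgroup.orderOf_coe] at hy
  have hfac : (Nat.card ↥N).factorization 5 = 1 := by
    rw [hNc, show 2 ^ 15 * 20160 = (2 ^ 15 * 4032) * 5 by norm_num, Nat.factorization_mul (by norm_num) (by norm_num),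
      Finsupp.add_apply, Nat.Prime.factorization_self (by norm_num),
      Nat.factorization_eq_zero_of_not_dvd (by norm_num : ¬ 5 ∣ 2 ^ 15 * 4032)]
  have hxo : orderOf (⟨x, hxN⟩ : ↥N) = 5 := by rw [← Subgroup.orderOf_coe]; exact q.full.base.ord_x
  obtain ⟨m, hm⟩ := MulAction.exists_smul_eq ↥N
    (Sylow.ofCard (zpowers (⟨x, hxN⟩ : ↥N)) (by rw [hfac, pow_one, Nat.card_zpowers, hxo]))
    (Sylow.ofCard (zpowers (y : ↥N)) (by rw [hfac, pow_one, Nat.card_zpowers, hy]))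
  have hxK : m * ⟨x, hxN⟩ * m⁻¹ ∈ K := by
    have h := congrArg (fun S : Sylow 5 ↥N => (S : Subgroup ↥N)) hm
    simp only [Sylow.coe_subgroup_smul, Sylow.coe_ofCard] at h
    exact zpowers_le.2 y.2 (h.le (Subgroup.mem_map.2 ⟨_, mem_zpowers _, rfl⟩))
  set S : Subgroup ↥N := K.comap (MulAut.conj m).toMonoidHom with hS
  have hxS : (⟨x, hxN⟩ : ↥N) ∈ S := hxK
  haveI : (c.Pl.subgroupOf N).Normal := hkerc ▸ Φ.normal_ker
  have hdis : ∀ g ∈ S, (g : G) ∈ c.Pl → g = 1 := by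
    intro g hg hgL
    have h1 : m * g * m⁻¹ ∈ c.Pl.subgroupOf N := Normal.conj_mem inferInstance g hgL m
    have h2 := hK.disjoint.le_bot (mem_inf.2 ⟨h1, (hg : m * g * m⁻¹ ∈ K)⟩)
    exact conj_eq_one_iff.1 (mem_bot.1 h2)
  have hSc : Nat.card ↥S = 20160 := by
    rw [← hKc, hS, show K.comap (MulAut.conj m).toMonoidHom = K.map (MulAut.conj m).symm.toMonoidHom from
      comap_equiv_eq_map_symm (MulAut.conj m) K]
    exact (Nat.card_congr (equivMapOfInjective K _ (MulAut.conj m).symm.injective).toEquiv).symm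
  have hbij : Function.Bijective (Φ.comp S.subtype) := by
    refine (Nat.bijective_iff_injective_and_card _).2 ⟨(injective_iff_map_eq_one _).2 fun g hg => ?_, by rw [hSc, hPc]⟩
    exact Subtype.ext (hdis g g.2 ((hΦ _).1 hg))
  -- its part centralizing the quotient centralizes `x`
  set S₁ : Subgroup G := (S ⊓ c.Pz.subgroupOf N).map N.subtype with hS₁
  refine hns S₁ ?_ ?_ ?_
  · rintro _ ⟨g, ⟨hgS, hgZ⟩, rfl⟩
    refine mem_centralizer_singleton_iff.2 ?_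
    have hL1 : ((g * ⟨x, hxN⟩ * g⁻¹ * (⟨x, hxN⟩ : ↥N)⁻¹ : ↥N) : G) ∈ c.Pl := (mem_Pz.1 hgZ).2 x q.x_mem
    have h1 := hdis _ (mul_mem (mul_mem (mul_mem hgS hxS) (inv_mem hgS)) (inv_mem hxS)) hL1
    rw [mul_inv_eq_one, mul_inv_eq_iff_eq_mul] at h1
    exact congrArg Subtype.val h1
  · rw [eq_bot_iff]
    rintro _ ⟨⟨g, ⟨hgS, -⟩, rfl⟩, hgB⟩
    rw [mem_bot, hdis g hgS (q.Pe_le_Pl hgB)]
    rfl
  · rw [hS₁, ← Nat.card_congr (equivMapOfInjective _ _ N.subtype_injective).toEquiv,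
      ← CfsgLib.Spor.MonsterType.Seven.sl_card]
    refine Nat.card_eq_of_bijective (fun g : ↥(S ⊓ c.Pz.subgroupOf N) => (Φ (g : ↥N)).2) ⟨fun a b h => ?_, fun v => ?_⟩
    · have hab : Φ (a : ↥N) = Φ (b : ↥N) := Prod.ext
        (((hΦ1 _).2 a.2.2).trans ((hΦ1 _).2 b.2.2).symm) h
      have := hbij.1 (a₁ := ⟨a, a.2.1⟩) (a₂ := ⟨b, b.2.1⟩) hab
      exact Subtype.ext (congrArg Subtype.val this :)
    · obtain ⟨g, hg⟩ := hbij.2 (1, v)
      have hg' : Φ (g : ↥N) = (1, v) := hg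
      exact ⟨⟨g, g.2, (hΦ1 _).1 (by rw [hg'])⟩, by show (Φ (g : ↥N)).2 = v; rw [hg']⟩

end PentadCtx

end Ctx

end CfsgLib.Spor.JFourType
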