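import Cfsg.Agent.Lib.Spor.JFourType.PentadGroup
import Cfsg.Agent.Lib.Spor.JFourType.ConjPair
import Cfsg.Agent.Lib.Coprime.PGroupFrattini
import Cfsg.Agent.Lib.PGroup.FrattiniLe

/-!
# The group of order `2 ^ 15` is special with center the eight-group

Its squares lie in the intersection of two cores, so their vectors span an isotropic space invariant under the element
of order five, the element squaring it and the element of order three; such a space is the fixed line.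
-/

set_option autoImplicit false
set_option linter.style.haveILetI false

namespace CfsgLib.Spor.JFourType.Ctx

open Subgroup
open scoped commutatorElement

universe u

variable {G : Type u} [Group G] [Finite G] {A : Type} [Group A] {J I R : Subgroup A}
  {z : G} {P : Subgroup G} (c : Ctx J I R z P)
include c

theorem act_pow_five_of {x : G} (h : x ^ 5 = 1) : c.act (x ^ 5) = 1 := by rw [h, c.act_one]

namespace PentadCtx

variable {c} {x n s : G} (q : c.PentadCtx x n s)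
include q

theorem x_norm : x ∈ normalizer (c.Pe : Set G) :=
  c.pre_le_normalizer_Pe (c.mem_pre.2 ⟨q.full.xH, q.full.base.data.x_R⟩)

theorem n_norm : n ∈ normalizer (c.Pe : Set G) :=
  c.pre_le_normalizer_Pe (c.mem_pre.2 ⟨q.full.base.data.n_mem.1, q.full.base.data.n_R⟩)

theorem pg_norm : c.pg ∈ normalizer (c.Pe : Set G) :=
  c.pre_le_normalizer_Pe (c.mem_pre.2 ⟨c.pg_H, by rw [c.im_pg]; exact one_mem _⟩)

theorem KR_le_perp : c.KR ≤ c.perp c.KR := fun v hv => c.mem_perp.2 fun w hw => by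
  obtain ⟨a, ha, rfl⟩ := c.pv_surj v
  obtain ⟨b, hb, rfl⟩ := c.pv_surj w
  exact (c.Bf_comm hb ha).2 (q.comm_Pe ⟨hb, hw⟩ ⟨ha, hv⟩)

theorem perpPart_le {e : G} (he : e ∈ c.lift (c.perp c.KR)) : e ∈ c.Pl :=
  have h := q.ker_part.2 he
  ⟨c.mem_pre.2 ⟨q.centralizer_le_H h.1, by rw [h.2]; exact one_mem _⟩, h.1⟩

/-- A central element lies in the eight-group. -/
theorem central_mem {t : G} (ht : t ∈ c.Pl) (hc : ∀ l ∈ c.Pl, t * l = l * t) : t ∈ c.Pe := by
  have htH := q.Pl_le_H ht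
  have him : c.im t = 1 := by
    by_contra hne
    haveI : Fact (Nat.Prime 2) := ⟨Nat.prime_two⟩
    have hR : c.im t ∈ R := (c.mem_pre.1 ht.1).2
    have hord : orderOf (c.im t) = 2 := orderOf_eq_prime (c.facts.ea_R.2 _ hR) hne
    obtain ⟨a, ha⟩ := c.exists_two_pow q.Pl_two ht
    have h := c.card_fix_inner (q.centralizer_le_M (q.Pl_le ht)) hord ha
    have hle : c.perp c.KR ≤ c.fix {t} := fun v hv => by
      obtain ⟨e, he, rfl⟩ := c.pv_surj v
      rw [c.mem_fix_singleton, ← c.pv_conj htH he, hc e (q.perpPart_le ⟨he, hv⟩), mul_inv_cancel_right]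
    have := AddSubgroup.card_le_of_le hle
    rw [q.card_perp_KR, h] at this
    norm_num at this
  obtain ⟨hE, -⟩ := q.ker_part.1 ⟨q.Pl_le ht, him⟩
  refine ⟨hE, ?_⟩
  rw [← c.perp_perp c.KR]
  refine c.mem_perp.2 fun v hv => ?_
  obtain ⟨e, he, rfl⟩ := c.pv_surj v
  exact (c.Bf_comm he hE).2 (hc e (q.perpPart_le ⟨he, hv⟩)).symm

theorem central_iff {t : G} : t ∈ c.Pe ↔ t ∈ c.Pl ∧ ∀ l ∈ c.Pl, t * l = l * t :=
  ⟨fun h => ⟨q.Pe_le_Pl h, fun _ hl => mem_centralizer_iff.1 hl.2 t h⟩, fun h => q.central_mem h.1 h.2⟩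

/-- The two groups have the same normalizer. -/
theorem normalizer_eq : normalizer (c.Pl : Set G) = normalizer (c.Pe : Set G) := by
  refine le_antisymm (fun g hg => mem_normalizer_of_maps fun a ha => ?_) q.normalizer_le
  obtain ⟨haL, hac⟩ := q.central_iff.1 ha
  refine q.central_iff.2 ⟨(mem_normalizer_iff.1 hg a).1 haL, fun l hl => ?_⟩
  have h := hac _ ((mem_normalizer_iff''.1 hg l).1 hl)
  calc g * a * g⁻¹ * l = g * (a * (g⁻¹ * l * g)) * g⁻¹ := by group
    _ = g * ((g⁻¹ * l * g) * a) * g⁻¹ := by rw [h]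
    _ = _ := by group

/-- The subgroup generated by the squares. -/
theorem squares_le : closure ((fun t : G => t * t) '' (c.Pl : Set G)) ≤ c.Pe := by
  classical
  set D := closure ((fun t : G => t * t) '' (c.Pl : Set G)) with hD
  have hd := q.full.base.data
  have hxM := c.C0_le_M hd.x_mem
  have hnM := c.C0_le_M hd.n_mem
  have hDperp : D ≤ c.lift (c.perp c.KR) := by
    rw [hD, closure_le]
    rintro _ ⟨t, ht, rfl⟩
    refine q.ker_part.1 ⟨q.Pl_le (mul_mem ht ht), ?_⟩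
    rw [c.im_mul (q.Pl_le_H ht) (q.Pl_le_H ht), ← pow_two]
    exact c.facts.ea_R.2 _ (c.mem_pre.1 ht.1).2
  have hDn : ∀ g ∈ normalizer (c.Pe : Set G), ∀ d ∈ D, g * d * g⁻¹ ∈ D := by
    intro g hg d hd'
    have hle : D.map (MulAut.conj g).toMonoidHom ≤ D := by
      rw [hD, MonoidHom.map_closure, closure_le]
      rintro _ ⟨_, ⟨t, ht, rfl⟩, rfl⟩
      refine subset_closure ⟨g * t * g⁻¹, (mem_normalizer_iff.1 (q.normalizer_le hg) t).1 ht, ?_⟩
      show g * t * g⁻¹ * (g * t * g⁻¹) = g * (t * t) * g⁻¹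
      group
    exact hle ⟨d, hd', rfl⟩
  -- the squares commute
  obtain ⟨u, hu, huB, hv0⟩ := q.full.base.exists_rpoint' q.split
  obtain ⟨g, hg, hgz⟩ := q.exists_move huB fun h => hv0 (by rw [h, c.pv_one])
  have hgne : g * z * g⁻¹ ≠ z := fun h => hv0 (by rw [← hgz, h, c.pv_z])
  have hD' : ∀ d ∈ D, d ∈ (c.conj g).E := fun d hd' => (c.E_conj_iff g).2 (by
    have := hDperp (hDn g⁻¹ (inv_mem hg) d hd')
    rw [inv_inv] at this
    exact this.1)
  let W : AddSubgroup c.Vs :=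
    { carrier := {v | ∃ d ∈ D, c.pv d = v}
      add_mem' := by
        rintro _ _ ⟨a, ha, rfl⟩ ⟨b, hb, rfl⟩
        exact ⟨a * b, mul_mem ha hb, c.pv_mul (hDperp ha).1 (hDperp hb).1⟩
      zero_mem' := ⟨1, one_mem _, c.pv_one⟩
      neg_mem' := by
        rintro _ ⟨a, ha, rfl⟩
        exact ⟨a, ha, (neg_eq_of_add_eq_zero_left (c.two_V (c.pv a))).symm⟩ }
  have hWiso : W ≤ c.perp W := by
    rintro _ ⟨b, hb, rfl⟩
    refine c.mem_perp.2 ?_
    rintro _ ⟨a, ha, rfl⟩
    exact (c.Bf_comm (hDperp ha).1 (hDperp hb).1).2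
      (c.pair_comm hgne (hDperp ha).1 (hD' a ha) (hDperp hb).1 (hD' b hb))
  have hWinv : ∀ h ∈ c.H, h ∈ normalizer (c.Pe : Set G) → ∀ v ∈ W, c.act h v ∈ W := by
    rintro h hh hn _ ⟨a, ha, rfl⟩
    exact ⟨_, hDn h hn a ha, c.pv_conj hh (hDperp ha).1⟩
  have hWperp : W ≤ c.perp c.KR := by rintro _ ⟨a, ha, rfl⟩; exact (hDperp ha).2
  have hWx := hWinv x q.full.xH q.x_norm
  have hWo : ∀ v ∈ W, c.om v ∈ W := hWinv c.pg c.pg_H q.pg_norm
  -- the commutator part vanishes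
  set F := c.fix {x} with hF
  set S := W ⊓ c.perp F with hS
  have hx5 : c.act (x ^ 5) = 1 := c.act_pow_five_of q.full.pow_five
  have hFom : ∀ v ∈ F, c.om v ∈ F := fun v hv => c.fix_om (Set.singleton_subset_iff.2 hxM) hv
  have hSx : ∀ v ∈ S, c.act x v ∈ S := fun v hv => ⟨hWx v hv.1, c.perp_fix_invariant q.full.xH hv.2⟩
  have hSo : ∀ v ∈ S, c.om v ∈ S := fun v hv => ⟨hWo v hv.1, c.perp_om hFom hv.2⟩
  have hSn : ∀ v ∈ S, c.act n v ∈ S := fun v hv => ⟨hWinv n hd.n_mem.1 q.n_norm v hv.1,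
    c.perp_invariant hd.n_mem.1 (fun u hu => c.fix_inv_of_conj_sq hxM hx5 hnM hd.act_conj hu) hv.2⟩
  have hS0 : ∀ v ∈ S, c.act x v = v → v = 0 := fun v hv h =>
    (AddSubgroup.eq_bot_iff_forall _).1 (c.fix_inf_perp (by decide : Odd 5) q.full.xH hx5) v
      ⟨c.mem_fix_singleton.2 h, hv.2⟩
  have hSbot : S = ⊥ := by
    haveI : Fact (Nat.Prime 5) := ⟨by norm_num⟩
    obtain ⟨k, hk6, hk⟩ := c.card_eq_two_pow S hSo
    have hmod := c.card_fix_mod q.full.xH hx5 S hSx
    rw [show S ⊓ c.fix {x} = ⊥ from (AddSubgroup.eq_bot_iff_forall _).2 fun v hv =>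
      hS0 v hv.1 (c.mem_fix_singleton.1 hv.2), AddSubgroup.card_bot, hk] at hmod
    have hiso : Nat.card ↥S * Nat.card ↥S ≤ 2 ^ 12 := by
      rw [← c.card_perp S]
      exact Nat.mul_le_mul_left _ (AddSubgroup.card_le_of_le
        (fun v hv => c.perp_anti inf_le_left (hWiso hv.1)))
    rw [hk] at hiso
    have h16 : Nat.card ↥S ≠ 16 := fun h => c.no_invariant_sixteen hxM hx5 hnM hd.act_conj S h hSx hSo hSn hS0
    interval_cases k
    · exact AddSubgroup.card_eq_one.1 (by rw [hk, pow_zero])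
    · norm_num at hmod
    · exact absurd hk h16
    all_goals first | (norm_num at hmod; done) | norm_num at hiso
  have hWfix : W ≤ F := fun v hv => by
    rw [hF, c.mem_fix_singleton]
    refine c.add_eq_zero_V ?_
    exact (AddSubgroup.eq_bot_iff_forall _).1 hSbot _
      ⟨add_mem (hWx v hv) hv, c.displacement_mem q.full.xH v⟩
  have hline : F ⊓ c.perp c.KR ≤ c.KR := by
    have hKF : c.KR ≤ F ⊓ c.perp c.KR := le_inf (KR_le_fix hd) q.KR_le_perp
    have htop : F ⊔ c.perp c.KR = ⊤ := by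
      have hb : c.perp F ⊓ c.KR = ⊥ := (AddSubgroup.eq_bot_iff_forall _).2 fun v hv =>
        (AddSubgroup.eq_bot_iff_forall _).1 (c.fix_inf_perp (by decide : Odd 5) q.full.xH hx5) v
          ⟨KR_le_fix hd hv.2, hv.1⟩
      have hle : c.perp (F ⊔ c.perp c.KR) ≤ c.perp F ⊓ c.KR :=
        le_inf (c.perp_anti le_sup_left) ((c.perp_anti le_sup_right).trans (le_of_eq (c.perp_perp _)))
      rw [hb, le_bot_iff] at hle
      have h := c.card_perp (F ⊔ c.perp c.KR)
      rw [hle, AddSubgroup.card_bot, mul_one] at h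
      exact AddSubgroup.eq_top_of_card_eq _ (by rw [h, c.card_V])
    have hcard := c.card_sup_inf F (c.perp c.KR)
    rw [htop, AddSubgroup.card_top, c.card_V, show Nat.card ↥F = 16 from card_fix_x hd, q.card_perp_KR] at hcard
    exact (AddSubgroup.eq_of_le_of_card_ge hKF (by rw [c.card_KR]; omega)).ge
  exact fun d hd' => ⟨(hDperp hd').1, hline ⟨hWfix ⟨d, hd', rfl⟩, (hDperp hd').2⟩⟩

theorem sq_mem {t : G} (ht : t ∈ c.Pl) : t * t ∈ c.Pe := q.squares_le (subset_closure ⟨t, ht, rfl⟩)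

theorem commutator_mem {a b : G} (ha : a ∈ c.Pl) (hb : b ∈ c.Pl) : a * b * a⁻¹ * b⁻¹ ∈ c.Pe := by
  rw [show a * b * a⁻¹ * b⁻¹ = a * a * (a⁻¹ * b * (a⁻¹ * b)) * (b⁻¹ * b⁻¹) by group]
  exact mul_mem (mul_mem (q.sq_mem ha) (q.sq_mem (mul_mem (inv_mem ha) hb))) (q.sq_mem (inv_mem hb))

theorem center_Pl : center ↥c.Pl = c.Pe.subgroupOf c.Pl := by
  ext t
  rw [mem_center_iff, mem_subgroupOf]
  constructor
  · exact fun h => q.central_mem t.2 fun l hl => (congrArg Subtype.val (h ⟨l, hl⟩)).symm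
  · exact fun h l => Subtype.ext ((q.central_iff.1 h).2 l l.2).symm

theorem card_center_Pl : Nat.card ↥(center ↥c.Pl) = 8 := by
  rw [q.center_Pl, Nat.card_congr (subgroupOfEquivOfLe q.Pe_le_Pl).toEquiv, FiveFull.card_lift_KR]

/-- A pair with commutator `z`. -/
theorem exists_noncomm : ∃ a ∈ c.Pl, ∃ b ∈ c.Pl, a * b * a⁻¹ * b⁻¹ = z := by
  by_contra hcon
  push Not at hcon
  have hiso : c.perp c.KR ≤ c.perp (c.perp c.KR) := by
    intro v hv
    refine c.mem_perp.2 fun w hw => ?_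
    obtain ⟨a, ha, rfl⟩ := c.pv_surj v
    obtain ⟨b, hb, rfl⟩ := c.pv_surj w
    refine (c.Bf_comm hb ha).2 ?_
    rcases c.comm_E hb ha with h | h
    · exact h
    · exact absurd (by rw [h]; group) (hcon b (q.perpPart_le ⟨hb, hw⟩) a (q.perpPart_le ⟨ha, hv⟩))
  have h := AddSubgroup.card_le_of_le hiso
  rw [c.perp_perp, c.card_KR, q.card_perp_KR] at h
  norm_num at h

theorem Pe_le_commutator {a : ↥c.Pl} (ha : (a : G) ∈ c.Pe) : a ∈ commutator ↥c.Pl := by
  by_cases h1 : (a : G) = 1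
  · rw [show a = 1 from Subtype.ext h1]; exact one_mem _
  obtain ⟨g, hg, hga⟩ := q.exists_move ha h1
  obtain ⟨p, hp, r, hr, hpr⟩ := q.exists_noncomm
  have hm : ∀ t ∈ c.Pl, g * t * g⁻¹ ∈ c.Pl := fun t ht => (mem_normalizer_iff.1 (q.normalizer_le hg) t).1 ht
  have he : a = ⁅(⟨_, hm p hp⟩ : ↥c.Pl), ⟨_, hm r hr⟩⁆ := by
    refine Subtype.ext ?_
    show (a : G) = g * p * g⁻¹ * (g * r * g⁻¹) * (g * p * g⁻¹)⁻¹ * (g * r * g⁻¹)⁻¹
    rw [← hga, ← hpr]
    group
  rw [he, commutator_def]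
  exact commutator_mem_commutator (mem_top _) (mem_top _)

theorem special : Cfsg.IsSpecial 2 ↥c.Pl := by
  haveI : Fact (Nat.Prime 2) := ⟨Nat.prime_two⟩
  have hcomm : commutator ↥c.Pl ≤ center ↥c.Pl := by
    rw [q.center_Pl, commutator_def, commutator_le]
    intro a _ b _
    rw [mem_subgroupOf, commutatorElement_def]
    exact q.commutator_mem a.2 b.2
  have hge : center ↥c.Pl ≤ commutator ↥c.Pl := fun a ha => q.Pe_le_commutator (by
    rwa [q.center_Pl, mem_subgroupOf] at ha)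
  refine ⟨q.Pl_two, le_antisymm (CfsgLib.FrattiniLe.frattini_le_of_pow_of_commutator (p := 2) (fun t => ?_) hcomm)
    (hge.trans (CfsgLib.Coprime.commutator_le_frattini q.Pl_two)), le_antisymm hcomm hge⟩
  rw [q.center_Pl, mem_subgroupOf, SubgroupClass.coe_pow, pow_two]
  exact q.sq_mem t.2

end PentadCtx

end CfsgLib.Spor.JFourType.Ctx
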