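import Cfsg.Agent.Lib.Spor.JFourType.Fixed

/-!
# Fixed spaces of elements of order five and seven

An element of order five of `M` which fixes a vector and is normalized by an element of `M` squaring it fixes
exactly sixteen vectors; an element of order seven fixes only zero; the fixed spaces are nondegenerate.
-/

set_option autoImplicit false
set_option linter.style.haveILetI false

namespace CfsgLib.Spor.JFourType.Ctx

open Subgroup

universe u

variable {G : Type u} [Group G] [Finite G] {A : Type} [Group A] {J I R : Subgroup A}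
  {z : G} {P : Subgroup G} (c : Ctx J I R z P)
include c

theorem act_iterate {x : G} (hx : x ∈ c.H) (n : ℕ) (v : c.Vs) : c.act (x ^ (n + 1)) v = c.act x (c.act (x ^ n) v) := by
  rw [pow_succ', c.act_mul hx (pow_mem hx n)]
  rfl

/-- Counting fixed points of a `p`-element on an invariant subgroup. -/
theorem card_fix_mod {p : ℕ} [Fact p.Prime] {x : G} (hx : x ∈ c.H) (hp : c.act (x ^ p) = 1) (W : AddSubgroup c.Vs)
    (hW : ∀ v ∈ W, c.act x v ∈ W) :
    Nat.card ↥W % p = Nat.card ↥(W ⊓ c.fix {x}) % p := by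
  classical
  let T : Equiv.Perm ↥W := Equiv.ofBijective (fun v : ↥W => (⟨c.act x v, hW v v.2⟩ : ↥W))
    (Finite.injective_iff_bijective.1 fun a b h => Subtype.ext (c.act_injective hx (congrArg Subtype.val h)))
  have hT : ∀ (n : ℕ) (v : ↥W), (((T ^ n) v : ↥W) : c.Vs) = c.act (x ^ n) v := by
    intro n
    induction n with
    | zero => intro v; rw [pow_zero, pow_zero, c.act_one]; rfl
    | succ n ih =>
      intro v
      rw [pow_succ', Equiv.Perm.mul_apply, c.act_iterate hx, ← ih]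
      rfl
  have hTp : T ^ p = 1 := Equiv.ext fun v => Subtype.ext (by
    rw [hT, hp]
    rfl)
  have hP : IsPGroup p ↥(zpowers T) := by
    rintro ⟨g, hg⟩
    obtain ⟨k, rfl⟩ := mem_zpowers_iff.1 hg
    refine ⟨1, Subtype.ext ?_⟩
    rw [pow_one, SubgroupClass.coe_pow]
    show (T ^ k) ^ p = 1
    rw [← zpow_natCast, ← zpow_mul, mul_comm, zpow_mul, zpow_natCast, hTp, one_zpow]
  have h := hP.card_modEq_card_fixedPoints ↥W
  have hfix : MulAction.fixedPoints ↥(zpowers T) ↥W = {v : ↥W | T v = v} := by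
    ext v
    refine ⟨fun hv => hv ⟨T, mem_zpowers T⟩, fun hv g => ?_⟩
    have hmem : (g : Equiv.Perm ↥W) ∈ MulAction.stabilizer (Equiv.Perm ↥W) v :=
      zpowers_le.2 (MulAction.mem_stabilizer_iff.2 (show T • v = v from hv)) g.2
    exact MulAction.mem_stabilizer_iff.1 hmem
  have he : Nat.card ↥(MulAction.fixedPoints ↥(zpowers T) ↥W) = Nat.card ↥(W ⊓ c.fix {x}) := by
    rw [hfix]
    exact Nat.card_congr
      { toFun := fun v => ⟨v.1, v.1.2, c.mem_fix_singleton.2 (congrArg Subtype.val v.2)⟩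
        invFun := fun v => ⟨⟨v.1, v.2.1⟩, Subtype.ext (c.mem_fix_singleton.1 v.2.2)⟩
        left_inv := fun v => rfl
        right_inv := fun v => rfl }
  rw [← he]
  exact h

/-- The fixed space of an element of odd prime order is nondegenerate. -/
theorem fix_inf_perp {p : ℕ} (hp : Odd p) {x : G} (hx : x ∈ c.H) (hxp : c.act (x ^ p) = 1) :
    c.fix {x} ⊓ c.perp (c.fix {x}) = ⊥ := by
  rw [AddSubgroup.eq_bot_iff_forall]
  rintro v ⟨hv, hv'⟩
  refine c.Bf_nondeg fun w => ?_
  have hfx : ∀ i : ℕ, c.act (x ^ i) v = v := by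
    intro i
    induction i with
    | zero => rw [pow_zero, c.act_one]; rfl
    | succ i ih => rw [c.act_iterate hx, ih]; exact c.mem_fix_singleton.1 hv
  set s := ∑ i ∈ Finset.range p, c.act (x ^ i) w with hs
  have hsfix : s ∈ c.fix {x} := by
    rw [c.mem_fix_singleton, hs, map_sum]
    have e1 : ∑ i ∈ Finset.range p, c.act x (c.act (x ^ i) w) = ∑ i ∈ Finset.range p, c.act (x ^ (i + 1)) w :=
      Finset.sum_congr rfl fun i _ => (c.act_iterate hx i w).symm
    have e2 := (Finset.sum_range_succ' (fun i => c.act (x ^ i) w) p).symm.trans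
      (Finset.sum_range_succ (fun i => c.act (x ^ i) w) p)
    rw [hxp, pow_zero, c.act_one] at e2
    rw [e1]
    exact add_right_cancel e2
  have hsum : c.Bf v s = (p : ZMod 2) * c.Bf v w := by
    have hall : ∀ i ∈ Finset.range p, c.Bf v (c.act (x ^ i) w) = c.Bf v w := fun i _ => by
      nth_rewrite 1 [← hfx i]
      exact c.Bf_act (pow_mem hx i) v w
    let f : c.Vs →+ ZMod 2 := AddMonoidHom.mk' (fun u => c.Bf v u) (c.Bf_add_right v)
    have : c.Bf v s = ∑ i ∈ Finset.range p, c.Bf v (c.act (x ^ i) w) := map_sum f _ _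
    rw [this, Finset.sum_congr rfl hall, Finset.sum_const, Finset.card_range, nsmul_eq_mul]
  have h0 : c.Bf v s = 0 := by
    rw [c.Bf_symm]
    exact c.mem_perp.1 hv' s hsfix
  obtain ⟨k, rfl⟩ := hp
  rw [h0] at hsum
  have h2 : ((2 * k + 1 : ℕ) : ZMod 2) = 1 := by
    rw [Nat.cast_add, Nat.cast_mul, ZMod.natCast_self, zero_mul, zero_add, Nat.cast_one]
  rw [h2, one_mul] at hsum
  exact hsum.symm

/-- The commutator space of an element is invariant. -/
theorem perp_fix_invariant {x : G} (hx : x ∈ c.H) {v : c.Vs} (hv : v ∈ c.perp (c.fix {x})) :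
    c.act x v ∈ c.perp (c.fix {x}) :=
  c.perp_invariant hx (fun u hu => by
    rw [c.mem_fix_singleton] at hu ⊢
    have h : c.act x⁻¹ u = u := by
      conv_lhs => rw [← hu]
      exact c.act_inv_apply hx u
    rw [h, hu]) hv

theorem card_eq_two_pow (W : AddSubgroup c.Vs) (hom : ∀ v ∈ W, c.om v ∈ W) :
    ∃ k ≤ 6, Nat.card ↥W = 4 ^ k := by
  obtain ⟨k, hk, he⟩ := c.card_addSubgroup W
  have h3 := c.card_om_invariant W hom
  rw [he] at h3
  refine ⟨k / 2, by omega, ?_⟩
  rw [he, show (4 : ℕ) = 2 ^ 2 from rfl, ← pow_mul]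
  congr 1
  interval_cases k <;> simp at h3 ⊢

/-- The span of four consecutive images. -/
noncomputable def span4 (T : AddMonoid.End c.Vs) (w : c.Vs) : (Fin 4 → ZMod 2) →+ c.Vs :=
  AddMonoidHom.mk' (fun a => a 0 • w + a 1 • T w + a 2 • T (T w) + a 3 • T (T (T w))) fun a b => by
    simp only [Pi.add_apply, add_smul]; abel

theorem span4_apply (T : AddMonoid.End c.Vs) (w : c.Vs) (a : Fin 4 → ZMod 2) :
    c.span4 T w a = a 0 • w + a 1 • T w + a 2 • T (T w) + a 3 • T (T (T w)) := rfl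

theorem map_zsmul2 (f : AddMonoid.End c.Vs) (t : ZMod 2) (v : c.Vs) : f (t • v) = t • f v := by
  rcases (by decide : ∀ t : ZMod 2, t = 0 ∨ t = 1) t with rfl | rfl
  · rw [zero_smul, zero_smul, map_zero]
  · rw [one_smul, one_smul]

section Five

variable {x n : G} (hx : x ∈ c.M) (hx5 : c.act (x ^ 5) = 1) (hn : n ∈ c.M)
  (hnx : c.act (n * x * n⁻¹) = c.act (x ^ 2))
include hx hx5 hn hnx

theorem act_normalizing (w : c.Vs) : c.act n (c.act x w) = c.act x (c.act x (c.act n w)) := by
  have hxH := c.H_of_M hx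
  have hnH := c.H_of_M hn
  have e : c.act n (c.act x w) = c.act (n * x * n⁻¹) (c.act n w) := by
    rw [c.act_mul (mul_mem hnH hxH) (inv_mem hnH), c.act_mul hnH hxH]
    show _ = c.act n (c.act x (c.act n⁻¹ (c.act n w)))
    rw [c.act_inv_apply hnH]
  rw [e, hnx, show (2 : ℕ) = 1 + 1 from rfl, c.act_iterate hxH, pow_one]

theorem fix_inv_of_conj_sq {u : c.Vs} (hu : u ∈ c.fix {x}) : c.act n⁻¹ u ∈ c.fix {x} := by
  have hnH := c.H_of_M hn
  rw [c.mem_fix_singleton] at hu ⊢
  refine c.act_injective hnH ?_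
  rw [c.act_normalizing hx hx5 hn hnx, c.act_apply_inv hnH, hu, hu]

theorem fix_of_conj_sq {u : c.Vs} (hu : u ∈ c.fix {x}) : c.act n u ∈ c.fix {x} := by
  have hxH := c.H_of_M hx
  rw [c.mem_fix_singleton] at hu ⊢
  have h := c.act_normalizing hx hx5 hn hnx u
  rw [hu] at h
  -- the square fixes it, hence so does the element
  have h2 : ∀ w, c.act x (c.act x (c.act x (c.act x (c.act x w)))) = w := fun w => by
    rw [show c.act x w = c.act (x ^ 1) w by rw [pow_one], ← c.act_iterate hxH, ← c.act_iterate hxH,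
      ← c.act_iterate hxH, ← c.act_iterate hxH, hx5]
    rfl
  calc c.act x (c.act n u) = c.act x (c.act x (c.act x (c.act n u))) := by rw [← h]
    _ = c.act x (c.act x (c.act x (c.act x (c.act x (c.act n u))))) := by rw [← h, ← h]
    _ = c.act n u := h2 _

theorem no_invariant_sixteen (W : AddSubgroup c.Vs) (hW16 : Nat.card ↥W = 16) (hWx : ∀ v ∈ W, c.act x v ∈ W)
    (hWo : ∀ v ∈ W, c.om v ∈ W) (hWn : ∀ v ∈ W, c.act n v ∈ W) (hW0 : ∀ v ∈ W, c.act x v = v → v = 0) : False := by
  haveI : Fact (Nat.Prime 5) := ⟨by norm_num⟩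
  have hxH := c.H_of_M hx
  have hnH := c.H_of_M hn
  set T := c.act x with hTdef
  have hp : ∀ i w, c.act (x ^ (i + 1)) w = T (c.act (x ^ i) w) := fun i w => c.act_iterate hxH i w
  have h1 : ∀ w, c.act (x ^ 1) w = T w := fun w => by rw [pow_one]
  have hT5 : ∀ w, T (T (T (T (T w)))) = w := by
    intro w
    rw [← h1 w, ← hp, ← hp, ← hp, ← hp, hx5]
    rfl
  have hsum : ∀ w ∈ W, T (T (T (T w))) = w + T w + T (T w) + T (T (T w)) := by
    intro w hw
    refine c.add_eq_zero_V (hW0 _ ?_ ?_)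
    · exact add_mem (hWx _ (hWx _ (hWx _ (hWx _ hw))))
        (add_mem (add_mem (add_mem hw (hWx _ hw)) (hWx _ (hWx _ hw))) (hWx _ (hWx _ (hWx _ hw))))
    · simp only [map_add]
      rw [hT5]
      abel
  have hspan : ∀ w ∈ W, w ≠ 0 → Function.Injective (c.span4 T w) ∧ ∀ u ∈ W, ∃ a, c.span4 T w a = u := by
    intro w hw hw0
    let S : AddSubgroup c.Vs := (c.span4 T w).range
    have hSW : S ≤ W := by
      rintro _ ⟨a, rfl⟩
      rw [c.span4_apply]
      have sm : ∀ (t : ZMod 2) (u : c.Vs), u ∈ W → t • u ∈ W := fun t u hu => by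
        rcases (by decide : ∀ t : ZMod 2, t = 0 ∨ t = 1) t with rfl | rfl
        · rw [zero_smul]; exact zero_mem _
        · rwa [one_smul]
      exact add_mem (add_mem (add_mem (sm _ _ hw) (sm _ _ (hWx _ hw))) (sm _ _ (hWx _ (hWx _ hw))))
        (sm _ _ (hWx _ (hWx _ (hWx _ hw))))
    have hSx : ∀ v ∈ S, c.act x v ∈ S := by
      rintro _ ⟨a, rfl⟩
      refine ⟨![a 3, a 0 + a 3, a 1 + a 3, a 2 + a 3], ?_⟩
      simp only [c.span4_apply, Matrix.cons_val_zero, Matrix.cons_val_one, Matrix.cons_val, map_add,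
        c.map_zsmul2, ← hTdef]
      rw [hsum w hw]
      simp only [smul_add, add_smul]
      abel
    have hmod := c.card_fix_mod hxH hx5 S hSx
    rw [show S ⊓ c.fix {x} = ⊥ from (AddSubgroup.eq_bot_iff_forall _).2 fun u hu =>
      hW0 u (hSW hu.1) (c.mem_fix_singleton.1 hu.2), AddSubgroup.card_bot] at hmod
    have hle : Nat.card ↥S ≤ 16 := hW16 ▸ AddSubgroup.card_le_of_le hSW
    obtain ⟨k, -, hk⟩ := c.card_addSubgroup S
    have hSne : Nat.card ↥S ≠ 1 := fun h => hw0 (by
      have hmem : c.span4 T w ![1, 0, 0, 0] ∈ S := ⟨_, rfl⟩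
      rw [AddSubgroup.card_eq_one.1 h, AddSubgroup.mem_bot] at hmem
      simpa [c.span4_apply] using hmem)
    have hS16 : Nat.card ↥S = 16 := by
      rw [hk] at hmod hle hSne ⊢
      have hk4 : k ≤ 4 := (Nat.pow_le_pow_iff_right (le_refl 2)).1 (hle.trans (le_of_eq (by norm_num)))
      interval_cases k <;> simp at hmod hSne ⊢
    refine ⟨?_, fun u hu => ?_⟩
    · have hs : Function.Surjective (c.span4 T w).rangeRestrict := (c.span4 T w).rangeRestrict_surjective
      have hb := (Nat.bijective_iff_surjective_and_card _).2 ⟨hs, by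
        show Nat.card (Fin 4 → ZMod 2) = Nat.card ↥S
        rw [hS16, Nat.card_fun]; simp⟩
      intro a b hab
      exact hb.1 (Subtype.ext hab)
    · exact (AddSubgroup.eq_of_le_of_card_ge hSW (by rw [hW16, hS16])).symm.le hu
  obtain ⟨v, hv, hv0⟩ : ∃ v ∈ W, v ≠ 0 := by
    by_contra hcon
    push Not at hcon
    rw [(AddSubgroup.eq_bot_iff_forall _).2 hcon, AddSubgroup.card_bot] at hW16
    omega
  obtain ⟨a, ha⟩ := (hspan v hv hv0).2 (c.om v) (hWo v hv)
  have homT : ∀ w, c.om (T w) = T (c.om w) := fun w => (c.om_M hx w).symm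
  have hall : ∀ w ∈ W, c.om w = c.span4 T w a := by
    intro w hw
    obtain ⟨b, rfl⟩ := (hspan v hv hv0).2 w hw
    simp only [c.span4_apply, map_add, c.map_zsmul2, homT, ← ha, smul_add]
    simp only [smul_smul, mul_comm]
    abel
  have hnT : ∀ w, c.act n (T w) = T (T (c.act n w)) := by
    intro w
    have e : c.act n (T w) = c.act (n * x * n⁻¹) (c.act n w) := by
      rw [c.act_mul (mul_mem hnH hxH) (inv_mem hnH), c.act_mul hnH hxH]
      show _ = c.act n (c.act x (c.act n⁻¹ (c.act n w)))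
      rw [c.act_inv_apply hnH]
    rw [e, hnx, show (2 : ℕ) = 1 + 1 from rfl, hp, h1]
  have hnW : c.act n v ∈ W := hWn v hv
  have hn0 : c.act n v ≠ 0 := fun h => hv0 (c.act_injective hnH (h.trans (map_zero _).symm))
  set u := c.act n v with hu
  have key : c.span4 T u a = c.span4 T u ![a 0 + a 2, a 2 + a 3, a 1 + a 2, a 2] := by
    rw [← hall u hnW, hu, ← c.om_M hn, ← ha]
    simp only [c.span4_apply, map_add, c.map_zsmul2, Matrix.cons_val_zero, Matrix.cons_val_one, Matrix.cons_val,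
      hnT, ← hu]
    rw [show T (T (T (T (T (T u))))) = T u from by rw [hT5 (T u)], hsum u hnW]
    simp only [smul_add, add_smul]
    abel
  have hc := (hspan u hnW hn0).1 key
  have e0 := congrFun hc 0
  have e1 := congrFun hc 1
  have e2 := congrFun hc 2
  simp only [Matrix.cons_val_zero, Matrix.cons_val_one, Matrix.cons_val] at e0 e1 e2
  have h2 : a 2 = 0 := by simpa using e0.symm
  have h1' : a 1 = 0 := by rw [h2, add_zero] at e2; exact e2.symm
  have h3 : a 3 = 0 := by rw [h2, zero_add, h1'] at e1; exact e1.symm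
  have hfin := hall u hnW
  rw [c.span4_apply, h1', h2, h3] at hfin
  simp only [zero_smul, add_zero] at hfin
  rcases (by decide : ∀ t : ZMod 2, t = 0 ∨ t = 1) (a 0) with h0 | h0 <;> rw [h0] at hfin
  · rw [zero_smul] at hfin
    exact hn0 (c.om_injective (hfin.trans (map_zero c.om).symm))
  · rw [one_smul] at hfin
    exact hn0 (c.om_fixed hfin)

/-- The fixed space has order sixteen if it is not trivial. -/
theorem card_fix_five (hxE : x ∉ c.E) (hne : c.fix {x} ≠ ⊥) : Nat.card ↥(c.fix {x}) = 16 := by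
  haveI : Fact (Nat.Prime 5) := ⟨by norm_num⟩
  have hxH := c.H_of_M hx
  have hnH := c.H_of_M hn
  have hom : ∀ v ∈ c.fix {x}, c.om v ∈ c.fix {x} := fun v hv => c.fix_om (Set.singleton_subset_iff.2 hx) hv
  have hmod := c.card_fix_mod hxH hx5 ⊤ fun _ _ => AddSubgroup.mem_top _
  rw [top_inf_eq, AddSubgroup.card_top, c.card_V] at hmod
  obtain ⟨k, hk, he⟩ := c.card_eq_two_pow _ hom
  have hk0 : k ≠ 0 := fun h => hne (AddSubgroup.card_eq_one.1 (by rw [he, h, pow_zero]))
  have hk6 : k ≠ 6 := by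
    intro h
    have htop : c.fix {x} = ⊤ := AddSubgroup.eq_top_of_card_eq _ (by rw [he, h, c.card_V]; norm_num)
    refine hxE ((c.act_eq_one hxH).1 (AddMonoidHom.ext fun v => ?_))
    exact c.mem_fix_singleton.1 (htop ▸ AddSubgroup.mem_top v)
  rw [he] at hmod ⊢
  interval_cases k
  · exact absurd rfl hk0
  · norm_num at hmod
  · norm_num
  · norm_num at hmod
  rotate_left
  · norm_num at hmod
  · exact absurd rfl hk6
  exfalso
  have hW16 : Nat.card ↥(c.perp (c.fix {x})) = 16 := by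
    have h := c.card_perp (c.fix {x})
    rw [he] at h
    omega
  refine c.no_invariant_sixteen hx hx5 hn hnx _ hW16 (fun v hv => c.perp_fix_invariant hxH hv)
    (fun v hv => c.perp_om hom hv) (fun v hv => c.perp_invariant hnH (fun u hu => ?_) hv) fun v hv h =>
      (AddSubgroup.eq_bot_iff_forall _).1 (c.fix_inf_perp (by decide : Odd 5) hxH hx5) v
        ⟨c.mem_fix_singleton.2 h, hv⟩
  exact c.fix_inv_of_conj_sq hx hx5 hn hnx hu

end Five

section Seven

variable {x : G} (hx : x ∈ c.M) (hx7 : c.act (x ^ 7) = 1)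
include hx hx7

/-- An element of order seven fixes only zero. -/
theorem card_fix_seven (hxE : x ∉ c.E) : c.fix {x} = ⊥ := by
  classical
  haveI : Fact (Nat.Prime 7) := ⟨by norm_num⟩
  have hxH := c.H_of_M hx
  have hom : ∀ v ∈ c.fix {x}, c.om v ∈ c.fix {x} := fun v hv => c.fix_om (Set.singleton_subset_iff.2 hx) hv
  have hmod := c.card_fix_mod hxH hx7 ⊤ fun _ _ => AddSubgroup.mem_top _
  rw [top_inf_eq, AddSubgroup.card_top, c.card_V] at hmod
  obtain ⟨k, hk, he⟩ := c.card_eq_two_pow _ hom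
  have hk6 : k ≠ 6 := by
    intro h
    have htop : c.fix {x} = ⊤ := AddSubgroup.eq_top_of_card_eq _ (by rw [he, h, c.card_V]; norm_num)
    refine hxE ((c.act_eq_one hxH).1 (AddMonoidHom.ext fun v => ?_))
    exact c.mem_fix_singleton.1 (htop ▸ AddSubgroup.mem_top v)
  rw [← AddSubgroup.card_eq_one, he]
  rw [he] at hmod
  interval_cases k
  · norm_num
  · norm_num at hmod
  · norm_num at hmod
  rotate_left
  · norm_num at hmod
  · norm_num at hmod
  · exact absurd rfl hk6
  exfalso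
  set W := c.perp (c.fix {x}) with hWdef
  have hW64 : Nat.card ↥W = 64 := by
    have h := c.card_perp (c.fix {x})
    rw [he] at h
    rw [hWdef]
    omega
  have hWx : ∀ v ∈ W, c.act x v ∈ W := fun v hv => c.perp_fix_invariant hxH hv
  have hW0 : ∀ v ∈ W, c.act x v = v → v = 0 := fun v hv h =>
    (AddSubgroup.eq_bot_iff_forall _).1 (c.fix_inf_perp (by decide : Odd 7) hxH hx7) v
      ⟨c.mem_fix_singleton.2 h, hv⟩
  set T := c.act x with hTdef
  have hp : ∀ i w, c.act (x ^ (i + 1)) w = T (c.act (x ^ i) w) := fun i w => c.act_iterate hxH i w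
  have hT7 : ∀ w, T (T (T (T (T (T (T w)))))) = w := by
    intro w
    rw [show T w = c.act (x ^ 1) w by rw [pow_one], ← hp, ← hp, ← hp, ← hp, ← hp, ← hp, hx7]
    rfl
  have hB : ∀ a b, c.Bf (T a) (T b) = c.Bf a b := fun a b => c.Bf_act hxH a b
  let p : AddMonoid.End c.Vs := T * T * T + T + 1
  let q : AddMonoid.End c.Vs := T * T * T + T * T + 1
  have hpa : ∀ w, p w = T (T (T w)) + T w + w := fun w => rfl
  have hqa : ∀ w, q w = T (T (T w)) + T (T w) + w := fun w => rfl
  let Kp : AddSubgroup c.Vs := W ⊓ (p : c.Vs →+ c.Vs).ker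
  let Kq : AddSubgroup c.Vs := W ⊓ (q : c.Vs →+ c.Vs).ker
  have hmemp : ∀ w, w ∈ Kp ↔ w ∈ W ∧ p w = 0 := fun w => Iff.rfl
  have hmemq : ∀ w, w ∈ Kq ↔ w ∈ W ∧ q w = 0 := fun w => Iff.rfl
  have hpW : ∀ w ∈ W, p w ∈ W := fun w hw => by
    rw [hpa]; exact add_mem (add_mem (hWx _ (hWx _ (hWx _ hw))) (hWx _ hw)) hw
  have hqW : ∀ w ∈ W, q w ∈ W := fun w hw => by
    rw [hqa]; exact add_mem (add_mem (hWx _ (hWx _ (hWx _ hw))) (hWx _ (hWx _ hw))) hw
  have hpq : ∀ w ∈ W, p (q w) = 0 ∧ q (p w) = 0 := by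
    intro w hw
    have hs : p (q w) = 0 := by
      refine hW0 _ (hpW _ (hqW _ hw)) (c.add_eq_zero_V ?_)
      show T (p (q w)) + p (q w) = 0
      simp only [hpa, hqa, map_add]
      rw [hT7]
      have h2 := c.two_V
      rw [show (0 : c.Vs) = (T (T (T (T (T (T w))))) + T (T (T (T (T (T w)))))) + (T (T (T (T (T w)))) + T (T (T (T (T w))))) +
        (T (T (T (T w))) + T (T (T (T w)))) + (T (T (T w)) + T (T (T w))) + (T (T w) + T (T w)) +
        (T w + T w) + (w + w) + (T (T (T (T w))) + T (T (T (T w)))) + (T (T (T w)) + T (T (T w))) by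
          simp only [h2, add_zero]]
      abel
    refine ⟨hs, ?_⟩
    rw [← hs]
    simp only [hpa, hqa, map_add]
    abel
  have hboth : ∀ w ∈ W, p w = 0 → q w = 0 → w = 0 := by
    intro w hw h1 h2
    refine hW0 w hw (c.act_injective hxH (show T (T w) = T w from c.add_eq_zero_V ?_))
    rw [hpa] at h1; rw [hqa] at h2
    calc T (T w) + T w = T (T (T w)) + T w + w + (T (T (T w)) + T (T w) + w) +
          ((T (T (T w)) + T (T (T w))) + (w + w)) := by
          rw [show T (T (T w)) + T w + w + (T (T (T w)) + T (T w) + w) = T (T w) + T w +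
            ((T (T (T w)) + T (T (T w))) + (w + w)) by abel]
          simp only [c.two_V, add_zero]
      _ = 0 := by rw [h1, h2]; simp only [c.two_V, add_zero]
  have hs1 : ∀ a b, c.Bf a (T b) = c.Bf (T (T (T (T (T (T a)))))) b := fun a b => by
    conv_lhs => rw [← hT7 a, hB]
  have hs2 : ∀ a b, c.Bf a (T (T b)) = c.Bf (T (T (T (T (T a))))) b := fun a b => by
    conv_lhs => rw [← hT7 a, hB, hB]
  have hs3 : ∀ a b, c.Bf a (T (T (T b))) = c.Bf (T (T (T (T a)))) b := fun a b => by
    conv_lhs => rw [← hT7 a, hB, hB, hB]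
  -- each of the two is totally isotropic
  have hisoP : ∀ a ∈ Kp, ∀ b ∈ Kp, c.Bf a b = 0 := by
    intro a ha b hb
    let f : ↥Kp → ↥Kp := fun w => ⟨q w.1, hqW _ w.2.1, (hpq _ w.2.1).1⟩
    have hf : Function.Injective f := by
      intro u v h
      have h' : q ((u : c.Vs) - v) = 0 := by rw [map_sub, sub_eq_zero]; exact congrArg Subtype.val h
      exact Subtype.ext (sub_eq_zero.1 (hboth _ (sub_mem u.2.1 v.2.1)
        (by rw [map_sub, show p u.1 = 0 from u.2.2, show p v.1 = 0 from v.2.2, sub_zero]) h'))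
    obtain ⟨b', hb'⟩ := Finite.injective_iff_surjective.1 hf ⟨b, hb⟩
    have hb'' : q (b' : c.Vs) = b := congrArg Subtype.val hb'
    have ha0 := ((hmemp a).1 ha).2
    rw [hpa] at ha0
    have e3 : T (T (T a)) = T a + a := c.add_eq_zero_V (by rw [← ha0]; abel)
    rw [← hb'', hqa, c.Bf_add_right, c.Bf_add_right, hs3, hs2, ← c.Bf_add_left, ← c.Bf_add_left]
    rw [show T (T (T (T a))) + T (T (T (T (T a)))) + a = 0 by
      simp only [e3, map_add]
      calc T (T a) + T a + (T a + a + T (T a)) + a = (T (T a) + T (T a)) + (T a + T a) + (a + a) := by abel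
        _ = 0 := by simp only [c.two_V, add_zero]]
    exact c.Bf_zero_left _
  have hisoQ : ∀ a ∈ Kq, ∀ b ∈ Kq, c.Bf a b = 0 := by
    intro a ha b hb
    let f : ↥Kq → ↥Kq := fun w => ⟨p w.1, hpW _ w.2.1, (hpq _ w.2.1).2⟩
    have hf : Function.Injective f := by
      intro u v h
      have h' : p ((u : c.Vs) - v) = 0 := by rw [map_sub, sub_eq_zero]; exact congrArg Subtype.val h
      exact Subtype.ext (sub_eq_zero.1 (hboth _ (sub_mem u.2.1 v.2.1) h'
        (by rw [map_sub, show q u.1 = 0 from u.2.2, show q v.1 = 0 from v.2.2, sub_zero])))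
    obtain ⟨b', hb'⟩ := Finite.injective_iff_surjective.1 hf ⟨b, hb⟩
    have hb'' : p (b' : c.Vs) = b := congrArg Subtype.val hb'
    have ha0 := ((hmemq a).1 ha).2
    rw [hqa] at ha0
    have e3 : T (T (T a)) = T (T a) + a := c.add_eq_zero_V (by rw [← ha0]; abel)
    rw [← hb'', hpa, c.Bf_add_right, c.Bf_add_right, hs3, hs1, ← c.Bf_add_left, ← c.Bf_add_left]
    rw [show T (T (T (T a))) + T (T (T (T (T (T a))))) + a = 0 by
      simp only [e3, map_add]
      calc T (T a) + a + T a + (T (T a) + a + T a + T (T a) + (T (T a) + a)) + a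
          = (T (T a) + T (T a)) + (T (T a) + T (T a)) + (T a + T a) + (a + a) + (a + a) := by abel
        _ = 0 := by simp only [c.two_V, add_zero]]
    exact c.Bf_zero_left _
  -- the two parts fill the commutator space
  have hprod : 64 ≤ Nat.card ↥Kp * Nat.card ↥Kq := by
    rw [← hW64, ← Nat.card_prod]
    refine Nat.card_le_card_of_injective
      (fun w : ↥W => ((⟨q w.1, hqW _ w.2, (hpq _ w.2).1⟩ : ↥Kp), (⟨p w.1, hpW _ w.2, (hpq _ w.2).2⟩ : ↥Kq))) ?_
    intro u v h
    rw [Prod.mk.injEq] at h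
    exact Subtype.ext (sub_eq_zero.1 (hboth _ (sub_mem u.2 v.2)
      (by rw [map_sub, sub_eq_zero]; exact congrArg Subtype.val h.2)
      (by rw [map_sub, sub_eq_zero]; exact congrArg Subtype.val h.1)))
  have hcard : ∀ K : AddSubgroup c.Vs, K ≤ W → (∀ v ∈ K, c.act x v ∈ K) → (∀ v ∈ K, c.om v ∈ K) →
      (∀ a ∈ K, ∀ b ∈ K, c.Bf a b = 0) → Nat.card ↥K = 1 := by
    intro K hKW hKx hKo hiso
    obtain ⟨j, hj, hje⟩ := c.card_eq_two_pow K hKo
    have hm := c.card_fix_mod hxH hx7 K hKx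
    rw [show K ⊓ c.fix {x} = ⊥ from (AddSubgroup.eq_bot_iff_forall _).2 fun u hu =>
      hW0 u (hKW hu.1) (c.mem_fix_singleton.1 hu.2), AddSubgroup.card_bot, hje] at hm
    have hle := AddSubgroup.card_le_of_le hKW
    rw [hje, hW64] at hle
    interval_cases j
    · rw [hje]; norm_num
    · norm_num at hm
    · norm_num at hm
    rotate_left
    · norm_num at hle
    · norm_num at hle
    · norm_num at hle
    exfalso
    have hKWe : K = W := AddSubgroup.eq_of_le_of_card_ge hKW (by rw [hje, hW64]; norm_num)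
    have hsub : W ≤ c.perp W := fun b hb a ha => hiso a (hKWe.symm ▸ ha) b (hKWe.symm ▸ hb)
    rw [hWdef, c.perp_perp] at hsub
    have h0 : W = ⊥ := (AddSubgroup.eq_bot_iff_forall _).2 fun u hu => hW0 u hu (c.mem_fix_singleton.1 (hsub hu))
    rw [h0, AddSubgroup.card_bot] at hW64
    omega
  have hKo : (∀ v ∈ Kp, c.om v ∈ Kp) ∧ ∀ v ∈ Kq, c.om v ∈ Kq := by
    have homT : ∀ w, c.om (T w) = T (c.om w) := fun w => (c.om_M hx w).symm
    constructor <;> intro v hv <;> refine ⟨c.perp_om hom hv.1, ?_⟩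
    · show p (c.om v) = 0
      rw [hpa, ← homT, ← homT, ← homT, ← map_add, ← map_add, ← hpa, show p v = 0 from hv.2, map_zero]
    · show q (c.om v) = 0
      rw [hqa, ← homT, ← homT, ← homT, ← map_add, ← map_add, ← hqa, show q v = 0 from hv.2, map_zero]
  have hpT : ∀ v, p (T v) = T (p v) := fun v => by rw [hpa, hpa, map_add, map_add]
  have hqT : ∀ v, q (T v) = T (q v) := fun v => by rw [hqa, hqa, map_add, map_add]
  rw [hcard Kp inf_le_left (fun v hv => ⟨hWx v hv.1, by show p (T v) = 0; rw [hpT, show p v = 0 from hv.2, map_zero]⟩)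
    hKo.1 hisoP, hcard Kq inf_le_left (fun v hv => ⟨hWx v hv.1, by
      show q (T v) = 0; rw [hqT, show q v = 0 from hv.2, map_zero]⟩) hKo.2 hisoQ] at hprod
  omega

end Seven

end CfsgLib.Spor.JFourType.Ctx
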