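import Cfsg.Agent.Lib.Spor.JFourType.Basic

/-!
# The centralizer of `P` covers the simple subgroup of index two
-/

set_option autoImplicit false
set_option linter.style.haveILetI false

namespace CfsgLib.Spor.JFourType.Ctx

open Subgroup

universe u

variable {G : Type u} [Group G] [Finite G] {A : Type} [Group A] {J I R : Subgroup A}
  {z : G} {P : Subgroup G} (c : Ctx J I R z P)
include c

omit [Finite G] in
theorem pg_H : c.pg ∈ c.H := (c.P_le_C0 c.pg_mem).1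

omit [Finite G] in
theorem pg_cube : c.pg * c.pg * c.pg = 1 := by
  have h := pow_orderOf_eq_one c.pg
  rwa [c.ord_pg, pow_succ, pow_two] at h

omit [Finite G] in
theorem mem_P {q : G} (hq : q ∈ P) : q = 1 ∨ q = c.pg ∨ q = c.pg⁻¹ := by
  classical
  have h0 : q ∈ zpowers c.pg := c.zpowers_pg.symm ▸ hq
  have hfin : IsOfFinOrder c.pg := orderOf_pos_iff.1 (by rw [c.ord_pg]; norm_num)
  obtain ⟨k, hk, rfl⟩ := (hfin.mem_zpowers_iff_mem_range_orderOf.1 h0 |> Finset.mem_image.1)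
  rw [Finset.mem_range, c.ord_pg] at hk
  interval_cases k
  · exact Or.inl (pow_zero _)
  · exact Or.inr (Or.inl (pow_one _))
  · exact Or.inr (Or.inr (eq_inv_of_mul_eq_one_left (by rw [pow_two]; exact c.pg_cube)))

omit [Finite G] in
theorem centralizes_iff {x : G} : x ∈ centralizer (P : Set G) ↔ x * c.pg * x⁻¹ = c.pg := by
  rw [c.centralizer_P, mem_centralizer_singleton_iff, mul_inv_eq_iff_eq_mul]

omit [Finite G] in
theorem mem_C0_iff {x : G} : x ∈ c.C0 ↔ x ∈ c.H ∧ x * c.pg * x⁻¹ = c.pg := by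
  rw [mem_inf, c.centralizes_iff]

omit [Finite G] in
/-- An element normalizing `P` centralizes or inverts it. -/
theorem inv_or_comm {x : G} (hx : x ∈ c.NH) : x ∈ c.C0 ∨ x * c.pg * x⁻¹ = c.pg⁻¹ := by
  have h := (mem_normalizer_iff.1 hx.2 c.pg).1 c.pg_mem
  rcases c.mem_P h with h' | h' | h'
  · exfalso
    have e : c.pg = 1 := by
      calc c.pg = x⁻¹ * (x * c.pg * x⁻¹) * x := by group
        _ = 1 := by rw [h', mul_one, inv_mul_cancel]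
    simpa [e] using c.ord_pg
  · exact Or.inl (c.mem_C0_iff.2 ⟨hx.1, h'⟩)
  · exact Or.inr h'

theorem E_inf_P {x : G} (h1 : x ∈ c.E) (h2 : x ∈ P) : x = 1 := by
  have hd := c.card_E ▸ orderOf_dvd_natCard (⟨x, h1⟩ : ↥c.E)
  have hd' := c.card_P ▸ orderOf_dvd_natCard (⟨x, h2⟩ : ↥P)
  rw [← Subgroup.orderOf_coe] at hd hd'
  exact orderOf_eq_one_iff.1 (Nat.eq_one_of_dvd_coprimes (by norm_num) hd hd')

omit [Finite G] in
theorem E_centralizer {a : G} (ha : a ∈ c.E) (h : a * c.pg * a⁻¹ = c.pg) : a = 1 ∨ a = z := by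
  have h1 : a ∈ zpowers z := c.E_inf_centralizer ▸ (mem_inf.2 ⟨ha, c.centralizes_iff.2 h⟩)
  obtain ⟨n, rfl⟩ := mem_zpowers_iff.1 h1
  rcases Int.even_or_odd' n with ⟨k, rfl | rfl⟩
  · exact Or.inl (by rw [zpow_mul, zpow_ofNat, pow_two, c.zz, one_zpow])
  · exact Or.inr (by rw [zpow_add, zpow_mul, zpow_ofNat, pow_two, c.zz, one_zpow, one_mul, zpow_one])

theorem E_normalizer {a : G} (ha : a ∈ c.E) (hn : a ∈ c.NH) : a * c.pg * a⁻¹ = c.pg := by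
  have h1 : a * c.pg * a⁻¹ * c.pg⁻¹ ∈ c.E := by
    rw [show a * c.pg * a⁻¹ * c.pg⁻¹ = a * (c.pg * a⁻¹ * c.pg⁻¹) by group]
    exact mul_mem ha (c.conj_E c.pg_H (inv_mem ha))
  exact mul_inv_eq_one.1 (c.E_inf_P h1 (mul_mem ((mem_normalizer_iff.1 hn.2 c.pg).1 c.pg_mem) (inv_mem c.pg_mem)))

/-- Frattini: `H` is the product of the core and the normalizer of `P`. -/
theorem exists_E_NH {h : G} (hh : h ∈ c.H) : ∃ e ∈ c.E, e⁻¹ * h ∈ c.NH := by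
  haveI : Fact (Nat.Prime 3) := ⟨Nat.prime_three⟩
  set p' := h * c.pg * h⁻¹ with hp'
  have hp'H : p' ∈ c.H := mul_mem (mul_mem hh c.pg_H) (inv_mem hh)
  let pk : ↥c.pr.ker := ⟨⟨c.pg, c.pg_H⟩, MonoidHom.mem_ker.2 (c.pr_P c.pg_mem)⟩
  let pk' : ↥c.pr.ker := ⟨⟨p', hp'H⟩, MonoidHom.mem_ker.2 (by
    rw [show (⟨p', hp'H⟩ : ↥c.H) = ⟨h, hh⟩ * ⟨c.pg, c.pg_H⟩ * ⟨h, hh⟩⁻¹ from Subtype.ext hp', map_mul, map_mul,
      c.pr_P c.pg_mem, mul_one, map_inv, mul_inv_cancel])⟩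
  have hord : ∀ w : ↥c.pr.ker, orderOf ((w : ↥c.H) : G) = 3 → Nat.card ↥(zpowers w) = 3 ^ (Nat.card ↥c.pr.ker).factorization 3 := by
    intro w hw
    rw [Nat.card_zpowers, ← Subgroup.orderOf_coe, ← Subgroup.orderOf_coe, hw, c.card_ker,
      Nat.factorization_mul (by norm_num) (by norm_num), Finsupp.add_apply, Nat.prime_three.factorization_self,
      Nat.factorization_eq_zero_of_not_dvd (by norm_num)]
    norm_num
  let S : Sylow 3 ↥c.pr.ker := Sylow.ofCard (zpowers pk) (hord pk c.ord_pg)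
  let S' : Sylow 3 ↥c.pr.ker := Sylow.ofCard (zpowers pk') (hord pk' (by
    show orderOf p' = 3
    rw [hp', ← MulAut.conj_apply, MulEquiv.orderOf_eq, c.ord_pg]))
  obtain ⟨k, hk⟩ := MulAction.exists_smul_eq ↥c.pr.ker S S'
  have hmem : k * pk * k⁻¹ ∈ zpowers pk' := by
    show k * pk * k⁻¹ ∈ (S' : Subgroup ↥c.pr.ker)
    rw [← hk, Sylow.coe_subgroup_smul]
    exact Subgroup.smul_mem_pointwise_smul pk (MulAut.conj k) (S : Subgroup ↥c.pr.ker) (mem_zpowers pk)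
  obtain ⟨a, ha, q, hq, hka⟩ := c.ker_decomp (k : ↥c.H).2 (MonoidHom.mem_ker.1 k.2)
  have hq' : q * c.pg * q⁻¹ = c.pg := by
    rcases c.mem_P hq with rfl | rfl | rfl <;> group
  have hg : a * c.pg * a⁻¹ ∈ zpowers p' := by
    obtain ⟨n, hn⟩ := mem_zpowers_iff.1 hmem
    refine mem_zpowers_iff.2 ⟨n, ?_⟩
    have h2 : p' ^ n = ((k : ↥c.H) : G) * c.pg * ((k : ↥c.H) : G)⁻¹ := by
      have := congrArg (fun w : ↥c.pr.ker => ((w : ↥c.H) : G)) hn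
      simpa [pk, pk'] using this
    rw [h2, hka]
    calc a * q * c.pg * (a * q)⁻¹ = a * (q * c.pg * q⁻¹) * a⁻¹ := by group
      _ = _ := by rw [hq']
  refine ⟨a, ha, mem_inf.2 ⟨mul_mem (inv_mem (c.E_le ha)) hh, ?_⟩⟩
  -- the element carries `P` to itself
  have hfwd : ∀ y ∈ P, (a⁻¹ * h)⁻¹ * y * (a⁻¹ * h) ∈ P := by
    intro y hy
    obtain ⟨n, hn⟩ := mem_zpowers_iff.1 hg
    have hone : (a⁻¹ * h)⁻¹ * c.pg * (a⁻¹ * h) = c.pg ^ n := by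
      calc (a⁻¹ * h)⁻¹ * c.pg * (a⁻¹ * h) = h⁻¹ * (a * c.pg * a⁻¹) * h := by group
        _ = h⁻¹ * p' ^ n * h := by rw [hn]
        _ = _ := by
          rw [hp', conj_zpow]
          group
    obtain ⟨m, rfl⟩ := mem_zpowers_iff.1 (show y ∈ zpowers c.pg from c.zpowers_pg.symm ▸ hy)
    rw [show (a⁻¹ * h)⁻¹ * c.pg ^ m * (a⁻¹ * h) = ((a⁻¹ * h)⁻¹ * c.pg * (a⁻¹ * h)) ^ m by
      conv_lhs => rw [show (a⁻¹ * h)⁻¹ * c.pg ^ m * (a⁻¹ * h) = (a⁻¹ * h)⁻¹ * c.pg ^ m * ((a⁻¹ * h)⁻¹)⁻¹ by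
        rw [inv_inv], ← conj_zpow, inv_inv], hone]
    exact zpow_mem (zpow_mem c.pg_mem _) _
  haveI : Finite ↥P := inferInstance
  have hinv : (a⁻¹ * h)⁻¹ ∈ normalizer (P : Set G) :=
    mem_normalizer_fintype fun y hy => by simpa using hfwd y hy
  exact inv_mem_iff.1 hinv

/-- The preimage of the simple subgroup. -/
noncomputable def M : Subgroup G := (J.comap c.pr).map c.H.subtype

omit [Finite G] in
theorem mem_M {x : G} : x ∈ c.M ↔ ∃ hx : x ∈ c.H, c.pr ⟨x, hx⟩ ∈ J := by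
  constructor
  · rintro ⟨w, hw, rfl⟩; exact ⟨w.2, hw⟩
  · rintro ⟨hx, h⟩; exact ⟨⟨x, hx⟩, h, rfl⟩

theorem exists_inverting : ∃ n ∈ c.NH, n * c.pg * n⁻¹ = c.pg⁻¹ := by
  by_contra hcon
  push Not at hcon
  exact c.norm_ne (le_antisymm (fun x hx => (c.inv_or_comm hx).resolve_right (hcon x hx)) c.C0_le_NH)

/-- The image of `C0` is the simple subgroup. -/
theorem map_C0 : (c.C0.subgroupOf c.H).map c.pr = J := by
  set L := (c.C0.subgroupOf c.H).map c.pr with hL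
  obtain ⟨n, hn, hni⟩ := c.exists_inverting
  have hcover : ∀ a : A, ∃ x, ∃ hx : x ∈ c.NH, c.pr ⟨x, hx.1⟩ = a := by
    intro a
    obtain ⟨⟨h, hh⟩, rfl⟩ := c.pr_surj a
    obtain ⟨e, he, hx⟩ := c.exists_E_NH hh
    refine ⟨e⁻¹ * h, hx, ?_⟩
    rw [show (⟨e⁻¹ * h, hx.1⟩ : ↥c.H) = ⟨e⁻¹, c.E_le (inv_mem he)⟩ * ⟨h, hh⟩ from rfl, map_mul,
      c.pr_E (inv_mem he), one_mul]
  have hnL : c.pr ⟨n, hn.1⟩ ∉ L := by
    rintro ⟨⟨y, hy⟩, hyC, hyn⟩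
    have hyC' : y ∈ c.C0 := hyC
    obtain ⟨a, ha, q, hq, hd⟩ := c.ker_decomp (x := y⁻¹ * n) (mul_mem (inv_mem hy) hn.1) (by
      rw [show (⟨y⁻¹ * n, mul_mem (inv_mem hy) hn.1⟩ : ↥c.H) = ⟨y, hy⟩⁻¹ * ⟨n, hn.1⟩ from rfl, map_mul, map_inv,
        hyn, inv_mul_cancel])
    have haN : a ∈ c.NH := by
      rw [show a = y⁻¹ * n * q⁻¹ by rw [hd]; group]
      exact mul_mem (mul_mem (inv_mem (c.C0_le_NH hyC')) hn) (inv_mem (c.C0_le_NH (c.P_le_C0 hq)))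
    have haC : a ∈ c.C0 := c.mem_C0_iff.2 ⟨c.E_le ha, c.E_normalizer ha haN⟩
    have hnC : n ∈ c.C0 := by
      rw [show n = y * (a * q) by rw [← hd]; group]
      exact mul_mem hyC' (mul_mem haC (c.P_le_C0 hq))
    rw [(c.mem_C0_iff.1 hnC).2, eq_inv_iff_mul_eq_one] at hni
    have := orderOf_dvd_of_pow_eq_one (show c.pg ^ 2 = 1 by rwa [pow_two])
    rw [c.ord_pg] at this
    norm_num at this
  have hmem : ∀ x, ∀ hx : x ∈ c.C0, c.pr ⟨x, hx.1⟩ ∈ L := fun x hx => ⟨⟨x, hx.1⟩, hx, rfl⟩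
  have hL2 : L.index = 2 := by
    rw [index_eq_two_iff]
    refine ⟨(c.pr ⟨n, hn.1⟩)⁻¹, fun b => ?_⟩
    obtain ⟨x, hx, rfl⟩ := hcover b
    have hprod : x * n⁻¹ ∈ c.NH := mul_mem hx (inv_mem hn)
    rcases c.inv_or_comm hx with h | h
    · refine Or.inr ⟨hmem x h, fun h' => hnL ?_⟩
      rw [show c.pr ⟨n, hn.1⟩ = ((c.pr ⟨x, hx.1⟩)⁻¹ * (c.pr ⟨x, hx.1⟩ * (c.pr ⟨n, hn.1⟩)⁻¹))⁻¹ by group]
      exact inv_mem (mul_mem (inv_mem (hmem x h)) h')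
    · have hcomm : (x * n⁻¹) * c.pg * (x * n⁻¹)⁻¹ = c.pg := by
        have hn' : n⁻¹ * c.pg * n = c.pg⁻¹ := by
          calc n⁻¹ * c.pg * n = n⁻¹ * (n * c.pg * n⁻¹)⁻¹ * n := by rw [hni, inv_inv]
            _ = _ := by group
        calc x * n⁻¹ * c.pg * (x * n⁻¹)⁻¹ = x * (n⁻¹ * c.pg * n) * x⁻¹ := by group
          _ = (x * c.pg * x⁻¹)⁻¹ := by rw [hn']; group
          _ = _ := by rw [h, inv_inv]
      have h1 := hmem _ (c.mem_C0_iff.2 ⟨hprod.1, hcomm⟩)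
      rw [show (⟨x * n⁻¹, hprod.1⟩ : ↥c.H) = ⟨x, hx.1⟩ * ⟨n, hn.1⟩⁻¹ from rfl, map_mul, map_inv] at h1
      refine Or.inl ⟨h1, fun h' => hnL ?_⟩
      have h2 := inv_mem (mul_mem (inv_mem h') h1)
      simpa using h2
  haveI := c.facts.simple_J
  haveI hLn : L.Normal := normal_of_index_eq_two hL2
  rcases (inferInstance : IsSimpleGroup ↥J).eq_bot_or_eq_top_of_normal (L.subgroupOf J) inferInstance with h | h
  · exfalso
    have h1 : (L.subgroupOf J).index ∣ L.index := L.relIndex_dvd_index_of_normal J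
    rw [h, index_bot, c.facts.card_J, hL2] at h1
    norm_num at h1
  · have hJL : J ≤ L := subgroupOf_eq_top.1 h
    haveI : Finite A := Finite.of_surjective c.pr c.pr_surj
    refine (eq_of_le_of_card_ge hJL ?_).symm
    have h1 := L.card_mul_index
    have h2 := J.card_mul_index
    rw [hL2] at h1; rw [c.facts.index_J] at h2
    omega

theorem pr_C0 {x : G} (hx : x ∈ c.C0) : c.pr ⟨x, hx.1⟩ ∈ J :=
  c.map_C0.le ⟨⟨x, hx.1⟩, hx, rfl⟩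

theorem exists_C0 {j : A} (hj : j ∈ J) : ∃ x, ∃ hx : x ∈ c.C0, c.pr ⟨x, hx.1⟩ = j := by
  rw [← c.map_C0] at hj
  obtain ⟨⟨x, hxH⟩, hx, rfl⟩ := hj
  exact ⟨x, hx, rfl⟩

theorem C0_le_M : c.C0 ≤ c.M := fun _ hx => c.mem_M.2 ⟨hx.1, c.pr_C0 hx⟩

theorem E_le_M : c.E ≤ c.M := fun e he => c.mem_M.2 ⟨c.E_le he, by rw [c.pr_E he]; exact one_mem _⟩

theorem M_decomp {x : G} (hx : x ∈ c.M) : ∃ e ∈ c.E, e⁻¹ * x ∈ c.C0 := by
  obtain ⟨hxH, hj⟩ := c.mem_M.1 hx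
  obtain ⟨y, hy, hyx⟩ := c.exists_C0 hj
  obtain ⟨a, ha, q, hq, hd⟩ := c.ker_decomp (x := x * y⁻¹) (mul_mem hxH (inv_mem hy.1)) (by
    rw [show (⟨x * y⁻¹, mul_mem hxH (inv_mem hy.1)⟩ : ↥c.H) = ⟨x, hxH⟩ * ⟨y, hy.1⟩⁻¹ from rfl, map_mul, map_inv,
      hyx, mul_inv_cancel])
  refine ⟨a, ha, ?_⟩
  rw [show a⁻¹ * x = q * y by
    calc a⁻¹ * x = a⁻¹ * (x * y⁻¹) * y := by group
      _ = _ := by rw [hd]; group]
  exact mul_mem (c.P_le_C0 hq) hy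

/-- The part of `C0` over the identity. -/
theorem ker_C0 {x : G} (hx : x ∈ c.C0) (h : c.pr ⟨x, hx.1⟩ = 1) :
    ∃ q ∈ P, x = q ∨ x = z * q := by
  obtain ⟨a, ha, q, hq, hd⟩ := c.ker_decomp hx.1 h
  have haC : a ∈ c.C0 := by
    rw [show a = x * q⁻¹ by rw [hd]; group]
    exact mul_mem hx (inv_mem (c.P_le_C0 hq))
  refine ⟨q, hq, ?_⟩
  rcases c.E_centralizer ha (c.mem_C0_iff.1 haC).2 with rfl | rfl
  · exact Or.inl (by rw [hd, one_mul])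
  · exact Or.inr hd

theorem z_mem_C0 : z ∈ c.C0 :=
  c.mem_C0_iff.2 ⟨c.z_mem_H, by rw [← c.comm_z c.pg_H, mul_assoc, mul_inv_cancel, mul_one]⟩

omit [Finite G] in
/-- Outside `M` the normalizer of `P` inverts it. -/
theorem outer_inverts {x : G} (hx : x ∈ c.NH) (hM : x ∉ c.C0) : x * c.pg * x⁻¹ = c.pg⁻¹ :=
  (c.inv_or_comm hx).resolve_left hM

end CfsgLib.Spor.JFourType.Ctx
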