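import Cfsg.Agent.Lib.Spor.JFourType.FiveSevenInterface
import Cfsg.Agent.Lib.Spor.JFourType.PrimeLift
import Cfsg.Agent.Lib.Spor.JFourType.PrimeFix
import Cfsg.Agent.Lib.Spor.JFourType.APoint
import Cfsg.Agent.Lib.Spor.JFourType.LocalNormalizer

/-!
# Elements of order seven of the involution centralizer
-/

set_option autoImplicit false
set_option linter.style.haveILetI false

namespace CfsgLib.Spor.JFourType

open Subgroup

universe u

/-- Fixed points of an element of prime order on a subgroup. -/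
theorem card_conj_fixed_mod {B : Type u} [Group B] [Finite B] {p : ℕ} [Fact p.Prime] {w : B} (hw : w ^ p = 1)
    {S : Subgroup B} (hS : w ∈ normalizer (S : Set B)) :
    Nat.card ↥S % p = Nat.card ↥(S ⊓ centralizer ({w} : Set B)) % p := by
  classical
  have hN : ∀ g : ↥(zpowers w), ∀ a : ↥S, (g : B) * a * (g : B)⁻¹ ∈ S := fun g a =>
    (mem_normalizer_iff.1 (zpowers_le.2 hS g.2) a).1 a.2
  letI act : MulAction ↥(zpowers w) ↥S :=
    { smul := fun g a => ⟨(g : B) * a * (g : B)⁻¹, hN g a⟩
      one_smul := fun a => Subtype.ext (by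
        show (1 : B) * a * (1 : B)⁻¹ = a
        rw [one_mul, inv_one, mul_one])
      mul_smul := fun g h a => Subtype.ext (by
        show ((g : B) * h) * a * ((g : B) * h)⁻¹ = g * ((h : B) * a * (h : B)⁻¹) * (g : B)⁻¹
        group) }
  have hpg : IsPGroup p ↥(zpowers w) := fun g => ⟨1, Subtype.ext (by
    obtain ⟨k, hk⟩ := mem_zpowers_iff.1 g.2
    rw [SubgroupClass.coe_pow, pow_one, ← hk, ← zpow_natCast, ← zpow_mul, mul_comm, zpow_mul, zpow_natCast, hw,
      one_zpow]
    rfl)⟩
  have h := hpg.card_modEq_card_fixedPoints ↥S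
  rw [Nat.ModEq] at h
  rw [h]
  congr 1
  refine Nat.card_congr
    { toFun := fun a => ⟨((a : ↥S) : B), (a : ↥S).2, ?_⟩
      invFun := fun a => ⟨⟨(a : B), a.2.1⟩, fun g => ?_⟩
      left_inv := fun a => rfl
      right_inv := fun a => rfl }
  · have h1 : w * ((a : ↥S) : B) * w⁻¹ = ((a : ↥S) : B) := congrArg Subtype.val (a.2 ⟨w, mem_zpowers w⟩)
    exact mem_centralizer_singleton_iff.2 (mul_inv_eq_iff_eq_mul.1 h1).symm
  · obtain ⟨k, hk⟩ := mem_zpowers_iff.1 g.2
    refine Subtype.ext ?_
    show (g : B) * (a : B) * (g : B)⁻¹ = a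
    rw [← hk, ((show Commute w (a : B) from (mem_centralizer_singleton_iff.1 a.2.2).symm).zpow_left k).eq,
      mul_inv_cancel_right]

namespace Ctx

variable {G : Type u} [Group G] [Finite G] {A : Type} [Group A] {J I R : Subgroup A}
  {z : G} {P : Subgroup G} (c : Ctx J I R z P)
include c

/-- All elements of order seven of the quotient have the same local data. -/
theorem seven_A (F : FiveSeven J I R) {a : A} (ha : orderOf a = 7) :
    a ∈ J ∧ Nat.card ↥(centralizer ({a} : Set A) ⊓ J) = 7 ∧ Nat.card ↥(centralizer ({a} : Set A)) = 14 ∧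
      Nat.card ↥(normalizer (zpowers a : Set A)) = 42 := by
  classical
  haveI := c.finite_A
  haveI : Fact (Nat.Prime 7) := ⟨by norm_num⟩
  haveI hJn : J.Normal := normal_of_index_eq_two c.facts.index_J
  obtain ⟨g, hgJ, hgo, h7, h14, h42⟩ := F.seven
  have hfac : (Nat.card A).factorization 7 = 1 := by
    have h1 : 7 ∣ Nat.card A := hgo ▸ orderOf_dvd_natCard _
    have h2 := ((by norm_num : Nat.Prime 7).dvd_iff_one_le_factorization Nat.card_pos.ne').1 h1
    by_contra hne
    have := ((by norm_num : Nat.Prime 7).pow_dvd_iff_le_factorization (k := 2) (n := Nat.card A) Nat.card_pos.ne').2 (by omega)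
    rw [c.natCard_A] at this
    norm_num at this
  have hcz : ∀ {w : A}, orderOf w = 7 → Nat.card ↥(zpowers w) = 7 ^ (Nat.card A).factorization 7 := fun h => by
    rw [hfac, pow_one, Nat.card_zpowers, h]
  obtain ⟨t, ht⟩ := MulAction.exists_smul_eq A (Sylow.ofCard (zpowers g) (hcz hgo))
    (Sylow.ofCard (zpowers a) (hcz ha))
  set e := MulAut.conj t with he
  have hmap : (zpowers g).map e.toMonoidHom = zpowers a := by
    have h1 := congrArg (fun S : Sylow 7 A => (S : Subgroup A)) ht
    simp only [Sylow.coe_subgroup_smul, Sylow.coe_ofCard] at h1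
    rw [← h1]
    rfl
  have hcard : ∀ S : Subgroup A, Nat.card ↥(S.map e.toMonoidHom) = Nat.card ↥S := fun S =>
    (Nat.card_congr (S.equivMapOfInjective _ e.injective).toEquiv).symm
  have hcs : ∀ w : A, centralizer (zpowers w : Set A) = centralizer ({w} : Set A) := fun w => by
    rw [zpowers_eq_closure, centralizer_closure]
  have hC : (centralizer ({g} : Set A)).map e.toMonoidHom = centralizer ({a} : Set A) := by
    rw [← hcs, ← hcs, ← hmap]
    ext w
    constructor
    · rintro ⟨v, hv, rfl⟩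
      refine mem_centralizer_iff.2 ?_
      rintro _ ⟨b, hb, rfl⟩
      rw [← map_mul, ← map_mul, mem_centralizer_iff.1 hv b hb]
    · intro hw
      refine ⟨e.symm w, mem_centralizer_iff.2 fun b hb => e.injective ?_, e.apply_symm_apply w⟩
      rw [map_mul, map_mul, e.apply_symm_apply]
      exact mem_centralizer_iff.1 hw _ (mem_map_of_mem _ hb)
  have hJe : J.map e.toMonoidHom = J := by
    refine eq_of_le_of_card_ge ?_ (hcard J).ge
    rintro _ ⟨v, hv, rfl⟩
    exact hJn.conj_mem v hv t
  refine ⟨?_, ?_, ?_, ?_⟩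
  · have h1 : a ∈ (zpowers g).map e.toMonoidHom := hmap ▸ mem_zpowers a
    exact hJe ▸ map_mono (zpowers_le.2 hgJ) h1
  · rw [← hC, ← hJe, ← Subgroup.map_inf _ _ _ e.injective, hcard, h7]
  · rw [← hC, hcard, h14]
  · rw [← hmap, ← map_equiv_normalizer_eq, hcard, h42]

/-- An involution of `C0` commuting with an element of order seven of `C0` is the central one. -/
theorem eq_z_of_comm_seven (F : FiveSeven J I R) {w t : G} (hw : w ∈ c.C0) (hwo : orderOf w = 7) (ht : t ∈ c.C0)
    (hto : orderOf t = 2) (hwt : w * t = t * w) : t = z := by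
  classical
  haveI := c.finite_A
  have hao := c.orderOf_im (p := 7) (by norm_num) (by norm_num) hw.1 hwo
  obtain ⟨-, h7, -, -⟩ := c.seven_A F hao
  have ht2 : t * t = 1 := by rw [← pow_two, ← hto, pow_orderOf_eq_one]
  have hmem : c.im t ∈ centralizer ({c.im w} : Set A) ⊓ J := by
    refine ⟨mem_centralizer_singleton_iff.2 ?_, c.im_C0 ht⟩
    rw [← c.im_mul ht.1 hw.1, ← c.im_mul hw.1 ht.1, hwt]
  have hd1 : orderOf (c.im t) ∣ 7 := by
    have h := orderOf_dvd_natCard (⟨c.im t, hmem⟩ : ↥(centralizer ({c.im w} : Set A) ⊓ J))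
    rwa [← Subgroup.orderOf_coe, h7] at h
  have hd2 : orderOf (c.im t) ∣ 2 := orderOf_dvd_of_pow_eq_one (by rw [pow_two, ← c.im_mul ht.1 ht.1, ht2, c.im_one])
  have him : c.im t = 1 := orderOf_eq_one_iff.1 (Nat.eq_one_of_dvd_coprimes (by norm_num : Nat.Coprime 7 2) hd1 hd2)
  rw [c.im_eq ht.1] at him
  obtain ⟨q, hq, h⟩ := c.ker_C0 ht him
  have hq2 : q * q = 1 := by
    rcases h with rfl | rfl
    · exact ht2
    · rwa [show z * q * (z * q) = z * (q * z) * q by group, c.comm_z (c.P_le_C0 hq).1, ← mul_assoc, c.zz,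
        one_mul] at ht2
  have hq1 : q = 1 := by
    haveI : Fact (Nat.Prime 2) := ⟨Nat.prime_two⟩
    have hd3 : orderOf q ∣ 3 := by
      have h' := orderOf_dvd_natCard (⟨q, hq⟩ : ↥P)
      rwa [← Subgroup.orderOf_coe, c.card_P] at h'
    exact orderOf_eq_one_iff.1 (Nat.eq_one_of_dvd_coprimes (by norm_num : Nat.Coprime 3 2) hd3
      (orderOf_dvd_of_pow_eq_one (by rw [pow_two, hq2])))
  rcases h with rfl | rfl
  · rw [hq1, orderOf_one] at hto; norm_num at hto
  · rw [hq1, mul_one]

/-- The centralizer in `H` of an element of order seven has order at most 84. -/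
theorem card_CH_seven (F : FiveSeven J I R) {y : G} (hy : y ∈ c.H) (hyo : orderOf y = 7) :
    Nat.card ↥(c.H ⊓ centralizer ({y} : Set G)) ≤ 84 := by
  classical
  haveI := c.finite_A
  have hao := c.orderOf_im (p := 7) (by norm_num) (by norm_num) hy hyo
  obtain ⟨hyJ, -, h14, -⟩ := c.seven_A F hao
  have hyM : y ∈ c.M := c.mem_M.2 ⟨hy, by rwa [← c.im_eq]⟩
  have hy7 : c.act (y ^ 7) = 1 := by rw [← hyo, pow_orderOf_eq_one, c.act_one]
  have hyE : y ∉ c.E := fun h => c.im_ne_one (p := 7) (by norm_num) (by norm_num) hy hyo (c.im_E h)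
  have hfix := c.card_fix_seven hyM hy7 hyE
  set C := c.H ⊓ centralizer ({y} : Set G) with hC
  let ω : ↥C →* A := c.pr.comp (Subgroup.inclusion inf_le_left)
  have hω : ∀ g : ↥C, ω g = c.im (g : G) := fun g => (c.im_eq _).symm
  have hr : Nat.card ↥ω.range ≤ 14 := by
    rw [← h14]
    refine card_le_of_le ?_
    rintro _ ⟨g, rfl⟩
    refine mem_centralizer_singleton_iff.2 ?_
    rw [hω, ← c.im_mul g.2.1 hy, ← c.im_mul hy g.2.1, mem_centralizer_singleton_iff.1 g.2.2]
  have hk : Nat.card ↥ω.ker ≤ 6 := by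
    set K : Subgroup G := ω.ker.map C.subtype with hK
    have hKc : Nat.card ↥K = Nat.card ↥ω.ker :=
      (Nat.card_congr (equivMapOfInjective _ _ C.subtype_injective).toEquiv).symm
    set T : Subgroup G := c.pr.ker.map c.H.subtype with hT
    have hTc : Nat.card ↥T = 3 * 2 ^ 13 := by
      rw [hT, ← c.card_ker]
      exact (Nat.card_congr (equivMapOfInjective _ _ c.H.subtype_injective).toEquiv).symm
    have hKT : K ≤ T := by
      rintro _ ⟨g, hg, rfl⟩
      exact ⟨⟨(g : G), g.2.1⟩, hg, rfl⟩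
    have hET : c.E ≤ T := fun e he => ⟨⟨e, c.E_le he⟩, c.pr_E he, rfl⟩
    have hKE : Nat.card ↥(c.E ⊓ K) ≤ 2 := by
      rw [← c.zpowers_z_card]
      refine card_le_of_le ?_
      rintro e ⟨he', g, -, rfl⟩
      have he : (g : G) ∈ c.E := he'
      have h0 : c.pv (g : G) = 0 := (AddSubgroup.eq_bot_iff_forall _).1 hfix _ (c.mem_fix_singleton.2 (by
        rw [← c.pv_conj hy he, show y * (g : G) * y⁻¹ = (g : G) by
          rw [← mem_centralizer_singleton_iff.1 g.2.2, mul_inv_cancel_right]]))
      show (g : G) ∈ zpowers z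
      rcases (c.pv_eq_zero he).1 h0 with h | h <;> rw [h]
      exacts [one_mem _, mem_zpowers z]
    have hrel : c.E.relIndex K ≤ 3 := by
      have h1 : c.E.relIndex T = 3 := by
        have h := (c.E.subgroupOf T).card_mul_index
        rw [Nat.card_congr (subgroupOfEquivOfLe hET).toEquiv, c.card_E, hTc] at h
        unfold Subgroup.relIndex
        omega
      exact h1 ▸ Subgroup.relIndex_le_of_le_right hKT (by rw [h1]; norm_num)
    have h := (c.E.subgroupOf K).card_mul_index
    rw [← inf_subgroupOf_right, Nat.card_congr (subgroupOfEquivOfLe inf_le_right).toEquiv] at h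
    rw [← hKc, ← h, show (6 : ℕ) = 2 * 3 by norm_num]
    refine Nat.mul_le_mul hKE ?_
    rw [inf_subgroupOf_right]
    exact hrel
  have h := ω.ker.card_mul_index
  rw [Subgroup.index_ker] at h
  rw [← h]
  exact (Nat.mul_le_mul hk hr).trans (by norm_num)

end Ctx

end CfsgLib.Spor.JFourType
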