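import Cfsg.Agent.Lib.Spor.JFourType.SevenFrame
import Cfsg.Agent.Lib.Spor.JFourType.LocalClosed
import Cfsg.Agent.Lib.Spor.JFourType.SecondClass
import Cfsg.Agent.Lib.Spor.JFourType.Facts22

/-!
# The centralizer of an element of order seven

The product `M` of the cyclic group and the symmetric group holds the centralizers of its involutions in the
centralizer of `y`: that of `z` by its order 84, that of the other class because a 2-group there is the dihedral
group of order eight and the odd part is seven by the structure of the centralizer of an involution of the second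
class. Two classes of involutions then give `M` equal to the centralizer.
-/

set_option autoImplicit false
set_option linter.style.haveILetI false

namespace CfsgLib.Spor.JFourType.Ctx.SevenFrame

open Subgroup

universe u

variable {G : Type u} [Group G] [Finite G] {A : Type} [Group A] {J I R : Subgroup A}
  {z : G} {P : Subgroup G} {c : Ctx J I R z P} {y : G} {φ : Equiv.Perm (Fin 5) →* G} (fr : c.SevenFrame y φ)
include fr

/-- The dihedral group is a full 2-subgroup of the centralizer of `y` and the product of two transpositions. -/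
theorem two_group_eq (F : FiveSeven J I R) {T : Subgroup G} (hT : IsPGroup 2 ↥T)
    (hTC : T ≤ centralizer ({y} : Set G) ⊓ centralizer ({φ p5d} : Set G))
    (hle : (centralizer ({p5d} : Set (Equiv.Perm (Fin 5)))).map φ ≤ T) :
    (centralizer ({p5d} : Set (Equiv.Perm (Fin 5)))).map φ = T := by
  classical
  haveI : Fact (Nat.Prime 2) := ⟨Nat.prime_two⟩
  set D := (centralizer ({p5d} : Set (Equiv.Perm (Fin 5)))).map φ with hD
  by_contra hne
  have hlt : D.subgroupOf T < ⊤ := lt_top_iff_ne_top.2 fun h => hne (le_antisymm hle fun g hg =>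
    (show (⟨g, hg⟩ : ↥T) ∈ D.subgroupOf T from h ▸ mem_top _))
  haveI : Group.IsNilpotent ↥T := hT.isNilpotent
  obtain ⟨⟨g, hgT⟩, hgN, hgD⟩ := SetLike.exists_of_lt (normalizerCondition_of_isNilpotent _ hlt)
  obtain ⟨hgy, hgd⟩ := mem_inf.1 (hTC hgT)
  have hzD : z ∈ D := fr.trans ▸ mem_map_of_mem φ (mem_centralizer_singleton_iff.2 p5t_p5d)
  have hgz : g * z * g⁻¹ ∈ D := ((mem_normalizer_iff.1 hgN) ⟨z, hle hzD⟩).1 hzD
  obtain ⟨σ, hσ, hσe⟩ := hgz
  have hσ2 : σ * σ = 1 := fr.inj (by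
    rw [map_mul, hσe, map_one, show g * z * g⁻¹ * (g * z * g⁻¹) = g * (z * z) * g⁻¹ by group, c.zz, mul_one,
      mul_inv_cancel])
  have hσ1 : σ ≠ 1 := fun h => c.z_ne (conj_eq_one_iff.1 (by rw [← hσe, h, map_one]))
  obtain ⟨π, hπ⟩ : ∃ π, π * p5t * π⁻¹ = σ := by
    rcases p5_invol σ hσ2 hσ1 with h | ⟨π, hπ⟩
    · exact h
    · refine absurd ?_ (fr.not_isConj F)
      refine (isConj_iff.2 ⟨g, rfl⟩ : IsConj z (g * z * g⁻¹)).trans ?_
      rw [← hσe, ← hπ]
      exact (isConj_iff.2 ⟨φ π, by rw [map_mul, map_mul, map_inv]⟩ : IsConj (φ p5d) (φ (π * p5d * π⁻¹))).symm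
  obtain ⟨hcard, hCH⟩ := fr.centralizer_H F
  have hfix : ∀ k : G, k * z * k⁻¹ = z → k ∈ centralizer ({y} : Set G) → k ∈ fr.hom.range := fun k hk hky =>
    hCH ⟨mem_centralizer_singleton_iff.2 (mul_inv_eq_iff_eq_mul.1 hk), hky⟩
  have hgM : g ∈ fr.hom.range := by
    rcases p5_trans σ π (mem_centralizer_singleton_iff.1 hσ) hπ with h | h
    · exact hfix g (by rw [← hσe, h, fr.trans]) hgy
    · have hk := hfix ((φ p5k)⁻¹ * g) (by
        rw [show (φ p5k)⁻¹ * g * z * ((φ p5k)⁻¹ * g)⁻¹ = (φ p5k)⁻¹ * (g * z * g⁻¹) * φ p5k by group, ← hσe, h,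
          map_mul, map_mul, map_inv, fr.trans]
        group) (mul_mem (inv_mem (fr.range_le (fr.phi_mem _))) hgy)
      rw [show g = φ p5k * ((φ p5k)⁻¹ * g) by group]
      exact mul_mem (fr.phi_mem _) hk
  obtain ⟨a, ha, τ, hga⟩ := fr.mem_range.1 hgM
  have hay : Commute (φ p5d) a := by
    obtain ⟨i, rfl⟩ := mem_zpowers_iff.1 ha
    exact ((fr.comm p5d).zpow_left i).symm
  have hτd : τ * p5d = p5d * τ := fr.inj (by
    have h1 : Commute g (φ p5d) := mem_centralizer_singleton_iff.1 hgd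
    have h2 := hay.symm.inv_left.mul_left h1
    rw [hga, inv_mul_cancel_left] at h2
    rw [map_mul, map_mul]
    exact h2.eq)
  have hτD : φ τ ∈ D := mem_map_of_mem φ (mem_centralizer_singleton_iff.2 hτd)
  have haT : a ∈ T := by
    rw [show a = g * (φ τ)⁻¹ by rw [hga, mul_inv_cancel_right]]
    exact mul_mem hgT (inv_mem (hle hτD))
  have ha1 : a = 1 := by
    obtain ⟨k, hk⟩ := hT ⟨a, haT⟩
    exact orderOf_eq_one_iff.1 (Nat.eq_one_of_dvd_coprimes (Nat.Coprime.pow_left k (by norm_num : Nat.Coprime 2 7))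
      (orderOf_dvd_of_pow_eq_one (congrArg Subtype.val hk)) (fr.ord ▸ orderOf_dvd_of_mem_zpowers ha))
  refine hgD ?_
  show g ∈ D
  rwa [hga, ha1, one_mul]

/-- The centralizer of `y` and the product of two transpositions. -/
theorem cent_pair_le (hS : c.Split) (F : FiveSeven J I R) (he : Extra J I R) :
    centralizer ({y} : Set G) ⊓ centralizer ({φ p5d} : Set G) ≤ fr.hom.range := by
  classical
  haveI : Fact (Nat.Prime 2) := ⟨Nat.prime_two⟩
  haveI : Fact (Nat.Prime 7) := ⟨by norm_num⟩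
  haveI := c.finite_A
  have hdo : orderOf (φ p5d) = 2 := orderOf_eq_prime (by rw [← map_pow, pow_two, p5d_sq, map_one])
    fun h => p5d_ne (fr.inj (by rw [h, map_one]))
  obtain ⟨V, K, hVC, hKC, hCN, hVea, hVc, hKV, hsup, ⟨e⟩⟩ := c.second_centralizer hS he hdo (fr.not_isConj F)
  set C := centralizer ({φ p5d} : Set G) with hC
  haveI hVn : (V.subgroupOf C).Normal := normal_subgroupOf_of_le_normalizer hCN
  have hcompl : (K.subgroupOf C).IsComplement' (V.subgroupOf C) := by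
    refine isComplement'_of_disjoint_and_mul_eq_univ (disjoint_iff.2 ?_) ?_
    · rw [Subgroup.subgroupOf, Subgroup.subgroupOf, ← comap_inf, hKV, MonoidHom.comap_bot, ker_subtype]
    · rw [← mul_normal, ← subgroupOf_sup hKC hVC, hsup, subgroupOf_self]; rfl
  let e₂ : ↥Gam ≃* A := autM22Equiv.symm.trans c.iso
  let π : ↥C →* A := ((hcompl.QuotientMulEquiv.trans ((subgroupOfEquivOfLe hKC).trans e)).trans e₂).toMonoidHom.comp
    (QuotientGroup.mk' _)
  have hπker : π.ker = V.subgroupOf C := by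
    ext g
    rw [MonoidHom.mem_ker, MonoidHom.comp_apply, MulEquiv.coe_toMonoidHom, MulEquiv.map_eq_one_iff,
      QuotientGroup.mk'_apply, QuotientGroup.eq_one_iff]
  have hπc : Nat.card ↥π.ker = 2 ^ 11 := by
    rw [hπker, Nat.card_congr (subgroupOfEquivOfLe hVC).toEquiv, hVc]
  set S := centralizer ({y} : Set G) ⊓ C with hS'
  have hyC : y ∈ C := mem_centralizer_singleton_iff.2 (fr.comm p5d).eq
  have hyo : orderOf (π ⟨y, hyC⟩) = 7 := orderOf_eq_prime
    (by rw [← map_pow, show (⟨y, hyC⟩ : ↥C) ^ 7 = 1 from Subtype.ext (fr.ord ▸ pow_orderOf_eq_one y), map_one])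
    fun h => by
      have hd := orderOf_dvd_natCard (⟨⟨y, hyC⟩, MonoidHom.mem_ker.2 h⟩ : ↥π.ker)
      rw [← Subgroup.orderOf_coe, ← Subgroup.orderOf_coe] at hd
      change orderOf y ∣ _ at hd
      rw [fr.ord, hπc] at hd
      norm_num at hd
  obtain ⟨-, -, h14, -⟩ := c.seven_A F hyo
  let π' : ↥S →* A := π.comp (Subgroup.inclusion inf_le_right)
  have hr : Nat.card ↥π'.range ∣ 14 := by
    rw [← h14]
    refine card_dvd_of_le ?_
    rintro _ ⟨g, rfl⟩
    refine mem_centralizer_singleton_iff.2 ?_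
    show π ⟨g, g.2.2⟩ * π ⟨y, hyC⟩ = π ⟨y, hyC⟩ * π ⟨g, g.2.2⟩
    rw [← map_mul, ← map_mul]
    exact congrArg π (Subtype.ext (mem_centralizer_singleton_iff.1 g.2.1))
  have hk : Nat.card ↥π'.ker ∣ 2 ^ 11 := by
    rw [← hπc]
    exact Subgroup.card_dvd_of_injective (f := (((Subgroup.inclusion (inf_le_right : S ≤ C))).comp
      π'.ker.subtype).codRestrict π.ker fun g => g.2) fun a b h => by
        have h' := congrArg Subtype.val h
        exact Subtype.ext (Subgroup.inclusion_injective inf_le_right h')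
  have hSd : Nat.card ↥S ∣ 2 ^ 12 * 7 := by
    have h := π'.ker.card_mul_index
    rw [Subgroup.index_ker] at h
    rw [← h, show 2 ^ 12 * 7 = 2 ^ 11 * 14 by norm_num]
    exact mul_dvd_mul hk hr
  -- the Sylow subgroup has order eight
  set D := (centralizer ({p5d} : Set (Equiv.Perm (Fin 5)))).map φ with hD
  have hD8 : Nat.card ↥D = 8 := by
    rw [hD, ← Nat.card_congr (equivMapOfInjective _ _ fr.inj).toEquiv, card_cent_p5d]
  have hDS : D ≤ S := by
    rintro _ ⟨σ, hσ, rfl⟩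
    refine ⟨fr.range_le (fr.phi_mem σ), mem_centralizer_singleton_iff.2 ?_⟩
    rw [← map_mul, ← map_mul, mem_centralizer_singleton_iff.1 hσ]
  have hD2 : IsPGroup 2 ↥(D.subgroupOf S) :=
    IsPGroup.of_card (n := 3) (by rw [Nat.card_congr (subgroupOfEquivOfLe hDS).toEquiv, hD8]; rfl)
  obtain ⟨Q, hQ⟩ := hD2.exists_le_sylow
  have hQD := fr.two_group_eq F (T := (Q : Subgroup ↥S).map S.subtype)
    (Q.isPGroup'.map _) (map_subtype_le _) fun g hg => ⟨⟨g, hDS hg⟩, hQ hg, rfl⟩
  have hQ8 : Nat.card ↥(Q : Subgroup ↥S) = 8 := by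
    rw [Nat.card_congr (equivMapOfInjective _ _ S.subtype_injective).toEquiv, ← hQD, hD8]
  have h16 : ¬ 2 ^ 4 ∣ Nat.card ↥S := fun h => by
    have h1 := (Nat.prime_two.pow_dvd_iff_le_factorization (n := Nat.card ↥S) Nat.card_pos.ne').1 h
    have h2 := Q.card_eq_multiplicity
    rw [hQ8] at h2
    have h3 := Nat.pow_right_injective le_rfl (show 2 ^ 3 = 2 ^ (Nat.card ↥S).factorization 2 from h2)
    omega
  have hS56 : Nat.card ↥S ≤ 56 := by
    obtain ⟨a, b, ha, hb, hab⟩ := Nat.dvd_mul.1 hSd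
    obtain ⟨j, hj, rfl⟩ := (Nat.dvd_prime_pow Nat.prime_two).1 ha
    have hj3 : j ≤ 3 := by
      by_contra hlt
      exact h16 (hab ▸ Dvd.dvd.mul_right (pow_dvd_pow 2 (by omega)) b)
    rw [← hab]
    calc 2 ^ j * b ≤ 2 ^ 3 * 7 := Nat.mul_le_mul (Nat.pow_le_pow_right (by norm_num) hj3)
          (Nat.le_of_dvd (by norm_num) hb)
      _ = 56 := by norm_num
  -- it is all inside
  have hle : ((⊤ : Subgroup ↥(zpowers y)).prod (centralizer ({p5d} : Set (Equiv.Perm (Fin 5))))).map fr.hom ≤ S := by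
    rintro _ ⟨⟨a, σ⟩, ⟨-, hσ⟩, rfl⟩
    exact ⟨fr.range_le ⟨_, rfl⟩, mul_mem (zpowers_le.2 hyC a.2) (hDS ⟨σ, hσ, rfl⟩).2⟩
  have heq := eq_of_le_of_card_ge hle (hS56.trans (le_of_eq (by
    rw [← Nat.card_congr (equivMapOfInjective _ _ fr.hom_injective).toEquiv,
      Nat.card_congr (prodEquiv _ _).toEquiv, Nat.card_prod, Subgroup.card_top, Nat.card_zpowers, fr.ord,
      card_cent_p5d])))
  rw [← heq]
  exact map_le_range fr.hom _

/-- An involution of the product lies in the symmetric group. -/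
theorem invol_shape {g : G} (hg : g ∈ fr.hom.range) (h2 : g * g = 1) (h1 : g ≠ 1) :
    (∃ π, φ π * z * (φ π)⁻¹ = g) ∨ ∃ π, φ π * φ p5d * (φ π)⁻¹ = g := by
  obtain ⟨⟨a, σ⟩, rfl⟩ := hg
  have hp : (a, σ) * (a, σ) = 1 := fr.hom_injective (by rw [map_mul, h2, map_one])
  have ha : a = 1 := by
    have ha2 : orderOf a ∣ 2 := orderOf_dvd_of_pow_eq_one (by rw [pow_two]; exact congrArg Prod.fst hp)
    have ha7 : orderOf a ∣ 7 := by
      have h := orderOf_dvd_natCard a
      rwa [Nat.card_zpowers, fr.ord] at h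
    exact orderOf_eq_one_iff.1 (Nat.eq_one_of_dvd_coprimes (by norm_num : Nat.Coprime 2 7) ha2 ha7)
  have hσ : σ * σ = 1 := congrArg Prod.snd hp
  have he : fr.hom (a, σ) = φ σ := by rw [fr.hom_apply, ha, OneMemClass.coe_one, one_mul]
  rw [he] at h1 ⊢
  rcases p5_invol σ hσ (fun h => h1 (by rw [h, map_one])) with ⟨π, hπ⟩ | ⟨π, hπ⟩
  · exact Or.inl ⟨π, by rw [← hπ, ← fr.trans, map_mul, map_mul, map_inv]⟩
  · exact Or.inr ⟨π, by rw [← hπ, map_mul, map_mul, map_inv]⟩

/-- The centralizer of `y`. -/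
theorem centralizer_eq (hS : c.Split) (F : FiveSeven J I R) (he : Extra J I R) :
    centralizer ({y} : Set G) = fr.hom.range := by
  classical
  haveI : Fact (Nat.Prime 2) := ⟨Nat.prime_two⟩
  refine le_antisymm ?_ fr.range_le
  set C := centralizer ({y} : Set G) with hC
  have hzC : z ∈ C := fr.range_le (fr.trans ▸ fr.phi_mem p5t)
  have hdC : φ p5d ∈ C := fr.range_le (fr.phi_mem p5d)
  have hz2 : orderOf (⟨z, hzC⟩ : ↥C) = 2 := by rw [← Subgroup.orderOf_coe]; exact c.ord
  have hd2 : orderOf (⟨φ p5d, hdC⟩ : ↥C) = 2 := by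
    rw [← Subgroup.orderOf_coe]
    exact orderOf_eq_prime (by rw [← map_pow, pow_two, p5d_sq, map_one])
      fun h => p5d_ne (fr.inj ((h : φ p5d = 1).trans (map_one φ).symm))
  have hnc : ∀ g : G, g * z * g⁻¹ ≠ φ p5d := fun g h => fr.not_isConj F (isConj_iff.2 ⟨g, h⟩)
  have hshape : ∀ i : G, i ∈ fr.hom.range → i ≠ 1 → i * i = 1 →
      ∀ k : G, k * i = i * k → k ∈ C → k ∈ fr.hom.range := by
    intro i hi h1 h2 k hk hkC
    obtain ⟨hcard, hCH⟩ := fr.centralizer_H F
    have hk' : ∀ π : Equiv.Perm (Fin 5), (φ π)⁻¹ * k * φ π ∈ fr.hom.range → k ∈ fr.hom.range := fun π h => by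
      rw [show k = φ π * ((φ π)⁻¹ * k * φ π) * (φ π)⁻¹ by group]
      exact mul_mem (mul_mem (fr.phi_mem π) h) (inv_mem (fr.phi_mem π))
    have hkey : ∀ π : Equiv.Perm (Fin 5), ∀ v : G, φ π * v * (φ π)⁻¹ = i →
        (φ π)⁻¹ * k * φ π ∈ C ⊓ centralizer ({v} : Set G) := by
      intro π v hv
      refine mem_inf.2 ⟨mul_mem (mul_mem (inv_mem (fr.range_le (fr.phi_mem π))) hkC) (fr.range_le (fr.phi_mem π)),
        mem_centralizer_singleton_iff.2 ?_⟩
      rw [← hv] at hk
      calc (φ π)⁻¹ * k * φ π * v = (φ π)⁻¹ * (k * (φ π * v * (φ π)⁻¹)) * φ π := by group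
        _ = (φ π)⁻¹ * ((φ π * v * (φ π)⁻¹) * k) * φ π := by rw [hk]
        _ = v * ((φ π)⁻¹ * k * φ π) := by group
    rcases fr.invol_shape hi h2 h1 with ⟨π, hπ⟩ | ⟨π, hπ⟩
    · have h := hkey π z hπ
      exact hk' π (hCH ⟨h.2, h.1⟩)
    · exact hk' π (fr.cent_pair_le hS F he (hkey π _ hπ))
  have htop : fr.hom.range.subgroupOf C = ⊤ := by
    refine eq_top_of_centralizers_le _ hz2 (show z ∈ fr.hom.range from fr.trans ▸ fr.phi_mem p5t) hd2
      (show φ p5d ∈ fr.hom.range from fr.phi_mem p5d) (fun h => ?_) (fun i hi hio k hk => ?_) (fun g hg => ?_)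
    · obtain ⟨g, hg⟩ := isConj_iff.1 h
      exact hnc g (congrArg Subtype.val hg)
    · have hio' : orderOf (i : G) = 2 := by rwa [Subgroup.orderOf_coe]
      refine hshape (i : G) hi (fun h => ?_) (by rw [← pow_two, ← hio', pow_orderOf_eq_one]) (k : G)
        (congrArg Subtype.val (mem_centralizer_singleton_iff.1 hk)) k.2
      rw [h, orderOf_one] at hio'
      norm_num at hio'
    · have hg' : (g : G) * z * (g : G)⁻¹ ∈ fr.hom.range := hg
      have h2 : (g : G) * z * (g : G)⁻¹ * ((g : G) * z * (g : G)⁻¹) = 1 := by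
        rw [conj_mul, c.zz, mul_one, mul_inv_cancel]
      rcases fr.invol_shape hg' h2 (fun h => c.z_ne (conj_eq_one_iff.1 h)) with ⟨π, hπ⟩ | ⟨π, hπ⟩
      · exact ⟨⟨φ π, fr.range_le (fr.phi_mem π)⟩, fr.phi_mem π, Subtype.ext hπ⟩
      · refine absurd ?_ (hnc ((φ π)⁻¹ * (g : G)))
        rw [show (φ π)⁻¹ * (g : G) * z * ((φ π)⁻¹ * (g : G))⁻¹ =
          (φ π)⁻¹ * ((g : G) * z * (g : G)⁻¹) * φ π by group, ← hπ]
        group
  exact fun g hg => (show (⟨g, hg⟩ : ↥C) ∈ fr.hom.range.subgroupOf C from htop ▸ mem_top _)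

/-- Its order. -/
theorem card_centralizer (hS : c.Split) (F : FiveSeven J I R) (he : Extra J I R) :
    Nat.card ↥(centralizer ({y} : Set G)) = 840 := by rw [fr.centralizer_eq hS F he, fr.card_range]

/-- The order of the group is not divisible by 49. -/
theorem not_dvd (hS : c.Split) (F : FiveSeven J I R) (he : Extra J I R) : ¬ 49 ∣ Nat.card G := by
  classical
  haveI : Fact (Nat.Prime 7) := ⟨by norm_num⟩
  intro h
  obtain ⟨K, hK, hle⟩ := Sylow.exists_subgroup_card_pow_succ (p := 7) (n := 1) (H := zpowers y)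
    (by simpa using h) (by rw [Nat.card_zpowers, fr.ord, pow_one])
  have hKC : K ≤ centralizer ({y} : Set G) := fun k hk => mem_centralizer_singleton_iff.2
    (congrArg Subtype.val ((IsPGroup.isMulCommutative_of_card_eq_prime_sq (G := ↥K) hK).is_comm.comm ⟨k, hk⟩ ⟨y, hle (mem_zpowers y)⟩))
  have hd := card_dvd_of_le hKC
  rw [hK, fr.card_centralizer hS F he] at hd
  norm_num at hd

/-- The normalizer. -/
theorem card_normalizer (hS : c.Split) (F : FiveSeven J I R) (he : Extra J I R) :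
    Nat.card ↥(normalizer (zpowers y : Set G)) = 2520 := by
  classical
  haveI : Fact (Nat.Prime 7) := ⟨by norm_num⟩
  haveI := c.finite_A
  set N := normalizer (zpowers y : Set G) with hN
  have hCN : centralizer ({y} : Set G) ≤ N := fun g hg => mem_normalizer_zpowers (by
    rw [mem_centralizer_singleton_iff.1 hg, mul_inv_cancel_right]; exact mem_zpowers y)
  have hao := c.orderOf_im (p := 7) (by norm_num) (by norm_num) fr.yH fr.ord
  set a := c.im y with ha
  obtain ⟨-, -, hA14, hA42⟩ := c.seven_A F hao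
  set Na := normalizer (zpowers a : Set A) with hNa
  have hCNa : centralizer ({a} : Set A) ≤ Na := fun g hg => mem_normalizer_zpowers (by
    rw [mem_centralizer_singleton_iff.1 hg, mul_inv_cancel_right]; exact mem_zpowers a)
  haveI hCn : ((centralizer ({a} : Set A)).subgroupOf Na).Normal := ⟨fun v hv k => by
    have hva : Commute (v : A) a := mem_centralizer_singleton_iff.1 hv
    obtain ⟨i, hi⟩ := mem_zpowers_iff.1 ((mem_normalizer_iff''.1 k.2 a).1 (mem_zpowers a))
    refine mem_centralizer_singleton_iff.2 ?_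
    have h := hva.zpow_right i
    rw [hi] at h
    show (k : A) * v * (k : A)⁻¹ * a = a * ((k : A) * v * (k : A)⁻¹)
    calc (k : A) * v * (k : A)⁻¹ * a = k * (v * ((k : A)⁻¹ * a * k)) * (k : A)⁻¹ := by group
      _ = k * (((k : A)⁻¹ * a * k) * v) * (k : A)⁻¹ := by rw [h.eq]
      _ = _ := by group⟩
  have hidx : ((centralizer ({a} : Set A)).subgroupOf Na).index = 3 := by
    have h := ((centralizer ({a} : Set A)).subgroupOf Na).card_mul_index
    rw [Nat.card_congr (subgroupOfEquivOfLe hCNa).toEquiv, hA14, hA42] at h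
    omega
  have hpowA : ∀ i : ℕ, i < 7 → ∀ h : A, h * a * h⁻¹ = a ^ i → i = 1 ∨ i = 2 ∨ i = 4 := by
    intro i hi h hh
    have hm : h ∈ Na := mem_normalizer_zpowers (by rw [hh]; exact npow_mem_zpowers a i)
    have h3 := Subgroup.pow_index_mem ((centralizer ({a} : Set A)).subgroupOf Na) (⟨h, hm⟩ : ↥Na)
    rw [hidx, mem_subgroupOf, SubgroupClass.coe_pow] at h3
    have h4 : h ^ 3 * a * (h ^ 3)⁻¹ = a ^ (i * i * i) := by
      rw [show h ^ 3 * a * (h ^ 3)⁻¹ = h * (h * (h * a * h⁻¹) * h⁻¹) * h⁻¹ by rw [pow_succ, pow_two]; group, hh,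
        ← conj_pow, hh, ← pow_mul, ← conj_pow, hh, ← pow_mul, mul_assoc]
    rw [mem_centralizer_singleton_iff.1 h3, mul_inv_cancel_right] at h4
    have h5 : (i * i * i) % 7 = 1 := by
      have h6 := pow_eq_pow_iff_modEq.1 ((pow_one a).trans h4)
      rw [hao] at h6
      exact h6.symm
    interval_cases i <;> simp at h5 ⊢
  -- the orbit
  obtain ⟨hA, hhA⟩ : ∃ h ∈ Na, h ∉ centralizer ({a} : Set A) := by
    by_contra hcon
    push Not at hcon
    have := card_le_of_le (show Na ≤ centralizer ({a} : Set A) from hcon)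
    rw [hA14, hA42] at this
    norm_num at this
  obtain ⟨hh, hhn⟩ := hhA
  obtain ⟨i₀, hi₀⟩ := mem_powers_iff_mem_zpowers.2 ((mem_normalizer_iff.1 hh a).1 (mem_zpowers a))
  have hi : hA * a * hA⁻¹ = a ^ (i₀ % 7) := by
    rw [← hao, pow_mod_orderOf]; exact hi₀.symm
  have h12 : i₀ % 7 = 2 ∨ i₀ % 7 = 4 := by
    rcases hpowA _ (Nat.mod_lt _ (by norm_num)) hA hi with h | h | h
    · exact absurd (mem_centralizer_singleton_iff.2 (mul_inv_eq_iff_eq_mul.1 (by rw [hi, h, pow_one]))) hhn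
    · exact Or.inl h
    · exact Or.inr h
  obtain ⟨⟨h₀, hh₀⟩, hh₀e⟩ := c.pr_surj hA
  rw [← c.im_eq hh₀] at hh₀e
  obtain ⟨k, hk, -, hky⟩ := c.exists_adjust (p := 7) (by norm_num) (by norm_num) fr.yH hh₀ fr.ord (i := i₀ % 7)
    (by rw [hh₀e, ← ha, hi])
  set m := k * h₀ with hm
  have hy7 : y ^ 7 = 1 := fr.ord ▸ pow_orderOf_eq_one y
  have hm2 : ∀ b ∈ ({y, y ^ 2, y ^ 4} : Set G), ∃ g ∈ N, g * y * g⁻¹ = b := by
    have hmN : m ∈ N := mem_normalizer_zpowers (by rw [hky]; exact npow_mem_zpowers y _)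
    have hmm : m * m * y * (m * m)⁻¹ = y ^ (i₀ % 7 * (i₀ % 7)) := by
      rw [show m * m * y * (m * m)⁻¹ = m * (m * y * m⁻¹) * m⁻¹ by group, hky, ← conj_pow, hky, ← pow_mul]
    rintro b (rfl | rfl | rfl)
    · exact ⟨1, one_mem _, by group⟩
    · rcases h12 with h | h
      · exact ⟨m, hmN, by rw [hky, h]⟩
      · exact ⟨m * m, mul_mem hmN hmN, by rw [hmm, h, show 4 * 4 = 7 * 2 + 2 from rfl, pow_add, pow_mul, hy7, one_pow, one_mul]⟩
    · rcases h12 with h | h
      · exact ⟨m * m, mul_mem hmN hmN, by rw [hmm, h]⟩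
      · exact ⟨m, hmN, by rw [hky, h]⟩
  rw [card_eq_orbit_mul (K := N) (a := y) (S := {y, y ^ 2, y ^ 4}) ?_ hm2]
  · have hne : ∀ p q : ℕ, p < 7 → q < 7 → p ≠ q → y ^ p ≠ y ^ q := fun p q hp hq hpq h => hpq
      (pow_injOn_Iio_orderOf (Set.mem_Iio.2 (by rw [fr.ord]; exact hp)) (Set.mem_Iio.2 (by rw [fr.ord]; exact hq)) h)
    have e1 : y ≠ y ^ 2 := by simpa using hne 1 2 (by norm_num) (by norm_num) (by norm_num)
    have e2 : y ≠ y ^ 4 := by simpa using hne 1 4 (by norm_num) (by norm_num) (by norm_num)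
    rw [inf_eq_right.2 hCN, fr.card_centralizer hS F he, Set.ncard_insert_of_notMem (by simp [e1, e2]) (Set.toFinite _),
      Set.ncard_pair (hne 2 4 (by norm_num) (by norm_num) (by norm_num))]
  · intro g hg
    -- an element of the normalizer can be moved into `H`
    have hzC : g * z * g⁻¹ ∈ centralizer ({y} : Set G) := by
      obtain ⟨j, hj⟩ := mem_zpowers_iff.1 ((mem_normalizer_iff''.1 hg y).1 (mem_zpowers y))
      refine mem_centralizer_singleton_iff.2 ?_
      have hzy : Commute z y := mem_centralizer_singleton_iff.1 (show z ∈ centralizer ({y} : Set G) from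
        fr.range_le (fr.trans ▸ fr.phi_mem p5t))
      have h := hzy.zpow_right j
      rw [hj] at h
      calc g * z * g⁻¹ * y = g * (z * (g⁻¹ * y * g)) * g⁻¹ := by group
        _ = g * ((g⁻¹ * y * g) * z) * g⁻¹ := by rw [h.eq]
        _ = _ := by group
    rw [fr.centralizer_eq hS F he] at hzC
    rcases fr.invol_shape hzC (by rw [conj_mul, c.zz, mul_one, mul_inv_cancel])
      (fun h => c.z_ne (conj_eq_one_iff.1 h)) with ⟨π, hπ⟩ | ⟨π, hπ⟩
    · set v := (φ π)⁻¹ * g with hv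
      have hvH : v ∈ c.H := mem_centralizer_singleton_iff.2 (mul_inv_eq_iff_eq_mul.1 (by
        rw [hv, show (φ π)⁻¹ * g * z * ((φ π)⁻¹ * g)⁻¹ = (φ π)⁻¹ * (g * z * g⁻¹) * φ π by group, ← hπ]
        group))
      have hvy : v * y * v⁻¹ = g * y * g⁻¹ := by
        obtain ⟨j, hj⟩ := mem_zpowers_iff.1 ((mem_normalizer_iff.1 hg y).1 (mem_zpowers y))
        have h : Commute (φ π) (g * y * g⁻¹) := by
          rw [← hj]; exact ((fr.comm π).symm).zpow_right j
        rw [hv, show (φ π)⁻¹ * g * y * ((φ π)⁻¹ * g)⁻¹ = (φ π)⁻¹ * (g * y * g⁻¹) * φ π by group,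
          mul_assoc ((φ π)⁻¹), ← h.eq, inv_mul_cancel_left]
      obtain ⟨i, hi⟩ := mem_powers_iff_mem_zpowers.2 ((mem_normalizer_iff.1 hg y).1 (mem_zpowers y))
      have hi' : y ^ (i % 7) = g * y * g⁻¹ := by
        rw [← fr.ord, pow_mod_orderOf]; exact hi
      have hia : c.im v * a * (c.im v)⁻¹ = a ^ (i % 7) := by
        rw [ha, ← c.im_conj hvH fr.yH, hvy, ← hi', c.im_pow fr.yH]
      rw [← hi']
      rcases hpowA _ (Nat.mod_lt _ (by norm_num)) _ hia with h | h | h <;> rw [h]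
      · exact Or.inl (pow_one y)
      · exact Or.inr (Or.inl rfl)
      · exact Or.inr (Or.inr rfl)
    · exact absurd ((isConj_iff.2 ⟨g, rfl⟩ : IsConj z (g * z * g⁻¹)).trans
        (isConj_iff.2 ⟨(φ π)⁻¹, by rw [← hπ]; group⟩)) (fr.not_isConj F)

end CfsgLib.Spor.JFourType.Ctx.SevenFrame
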