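import Mathlib

/-!
# The involutions of the symmetric group of degree five
-/

set_option autoImplicit false

namespace CfsgLib.Spor.JFourType

open Equiv

/-- A transposition. -/
def p5t : Perm (Fin 5) := swap 0 1

/-- A product of two transpositions. -/
def p5d : Perm (Fin 5) := swap 0 1 * swap 2 3

/-- A three-cycle commuting with the transposition. -/
def p5c : Perm (Fin 5) := swap 2 3 * swap 3 4

/-- An element exchanging the two transpositions under the centralizer of their product. -/
def p5k : Perm (Fin 5) := swap 0 2 * swap 1 3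

theorem p5t_sq : p5t * p5t = 1 := by decide +kernel
theorem p5t_ne : p5t ≠ 1 := by decide +kernel
theorem p5d_sq : p5d * p5d = 1 := by decide +kernel
theorem p5d_ne : p5d ≠ 1 := by decide +kernel
theorem p5c_cube : p5c ^ 3 = 1 := by decide +kernel
theorem p5c_ne : p5c ≠ 1 := by decide +kernel
theorem p5c_comm : p5t * p5c = p5c * p5t := by decide +kernel
theorem p5k_comm : p5k * p5d = p5d * p5k := by decide +kernel
theorem p5t_p5d : p5t * p5d = p5d * p5t := by decide +kernel

/-- The two classes of involutions. -/
theorem p5_invol (σ : Perm (Fin 5)) (h : σ * σ = 1) (h1 : σ ≠ 1) :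
    (∃ π, π * p5t * π⁻¹ = σ) ∨ ∃ π, π * p5d * π⁻¹ = σ := by
  revert σ
  decide +kernel

/-- The transpositions commuting with the product of two. -/
theorem p5_trans (σ π : Perm (Fin 5)) (h : σ * p5d = p5d * σ) (hπ : π * p5t * π⁻¹ = σ) :
    σ = p5t ∨ σ = p5k * p5t * p5k⁻¹ := by
  revert π
  revert σ
  decide +kernel

theorem card_cent_p5t : Nat.card ↥(Subgroup.centralizer ({p5t} : Set (Perm (Fin 5)))) = 12 := by
  rw [Nat.card_congr (Equiv.subtypeEquivRight (q := fun σ => σ * p5t = p5t * σ)
    fun σ => Subgroup.mem_centralizer_singleton_iff), Nat.card_eq_fintype_card]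
  decide +kernel

theorem card_cent_p5d : Nat.card ↥(Subgroup.centralizer ({p5d} : Set (Perm (Fin 5)))) = 8 := by
  rw [Nat.card_congr (Equiv.subtypeEquivRight (q := fun σ => σ * p5d = p5d * σ)
    fun σ => Subgroup.mem_centralizer_singleton_iff), Nat.card_eq_fintype_card]
  decide +kernel

theorem card_perm_five : Nat.card (Perm (Fin 5)) = 120 := by
  rw [Nat.card_perm, Nat.card_fin]; rfl

end CfsgLib.Spor.JFourType
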