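import Cfsg.Agent.Lib.Spor.JFourType.SevenSym
import Cfsg.Agent.Lib.Spor.JFourType.SevenPerm
import Cfsg.Agent.Lib.Spor.JFourType.LocalThree

/-!
# An element of order seven of `H` commuting with a symmetric group of degree five

The transposition of such a group commutes with a three-cycle, which is conjugate to the generator of `P`, so after
conjugation it is `z`; then the centralizer in `H` has order 84.
-/

set_option autoImplicit false
set_option linter.style.haveILetI false

namespace CfsgLib.Spor.JFourType.Ctx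

open Subgroup

universe u

variable {G : Type u} [Group G] [Finite G] {A : Type} [Group A] {J I R : Subgroup A}
  {z : G} {P : Subgroup G} {c : Ctx J I R z P}

/-- An element of order seven and a symmetric group. -/
structure SevenFrame (c : Ctx J I R z P) (y : G) (φ : Equiv.Perm (Fin 5) →* G) : Prop where
  yH : y ∈ c.H
  ord : orderOf y = 7
  inj : Function.Injective φ
  comm : ∀ σ, Commute y (φ σ)
  trans : φ p5t = z

/-- There is a frame. -/
theorem PentadCtx.exists_frame {x n s : G} (q : c.PentadCtx x n s) (F : FiveSeven J I R) :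
    ∃ y φ, c.SevenFrame y φ := by
  classical
  haveI : Fact (Nat.Prime 7) := ⟨by norm_num⟩
  haveI : Fact (Nat.Prime 3) := ⟨by norm_num⟩
  obtain ⟨w, hwx, hw7, hwC⟩ := q.exists_seven
  have ho : orderOf w = 7 := orderOf_eq_prime hw7 fun h => hwC (h ▸ one_mem _)
  obtain ⟨e⟩ := q.seven_sym hwx ho hwC
  set I' := centralizer ({w} : Set G) ⊓ centralizer (c.Pe : Set G)
  set φ₀ : Equiv.Perm (Fin 5) →* G := I'.subtype.comp e.symm.toMonoidHom with hφ₀
  have hinj₀ : Function.Injective φ₀ := I'.subtype_injective.comp e.symm.injective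
  have hcomm₀ : ∀ σ, Commute w (φ₀ σ) := fun σ => (mem_centralizer_singleton_iff.1 (mem_inf.1 (e.symm σ).2).1).symm
  have hc3 : orderOf (φ₀ p5c) = 3 := orderOf_eq_prime (by rw [← map_pow, p5c_cube, map_one])
    fun h => p5c_ne (hinj₀ (by rw [h, map_one]))
  obtain ⟨g, hg⟩ := isConj_iff.1 (c.isConj_three q.split hc3 c.ord_pg)
  set f : G ≃* G := MulAut.conj g with hf
  set φ : Equiv.Perm (Fin 5) →* G := f.toMonoidHom.comp φ₀ with hφ
  have hpg : f (φ₀ p5c) = c.pg := hg
  have hcP : ∀ u : G, Commute u c.pg → u ∈ c.C0 := fun u hu => by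
    have hP : ∀ p ∈ P, Commute u p := fun p hp => by
      rcases c.mem_P hp with h | h | h <;> rw [h]
      exacts [Commute.one_right u, hu, hu.inv_right]
    have hcent : u ∈ centralizer (P : Set G) := mem_centralizer_iff.2 fun p hp => (hP p hp).eq.symm
    exact ⟨c.normalizer_P_le q.split (centralizer_le_normalizer _ hcent), hcent⟩
  have hy : f w ∈ c.C0 := hcP _ (by rw [← hpg]; exact (hcomm₀ p5c).map f)
  have ht : φ p5t ∈ c.C0 := hcP _ (by
    rw [← hpg]
    exact ((show Commute p5t p5c from p5c_comm).map φ₀).map f)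
  have hinj : Function.Injective φ := f.injective.comp hinj₀
  have hto : orderOf (φ p5t) = 2 := orderOf_eq_prime (by rw [← map_pow, pow_two, p5t_sq, map_one])
    fun h => p5t_ne (hinj (by rw [h, map_one]))
  have hyo : orderOf (f w) = 7 := by rw [MulEquiv.orderOf_eq, ho]
  exact ⟨f w, φ, hy.1, hyo, hinj, fun σ => (hcomm₀ σ).map f,
    c.eq_z_of_comm_seven F hy hyo ht hto ((hcomm₀ p5t).map f).eq⟩

namespace SevenFrame

variable {y : G} {φ : Equiv.Perm (Fin 5) →* G}

/-- The product of the cyclic group and the symmetric group. -/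
noncomputable def hom (fr : c.SevenFrame y φ) : ↥(zpowers y) × Equiv.Perm (Fin 5) →* G :=
  MonoidHom.noncommCoprod (zpowers y).subtype φ fun a σ => by
    obtain ⟨i, hi⟩ := mem_zpowers_iff.1 a.2
    show Commute (a : G) (φ σ)
    rw [← hi]
    exact (fr.comm σ).zpow_left i

variable (fr : c.SevenFrame y φ)
include fr

theorem hom_apply (a : ↥(zpowers y)) (σ : Equiv.Perm (Fin 5)) : fr.hom (a, σ) = (a : G) * φ σ := rfl

theorem hom_injective : Function.Injective fr.hom := (injective_iff_map_eq_one _).2 fun p h => by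
  obtain ⟨a, σ⟩ := p
  rw [fr.hom_apply] at h
  have ha : (a : G) = φ σ⁻¹ := by rw [map_inv]; exact eq_inv_of_mul_eq_one_left h
  have hd1 : orderOf (a : G) ∣ 7 := fr.ord ▸ orderOf_dvd_of_mem_zpowers a.2
  have hd2 : orderOf (a : G) ∣ 120 := by
    rw [ha, ← card_perm_five]
    exact (orderOf_map_dvd φ _).trans (orderOf_dvd_natCard _)
  have ha1 : (a : G) = 1 :=
    orderOf_eq_one_iff.1 (Nat.eq_one_of_dvd_coprimes (by norm_num : Nat.Coprime 7 120) hd1 hd2)
  rw [ha1, one_mul] at h
  exact Prod.ext (Subtype.ext ha1) (fr.inj (h.trans (map_one φ).symm) : σ = 1)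

theorem mem_range {g : G} : g ∈ fr.hom.range ↔ ∃ a ∈ zpowers y, ∃ σ, g = a * φ σ :=
  ⟨fun ⟨p, hp⟩ => ⟨_, p.1.2, p.2, hp.symm⟩, fun ⟨a, ha, σ, h⟩ => ⟨(⟨a, ha⟩, σ), h.symm⟩⟩

theorem phi_mem (σ : Equiv.Perm (Fin 5)) : φ σ ∈ fr.hom.range :=
  fr.mem_range.2 ⟨1, one_mem _, σ, (one_mul _).symm⟩

theorem y_mem : y ∈ fr.hom.range := fr.mem_range.2 ⟨y, mem_zpowers y, 1, by rw [map_one, mul_one]⟩

theorem card_range : Nat.card ↥fr.hom.range = 840 := by
  rw [← Nat.card_congr (MonoidHom.ofInjective fr.hom_injective).toEquiv, Nat.card_prod, Nat.card_zpowers, fr.ord,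
    card_perm_five]

theorem range_le : fr.hom.range ≤ centralizer ({y} : Set G) := by
  intro g hg
  obtain ⟨a, ha, σ, rfl⟩ := fr.mem_range.1 hg
  obtain ⟨i, rfl⟩ := mem_zpowers_iff.1 ha
  exact mem_centralizer_singleton_iff.2 ((((Commute.refl y).zpow_right i).mul_right (fr.comm σ)).symm.eq)

/-- The centralizer in `H`. -/
theorem centralizer_H (F : FiveSeven J I R) :
    Nat.card ↥(c.H ⊓ centralizer ({y} : Set G)) = 84 ∧ c.H ⊓ centralizer ({y} : Set G) ≤ fr.hom.range := by
  classical
  set T := ((⊤ : Subgroup ↥(zpowers y)).prod (centralizer ({p5t} : Set (Equiv.Perm (Fin 5))))).map fr.hom with hT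
  have hTc : Nat.card ↥T = 84 := by
    rw [hT, ← Nat.card_congr (equivMapOfInjective _ _ fr.hom_injective).toEquiv,
      Nat.card_congr (prodEquiv _ _).toEquiv, Nat.card_prod, Subgroup.card_top, Nat.card_zpowers, fr.ord,
      card_cent_p5t]
  have hTH : T ≤ c.H ⊓ centralizer ({y} : Set G) := by
    rintro _ ⟨⟨a, σ⟩, ⟨-, hσ⟩, rfl⟩
    refine ⟨mul_mem (zpowers_le.2 fr.yH a.2) (mem_centralizer_singleton_iff.2 ?_), fr.range_le ⟨_, rfl⟩⟩
    rw [← fr.trans, ← map_mul, ← map_mul, mem_centralizer_singleton_iff.1 hσ]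
  have heq := eq_of_le_of_card_ge hTH ((c.card_CH_seven F fr.yH fr.ord).trans hTc.ge)
  rw [← heq]
  exact ⟨hTc, map_le_range fr.hom _⟩

/-- All elements of order seven of `H` have centralizers of order 84 in `H`. -/
theorem card_CH (F : FiveSeven J I R) {w : G} (hw : w ∈ c.H) (hwo : orderOf w = 7) :
    Nat.card ↥(c.H ⊓ centralizer ({w} : Set G)) = 84 := by
  classical
  haveI : Fact (Nat.Prime 7) := ⟨by norm_num⟩
  obtain ⟨h, hh, i, hi, hi7⟩ := c.conj_prime (p := 7) (by norm_num) (by norm_num) (by norm_num) fr.yH hw fr.ord hwo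
  have hyi : centralizer ({y ^ i} : Set G) = centralizer ({y} : Set G) := by
    have hz : zpowers (y ^ i) = zpowers y := eq_of_le_of_card_ge (zpowers_le.2 (npow_mem_zpowers y _))
      (by rw [Nat.card_zpowers, Nat.card_zpowers, Nat.Coprime.orderOf_pow (by
        rw [fr.ord]; exact (Nat.Prime.coprime_iff_not_dvd (by norm_num)).2 hi7)])
    rw [← centralizer_closure {y ^ i}, ← zpowers_eq_closure, hz, zpowers_eq_closure, centralizer_closure]
  rw [← (fr.centralizer_H F).1, ← hyi, ← hi]
  set f := MulAut.conj h with hf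
  rw [Nat.card_congr (equivMapOfInjective _ f.toMonoidHom f.injective).toEquiv]
  congr 2
  ext g
  constructor
  · rintro ⟨v, ⟨hv1, hv2⟩, rfl⟩
    exact mem_inf.2 ⟨mul_mem (mul_mem hh hv1) (inv_mem hh), mem_centralizer_singleton_iff.2
      ((show Commute v w from mem_centralizer_singleton_iff.1 hv2).map f).eq⟩
  · rintro ⟨hv1, hv2⟩
    refine ⟨f.symm g, mem_inf.2 ⟨mul_mem (mul_mem (inv_mem hh) hv1) hh, mem_centralizer_singleton_iff.2 ?_⟩,
      f.apply_symm_apply g⟩
    refine f.injective ?_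
    rw [map_mul, map_mul, f.apply_symm_apply]
    exact mem_centralizer_singleton_iff.1 hv2

/-- The product of two transpositions is not conjugate to `z`. -/
theorem not_isConj (F : FiveSeven J I R) : ¬ IsConj z (φ p5d) := by
  classical
  intro hz
  obtain ⟨g, hg⟩ := isConj_iff.1 hz
  set f := MulAut.conj g⁻¹ with hf
  have hfd : f (φ p5d) = z := by
    rw [← hg]
    show g⁻¹ * (g * z * g⁻¹) * g⁻¹⁻¹ = z
    group
  have hy' : f y ∈ c.H := mem_centralizer_singleton_iff.2 (by
    rw [← hfd]; exact ((fr.comm p5d).map f).eq)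
  have h84 := fr.card_CH F hy' (by rw [MulEquiv.orderOf_eq, fr.ord])
  have hle : (centralizer ({p5d} : Set (Equiv.Perm (Fin 5)))).map (f.toMonoidHom.comp φ) ≤
      c.H ⊓ centralizer ({f y} : Set G) := by
    rintro _ ⟨σ, hσ, rfl⟩
    refine ⟨mem_centralizer_singleton_iff.2 ?_, mem_centralizer_singleton_iff.2 ((fr.comm σ).map f).symm.eq⟩
    show f (φ σ) * z = z * f (φ σ)
    rw [← hfd, ← map_mul, ← map_mul, ← map_mul, ← map_mul, mem_centralizer_singleton_iff.1 hσ]
  have hd := card_dvd_of_le hle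
  rw [h84, ← Nat.card_congr (equivMapOfInjective _ _ (f.injective.comp fr.inj)).toEquiv, card_cent_p5d] at hd
  norm_num at hd

end SevenFrame

end CfsgLib.Spor.JFourType.Ctx
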