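import Cfsg.Agent.Lib.Spor.JFourType.PentadParts
import Cfsg.Agent.Lib.Spor.JFourType.SevenBasic

/-!
# A symmetric group of degree five centralizing an element of order seven

In the group of order `2 ^ 15` such an element fixes no element but the identity: its fixed group meets the center
trivially and has order one or `2 ^ 12` by the congruences modulo five and seven, and the second is impossible as
`z` is a commutator.
-/

set_option autoImplicit false
set_option linter.style.haveILetI false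

namespace CfsgLib.Spor.JFourType.Ctx.PentadCtx

open Subgroup

universe u

variable {G : Type u} [Group G] [Finite G] {A : Type} [Group A] {J I R : Subgroup A}
  {z : G} {P : Subgroup G} {c : Ctx J I R z P} {x n s : G} (q : c.PentadCtx x n s)
include q

/-- An element of order seven moving the eight-group fixes none of its nonidentity elements. -/
theorem Pe_fixed_seven {w : G} (hw : w ^ 7 = 1) (hN : w ∈ normalizer (c.Pe : Set G))
    (hC : w ∉ centralizer (c.Pe : Set G)) : c.Pe ⊓ centralizer ({w} : Set G) = ⊥ := by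
  haveI : Fact (Nat.Prime 7) := ⟨by norm_num⟩
  have hmod := card_conj_fixed_mod hw hN
  rw [FiveFull.card_lift_KR] at hmod
  have hd := card_dvd_of_le (inf_le_left : c.Pe ⊓ centralizer ({w} : Set G) ≤ c.Pe)
  rw [FiveFull.card_lift_KR] at hd
  obtain ⟨k, hk, he⟩ := (Nat.dvd_prime_pow Nat.prime_two).1 (show Nat.card ↥(c.Pe ⊓ centralizer ({w} : Set G)) ∣ 2 ^ 3 from hd)
  rw [← Subgroup.card_eq_one, he]
  rw [he] at hmod
  interval_cases k
  · norm_num
  · norm_num at hmod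
  · norm_num at hmod
  · exfalso
    refine hC (mem_centralizer_iff.2 fun a ha => ?_)
    have heq : c.Pe ⊓ centralizer ({w} : Set G) = c.Pe :=
      eq_of_le_of_card_ge inf_le_left (by rw [he, FiveFull.card_lift_KR]; norm_num)
    exact mem_centralizer_singleton_iff.1 (heq.ge ha).2

/-- An element of order five fixes exactly the eight-group in the group of order `2 ^ 15`. -/
theorem fixed_x {t : G} (ht : t ∈ c.Pl) (htx : t * x = x * t) : t ∈ c.Pe := by
  obtain ⟨a, ha, i, hi⟩ := q.full.centralizing q.split htx fun b hb =>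
    (mem_centralizer_iff.1 (q.Pl_le ht) b hb).symm
  have hxi : x ^ i ∈ c.Pl := by
    rw [show x ^ i = a⁻¹ * t by rw [hi, inv_mul_cancel_left]]
    exact mul_mem (inv_mem (q.Pe_le_Pl ha)) ht
  have h1 : x ^ i = 1 := by
    obtain ⟨k, hk⟩ := q.Pl_two ⟨_, hxi⟩
    refine orderOf_eq_one_iff.1 (Nat.eq_one_of_dvd_coprimes (Nat.Coprime.pow_left k (by norm_num : Nat.Coprime 2 5))
      (orderOf_dvd_of_pow_eq_one (congrArg Subtype.val hk)) (orderOf_dvd_of_pow_eq_one ?_))
    rw [← pow_mul, mul_comm, pow_mul, q.full.pow_five, one_pow]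
  rwa [hi, h1, mul_one]

/-- The element of order seven fixes no element of the group of order `2 ^ 15` but the identity. -/
theorem Pl_fixed_seven {w : G} (hwx : w * x = x * w) (hw : w ^ 7 = 1) (hC : w ∉ centralizer (c.Pe : Set G)) :
    c.Pl ⊓ centralizer ({w} : Set G) = ⊥ := by
  classical
  haveI : Fact (Nat.Prime 7) := ⟨by norm_num⟩
  haveI : Fact (Nat.Prime 5) := ⟨by norm_num⟩
  have hwN : w ∈ normalizer (c.Pe : Set G) := q.full.cent_norm q.split hwx
  set D := c.Pl ⊓ centralizer ({w} : Set G) with hD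
  have hPe := q.Pe_fixed_seven hw hwN hC
  have h7 := card_conj_fixed_mod hw (q.normalizer_le hwN)
  rw [← hD, q.card_Pl] at h7
  have hxL : x ∈ normalizer (c.Pl : Set G) := q.normalizer_le q.x_norm
  have hxD : x ∈ normalizer (D : Set G) := mem_normalizer_of_maps fun a ha => by
    refine ⟨(mem_normalizer_iff.1 hxL a).1 ha.1, mem_centralizer_singleton_iff.2 ?_⟩
    have h2 : Commute a w := mem_centralizer_singleton_iff.1 ha.2
    have h1 : Commute x w := hwx.symm
    exact (((h1.mul_left h2).mul_left h1.inv_left)).eq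
  have h5 := card_conj_fixed_mod q.full.pow_five hxD
  rw [show D ⊓ centralizer ({x} : Set G) = ⊥ from (Subgroup.eq_bot_iff_forall _).2 fun a ha =>
    (Subgroup.eq_bot_iff_forall _).1 hPe a ⟨q.fixed_x ha.1.1 (mem_centralizer_singleton_iff.1 ha.2), ha.1.2⟩,
    Subgroup.card_bot] at h5
  have hd := card_dvd_of_le (inf_le_left : D ≤ c.Pl)
  rw [q.card_Pl] at hd
  obtain ⟨k, hk, he⟩ := (Nat.dvd_prime_pow Nat.prime_two).1 hd
  by_contra hne
  have hk0 : k ≠ 0 := fun h => hne (Subgroup.card_eq_one.1 (by rw [he, h, pow_zero]))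
  rw [he] at h5 h7
  have hk12 : k = 12 := by
    interval_cases k <;> first | rfl | exact absurd rfl hk0 | (norm_num at h5; done) | (norm_num at h7; done)
  -- then every element is a product with an element of the eight-group, and `z` would be fixed
  subst hk12
  let m : ↥c.Pe × ↥D → ↥c.Pl := fun p => ⟨p.1 * p.2, mul_mem (q.Pe_le_Pl p.1.2) p.2.2.1⟩
  have hm : Function.Injective m := by
    intro p r h
    have h' : (p.1 : G) * p.2 = r.1 * r.2 := congrArg Subtype.val h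
    have hmem : (r.1 : G)⁻¹ * p.1 ∈ c.Pe ⊓ centralizer ({w} : Set G) :=
      mem_inf.2 ⟨mul_mem (inv_mem r.1.2) p.1.2, by
        rw [show (r.1 : G)⁻¹ * p.1 = (r.2 : G) * (p.2 : G)⁻¹ by
          rw [eq_mul_inv_iff_mul_eq, mul_assoc, h', inv_mul_cancel_left]]
        exact mul_mem (mem_inf.1 r.2.2).2 (inv_mem (mem_inf.1 p.2.2).2)⟩
    rw [hPe, mem_bot, inv_mul_eq_one] at hmem
    refine Prod.ext (Subtype.ext hmem.symm) (Subtype.ext ?_)
    rw [← hmem] at h'
    exact mul_left_cancel h'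
  have hms : Function.Surjective m := by
    exact ((Nat.bijective_iff_injective_and_card m).2 ⟨hm, by
      rw [Nat.card_prod, FiveFull.card_lift_KR, he, q.card_Pl]; norm_num⟩).2
  obtain ⟨a, ha, b, hb, hab⟩ := q.exists_noncomm
  obtain ⟨⟨a₁, a₂⟩, ea⟩ := hms ⟨a, ha⟩
  obtain ⟨⟨b₁, b₂⟩, eb⟩ := hms ⟨b, hb⟩
  have ea' : (a₁ : G) * a₂ = a := congrArg Subtype.val ea
  have eb' : (b₁ : G) * b₂ = b := congrArg Subtype.val eb
  have hz : z ∈ centralizer ({w} : Set G) := by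
    have hc1 : Commute (a₁ : G) b₁ := q.comm_Pe a₁.2 b₁.2
    have hc2 : Commute (a₁ : G) b₂ := (q.central_iff.1 a₁.2).2 _ b₂.2.1
    have hc3 : Commute (b₁ : G) a₂ := (q.central_iff.1 b₁.2).2 _ a₂.2.1
    have e : z = (a₂ : G) * b₂ * (a₂ : G)⁻¹ * (b₂ : G)⁻¹ := by
      rw [← hab, ← ea', ← eb']
      calc (a₁ : G) * a₂ * ((b₁ : G) * b₂) * ((a₁ : G) * a₂)⁻¹ * ((b₁ : G) * b₂)⁻¹
          = (a₁ : G) * ((a₂ : G) * b₁) * b₂ * (a₂ : G)⁻¹ * (a₁ : G)⁻¹ * (b₂ : G)⁻¹ * (b₁ : G)⁻¹ := by group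
        _ = (a₁ : G) * b₁ * ((a₂ : G) * b₂ * (a₂ : G)⁻¹) * ((a₁ : G)⁻¹ * (b₂ : G)⁻¹) * (b₁ : G)⁻¹ := by
            rw [← hc3.eq]; group
        _ = (a₁ : G) * b₁ * ((a₂ : G) * b₂ * (a₂ : G)⁻¹) * ((b₂ : G)⁻¹ * (a₁ : G)⁻¹) * (b₁ : G)⁻¹ := by
            rw [(hc2.inv_inv).eq]
        _ = ((a₁ : G) * b₁) * ((a₂ : G) * b₂ * (a₂ : G)⁻¹ * (b₂ : G)⁻¹) * ((a₁ : G) * b₁)⁻¹ := by
            rw [hc1.eq]; group
        _ = _ := by
            have hk : Commute ((a₁ : G) * b₁) ((a₂ : G) * b₂ * (a₂ : G)⁻¹ * (b₂ : G)⁻¹) :=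
              (q.central_iff.1 (mul_mem a₁.2 b₁.2)).2 _
                (mul_mem (mul_mem (mul_mem a₂.2.1 b₂.2.1) (inv_mem (mem_inf.1 a₂.2).1)) (inv_mem (mem_inf.1 b₂.2).1))
            rw [hk.eq, mul_inv_cancel_right]
    rw [e]
    exact mul_mem (mul_mem (mul_mem a₂.2.2 b₂.2.2) (inv_mem (mem_inf.1 a₂.2).2)) (inv_mem (mem_inf.1 b₂.2).2)
  exact c.z_ne ((Subgroup.eq_bot_iff_forall _).1 hPe z ⟨c.z_mem_lift _, hz⟩)

/-- The symmetric group. -/
theorem seven_sym {w : G} (hwx : w * x = x * w) (ho : orderOf w = 7) (hC : w ∉ centralizer (c.Pe : Set G)) :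
    Nonempty (↥(centralizer ({w} : Set G) ⊓ centralizer (c.Pe : Set G)) ≃* Equiv.Perm (Fin 5)) := by
  classical
  have hw7 : w ^ 7 = 1 := ho ▸ pow_orderOf_eq_one w
  have hwZ := q.seven_mem_Pz hwx hw7
  obtain ⟨ψ, hs, hψ⟩ := q.exists_psi
  set I' := centralizer ({w} : Set G) ⊓ centralizer (c.Pe : Set G) with hI
  let ψ' : ↥I' →* Equiv.Perm (Fin 5) := ψ.comp (Subgroup.inclusion inf_le_right)
  have hs' : Function.Surjective ψ' := by
    intro σ
    obtain ⟨t, rfl⟩ := hs σ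
    obtain ⟨a, ha, hta⟩ := q.exists_fixed_lift (by norm_num : Nat.Prime 7) (by norm_num) ho (mem_Pz.1 hwZ).1.2
      (q.normalizer_le (q.centralizer_le t.2)) ((mem_Pz.1 hwZ).2 t t.2)
    refine ⟨⟨(t : G) * a, hta, mul_mem t.2 (q.Pl_le ha)⟩, ?_⟩
    show ψ (t * ⟨a, q.Pl_le ha⟩) = ψ t
    rw [map_mul, (hψ ⟨a, q.Pl_le ha⟩).2 ha, mul_one]
  have hinj : Function.Injective ψ' := (injective_iff_map_eq_one ψ').2 fun g hg => Subtype.ext
    ((Subgroup.eq_bot_iff_forall _).1 (q.Pl_fixed_seven hwx hw7 hC) _ ⟨(hψ _).1 hg, g.2.1⟩)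
  exact ⟨MulEquiv.ofBijective ψ' ⟨hinj, hs'⟩⟩

end CfsgLib.Spor.JFourType.Ctx.PentadCtx
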