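import Cfsg.Agent.Lib.Spor.JFourType.Quot
import Cfsg.Agent.Lib.Spor.LargeFischer.Quad
import Cfsg.Agent.Lib.Spor.AffineExtraspecial
import Cfsg.Agent.Lib.PGroup.CharPLocal

/-!
# The quadratic space of the core

`pv` is the projection of `E` onto `V`, `act` the action of `H`, `Bf` and `Sf` the forms, `om` the action of a
generator of `P`.
-/

set_option autoImplicit false
set_option linter.style.haveILetI false

namespace CfsgLib.Spor.JFourType.Ctx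

open Subgroup CfsgLib.Spor.LargeFischer

universe u

variable {G : Type u} [Group G] [Finite G] {A : Type} [Group A] {J I R : Subgroup A}
  {z : G} {P : Subgroup G} (c : Ctx J I R z P)
include c

omit [Finite G] in
theorem mem_E_iff {x : G} : x ∈ c.E ↔ ∃ hx : x ∈ c.H, (⟨x, hx⟩ : ↥c.H) ∈ Cfsg.pCore 2 ↥c.H := by
  constructor
  · rintro ⟨w, hw, rfl⟩; exact ⟨w.2, hw⟩
  · rintro ⟨hx, h⟩; exact ⟨⟨x, hx⟩, h, rfl⟩

theorem exists_space : ∃ (V : Type u) (_ : AddCommGroup V), Nonempty (QuadSpace (Cfsg.pCore 2 ↥c.H) V) := by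
  haveI : Fact (Nat.Prime 2) := ⟨Nat.prime_two⟩
  haveI := CfsgLib.Coprime.pCore_normal' (G := ↥c.H) 2
  refine exists_quadSpace (Cfsg.pCore 2 ↥c.H) ?_ (CfsgLib.Spor.Affine.isExtraspecial_congr
    ((equivMapOfInjective (Cfsg.pCore 2 ↥c.H) c.H.subtype c.H.subtype_injective).symm) c.type.2.1)
  refine CfsgLib.CharPLoc.fStar_eq_pCore_iff.2 fun y hy hyc => ?_
  have hyE : (y : G) ∈ c.E := c.E_selfcent y.2 fun e he => by
    obtain ⟨heH, he'⟩ := c.mem_E_iff.1 he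
    exact congrArg Subtype.val (mem_centralizer_iff.1 hyc ⟨e, heH⟩ he')
  obtain ⟨k, hk⟩ := IsPGroup.iff_orderOf.1 c.E_isPGroup ⟨(y : G), hyE⟩
  rw [← Subgroup.orderOf_coe] at hk
  rw [← orderOf_eq_one_iff, ← Subgroup.orderOf_coe]
  rw [← Subgroup.orderOf_coe] at hy
  change orderOf (y : G) = 2 ^ k at hk
  rcases Nat.eq_zero_or_pos k with h0 | h0
  · rw [hk, h0, pow_zero]
  · rw [hk, Nat.coprime_pow_left_iff h0] at hy
    norm_num at hy

/-- The space. -/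
@[reducible] noncomputable def Vs : Type u := c.exists_space.choose

noncomputable instance instAddCommGroupVs : AddCommGroup c.Vs := c.exists_space.choose_spec.choose

/-- The chosen quadratic space. -/
noncomputable def qs : QuadSpace (Cfsg.pCore 2 ↥c.H) c.Vs := c.exists_space.choose_spec.choose_spec.some

open scoped _root_.Classical in
/-- The projection, zero outside the core. -/
noncomputable def pv (x : G) : c.Vs :=
  if h : ∃ hx : x ∈ c.H, (⟨x, hx⟩ : ↥c.H) ∈ Cfsg.pCore 2 ↥c.H then c.qs.p ⟨⟨x, h.1⟩, h.2⟩ else 0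

open scoped _root_.Classical in
/-- The action, trivial outside `H`. -/
noncomputable def act (x : G) : AddMonoid.End c.Vs := if h : x ∈ c.H then c.qs.φ ⟨x, h⟩ else 1

/-- The polar form. -/
noncomputable def Bf : c.Vs → c.Vs → ZMod 2 := c.qs.B

/-- The quadratic form. -/
noncomputable def Sf : c.Vs → ZMod 2 := c.qs.S

theorem pv_eq {x : G} (hx : x ∈ c.H) (h : (⟨x, hx⟩ : ↥c.H) ∈ Cfsg.pCore 2 ↥c.H) :
    c.pv x = c.qs.p ⟨⟨x, hx⟩, h⟩ := dif_pos ⟨hx, h⟩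

theorem act_eq {x : G} (hx : x ∈ c.H) : c.act x = c.qs.φ ⟨x, hx⟩ := dif_pos hx

theorem pv_mul {a b : G} (ha : a ∈ c.E) (hb : b ∈ c.E) : c.pv (a * b) = c.pv a + c.pv b := by
  obtain ⟨ha1, ha2⟩ := c.mem_E_iff.1 ha
  obtain ⟨hb1, hb2⟩ := c.mem_E_iff.1 hb
  rw [c.pv_eq ha1 ha2, c.pv_eq hb1 hb2, ← c.qs.add, c.pv_eq (mul_mem ha1 hb1) (mul_mem ha2 hb2)]
  rfl

theorem pv_surj (v : c.Vs) : ∃ a ∈ c.E, c.pv a = v := by
  obtain ⟨⟨⟨a, ha⟩, ha'⟩, rfl⟩ := c.qs.surj v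
  exact ⟨a, c.mem_E_iff.2 ⟨ha, ha'⟩, c.pv_eq ha ha'⟩

theorem pv_eq_zero {a : G} (ha : a ∈ c.E) : c.pv a = 0 ↔ a = 1 ∨ a = z := by
  obtain ⟨h1, h2⟩ := c.mem_E_iff.1 ha
  rw [c.pv_eq h1 h2, c.qs.ker, mem_center_iff, ← c.mem_center_E (x := ⟨a, ha⟩), mem_center_iff]
  constructor
  · intro h b
    obtain ⟨b1, b2⟩ := c.mem_E_iff.1 b.2
    exact Subtype.ext (congrArg (fun w : ↥(Cfsg.pCore 2 ↥c.H) => ((w : ↥c.H) : G)) (h ⟨⟨b, b1⟩, b2⟩))
  · intro h b
    apply Subtype.ext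
    apply Subtype.ext
    show ((b : ↥c.H) : G) * a = a * ((b : ↥c.H) : G)
    exact congrArg Subtype.val (h ⟨((b : ↥c.H) : G), c.mem_E_iff.2 ⟨_, b.2⟩⟩)

theorem pv_one : c.pv 1 = 0 := (c.pv_eq_zero (one_mem _)).2 (Or.inl rfl)

theorem pv_z : c.pv z = 0 := (c.pv_eq_zero c.z_mem_E).2 (Or.inr rfl)

theorem pv_inv {a : G} (ha : a ∈ c.E) : c.pv a⁻¹ = c.pv a := by
  have h1 := c.pv_mul ha (inv_mem ha)
  rw [mul_inv_cancel, c.pv_one] at h1
  have h2 : c.pv a + c.pv a = 0 := c.qs.two _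
  exact add_left_cancel (h1.symm.trans h2.symm)

theorem pv_eq_iff {a b : G} (ha : a ∈ c.E) (hb : b ∈ c.E) : c.pv a = c.pv b ↔ a = b ∨ a = z * b := by
  constructor
  · intro h
    have h1 : c.pv (a * b⁻¹) = 0 := by rw [c.pv_mul ha (inv_mem hb), c.pv_inv hb, h, c.qs.two]
    rcases (c.pv_eq_zero (mul_mem ha (inv_mem hb))).1 h1 with h2 | h2
    · exact Or.inl (mul_inv_eq_one.1 h2)
    · exact Or.inr (mul_inv_eq_iff_eq_mul.1 h2)
  · rintro (rfl | rfl)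
    · rfl
    · rw [c.pv_mul c.z_mem_E hb, c.pv_z, zero_add]

theorem two_V (v : c.Vs) : v + v = 0 := c.qs.two v

noncomputable instance instModuleVs : Module (ZMod 2) c.Vs :=
  AddCommGroup.zmodModule fun v => by rw [two_nsmul]; exact c.qs.two v

theorem pv_conj {h a : G} (hh : h ∈ c.H) (ha : a ∈ c.E) : c.pv (h * a * h⁻¹) = c.act h (c.pv a) := by
  obtain ⟨ha1, ha2⟩ := c.mem_E_iff.1 ha
  obtain ⟨hb1, hb2⟩ := c.mem_E_iff.1 (c.conj_E hh ha)
  rw [c.pv_eq hb1 hb2, c.pv_eq ha1 ha2, c.act_eq hh, c.qs.compat ⟨h, hh⟩ ⟨⟨a, ha1⟩, ha2⟩ ⟨⟨_, hb1⟩, hb2⟩ rfl]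

theorem act_mul {g h : G} (hg : g ∈ c.H) (hh : h ∈ c.H) : c.act (g * h) = c.act g * c.act h := by
  rw [c.act_eq hg, c.act_eq hh, c.act_eq (mul_mem hg hh), ← map_mul]
  rfl

theorem act_one : c.act 1 = 1 := by
  rw [c.act_eq (one_mem _)]; exact map_one c.qs.φ

theorem act_eq_one {h : G} (hh : h ∈ c.H) : c.act h = 1 ↔ h ∈ c.E := by
  rw [c.act_eq hh, c.qs.kerφ, c.mem_E_iff]
  exact ⟨fun k => ⟨hh, k⟩, fun k => k.2⟩

theorem act_inv_apply {h : G} (hh : h ∈ c.H) (v : c.Vs) : c.act h⁻¹ (c.act h v) = v := by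
  show (c.act h⁻¹ * c.act h) v = v
  rw [← c.act_mul (inv_mem hh) hh, inv_mul_cancel, c.act_one]; rfl

theorem act_apply_inv {h : G} (hh : h ∈ c.H) (v : c.Vs) : c.act h (c.act h⁻¹ v) = v := by
  show (c.act h * c.act h⁻¹) v = v
  rw [← c.act_mul hh (inv_mem hh), mul_inv_cancel, c.act_one]; rfl

theorem act_injective {h : G} (hh : h ∈ c.H) : Function.Injective (c.act h) :=
  Function.LeftInverse.injective (c.act_inv_apply hh)

theorem Bf_comm {a b : G} (ha : a ∈ c.E) (hb : b ∈ c.E) : c.Bf (c.pv a) (c.pv b) = 0 ↔ a * b = b * a := by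
  obtain ⟨ha1, ha2⟩ := c.mem_E_iff.1 ha
  obtain ⟨hb1, hb2⟩ := c.mem_E_iff.1 hb
  rw [c.pv_eq ha1 ha2, c.pv_eq hb1 hb2, Bf, c.qs.B_comm]
  exact ⟨fun h => congrArg (fun w : ↥(Cfsg.pCore 2 ↥c.H) => ((w : ↥c.H) : G)) h,
    fun h => Subtype.ext (Subtype.ext h)⟩

theorem Sf_sq {a : G} (ha : a ∈ c.E) : c.Sf (c.pv a) = 0 ↔ a * a = 1 := by
  obtain ⟨ha1, ha2⟩ := c.mem_E_iff.1 ha
  rw [c.pv_eq ha1 ha2, Sf, c.qs.sq]
  exact ⟨fun h => congrArg (fun w : ↥(Cfsg.pCore 2 ↥c.H) => ((w : ↥c.H) : G)) h,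
    fun h => Subtype.ext (Subtype.ext h)⟩

theorem Bf_act {h : G} (hh : h ∈ c.H) (v w : c.Vs) : c.Bf (c.act h v) (c.act h w) = c.Bf v w := by
  have e1 := c.qs.S_add v w
  have e2 := c.qs.S_add (c.act h v) (c.act h w)
  rw [← map_add, c.act_eq hh, c.qs.S_inv, c.qs.S_inv, c.qs.S_inv] at e2
  rw [Bf, c.act_eq hh]
  exact add_left_cancel (e2.symm.trans e1)

theorem Bf_add_left (u v w : c.Vs) : c.Bf (u + v) w = c.Bf u w + c.Bf v w := c.qs.B_add u v w

theorem Bf_symm (u v : c.Vs) : c.Bf u v = c.Bf v u := c.qs.B_symm u v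

theorem Bf_add_right (u v w : c.Vs) : c.Bf u (v + w) = c.Bf u v + c.Bf u w := by
  rw [c.Bf_symm, c.Bf_add_left, c.Bf_symm v, c.Bf_symm w]

theorem Bf_zero_left (v : c.Vs) : c.Bf 0 v = 0 := by
  have h := c.Bf_add_left 0 0 v
  rwa [add_zero, left_eq_add] at h

theorem Bf_zero_right (v : c.Vs) : c.Bf v 0 = 0 := by rw [c.Bf_symm, c.Bf_zero_left]

theorem Bf_nondeg {v : c.Vs} (h : ∀ w, c.Bf v w = 0) : v = 0 := c.qs.B_nondeg v h

theorem Bf_self (v : c.Vs) : c.Bf v v = 0 := by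
  obtain ⟨a, ha, rfl⟩ := c.pv_surj v
  exact (c.Bf_comm ha ha).2 rfl

theorem Sf_add (u v : c.Vs) : c.Sf (u + v) = c.Sf u + c.Sf v + c.Bf u v := c.qs.S_add u v

instance instFiniteVs : Finite c.Vs := Finite.of_surjective c.qs.p c.qs.surj

theorem card_V : Nat.card c.Vs = 2 ^ 12 := by
  have h := c.qs.card
  have h13 : Nat.card ↥(Cfsg.pCore 2 ↥c.H) = 2 ^ 13 := by
    rw [← c.card_E]
    exact Nat.card_congr (equivMapOfInjective (Cfsg.pCore 2 ↥c.H) c.H.subtype c.H.subtype_injective).toEquiv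
  rw [h13] at h
  omega

/-- The bilinear form. -/
noncomputable def form : LinearMap.BilinForm (ZMod 2) c.Vs :=
  LinearMap.mk₂ (ZMod 2) c.Bf c.Bf_add_left
    (fun a v w => by
      rcases (by decide : ∀ a : ZMod 2, a = 0 ∨ a = 1) a with rfl | rfl
      · rw [zero_smul, c.Bf_zero_left, zero_smul]
      · rw [one_smul, one_smul])
    c.Bf_add_right
    (fun a v w => by
      rcases (by decide : ∀ a : ZMod 2, a = 0 ∨ a = 1) a with rfl | rfl
      · rw [zero_smul, c.Bf_zero_right, zero_smul]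
      · rw [one_smul, one_smul])

/-- The orthogonal of a subgroup. -/
noncomputable def perp (U : AddSubgroup c.Vs) : AddSubgroup c.Vs where
  carrier := {v | ∀ u ∈ U, c.Bf u v = 0}
  add_mem' := fun {a b} ha hb u hu => by rw [c.Bf_add_right, ha u hu, hb u hu, add_zero]
  zero_mem' := fun u _ => c.Bf_zero_right u
  neg_mem' := fun {a} ha u hu => by rw [show -a = a from neg_eq_of_add_eq_zero_left (c.two_V a)]; exact ha u hu

theorem mem_perp {U : AddSubgroup c.Vs} {v : c.Vs} : v ∈ c.perp U ↔ ∀ u ∈ U, c.Bf u v = 0 := Iff.rfl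

theorem card_perp (U : AddSubgroup c.Vs) : Nat.card ↥U * Nat.card ↥(c.perp U) = 2 ^ 12 := by
  let W : Submodule (ZMod 2) c.Vs := U.toZModSubmodule 2
  have hW : ∀ v, v ∈ W ↔ v ∈ U := fun v => Iff.rfl
  have hP : ∀ v, v ∈ c.form.orthogonal W ↔ v ∈ c.perp U := fun v => by
    rw [LinearMap.BilinForm.mem_orthogonal_iff, c.mem_perp]
    exact ⟨fun h u hu => h u hu, fun h u hu => h u hu⟩
  have hnd : c.form.Nondegenerate :=
    ⟨fun v h => c.Bf_nondeg h, fun v h => c.Bf_nondeg fun w => by rw [c.Bf_symm]; exact h w⟩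
  have h1 := LinearMap.BilinForm.finrank_orthogonal (B := c.form) hnd W
  have hle := Submodule.finrank_le W
  have hv : Module.finrank (ZMod 2) c.Vs = 12 := by
    have := c.card_V
    rw [Module.natCard_eq_pow_finrank (K := ZMod 2), Nat.card_zmod] at this
    exact Nat.pow_right_injective le_rfl this
  have hcU : Nat.card ↥U = 2 ^ Module.finrank (ZMod 2) W := by
    rw [← Nat.card_congr (Equiv.subtypeEquivRight hW : ↥W ≃ ↥U), Module.natCard_eq_pow_finrank (K := ZMod 2),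
      Nat.card_zmod]
  have hcP : Nat.card ↥(c.perp U) = 2 ^ Module.finrank (ZMod 2) ↥(c.form.orthogonal W) := by
    rw [← Nat.card_congr (Equiv.subtypeEquivRight hP : ↥(c.form.orthogonal W) ≃ ↥(c.perp U)),
      Module.natCard_eq_pow_finrank (K := ZMod 2), Nat.card_zmod]
  rw [hcU, hcP, ← pow_add, h1, hv]
  congr 1
  omega

end CfsgLib.Spor.JFourType.Ctx
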