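import Cfsg.Agent.Lib.Spor.JFourType.FixEight
import Cfsg.Agent.Lib.Spor.JFourType.Lines
import Cfsg.Agent.Lib.Spor.JFourType.PrimeFix

/-!
# The fixed line of the second subgroup of order sixteen and the conjugates of `z` in the core

`RL` consists of the two-elements of `C0` over `R` and `KR` is its fixed space.  For a conjugate `u` of `z` in the
core the part of its core inside `H` maps onto an abelian subgroup of order 32 whose inner part is a conjugate of `R`.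
-/

set_option autoImplicit false
set_option linter.style.haveILetI false

namespace CfsgLib.Spor.JFourType.Ctx

open Subgroup
open scoped commutatorElement

universe u

variable {G : Type u} [Group G] [Finite G] {A : Type} [Group A] {J I R : Subgroup A}
  {z : G} {P : Subgroup G} (c : Ctx J I R z P)
include c

theorem natCard_A : Nat.card A = 887040 := by
  have h := J.card_mul_index
  rw [c.facts.card_J, c.facts.index_J] at h
  omega

theorem card_A_two {T : Subgroup A} (hT : IsPGroup 2 ↥T) : Nat.card ↥T ≤ 2 ^ 8 := by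
  haveI := c.finite_A
  haveI : Fact (Nat.Prime 2) := ⟨Nat.prime_two⟩
  obtain ⟨k, hk⟩ := IsPGroup.iff_card.1 hT
  have h := T.card_subgroup_dvd_card
  rw [c.natCard_A, hk] at h
  rw [hk]
  refine Nat.pow_le_pow_right two_pos ?_
  by_contra hlt
  have h9 : 2 ^ 9 ∣ 887040 := (pow_dvd_pow 2 (show 9 ≤ k by omega)).trans h
  norm_num at h9

theorem mem_E_of_im {x : G} (hx : x ∈ c.H) (him : c.im x = 1) {a : ℕ} (ha : x ^ 2 ^ a = 1) : x ∈ c.E := by
  rw [c.im_eq hx] at him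
  obtain ⟨e, he, q, hq, rfl⟩ := c.ker_decomp hx him
  have hact : c.act (e * q) = c.act q := by
    rw [c.act_mul (c.E_le he) (c.P_le_C0 hq).1, (c.act_eq_one (c.E_le he)).2 he, one_mul]
  have hq1 : q = 1 := c.act_P_of_pow hq (Nat.Coprime.pow_left a (by norm_num : Nat.Coprime 2 3)) (by
    rw [← hact, ← c.act_pow hx, ha, c.act_one])
  rw [hq1, mul_one]
  exact he

theorem zpowers_z_card : Nat.card ↥(zpowers z) = 2 := by rw [Nat.card_zpowers, c.ord]

theorem exists_two_pow {T : Subgroup G} (hT : IsPGroup 2 ↥T) {x : G} (hx : x ∈ T) : ∃ a : ℕ, x ^ 2 ^ a = 1 := by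
  obtain ⟨a, ha⟩ := hT ⟨x, hx⟩
  exact ⟨a, congrArg Subtype.val ha⟩

/-- The order of a 2-subgroup of `H` is bounded by its part in the core. -/
theorem card_le_two_pow_mul {T : Subgroup G} (hTH : T ≤ c.H) (hT : IsPGroup 2 ↥T) :
    Nat.card ↥T ≤ Nat.card ↥((T.subgroupOf c.H).map c.pr) * Nat.card ↥(T ⊓ c.E) := by
  classical
  let f : ↥T →* A := c.pr.comp (Subgroup.inclusion hTH)
  have hker : Nat.card ↥f.ker ≤ Nat.card ↥(T ⊓ c.E) := by
    refine Nat.card_le_card_of_injective (fun w : ↥f.ker => (⟨((w : ↥T) : G), (w : ↥T).2, ?_⟩ : ↥(T ⊓ c.E))) ?_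
    · obtain ⟨a, ha⟩ := c.exists_two_pow hT (w : ↥T).2
      exact c.mem_E_of_im (hTH (w : ↥T).2) (by rw [c.im_eq (hTH (w : ↥T).2)]; exact w.2) ha
    · intro u v h
      exact Subtype.ext (Subtype.ext (congrArg Subtype.val h :))
  have hr : f.range = (T.subgroupOf c.H).map c.pr := by
    ext a
    constructor
    · rintro ⟨t, rfl⟩; exact ⟨⟨t, hTH t.2⟩, t.2, rfl⟩
    · rintro ⟨t, ht, rfl⟩; exact ⟨⟨t, ht⟩, rfl⟩
  have h := f.ker.card_mul_index
  rw [Subgroup.index_ker, hr] at h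
  rw [← h, mul_comm]
  exact Nat.mul_le_mul_left _ hker

theorem isPGroup_im {T : Subgroup G} (hT : IsPGroup 2 ↥T) : IsPGroup 2 ↥((T.subgroupOf c.H).map c.pr) := by
  rintro ⟨_, ⟨t, ht, rfl⟩⟩
  obtain ⟨a, ha⟩ := hT ⟨t, ht⟩
  refine ⟨a, Subtype.ext ?_⟩
  show c.pr t ^ 2 ^ a = 1
  rw [← map_pow, show t ^ 2 ^ a = 1 from Subtype.ext (congrArg Subtype.val ha :), map_one]

/-- An involution of `H` centralized by a big 2-subgroup lies in the core. -/
theorem mem_E_of_big {s : G} (hs : s ∈ c.H) (hs2 : s * s = 1) {T : Subgroup G} (hTH : T ≤ c.H)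
    (hT : IsPGroup 2 ↥T) (hcent : ∀ t ∈ T, t * s = s * t) (hbig : 2 ^ 18 ≤ Nat.card ↥T) : s ∈ c.E := by
  by_contra hsE
  have hs21 : s ^ 2 ^ 1 = 1 := by rw [pow_one, pow_two]; exact hs2
  have him : c.im s ≠ 1 := fun h => hsE (c.mem_E_of_im hs h hs21)
  have him2 : orderOf (c.im s) = 2 := orderOf_eq_prime (by rw [← c.im_pow hs, pow_two, hs2, c.im_one]) him
  have hfix : Nat.card ↥(c.fix {s}) ≤ 2 ^ 8 := by
    by_cases hsM : s ∈ c.M
    · exact (c.card_fix_inner hsM him2 hs21).le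
    · exact (c.card_fix_outer hs hsM).trans (by norm_num)
  have hle : T ⊓ c.E ≤ c.lift (c.fix {s}) := by
    rintro e ⟨he1, he2⟩
    refine ⟨he2, c.mem_fix_singleton.2 ?_⟩
    rw [← c.pv_conj hs he2, ← hcent e he1, mul_inv_cancel_right]
  have h1 := card_le_of_le hle
  rw [c.card_lift] at h1
  have h2 := c.card_le_two_pow_mul hTH hT
  have h3 := c.card_A_two (c.isPGroup_im hT)
  have h4 := Nat.mul_le_mul h3 (h1.trans (Nat.mul_le_mul_left 2 hfix))
  have h5 := hbig.trans (h2.trans h4)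
  norm_num at h5

/-- A lift of an element of order prime to six. -/
theorem exists_lift {y : A} (hy : y ∈ J) {m k : ℕ} (hym : y ^ m = 1) (hk6 : 6 ∣ k) (hkm : k % m = 1) :
    ∃ x ∈ c.C0, c.im x = y ∧ x ^ m = 1 := by
  obtain ⟨x0, hx0, him⟩ := c.exists_C0_im hy
  have hyk : y ^ k = y := by
    rw [← Nat.mod_add_div k m, hkm, pow_add, pow_mul, hym, one_pow, mul_one, pow_one]
  refine ⟨x0 ^ k, pow_mem hx0 k, by rw [c.im_pow hx0.1, him, hyk], ?_⟩
  obtain ⟨j, rfl⟩ := hk6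
  have hone : c.pr ⟨x0 ^ m, pow_mem hx0.1 m⟩ = 1 := by rw [← c.im_eq, c.im_pow hx0.1, him, hym]
  rw [← pow_mul, mul_comm, pow_mul]
  obtain ⟨q, hq, h | h⟩ := c.ker_C0 (pow_mem hx0 m) hone
  all_goals
    have hq3 : q ^ 3 = 1 := by
      have := pow_card_eq_one' (G := ↥P) (x := ⟨q, hq⟩)
      rw [c.card_P] at this
      exact congrArg Subtype.val this
  · rw [h, show 6 * j = 3 * (2 * j) by ring, pow_mul, hq3, one_pow]
  · have hc : Commute z q := (c.comm_z (c.P_le_C0 hq).1).symm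
    rw [h, hc.mul_pow, show 6 * j = 2 * (3 * j) by ring, pow_mul, pow_two, c.zz, one_pow,
      show 2 * (3 * j) = 3 * (2 * j) by ring, pow_mul, hq3, one_pow, mul_one]

/-- The two-elements of `C0` over `R`. -/
def RL : Set G := {l | l ∈ c.C0 ∧ c.im l ∈ R ∧ ∃ a : ℕ, l ^ 2 ^ a = 1}

theorem RL_le : c.RL ⊆ (c.H : Set G) := fun _ h => h.1.1

theorem exists_RL {y : A} (hy : y ∈ R) : ∃ l ∈ c.RL, c.im l = y := by
  obtain ⟨x, hx, him⟩ := c.exists_C0_im (c.facts.R_le hy)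
  refine ⟨x ^ 3, ⟨pow_mem hx 3, by rw [c.im_pow hx.1, him]; exact pow_mem hy 3, 2, ?_⟩, ?_⟩
  · have h2 : c.pr ⟨x ^ 2, pow_mem hx.1 2⟩ = 1 := by
      rw [← c.im_eq, c.im_pow hx.1, him]; exact c.facts.ea_R.2 y hy
    rw [← pow_mul, show 3 * 2 ^ 2 = 2 * 6 by norm_num, pow_mul]
    obtain ⟨q, hq, h | h⟩ := c.ker_C0 (pow_mem hx 2) h2
    all_goals
      have hq3 : q ^ 3 = 1 := by
        have := pow_card_eq_one' (G := ↥P) (x := ⟨q, hq⟩)
        rw [c.card_P] at this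
        exact congrArg Subtype.val this
    · rw [h, show 6 = 3 * 2 from rfl, pow_mul, hq3, one_pow]
    · have hc : Commute z q := (c.comm_z (c.P_le_C0 hq).1).symm
      rw [h, hc.mul_pow, show z ^ 6 = 1 by rw [show 6 = 2 * 3 from rfl, pow_mul, pow_two, c.zz, one_pow],
        one_mul, show 6 = 3 * 2 from rfl, pow_mul, hq3, one_pow]
  · rw [c.im_pow hx.1, him, pow_succ, c.facts.ea_R.2 y hy, one_mul]

theorem coprime_two_pow (a : ℕ) : (2 ^ a).Coprime 3 := Nat.Coprime.pow_left a (by norm_num : Nat.Coprime 2 3)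

/-- The fixed space of the lifts of `R`. -/
noncomputable def KR : AddSubgroup c.Vs := c.fix c.RL

theorem KR_om {v : c.Vs} (hv : v ∈ c.KR) : c.om v ∈ c.KR :=
  c.fix_om (fun _ hx => c.C0_le_M hx.1) hv

/-- A two-element over `R` fixes the fixed space. -/
theorem act_KR {t : G} (ht : t ∈ c.M) (hi : c.im t ∈ R) {a : ℕ} (ha : t ^ 2 ^ a = 1) {v : c.Vs} (hv : v ∈ c.KR) :
    c.act t v = v := by
  obtain ⟨l, hl, hli⟩ := c.exists_RL hi
  obtain ⟨b, hb⟩ := hl.2.2
  have e : c.act t = c.act l := by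
    refine c.act_eq_of_im ht (c.C0_le_M hl.1) hli.symm (c.coprime_two_pow (a + b)) ?_ ?_
    · rw [← c.act_pow (c.H_of_M ht), pow_add, pow_mul, ha, one_pow, c.act_one]
    · rw [← c.act_pow hl.1.1, pow_add, mul_comm, pow_mul, hb, one_pow, c.act_one]
  rw [e]
  exact hv l hl

/-- Elements of `H` whose image normalizes `R` keep the fixed space. -/
theorem KR_invariant {g : G} (hg : g ∈ c.H) (hn : c.im g ∈ normalizer (R : Set A)) {v : c.Vs} (hv : v ∈ c.KR) :
    c.act g v ∈ c.KR := fun l hl => by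
  have hlH := hl.1.1
  set t := g⁻¹ * l * g with ht
  have htH : t ∈ c.H := mul_mem (mul_mem (inv_mem hg) hlH) hg
  have hti : c.im t ∈ R := by
    rw [ht, c.im_mul (mul_mem (inv_mem hg) hlH) hg, c.im_mul (inv_mem hg) hlH, c.im_inv hg]
    exact (mem_normalizer_iff''.1 hn _).1 hl.2.1
  have htM : t ∈ c.M := c.mem_M.2 ⟨htH, by rw [← c.im_eq]; exact c.facts.R_le hti⟩
  obtain ⟨a, ha⟩ := hl.2.2
  have hta : t ^ 2 ^ a = 1 := by
    rw [ht, show g⁻¹ * l * g = g⁻¹ * l * g⁻¹⁻¹ by group, conj_pow, ha]; group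
  show (c.act l * c.act g) v = c.act g v
  rw [← c.act_mul hlH hg, show l * g = g * t by rw [ht]; group, c.act_mul hg htH]
  exact congrArg (c.act g) (c.act_KR htM hti hta hv)

theorem orth_zmultiples {v w : c.Vs} (h : c.Bf v w = 0) : w ∈ c.perp (AddSubgroup.zmultiples v) := by
  refine c.mem_perp.2 fun u hu => ?_
  obtain ⟨k, rfl⟩ := AddSubgroup.mem_zmultiples_iff.1 hu
  exact (map_zsmul (AddMonoidHom.mk' (fun a => c.Bf a w) fun a b => c.Bf_add_left a b w) k v).trans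
    (by rw [AddMonoidHom.mk'_apply, h, zsmul_zero])

theorem card_zmultiples_V {v : c.Vs} (hv : v ≠ 0) : Nat.card ↥(AddSubgroup.zmultiples v) = 2 := by
  rw [Nat.card_zmultiples]
  exact addOrderOf_eq_prime (by rw [two_nsmul]; exact c.two_V v) hv

/-- The centralizer in the core of a noncentral element. -/
theorem card_centralizer_E {u : G} (hu : u ∈ c.E) (h1 : u ≠ 1) (hz : u ≠ z) :
    Nat.card ↥(c.E ⊓ centralizer ({u} : Set G)) = 2 ^ 12 := by
  have hne : c.pv u ≠ 0 := fun h => by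
    rcases (c.pv_eq_zero hu).1 h with h' | h'
    · exact h1 h'
    · exact hz h'
  have e : c.E ⊓ centralizer ({u} : Set G) = c.lift (c.perp (AddSubgroup.zmultiples (c.pv u))) := by
    ext x
    constructor
    · rintro ⟨hx, hx'⟩
      exact ⟨hx, c.orth_zmultiples ((c.Bf_comm hu hx).2 (mem_centralizer_singleton_iff.1 hx').symm)⟩
    · rintro ⟨hx, hx'⟩
      exact ⟨hx, mem_centralizer_singleton_iff.2
        ((c.Bf_comm hu hx).1 (c.mem_perp.1 hx' _ (AddSubgroup.mem_zmultiples _))).symm⟩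
  have h := c.card_perp (AddSubgroup.zmultiples (c.pv u))
  rw [c.card_zmultiples_V hne] at h
  rw [e, c.card_lift]
  exact h.trans (by norm_num)

/-- An abelian subgroup of the core has order at most `2 ^ 7`. -/
theorem card_abelian_E {S : Subgroup G} (hS : S ≤ c.E) (hc : ∀ a ∈ S, ∀ b ∈ S, a * b = b * a) :
    Nat.card ↥S ≤ 2 ^ 7 := by
  let K : AddSubgroup c.Vs :=
    { carrier := {v | ∃ a ∈ S, c.pv a = v}
      add_mem' := by
        rintro _ _ ⟨a, ha, rfl⟩ ⟨b, hb, rfl⟩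
        exact ⟨a * b, mul_mem ha hb, c.pv_mul (hS ha) (hS hb)⟩
      zero_mem' := ⟨1, one_mem _, c.pv_one⟩
      neg_mem' := by
        rintro _ ⟨a, ha, rfl⟩
        exact ⟨a, ha, (neg_eq_of_add_eq_zero_left (c.two_V (c.pv a))).symm⟩ }
  have hK : K ≤ c.perp K := by
    rintro _ ⟨b, hb, rfl⟩
    refine c.mem_perp.2 ?_
    rintro _ ⟨a, ha, rfl⟩
    exact (c.Bf_comm (hS ha) (hS hb)).2 (hc a ha b hb)
  have h := c.card_perp K
  have h1 := AddSubgroup.card_le_of_le hK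
  have h2 := card_le_of_le (show S ≤ c.lift K from fun a ha => ⟨hS ha, a, ha, rfl⟩)
  rw [c.card_lift] at h2
  have h64 : Nat.card ↥K ≤ 64 := by
    by_contra hlt
    push Not at hlt
    have := Nat.mul_le_mul hlt (hlt.trans_le h1).le
    omega
  exact h2.trans ((Nat.mul_le_mul_left 2 h64).trans (by norm_num))

theorem conj_centralizer {g u : G} (hgu : g * z * g⁻¹ = u) {t : G} (ht : t * u = u * t) : g⁻¹ * t * g ∈ c.H :=
  mem_centralizer_singleton_iff.2 (by
    calc g⁻¹ * t * g * z = g⁻¹ * (t * (g * z * g⁻¹)) * g := by group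
      _ = g⁻¹ * (g * z * g⁻¹ * t) * g := by rw [hgu, ht]
      _ = _ := by group)

/-- For a conjugate of `z` in the core, `z` lies in the corresponding core. -/
theorem conj_z_mem {g u : G} (hgu : g * z * g⁻¹ = u) (hu : u ∈ c.E) (hz : u ≠ z) : g⁻¹ * z * g ∈ c.E := by
  have h1 : u ≠ 1 := fun h => c.z_ne (by simpa [h] using hgu)
  by_contra hnot
  set T := c.E ⊓ centralizer ({u} : Set G) with hT
  set T' : Subgroup G := T.map (MulAut.conj g⁻¹).toMonoidHom with hT'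
  have hmem : ∀ x, x ∈ T' ↔ ∃ t ∈ T, g⁻¹ * t * g = x := fun x => by
    rw [hT', Subgroup.mem_map]
    exact exists_congr fun t => and_congr_right fun _ => by simp
  have hcomm : ∀ t ∈ T, t * u = u * t := fun t ht => mem_centralizer_singleton_iff.1 ht.2
  have hT'H : T' ≤ c.H := fun x hx => by
    obtain ⟨t, ht, rfl⟩ := (hmem x).1 hx
    exact c.conj_centralizer hgu (hcomm t ht)
  have hT'p : IsPGroup 2 ↥T' := (c.E_isPGroup.to_le inf_le_left).map _
  have hsmall : Nat.card ↥(T' ⊓ c.E) ≤ 2 := by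
    rw [← c.zpowers_z_card]
    refine card_le_of_le ?_
    rintro x ⟨hx, hxE⟩
    obtain ⟨e, he, rfl⟩ := (hmem x).1 hx
    -- the element is central in `T`
    have hcen : ∀ f ∈ T, e * f = f * e := by
      intro f hf
      rcases c.comm_E he.1 hf.1 with h | h
      · exact h
      · exfalso
        refine hnot ?_
        have hf' : g⁻¹ * f * g ∈ c.H := c.conj_centralizer hgu (hcomm f hf)
        have hm : (g⁻¹ * e * g) * ((g⁻¹ * f * g) * (g⁻¹ * e * g)⁻¹ * (g⁻¹ * f * g)⁻¹) ∈ c.E :=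
          mul_mem hxE (c.conj_E hf' (inv_mem hxE))
        rwa [show (g⁻¹ * e * g) * ((g⁻¹ * f * g) * (g⁻¹ * e * g)⁻¹ * (g⁻¹ * f * g)⁻¹) =
          g⁻¹ * (e * f * e⁻¹ * f⁻¹) * g by group, show e * f * e⁻¹ * f⁻¹ = z by rw [h]; group] at hm
    have hpv : c.pv e ∈ c.perp (c.perp (AddSubgroup.zmultiples (c.pv u))) := c.mem_perp.2 fun v hv => by
      obtain ⟨f, hf, rfl⟩ := c.pv_surj v
      refine (c.Bf_comm hf he.1).2 (hcen f ⟨hf, mem_centralizer_singleton_iff.2 ?_⟩).symm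
      exact ((c.Bf_comm hu hf).1 (c.mem_perp.1 hv _ (AddSubgroup.mem_zmultiples _))).symm
    rw [c.perp_perp] at hpv
    obtain ⟨k, hk⟩ := AddSubgroup.mem_zmultiples_iff.1 hpv
    rcases Int.even_or_odd' k with ⟨j, rfl | rfl⟩
    · rw [mul_zsmul, two_zsmul, c.two_V] at hk
      rcases (c.pv_eq_zero he.1).1 hk.symm with rfl | rfl
      · rw [mul_one, inv_mul_cancel]; exact one_mem _
      · exact absurd hxE hnot
    · rw [add_zsmul, one_zsmul, mul_zsmul, two_zsmul, c.two_V, zero_add] at hk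
      rcases (c.pv_eq_iff hu he.1).1 hk with h | h
      · rw [← h, ← hgu, show g⁻¹ * (g * z * g⁻¹) * g = z by group]; exact mem_zpowers z
      · exfalso
        refine hnot ?_
        have he' : e = z * u := by rw [h, ← mul_assoc, c.zz, one_mul]
        rw [he', show g⁻¹ * (z * u) * g = (g⁻¹ * z * g) * (g⁻¹ * u * g) by group,
          show g⁻¹ * u * g = z by rw [← hgu]; group] at hxE
        exact (mul_mem_cancel_right c.z_mem_E).1 hxE
  have hcard : Nat.card ↥T' = 2 ^ 12 := by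
    rw [← c.card_centralizer_E hu h1 hz]
    exact (Nat.card_congr (equivMapOfInjective T _ (MulAut.conj g⁻¹).injective).toEquiv).symm
  have h2 := c.card_le_two_pow_mul hT'H hT'p
  have h3 := Nat.mul_le_mul (c.card_A_two (c.isPGroup_im hT'p)) hsmall
  rw [hcard] at h2
  have := h2.trans h3
  norm_num at this

/-- The part in `H` of a conjugate of the core. -/
def TC (g : G) : Subgroup G := c.E.map (MulAut.conj g).toMonoidHom ⊓ c.H

/-- Its image. -/
noncomputable def KC (g : G) : Subgroup A := ((c.TC g).subgroupOf c.H).map c.pr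

theorem mem_TC {g x : G} : x ∈ c.TC g ↔ g⁻¹ * x * g ∈ c.E ∧ x ∈ c.H := by
  rw [TC, mem_inf, Subgroup.mem_map]
  refine and_congr_left fun _ => ⟨?_, fun h => ⟨_, h, by simp [mul_assoc]⟩⟩
  rintro ⟨e, he, rfl⟩
  simpa [mul_assoc] using he

theorem mem_KC {g : G} {a : A} : a ∈ c.KC g ↔ ∃ x ∈ c.TC g, c.im x = a := by
  constructor
  · rintro ⟨⟨x, hx⟩, hxT, rfl⟩; exact ⟨x, hxT, by rw [c.im_eq hx]⟩
  · rintro ⟨x, hx, rfl⟩
    exact ⟨⟨x, (c.mem_TC.1 hx).2⟩, hx, by rw [c.im_eq]⟩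

theorem TC_comm_u {g u : G} (hgu : g * z * g⁻¹ = u) {x : G} (hx : x ∈ c.TC g) : x * u = u * x := by
  have h := c.comm_z (c.E_le (c.mem_TC.1 hx).1)
  rw [← hgu]
  calc x * (g * z * g⁻¹) = g * (g⁻¹ * x * g * z) * g⁻¹ := by group
    _ = g * (z * (g⁻¹ * x * g)) * g⁻¹ := by rw [h]
    _ = _ := by group

theorem TC_two_pow {g x : G} (hx : x ∈ c.TC g) : ∃ a : ℕ, x ^ 2 ^ a = 1 :=
  c.exists_two_pow ((c.E_isPGroup.map (MulAut.conj g).toMonoidHom).to_le inf_le_left) hx

theorem KC_left_mul {h g : G} (hh : h ∈ c.H) {a : A} :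
    a ∈ c.KC (h * g) ↔ (c.im h)⁻¹ * a * c.im h ∈ c.KC g := by
  rw [c.mem_KC, c.mem_KC]
  constructor
  · rintro ⟨x, hx, rfl⟩
    obtain ⟨hx1, hx2⟩ := c.mem_TC.1 hx
    refine ⟨h⁻¹ * x * h, c.mem_TC.2 ⟨?_, mul_mem (mul_mem (inv_mem hh) hx2) hh⟩, ?_⟩
    · rwa [show g⁻¹ * (h⁻¹ * x * h) * g = (h * g)⁻¹ * x * (h * g) by group]
    · rw [c.im_mul (mul_mem (inv_mem hh) hx2) hh, c.im_mul (inv_mem hh) hx2, c.im_inv hh]
  · rintro ⟨y, hy, hya⟩
    obtain ⟨hy1, hy2⟩ := c.mem_TC.1 hy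
    refine ⟨h * y * h⁻¹, c.mem_TC.2 ⟨?_, mul_mem (mul_mem hh hy2) (inv_mem hh)⟩, ?_⟩
    · rwa [show (h * g)⁻¹ * (h * y * h⁻¹) * (h * g) = g⁻¹ * y * g by group]
    · rw [c.im_conj hh hy2, hya]; group

theorem KC_right_mul {g k : G} (hk : k ∈ c.H) : c.KC (g * k) = c.KC g := by
  have key : ∀ x, x ∈ c.TC (g * k) ↔ x ∈ c.TC g := fun x => by
    rw [c.mem_TC, c.mem_TC, show (g * k)⁻¹ * x * (g * k) = k⁻¹ * (g⁻¹ * x * g) * k by group]
    refine and_congr_left fun _ => ⟨fun h => ?_, fun h => c.conj_E' hk h⟩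
    have := c.conj_E hk h
    rwa [show k * (k⁻¹ * (g⁻¹ * x * g) * k) * k⁻¹ = g⁻¹ * x * g by group] at this
  ext a
  simp only [c.mem_KC, key]

/-- The image is abelian of order at least 32 and its inner part is conjugate to `R`. -/
theorem KC_shape {g u : G} (hgu : g * z * g⁻¹ = u) (hu : u ∈ c.E) (hz : u ≠ z) :
    ∃ j ∈ J, IsConjugateBy j R (c.KC g ⊓ J) := by
  haveI := c.finite_A
  have hz' : g⁻¹ * z * g ∈ c.E := c.conj_z_mem hgu hu hz
  have hT : Nat.card ↥(c.TC g) = 2 ^ 12 := by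
    have hne1 : g⁻¹ * z * g ≠ 1 := fun h => c.z_ne (by
      calc z = g * (g⁻¹ * z * g) * g⁻¹ := by group
        _ = 1 := by rw [h]; group)
    have hnez : g⁻¹ * z * g ≠ z := fun h => hz (by
      rw [← hgu]
      calc g * z * g⁻¹ = g * (g⁻¹ * z * g) * g⁻¹ := by rw [h]
        _ = z := by group)
    rw [← c.card_centralizer_E hz' hne1 hnez]
    refine Nat.card_congr
      { toFun := fun x => ⟨g⁻¹ * x * g, (c.mem_TC.1 x.2).1, mem_centralizer_singleton_iff.2 ?_⟩
        invFun := fun y => ⟨g * y * g⁻¹, c.mem_TC.2 ⟨?_, mem_centralizer_singleton_iff.2 ?_⟩⟩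
        left_inv := fun x => Subtype.ext (by show g * (g⁻¹ * x * g) * g⁻¹ = x; group)
        right_inv := fun y => Subtype.ext (by show g⁻¹ * (g * y * g⁻¹) * g = y; group) }
    · have h := mem_centralizer_singleton_iff.1 (c.mem_TC.1 x.2).2
      calc g⁻¹ * x * g * (g⁻¹ * z * g) = g⁻¹ * (x * z) * g := by group
        _ = g⁻¹ * (z * x) * g := by rw [h]
        _ = _ := by group
    · rw [show g⁻¹ * (g * (y : G) * g⁻¹) * g = y by group]; exact y.2.1
    · have h := mem_centralizer_singleton_iff.1 y.2.2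
      calc g * (y : G) * g⁻¹ * z = g * (y * (g⁻¹ * z * g)) * g⁻¹ := by group
        _ = g * ((g⁻¹ * z * g) * y) * g⁻¹ := by rw [h]
        _ = _ := by group
  have hTp : IsPGroup 2 ↥(c.TC g) := (c.E_isPGroup.map _).to_le inf_le_left
  have hcomm : ∀ a ∈ c.TC g, ∀ b ∈ c.TC g, a * b = b * a ∨ a * b = u * (b * a) := by
    intro a ha b hb
    rcases c.comm_E (c.mem_TC.1 ha).1 (c.mem_TC.1 hb).1 with h | h
    · left
      calc a * b = g * ((g⁻¹ * a * g) * (g⁻¹ * b * g)) * g⁻¹ := by group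
        _ = g * ((g⁻¹ * b * g) * (g⁻¹ * a * g)) * g⁻¹ := by rw [h]
        _ = _ := by group
    · right
      calc a * b = g * ((g⁻¹ * a * g) * (g⁻¹ * b * g)) * g⁻¹ := by group
        _ = g * (z * ((g⁻¹ * b * g) * (g⁻¹ * a * g))) * g⁻¹ := by rw [h]
        _ = _ := by rw [← hgu]; group
  have hsmall : Nat.card ↥(c.TC g ⊓ c.E) ≤ 2 ^ 7 := by
    refine c.card_abelian_E inf_le_right fun a ha b hb => ?_
    rcases c.comm_E ha.2 hb.2 with h | h
    · exact h
    · exact (hcomm a ha.1 b hb.1).resolve_right fun h' => hz (mul_right_cancel (h'.symm.trans h))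
  have h2 := c.card_le_two_pow_mul (T := c.TC g) inf_le_right hTp
  rw [hT] at h2
  have h32 : 32 ≤ Nat.card ↥(c.KC g) := by
    have h3 := h2.trans (Nat.mul_le_mul_left _ hsmall)
    rw [KC]
    by_contra hlt
    push Not at hlt
    have := h3.trans_lt (Nat.mul_lt_mul_of_pos_right hlt (by norm_num : 0 < 2 ^ 7))
    norm_num at this
  refine (c.facts.big_abelian (c.KC g) (c.isPGroup_im hTp) ?_ h32).2.2
  intro a ha b hb
  obtain ⟨x, hx, rfl⟩ := c.mem_KC.1 ha
  obtain ⟨y, hy, rfl⟩ := c.mem_KC.1 hb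
  have hxH := (c.mem_TC.1 hx).2
  have hyH := (c.mem_TC.1 hy).2
  rcases hcomm x hx y hy with h | h
  · rw [← c.im_mul hxH hyH, h, c.im_mul hyH hxH]
  · rw [← c.im_mul hxH hyH, h, c.im_mul (c.E_le hu) (mul_mem hyH hxH), c.im_E hu, one_mul, c.im_mul hyH hxH]

/-- A conjugate of `z` in the core whose associated subgroup is `R`. -/
def RPoint (u : G) : Prop := u ∈ c.E ∧ u ≠ z ∧ ∃ g, g * z * g⁻¹ = u ∧ c.KC g ⊓ J = R

/-- Every conjugate of `z` in the core is moved by `C0` to one associated to `R`. -/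
theorem exists_rPoint {g u : G} (hgu : g * z * g⁻¹ = u) (hu : u ∈ c.E) (hz : u ≠ z) :
    ∃ j ∈ J, IsConjugateBy j R (c.KC g ⊓ J) ∧ ∀ h ∈ c.C0, c.im h = j⁻¹ → c.RPoint (h * u * h⁻¹) := by
  obtain ⟨j, hj, hc⟩ := c.KC_shape hgu hu hz
  refine ⟨j, hj, hc, fun h hh hhi => ⟨c.conj_E hh.1 hu, fun he => hz ?_, h * g, ?_, ?_⟩⟩
  · calc u = h⁻¹ * (h * u * h⁻¹) * h := by group
      _ = h⁻¹ * z * h := by rw [he]
      _ = z := by rw [mul_assoc, ← c.comm_z hh.1, inv_mul_cancel_left]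
  · rw [← hgu]; group
  · ext a
    rw [mem_inf, c.KC_left_mul hh.1, hhi, inv_inv]
    constructor
    · rintro ⟨h1, h2⟩
      have := (hc _).1 (mem_inf.2 ⟨h1, mul_mem (mul_mem hj h2) (inv_mem hj)⟩)
      rwa [show j⁻¹ * (j * a * j⁻¹) * j = a by group] at this
    · intro ha
      have := (hc (j * a * j⁻¹)).2 (by rwa [show j⁻¹ * (j * a * j⁻¹) * j = a by group])
      exact ⟨this.1, c.facts.R_le ha⟩

theorem RPoint.pv_mem {u : G} (h : c.RPoint u) : c.pv u ∈ c.KR := by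
  obtain ⟨hu, -, g, hgu, hK⟩ := h
  intro l hl
  obtain ⟨t, ht, hti⟩ := c.mem_KC.1 (hK.symm.le hl.2.1).1
  have htH := (c.mem_TC.1 ht).2
  have hiR : c.im t ∈ R := hti.symm ▸ hl.2.1
  have htM : t ∈ c.M := c.mem_M.2 ⟨htH, by rw [← c.im_eq]; exact c.facts.R_le hiR⟩
  obtain ⟨a, ha⟩ := c.TC_two_pow ht
  obtain ⟨b, hb⟩ := hl.2.2
  have e : c.act t = c.act l := by
    refine c.act_eq_of_im htM (c.C0_le_M hl.1) hti (c.coprime_two_pow (a + b)) ?_ ?_
    · rw [← c.act_pow htH, pow_add, pow_mul, ha, one_pow, c.act_one]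
    · rw [← c.act_pow hl.1.1, pow_add, mul_comm, pow_mul, hb, one_pow, c.act_one]
  rw [← e, ← c.pv_conj htH hu, c.TC_comm_u hgu ht, mul_inv_cancel_right]

theorem RPoint.normalizes {u : G} (h : c.RPoint u) {x : G} (hx : x ∈ c.H)
    (he : c.act x (c.pv u) = c.pv u) : c.im x ∈ normalizer (R : Set A) := by
  obtain ⟨hu, hz, g, hgu, hK⟩ := h
  haveI := c.finite_A
  haveI : J.Normal := normal_of_index_eq_two c.facts.index_J
  -- some translate by the core fixes `u`
  obtain ⟨e, he', hfix⟩ : ∃ e ∈ c.E, (e * x) * u * (e * x)⁻¹ = u := by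
    rw [← c.pv_conj hx hu] at he
    rcases (c.pv_eq_iff (c.conj_E hx hu) hu).1 he with h | h
    · exact ⟨1, one_mem _, by rw [one_mul, h]⟩
    · obtain ⟨e, he, hne⟩ : ∃ e ∈ c.E, e * u ≠ u * e := by
        by_contra hcon
        push Not at hcon
        rcases c.eq_of_E_center hu hcon with h | h
        · exact c.z_ne (by simpa [h] using hgu)
        · exact hz h
      refine ⟨e, he, ?_⟩
      calc e * x * u * (e * x)⁻¹ = e * (x * u * x⁻¹) * e⁻¹ := by group
        _ = e * (z * u) * e⁻¹ := by rw [h]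
        _ = z * (e * u) * e⁻¹ := by rw [← mul_assoc e z u, c.comm_z (c.E_le he)]; group
        _ = z * (z * (u * e)) * e⁻¹ := by rw [(c.comm_E he hu).resolve_left hne]
        _ = u := by rw [← mul_assoc z z, c.zz, one_mul, mul_inv_cancel_right]
  set y := e * x with hy
  have hyH : y ∈ c.H := mul_mem (c.E_le he') hx
  have hk : g⁻¹ * y * g ∈ c.H := c.conj_centralizer hgu (mul_inv_eq_iff_eq_mul.1 hfix)
  have hKy : ∀ a, a ∈ c.KC g ↔ (c.im y)⁻¹ * a * c.im y ∈ c.KC g := fun a => by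
    rw [← c.KC_left_mul hyH, show y * g = g * (g⁻¹ * y * g) by group, c.KC_right_mul hk]
  have him : c.im y = c.im x := by rw [hy, c.im_mul (c.E_le he') hx, c.im_E he', one_mul]
  rw [← him]
  refine mem_normalizer_iff''.2 fun a => ?_
  have key : ∀ b, b ∈ R ↔ b ∈ c.KC g ∧ b ∈ J := fun b => by
    rw [← mem_inf]; exact (SetLike.ext_iff.1 hK b).symm
  rw [key, key, ← hKy a]
  refine and_congr_right fun _ => ?_
  constructor
  · intro h
    have := (inferInstance : J.Normal).conj_mem _ h (c.im y)⁻¹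
    rwa [inv_inv] at this
  · intro h
    have := (inferInstance : J.Normal).conj_mem _ h (c.im y)
    rwa [show c.im y * ((c.im y)⁻¹ * a * c.im y) * (c.im y)⁻¹ = a by group] at this

end CfsgLib.Spor.JFourType.Ctx
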