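import Cfsg.Agent.Lib.Spor.JFourType.Hexads
import Cfsg.Agent.Lib.Spor.JFourType.SplitDef
import Cfsg.Agent.Lib.Spor.JFourType.SylowTwo
import Cfsg.Agent.Lib.Spor.JFourType.ZPoint

/-!
# The two classes of involutions of `W`

In `Ut` the conjugates of `z` besides `z` are the lifts of the vectors on three lines; over an involution of `I`
the others lie over its line, one in each pair, and form one orbit under the core.
-/

set_option autoImplicit false
set_option linter.style.haveILetI false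

namespace CfsgLib.Spor.JFourType.Ctx

open Subgroup

universe u

variable {G : Type u} [Group G] [Finite G] {A : Type} [Group A] {J I R : Subgroup A}
  {z : G} {P : Subgroup G} (c : Ctx J I R z P)
include c

/-- The involutions of `W` not conjugate to `z`. -/
def Tset : Set G := {x | x ∈ c.W ∧ x ≠ 1 ∧ ¬ IsConj z x}

omit [Finite G] in
theorem isConj_z_conj (g x : G) : IsConj z (g * x * g⁻¹) ↔ IsConj z x := by
  have h : IsConj x (g * x * g⁻¹) := isConj_iff.2 ⟨g, rfl⟩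
  exact ⟨fun h' => h'.trans h.symm, fun h' => h'.trans h⟩

omit [Finite G] in
theorem not_isConj_z_one : ¬ IsConj z 1 := fun h => c.z_ne (isConj_one_left.1 h)

theorem z_mem_Ut' : z ∈ c.Ut := c.z_mem_lift _

theorem Ut_sub_W {x : G} (hx : x ∈ c.Ut) : x ∈ c.W := mem_sup_left hx

theorem lv_mem_W' (i : ↥I) : c.lv i ∈ c.W := mem_sup_right (c.lv_mem i)

theorem z_mem_W' : z ∈ c.W := c.Ut_sub_W c.z_mem_Ut'

theorem im_mem_I_of_W {x : G} (hx : x ∈ c.W) : c.im x ∈ I := by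
  obtain ⟨u, hu, l, hl, rfl⟩ := c.mem_W.1 hx
  rw [c.im_mul (c.E_le hu.1) (c.L0_le hl).1, c.im_E hu.1, one_mul]
  exact (c.mem_L0.1 hl).2.1

theorem mem_Ut_of_im_W {x : G} (hx : x ∈ c.W) (h : c.im x = 1) : x ∈ c.Ut :=
  c.W_inf_E hx (c.mem_E_of_im (c.W_le_H hx) h (a := 1) (by rw [pow_one, pow_two, c.W_sq hx]))

/-- The part in `Ut`. -/
theorem fibre_Ut {x : G} (hx : x ∈ c.W) {i : ↥I} (hi : c.im x = i) : x * c.lv i ∈ c.Ut :=
  c.mem_Ut_of_im_W (mul_mem hx (c.lv_mem_W' i)) (by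
    rw [c.im_mul (c.W_le_H hx) (c.lv_H i), hi, c.im_lv, ← Subgroup.coe_mul, c.mul_self_I, coe_one])

theorem fibre_mk {u : G} (hu : u ∈ c.Ut) (i : ↥I) : u * c.lv i ∈ c.W ∧ c.im (u * c.lv i) = i :=
  ⟨mul_mem (c.Ut_sub_W hu) (c.lv_mem_W' i), by
    rw [c.im_mul (c.E_le hu.1) (c.lv_H i), c.im_E hu.1, one_mul, c.im_lv]⟩

/-- An element over the normalizer of `I` normalizes `W`. -/
theorem conj_W_of_im {h : G} (hh : h ∈ c.H) (hn : c.im h ∈ normalizer (I : Set A)) {x : G} (hx : x ∈ c.W) :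
    h * x * h⁻¹ ∈ c.W := by
  set S := c.W.map (MulAut.conj h).toMonoidHom with hS
  have hconj : ∀ y ∈ S, ∃ w ∈ c.W, y = h * w * h⁻¹ := by
    rintro y ⟨w, hw, rfl⟩
    exact ⟨w, hw, rfl⟩
  have hE : Cfsg.IsElementaryAbelian 2 S := by
    refine ⟨⟨⟨fun a b => Subtype.ext ?_⟩⟩, fun y hy => ?_⟩
    · obtain ⟨w, hw, ea⟩ := hconj a a.2
      obtain ⟨v, hv, eb⟩ := hconj b b.2
      show (a : G) * b = b * a
      rw [ea, eb, conj_mul, conj_mul, c.W_comm hw hv]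
    · obtain ⟨w, hw, rfl⟩ := hconj y hy
      rw [pow_two, conj_mul, c.W_sq hw, mul_one, mul_inv_cancel]
  have hSH : S ≤ c.H := fun y hy => by
    obtain ⟨w, hw, rfl⟩ := hconj y hy
    exact mul_mem (mul_mem hh (c.W_le_H hw)) (inv_mem hh)
  have hSW : S = c.W := c.eq_W_of_im hSH hE
    (by rw [← c.card_W]; exact (Nat.card_congr (equivMapOfInjective _ _ (MulAut.conj h).injective).toEquiv).symm)
    fun y hy => by
      obtain ⟨w, hw, rfl⟩ := hconj y hy
      rw [c.im_conj hh (c.W_le_H hw)]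
      exact (mem_normalizer_iff.1 hn _).1 (c.im_mem_I_of_W hw)
  exact hSW ▸ ⟨x, hx, rfl⟩

theorem normW_of_im {h : G} (hh : h ∈ c.H) (hn : c.im h ∈ normalizer (I : Set A)) :
    h ∈ normalizer (c.W : Set G) := mem_normalizer_iff.2 fun x => ⟨fun hx => c.conj_W_of_im hh hn hx, fun hx => by
  have := c.conj_W_of_im (inv_mem hh) (by rw [c.im_inv hh]; exact inv_mem hn) hx
  rwa [show h⁻¹ * (h * x * h⁻¹) * h⁻¹⁻¹ = x by group] at this⟩

theorem conj_W_E {e x : G} (he : e ∈ c.E) (hx : x ∈ c.W) : e * x * e⁻¹ ∈ c.W :=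
  c.conj_W_of_im (c.E_le he) (by rw [c.im_E he]; exact one_mem _) hx

/-- Conjugation inside the core. -/
theorem E_conj_eq {e u : G} (he : e ∈ c.E) (hu : u ∈ c.E) :
    (c.Bf (c.pv e) (c.pv u) = 0 → e * u * e⁻¹ = u) ∧ (c.Bf (c.pv e) (c.pv u) ≠ 0 → e * u * e⁻¹ = u * z) := by
  refine ⟨fun h => ?_, fun h => ?_⟩
  · rw [(c.Bf_comm he hu).1 h, mul_inv_cancel_right]
  · rcases c.comm_E he hu with h' | h'
    · exact absurd ((c.Bf_comm he hu).2 h') h
    · rw [h', ← mul_assoc, mul_inv_cancel_right, ← c.comm_z (c.E_le hu)]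

/-- The commutator of the core and a lift. -/
theorem pv_E_lift {e : G} (he : e ∈ c.E) (i : ↥I) :
    e * c.lv i * e⁻¹ * c.lv i ∈ c.E ∧ c.pv (e * c.lv i * e⁻¹ * c.lv i) = c.D i (c.pv e) := by
  have hl : (c.lv i)⁻¹ = c.lv i := inv_eq_of_mul_eq_one_left (c.L0_elementary (c.lv_mem i))
  have e1 : e * c.lv i * e⁻¹ * c.lv i = e * (c.lv i * e⁻¹ * (c.lv i)⁻¹) := by rw [hl]; group
  have h2 := c.conj_E (c.lv_H i) (inv_mem he)
  rw [e1]
  exact ⟨mul_mem he h2, by rw [c.pv_mul he h2, c.pv_conj (c.lv_H i) (inv_mem he), c.pv_inv he, c.D_apply, add_comm]⟩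

/-- The action of the normalizer on the lines. -/
theorem act_mem_Li {g : G} (hg : g ∈ c.C0) {i j : ↥I} (hij : c.im g * i * (c.im g)⁻¹ = j) {v : c.Vs} :
    c.act g v ∈ c.Li j ↔ v ∈ c.Li i := by
  have h := fun w : c.Vs => c.Fx_conj hg.1 (c.act_conj_lv hg.1 hij) (v := w)
  refine ⟨fun hv u hu => ?_, fun hv u hu => ?_⟩
  · rw [← c.Bf_act hg.1]
    exact hv _ ((h u).2 hu)
  · rw [← c.act_apply_inv hg.1 u, c.Bf_act hg.1]
    exact hv _ ((h _).1 (by rwa [c.act_apply_inv hg.1]))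

theorem isN_act {g : G} (hg : g ∈ c.C0) (hn : c.im g ∈ normalizer (I : Set A)) {v : c.Vs} (hv : c.IsN v) :
    c.IsN (c.act g v) := by
  refine ⟨c.U_conj hg hn hv.1, fun h => hv.2.1 (c.act_injective hg.1 (h.trans (map_zero _).symm)), ?_⟩
  let σ : ↥I → ↥I := fun i => ⟨c.im g * i * (c.im g)⁻¹, (mem_normalizer_iff.1 hn _).1 i.2⟩
  have hσ : Function.Injective σ := fun i j h =>
    Subtype.ext (mul_left_cancel (mul_right_cancel (congrArg Subtype.val h)))
  have hσ1 : ∀ i, σ i = 1 ↔ i = 1 := fun i =>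
    ⟨fun h => Subtype.ext (conj_eq_one_iff.1 (congrArg Subtype.val h)), fun h => Subtype.ext (by
      show c.im g * (i : A) * (c.im g)⁻¹ = 1
      rw [h, coe_one, mul_one, mul_inv_cancel])⟩
  rw [show c.thru (c.act g v) = σ '' c.thru v from ?_, Set.ncard_image_of_injective _ hσ, hv.2.2]
  ext j
  constructor
  · rintro ⟨hj, hjv⟩
    have hi : (c.im g)⁻¹ * j * c.im g ∈ I := by
      have := (mem_normalizer_iff.1 (inv_mem hn) _).1 j.2
      rwa [inv_inv] at this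
    have e : σ ⟨_, hi⟩ = j := Subtype.ext (by
      show c.im g * ((c.im g)⁻¹ * j * c.im g) * (c.im g)⁻¹ = j
      group)
    exact ⟨⟨_, hi⟩, ⟨fun h => hj (e ▸ (hσ1 _).2 h), (c.act_mem_Li hg (congrArg Subtype.val e)).1 hjv⟩, e⟩
  · rintro ⟨i, ⟨hi, hiv⟩, rfl⟩
    exact ⟨fun h => hi ((hσ1 i).1 h), (c.act_mem_Li hg rfl).2 hiv⟩

theorem Pt_eq {v y : c.Vs} (hy : y ∈ c.Pt v) (hy0 : y ≠ 0) : c.Pt y = c.Pt v := by
  simp only [Pt, Set.mem_insert_iff, Set.mem_singleton_iff] at hy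
  rcases hy with rfl | rfl | rfl | rfl
  · exact absurd rfl hy0
  · rfl
  all_goals
    ext w
    simp only [Pt, Set.mem_insert_iff, Set.mem_singleton_iff, c.om_cube]
    tauto

theorem isN_of_Pt {v y : c.Vs} (hv : c.IsN v) (hy : y ∈ c.Pt v) (hy0 : y ≠ 0) : c.IsN y := by
  simp only [Pt, Set.mem_insert_iff, Set.mem_singleton_iff] at hy
  rcases hy with rfl | rfl | rfl | rfl
  exacts [absurd rfl hy0, hv, c.isN_om hv, c.isN_om (c.isN_om hv)]

/-- A line has two points of the first kind. -/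
theorem isN_three_on_line {i : ↥I} (hi : i ≠ 1) {a b d : c.Vs} (ha : c.IsN a) (hb : c.IsN b) (hd : c.IsN d)
    (hai : a ∈ c.Li i) (hbi : b ∈ c.Li i) (hdi : d ∈ c.Li i) (hab : b ∉ c.Pt a) (had : d ∉ c.Pt a)
    (hbd : d ∉ c.Pt b) : False := by
  have hdis : ∀ {x y : c.Vs}, c.IsN x → c.IsN y → y ∉ c.Pt x → Disjoint (c.Pt x \ {0}) (c.Pt y \ {0}) := by
    intro x y hx hy hxy
    refine Set.disjoint_left.2 fun w hwx hwy => hxy ?_
    rw [← c.Pt_eq hwx.1 hwx.2, c.Pt_eq hwy.1 hwy.2]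
    simp [Pt]
  have h3 : ∀ {x : c.Vs}, c.IsN x → (c.Pt x \ {0}).ncard = 3 := fun {x} hx => by
    rw [Set.ncard_sdiff_singleton_of_mem (by simp [Pt]), c.ncard_Pt hx.2.1]
  have hsub : c.Pt a \ {0} ∪ c.Pt b \ {0} ∪ c.Pt d \ {0} ⊆ {x | x ∈ c.Li i ∧ x ≠ 0 ∧ ¬ c.Iso i x} := by
    have key : ∀ {x y : c.Vs}, c.IsN x → x ∈ c.Li i → y ∈ c.Pt x \ {0} →
        y ∈ c.Li i ∧ y ≠ 0 ∧ ¬ c.Iso i y := by
      intro x y hx hxi hy
      have hyi := c.Pt_subset (fun _ h => c.Li_om h) hxi hy.1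
      exact ⟨hyi, hy.2, (c.isN_iff hi hyi hy.2).1 (c.isN_of_Pt hx hy.1 hy.2)⟩
    rintro y ((h | h) | h)
    exacts [key ha hai h, key hb hbi h, key hd hdi h]
  have h := Set.ncard_le_ncard hsub (Set.toFinite _)
  rw [(c.line_profile hi).2, Set.ncard_union_eq (Set.disjoint_union_left.2 ⟨hdis ha hd had, hdis hb hd hbd⟩)
    (Set.toFinite _) (Set.toFinite _), Set.ncard_union_eq (hdis ha hb hab) (Set.toFinite _) (Set.toFinite _),
    h3 ha, h3 hb, h3 hd] at h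
  omega

/-- A set invariant under the normalizer of `I` has all or none of the vectors on five lines. -/
theorem isN_invariant (S : Set c.Vs)
    (hS : ∀ g ∈ c.C0, c.im g ∈ normalizer (I : Set A) → ∀ v ∈ S, c.act g v ∈ S)
    {v w : c.Vs} (hv : c.IsN v) (hw : c.IsN w) (hvS : v ∈ S) : w ∈ S := by
  by_contra hwS
  have hT : ∀ g ∈ c.C0, c.im g ∈ normalizer (I : Set A) → ∀ v ∈ Sᶜ, c.act g v ∈ Sᶜ := fun g hg hn v hv h =>
    hv (by
      have := hS g⁻¹ (inv_mem hg) (by rw [c.im_inv hg.1]; exact inv_mem hn) _ h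
      rwa [c.act_inv_apply hg.1] at this)
  have hom : ∀ (X : Set c.Vs), (∀ g ∈ c.C0, c.im g ∈ normalizer (I : Set A) → ∀ v ∈ X, c.act g v ∈ X) →
      ∀ x ∈ X, ∀ y ∈ c.Pt x, y ≠ 0 → y ∈ X := by
    intro X hX x hx y hy hy0
    have hpn : c.im c.pg ∈ normalizer (I : Set A) := by
      rw [c.im_eq c.pg_H, c.pr_P c.pg_mem]; exact one_mem _
    simp only [Pt, Set.mem_insert_iff, Set.mem_singleton_iff] at hy
    rcases hy with rfl | rfl | rfl | rfl
    exacts [absurd rfl hy0, hx, hX _ c.pg_C0 hpn _ hx, hX _ c.pg_C0 hpn _ (hX _ c.pg_C0 hpn _ hx)]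
  have hne : w ∉ c.Pt v := fun h => hwS (hom S hS v hvS w h hw.2.1)
  obtain ⟨a, ha, hva, hwa⟩ := c.isN_cover hv hw.1
  -- every line meets both parts
  have key : ∀ (X : Set c.Vs), (∀ g ∈ c.C0, c.im g ∈ normalizer (I : Set A) → ∀ v ∈ X, c.act g v ∈ X) →
      (∀ g ∈ c.C0, c.im g ∈ normalizer (I : Set A) → ∀ v ∈ Xᶜ, c.act g v ∈ Xᶜ) →
      ∀ p q, c.IsN p → c.IsN q → p ∈ X → q ∉ X → p ∈ c.Li a → q ∈ c.Li a → ∀ x ∈ X, c.IsN x → x ∈ c.Pt p := by
    intro X hX hXc p q hp hq hpX hqX hpa hqa x hxX hxN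
    by_contra hxp
    obtain ⟨i, hi, hpi, hxi⟩ := c.isN_cover hp hxN.1
    obtain ⟨j, hjJ, hjn, hji⟩ := c.facts.I_trans _ a.2 _ i.2 (fun h => ha (Subtype.ext h))
      (fun h => hi (Subtype.ext h))
    obtain ⟨g, hg, rfl⟩ := c.exists_C0_im hjJ
    have hn := isConjugateBy_self_iff.1 hjn
    have hgX : c.act g q ∈ Xᶜ := hXc g hg hn q hqX
    exact c.isN_three_on_line hi hp hxN (c.isN_act hg hn hq) hpi hxi ((c.act_mem_Li hg hji).2 hqa) hxp
      (fun h => hgX (hom X hX p hpX _ h (c.isN_act hg hn hq).2.1))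
      (fun h => hgX (hom X hX x hxX _ h (c.isN_act hg hn hq).2.1))
  have h1 := key S hS hT v w hv hw hvS hwS hva hwa
  have h2 := key Sᶜ hT (by rwa [compl_compl]) w v hw hv hwS (not_not_intro hvS) hwa hva
  have hsub : {x | c.IsN x} ⊆ (c.Pt v ∪ c.Pt w) \ {0} := fun x hx => ⟨by
    by_cases hxS : x ∈ S
    exacts [Or.inl (h1 x hxS hx), Or.inr (h2 x hxS hx)], hx.2.1⟩
  have h := Set.ncard_le_ncard hsub (Set.toFinite _)
  have hu := Set.ncard_union_le (c.Pt v) (c.Pt w)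
  rw [c.card_IsN, Set.ncard_sdiff_singleton_of_mem (show (0 : c.Vs) ∈ c.Pt v ∪ c.Pt w from Or.inl (by simp [Pt]))] at h
  rw [c.ncard_Pt hv.2.1, c.ncard_Pt hw.2.1] at hu
  omega

theorem card_IsE : {v | c.IsE v}.ncard = 45 := by
  have e : {v | c.IsN v} ∪ {v | c.IsE v} = (c.U : Set c.Vs) \ {0} := by
    ext v
    exact ⟨fun h => h.elim (fun h => ⟨h.1, h.2.1⟩) (fun h => ⟨h.1, h.2.1⟩), fun h => c.isN_or_isE h.1 h.2⟩
  have h := congrArg Set.ncard e
  have hd : Disjoint {v | c.IsN v} {v | c.IsE v} := Set.disjoint_left.2 fun v h h' => c.isN_not_isE h h'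
  rw [Set.ncard_union_eq hd (Set.toFinite _) (Set.toFinite _),
    c.card_IsN, Set.ncard_sdiff_singleton_of_mem (show (0 : c.Vs) ∈ (c.U : Set c.Vs) from zero_mem c.U),
    show (c.U : Set c.Vs).ncard = 64 from (Nat.card_coe_set_eq _).symm.trans c.card_U] at h
  omega

/-- The vectors of the conjugates of `z` in `Ut`. -/
theorem conj_vectors (hs : c.Split) : {v | v ≠ 0 ∧ ∃ x ∈ c.Ut, c.pv x = v ∧ IsConj z x} = {v | c.IsE v} := by
  classical
  haveI := c.finite_A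
  set S := {v | v ≠ 0 ∧ ∃ x ∈ c.Ut, c.pv x = v ∧ IsConj z x} with hSdef
  -- forty-five of them
  have hlift : ∀ v : ↥S, ∃ x, x ∈ c.Ut ∧ c.pv x = v ∧ IsConj z x := fun v => v.2.2
  choose s hs1 hs2 hs3 using hlift
  have hne : ∀ v : ↥S, s v ≠ z := fun v h => v.2.1 (by rw [← hs2 v, h, c.pv_z])
  have hcard : S.ncard = 45 := by
    have e : {x : G | x ∈ c.Ut ∧ IsConj z x} = insert z (Set.range s ∪ Set.range fun v => s v * z) := by
      ext x
      constructor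
      · rintro ⟨hx, hxc⟩
        by_cases hxz : x = z
        · exact Or.inl hxz
        have hv : c.pv x ∈ S := ⟨fun h => ((c.pv_eq_zero hx.1).1 h).elim
          (fun h => c.not_isConj_z_one (h ▸ hxc)) hxz, x, hx, rfl, hxc⟩
        rcases (c.pv_eq_iff hx.1 (hs1 ⟨_, hv⟩).1).1 (hs2 ⟨_, hv⟩).symm with h | h
        · exact Or.inr (Or.inl ⟨_, h.symm⟩)
        · exact Or.inr (Or.inr ⟨⟨_, hv⟩, (c.comm_z (c.E_le (hs1 ⟨_, hv⟩).1)).trans h.symm⟩)
      · rintro (rfl | ⟨v, rfl⟩ | ⟨v, rfl⟩)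
        · exact ⟨c.z_mem_Ut', IsConj.refl _⟩
        · exact ⟨hs1 v, hs3 v⟩
        · exact ⟨mul_mem (hs1 v) c.z_mem_Ut', hs.Ut_pair _ (hs1 v) (hs3 v) (hne v)⟩
    have hi1 : Function.Injective s := fun v w h => Subtype.ext (by rw [← hs2 v, h, hs2])
    have hi2 : Function.Injective fun v => s v * z := fun v w h => hi1 (mul_right_cancel h)
    have hd : Disjoint (Set.range s) (Set.range fun v => s v * z) := by
      rw [Set.disjoint_left]
      rintro _ ⟨v, rfl⟩ ⟨w, hw⟩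
      have hw' : s w * z = s v := hw
      have hp := congrArg c.pv hw'
      rw [c.pv_mul (hs1 w).1 c.z_mem_E, c.pv_z, add_zero, hs2, hs2] at hp
      rw [show w = v from Subtype.ext hp, mul_eq_left] at hw'
      exact c.z_ne hw'
    have hzn : z ∉ Set.range s ∪ Set.range fun v => s v * z := by
      rintro (⟨v, hv⟩ | ⟨v, hv⟩)
      · exact hne v hv
      · have h1 : s v = 1 := mul_eq_right.1 hv
        exact v.2.1 (by rw [← hs2 v, h1, c.pv_one])
    have h := congrArg Set.ncard e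
    rw [hs.card_Ut_conj, Set.ncard_insert_of_notMem hzn (Set.toFinite _),
      Set.ncard_union_eq hd (Set.toFinite _) (Set.toFinite _), Set.ncard_range_of_injective hi1,
      Set.ncard_range_of_injective hi2, Nat.card_coe_set_eq] at h
    omega
  have hinv : ∀ g ∈ c.C0, c.im g ∈ normalizer (I : Set A) → ∀ v ∈ S, c.act g v ∈ S := by
    rintro g hg hn _ ⟨h0, x, hx, rfl, hxc⟩
    refine ⟨fun h => h0 (c.act_injective hg.1 (h.trans (map_zero _).symm)), g * x * g⁻¹,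
      ⟨c.conj_E hg.1 hx.1, ?_⟩, c.pv_conj hg.1 hx.1, (c.isConj_z_conj g x).2 hxc⟩
    rw [c.pv_conj hg.1 hx.1]
    exact c.U_conj hg hn hx.2
  have hSU : ∀ v ∈ S, c.IsN v ∨ c.IsE v := by
    rintro v ⟨h0, x, hx, rfl, -⟩
    exact c.isN_or_isE hx.2 h0
  -- none on five lines
  have hno : ∀ v ∈ S, ¬ c.IsN v := by
    intro v hvS hvN
    have hall : {x | c.IsN x} ⊆ S := fun x hx => c.isN_invariant S hinv hvN hx hvS
    haveI : Fintype ↥I := Fintype.ofFinite _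
    haveI : Fintype c.Vs := Fintype.ofFinite _
    set ES : Finset c.Vs := Finset.univ.filter fun v => v ∈ S ∧ c.IsE v with hES
    set T : Finset ↥I := Finset.univ.filter fun i => i ≠ 1 with hT
    have hE27 : ES.card = 27 := by
      rw [← Set.ncard_coe_finset, show (ES : Set c.Vs) = S \ {x | c.IsN x} from ?_,
        Set.ncard_sdiff hall (Set.toFinite _), hcard, c.card_IsN]
      ext x
      simp only [hES, Finset.coe_filter, Finset.mem_univ, true_and, Set.mem_ofPred_eq, Set.mem_sdiff]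
      exact ⟨fun h => ⟨h.1, fun h' => c.isN_not_isE h' h.2⟩, fun h => ⟨h.1, (hSU x h.1).resolve_left h.2⟩⟩
    have hle : ∀ a b : ↥I, a ≠ 1 → b ≠ 1 →
        (ES.filter fun v => v ∈ c.Li a).card ≤ (ES.filter fun v => v ∈ c.Li b).card := by
      intro a b ha hb
      obtain ⟨j, hjJ, hjn, hji⟩ := c.facts.I_trans _ a.2 _ b.2 (fun h => ha (Subtype.ext h))
        (fun h => hb (Subtype.ext h))
      obtain ⟨g, hg, rfl⟩ := c.exists_C0_im hjJ
      have hn := isConjugateBy_self_iff.1 hjn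
      refine Finset.card_le_card_of_injOn (c.act g) (fun x hx => ?_) (c.act_injective hg.1).injOn
      simp only [Finset.coe_filter, Set.mem_ofPred_eq, hES, Finset.mem_filter, Finset.mem_univ, true_and] at hx ⊢
      obtain ⟨⟨hxS, hxE⟩, hxa⟩ := hx
      refine ⟨⟨hinv g hg hn x hxS, (hSU _ (hinv g hg hn x hxS)).resolve_left fun h => ?_⟩,
        (c.act_mem_Li hg hji).2 hxa⟩
      have := c.isN_act (inv_mem hg) (by rw [c.im_inv hg.1]; exact inv_mem hn) h
      rw [c.act_inv_apply hg.1] at this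
      exact c.isN_not_isE this hxE
    obtain ⟨a0, ha0⟩ := c.isN_line hvN
    set m := (ES.filter fun v => v ∈ c.Li a0).card with hm
    have hdc : 3 * ES.card = 15 * m := by
      calc 3 * ES.card = ∑ v ∈ ES, (T.filter fun a => v ∈ c.Li a).card := by
            rw [Finset.sum_congr rfl (g := fun _ => 3) fun x hx => ?_, Finset.sum_const, smul_eq_mul, mul_comm]
            rw [← (Finset.mem_filter.1 hx).2.2.2.2, ← Set.ncard_coe_finset]
            congr 1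
            ext i
            simp [hT, thru]
        _ = ∑ a ∈ T, (ES.filter fun v => v ∈ c.Li a).card := by
            simp only [Finset.card_filter]
            exact Finset.sum_comm
        _ = _ := by
            rw [Finset.sum_congr rfl (g := fun _ => m) fun a ha => le_antisymm
              (hle a a0 (Finset.mem_filter.1 ha).2 ha0.1) (hle a0 a ha0.1 (Finset.mem_filter.1 ha).2),
              Finset.sum_const, smul_eq_mul, Finset.filter_ne', Finset.card_erase_of_mem (Finset.mem_univ _),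
              Finset.card_univ, ← Nat.card_eq_fintype_card, c.facts.card_I]
    omega
  exact Set.eq_of_subset_of_ncard_le (fun v hv => (hSU v hv).resolve_left (hno v hv))
    (by rw [hcard, c.card_IsE]) (Set.toFinite _)

/-- The conjugates of `z` in `Ut`. -/
theorem conj_Ut_iff (hs : c.Split) {x : G} (hx : x ∈ c.Ut) : IsConj z x ↔ x = z ∨ c.IsE (c.pv x) := by
  constructor
  · intro h
    by_cases hxz : x = z
    · exact Or.inl hxz
    exact Or.inr ((c.conj_vectors hs).le ⟨fun h0 => ((c.pv_eq_zero hx.1).1 h0).elim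
      (fun h1 => c.not_isConj_z_one (h1 ▸ h)) hxz, x, hx, rfl, h⟩)
  · rintro (rfl | h)
    · exact IsConj.refl _
    obtain ⟨-, y, hy, hyv, hyc⟩ := (c.conj_vectors hs).ge h
    rcases (c.pv_eq_iff hx.1 hy.1).1 hyv.symm with rfl | rfl
    · exact hyc
    · rw [← c.comm_z (c.E_le hy.1)]
      exact hs.Ut_pair _ hy hyc fun e => h.2.1 (by rw [← hyv, e, c.pv_z])

theorem Tset_Ut_iff (hs : c.Split) {x : G} (hx : x ∈ c.Ut) : x ∈ c.Tset ↔ c.IsN (c.pv x) := by
  constructor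
  · rintro ⟨-, h1, hc⟩
    refine (c.isN_or_isE hx.2 fun h0 => ((c.pv_eq_zero hx.1).1 h0).elim h1 fun h => hc (h ▸ IsConj.refl _))
      |>.resolve_right fun h => hc ((c.conj_Ut_iff hs hx).2 (Or.inr h))
  · intro h
    refine ⟨c.Ut_sub_W hx, fun e => h.2.1 (by rw [e, c.pv_one]), fun hc => ?_⟩
    rcases (c.conj_Ut_iff hs hx).1 hc with e | e
    · exact h.2.1 (by rw [e, c.pv_z])
    · exact c.isN_not_isE h e

/-- Outside the line an element is conjugate to its multiple by `z`. -/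
theorem exists_flip_outside {x : G} (hx : x ∈ c.W) {i : ↥I} (hi : c.im x = i) (hi1 : i ≠ 1) (hs : c.Split)
    (hout : c.pv (x * c.lv i) ∉ c.Li i) : ∃ e ∈ c.E, e * x * e⁻¹ = x * z := by
  obtain ⟨q, hq, hqx⟩ : ∃ q ∈ c.Fx i, c.Bf q (c.pv (x * c.lv i)) ≠ 0 := by
    by_contra h
    push Not at h
    exact hout (c.mem_perp.2 h)
  obtain ⟨e, he, rfl⟩ := c.pv_surj q
  have hu := c.fibre_Ut hx hi
  obtain ⟨hE, hpv⟩ := c.pv_E_lift he i
  rw [c.D_eq_zero.2 hq, c.pv_eq_zero hE] at hpv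
  have hl : (c.lv i)⁻¹ = c.lv i := inv_eq_of_mul_eq_one_left (c.L0_elementary (c.lv_mem i))
  have hfix : e * c.lv i * e⁻¹ = c.lv i := by
    rcases hpv with h | h
    · rw [mul_eq_one_iff_eq_inv.1 h, hl]
    · exfalso
      have hz : e * c.lv i * e⁻¹ = c.lv i * z := by
        rw [eq_mul_inv_of_mul_eq h, hl, c.comm_z (c.lv_H i)]
      have hL := hs.L0_single _ (c.lv_mem i) (by rw [c.im_lv]; exact fun h => hi1 (Subtype.ext h))
      rw [← hz, c.isConj_z_conj] at hL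
      exact iff_not_self hL
  have hll : c.lv i * c.lv i = 1 := c.L0_elementary (c.lv_mem i)
  refine ⟨e, he, ?_⟩
  calc e * x * e⁻¹ = (e * (x * c.lv i) * e⁻¹) * (e * c.lv i * e⁻¹) := by
        rw [conj_mul, mul_assoc x, hll, mul_one]
    _ = x * c.lv i * z * c.lv i := by rw [(c.E_conj_eq he hu.1).2 hqx, hfix]
    _ = x * z := by
        rw [mul_assoc (x * c.lv i), ← c.comm_z (c.lv_H i), ← mul_assoc, mul_assoc x, hll, mul_one]

theorem zero_of_Tset (hs : c.Split) {x : G} (hx : x ∈ c.Tset) {i : ↥I} (hi : c.im x = i) (hi1 : i ≠ 1) :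
    IsConj z (x * z) → c.pv (x * c.lv i) ∈ c.Li i := by
  intro hc
  by_contra hout
  obtain ⟨e, -, he⟩ := c.exists_flip_outside hx.1 hi hi1 hs hout
  rw [← he, c.isConj_z_conj] at hc
  exact hx.2.2 hc

/-- The core reaches all of the line. -/
theorem exists_E_conj {x : G} (hx : x ∈ c.W) {i : ↥I} (hi : c.im x = i) (hi1 : i ≠ 1)
    (h0 : c.pv (x * c.lv i) ∈ c.Li i) : ∃ e ∈ c.E, e * c.lv i * e⁻¹ = x ∨ e * c.lv i * e⁻¹ = x * z := by
  obtain ⟨q, hq⟩ := c.D_surj hi1 h0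
  obtain ⟨e, he, rfl⟩ := c.pv_surj q
  obtain ⟨hE, hpv⟩ := c.pv_E_lift he i
  refine ⟨e, he, ?_⟩
  rcases (c.pv_eq_iff hE (c.fibre_Ut hx hi).1).1 (hpv.trans hq) with h | h
  · exact Or.inl (mul_right_cancel h)
  · refine Or.inr ?_
    rw [c.comm_z (c.W_le_H hx)]
    exact mul_right_cancel (h.trans (mul_assoc _ _ _).symm)

/-- The non-conjugates over an involution pair with conjugates. -/
theorem conj_mul_z_of_Tset (hs : c.Split) {x : G} (hx : x ∈ c.Tset) (hi : c.im x ≠ 1) : IsConj z (x * z) := by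
  classical
  set i := c.im x with hidef
  have hI := c.im_mem_I_of_W hx.1
  set F := {y : G | y ∈ c.W ∧ c.im y = i} with hF
  set O := {y : G | y ∈ c.W ∧ c.im y = i ∧ IsConj z y} with hO
  set P2 := {y : G | y ∈ c.W ∧ c.im y = i ∧ IsConj z y ∧ IsConj z (y * z)} with hP2
  have hF128 : F.ncard = 128 := by
    have e : F = (fun u => u * c.lv ⟨i, hI⟩) '' (c.Ut : Set G) := by
      ext y
      constructor
      · rintro ⟨hy, hyi⟩
        exact ⟨y * c.lv ⟨i, hI⟩, c.fibre_Ut hy hyi, by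
          show y * c.lv ⟨i, hI⟩ * c.lv ⟨i, hI⟩ = y
          rw [mul_assoc, c.L0_elementary (c.lv_mem _), mul_one]⟩
      · rintro ⟨u, hu, rfl⟩
        exact c.fibre_mk hu ⟨i, hI⟩
    rw [e, Set.ncard_image_of_injective _ (mul_left_injective _), ← Nat.card_coe_set_eq]
    exact c.card_Ut
  have h1 : (O \ P2).ncard = 16 := by
    rw [Set.ncard_sdiff (show P2 ⊆ O from fun y hy => ⟨hy.1, hy.2.1, hy.2.2.1⟩) (Set.toFinite _), hs.card_fibre i hI hi,
      hs.card_fibre_pair i hI hi]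
  have h2 : (F \ O).ncard = 16 := by
    rw [Set.ncard_sdiff (show O ⊆ F from fun y hy => ⟨hy.1, hy.2.1⟩) (Set.toFinite _), hF128, hs.card_fibre i hI hi]
  have hsub : (fun y => y * z) '' (O \ P2) ⊆ F \ O := by
    rintro _ ⟨y, ⟨⟨hy, hyi, hyc⟩, hyp⟩, rfl⟩
    refine ⟨⟨mul_mem hy c.z_mem_W', ?_⟩, fun h => hyp ⟨hy, hyi, hyc, h.2.2⟩⟩
    rw [c.im_mul (c.W_le_H hy) c.z_mem_H, c.im_E c.z_mem_E, mul_one, hyi]
  have heq := Set.eq_of_subset_of_ncard_le hsub
    (by rw [h2, Set.ncard_image_of_injective _ (mul_left_injective z), h1]) (Set.toFinite _)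
  obtain ⟨y, ⟨⟨-, -, hyc⟩, -⟩, hyx⟩ := heq.ge (show x ∈ F \ O from ⟨⟨hx.1, rfl⟩, fun h => hx.2.2 h.2.2⟩)
  rw [← hyx, mul_assoc, c.zz, mul_one]
  exact hyc

theorem Tset_zero (hs : c.Split) {x : G} (hx : x ∈ c.Tset) {i : ↥I} (hi : c.im x = i) (hi1 : i ≠ 1) :
    c.pv (x * c.lv i) ∈ c.Li i :=
  c.zero_of_Tset hs hx hi hi1 (c.conj_mul_z_of_Tset hs hx (by rw [hi]; exact fun h => hi1 (Subtype.ext h)))

/-- On the line exactly one of each pair is conjugate to `z`. -/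
theorem zero_single (hs : c.Split) {x : G} (hx : x ∈ c.W) {i : ↥I} (hi : c.im x = i) (hi1 : i ≠ 1)
    (h0 : c.pv (x * c.lv i) ∈ c.Li i) : IsConj z x ↔ ¬ IsConj z (x * z) := by
  obtain ⟨e, he, h⟩ := c.exists_E_conj hx hi hi1 h0
  have hL := hs.L0_single _ (c.lv_mem i) (by rw [c.im_lv]; exact fun h => hi1 (Subtype.ext h))
  have hzc : e * (c.lv i * z) * e⁻¹ = e * c.lv i * e⁻¹ * z := by
    rw [mul_assoc (e * c.lv i) e⁻¹, c.comm_z (inv_mem (c.E_le he))]
    group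
  rw [← c.isConj_z_conj e, ← c.isConj_z_conj e (c.lv i * z), hzc] at hL
  rcases h with h | h <;> rw [h] at hL
  · exact hL
  · rw [mul_assoc, c.zz, mul_one] at hL
    exact ⟨fun hx' h' => hL.1 h' hx', fun h' => not_not.1 fun hx' => h' (hL.2 hx')⟩

/-- The core is transitive on the non-conjugates over an involution. -/
theorem E_trans_fibre (hs : c.Split) {x y : G} (hx : x ∈ c.Tset) (hy : y ∈ c.Tset) {i : ↥I} (hxi : c.im x = i)
    (hyi : c.im y = i) (hi1 : i ≠ 1) : ∃ e ∈ c.E, e * x * e⁻¹ = y := by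
  obtain ⟨e, he, h1⟩ := c.exists_E_conj hx.1 hxi hi1 (c.Tset_zero hs hx hxi hi1)
  obtain ⟨f, hf, h2⟩ := c.exists_E_conj hy.1 hyi hi1 (c.Tset_zero hs hy hyi hi1)
  have hfe : f * e⁻¹ ∈ c.E := mul_mem hf (inv_mem he)
  refine ⟨f * e⁻¹, hfe, ?_⟩
  have hzc : f * e⁻¹ * z = z * (f * e⁻¹) := c.comm_z (c.E_le hfe)
  -- the image is `y` or its pair
  have hor : f * e⁻¹ * x * (f * e⁻¹)⁻¹ = y ∨ f * e⁻¹ * x * (f * e⁻¹)⁻¹ = y * z := by
    rcases h1 with h1 | h1
    · rw [← h1, show f * e⁻¹ * (e * c.lv i * e⁻¹) * (f * e⁻¹)⁻¹ = f * c.lv i * f⁻¹ by group]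
      exact h2
    · have h1' : x = e * c.lv i * e⁻¹ * z := by rw [h1, mul_assoc, c.zz, mul_one]
      rw [h1', show f * e⁻¹ * (e * c.lv i * e⁻¹ * z) * (f * e⁻¹)⁻¹ = f * c.lv i * e⁻¹ * z * (f * e⁻¹)⁻¹ by group,
        mul_assoc (f * c.lv i * e⁻¹), ← c.comm_z (inv_mem (c.E_le hfe)),
        show f * c.lv i * e⁻¹ * ((f * e⁻¹)⁻¹ * z) = f * c.lv i * f⁻¹ * z by group]
      rcases h2 with h2 | h2 <;> rw [h2]
      · exact Or.inr rfl
      · exact Or.inl (by rw [mul_assoc, c.zz, mul_one])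
  refine hor.resolve_right fun h => hx.2.2 ((c.isConj_z_conj (f * e⁻¹) x).1 ?_)
  rw [h]
  exact c.conj_mul_z_of_Tset hs hy (by rw [hyi]; exact fun h => hi1 (Subtype.ext h))

end CfsgLib.Spor.JFourType.Ctx
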