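import Cfsg.Agent.Lib.Spor.JFourType.ExtraDef
import Cfsg.Agent.Lib.Spor.JFourType.SplitUse
import Cfsg.Agent.Lib.Spor.JFourType.LocalComplement
import Cfsg.Agent.Lib.Spor.JFourType.ConjPair

/-!
# Involutions over the involutions of the automorphism group

An inner involution has two lifts in `C0`, exactly one of them conjugate to `z`; an outer one has a lift of order
two normalizing `P`.
-/

set_option autoImplicit false
set_option linter.style.haveILetI false

namespace CfsgLib.Spor.JFourType.Ctx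

open Subgroup

universe u

variable {G : Type u} [Group G] [Finite G] {A : Type} [Group A] {J I R : Subgroup A}
  {z : G} {P : Subgroup G} (c : Ctx J I R z P)
include c

/-- Over the identity `C0` has only `z` and `P`. -/
theorem ker_two_power {x : G} (hx : x ∈ c.C0) (h : c.im x = 1) {k : ℕ} (hk : x ^ 2 ^ k = 1) : x = 1 ∨ x = z := by
  obtain ⟨q, hq, h'⟩ := c.ker_C0 hx (by rw [← c.im_eq hx.1]; exact h)
  have hq1 : q = 1 := by
    have h3 : q ^ 3 = 1 := by
      have := pow_card_eq_one' (G := ↥P) (x := ⟨q, hq⟩)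
      rw [c.card_P] at this
      exact congrArg Subtype.val this
    have h2 : q ^ 2 ^ (k + 1) = 1 := by
      have hx' : x ^ 2 ^ (k + 1) = 1 := by rw [pow_succ, pow_mul, hk, one_pow]
      rcases h' with rfl | rfl
      · exact hx'
      · have hcz : Commute z q := (c.comm_z (c.P_le_C0 hq).1).symm
        rwa [hcz.mul_pow, pow_succ', pow_mul z 2, pow_two, c.zz, one_pow, one_mul, ← pow_succ'] at hx'
    exact orderOf_eq_one_iff.1 (Nat.eq_one_of_dvd_coprimes (Nat.Coprime.pow_left _ (by norm_num : Nat.Coprime 2 3))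
      (orderOf_dvd_of_pow_eq_one h2) (orderOf_dvd_of_pow_eq_one h3))
  rcases h' with rfl | rfl
  · exact Or.inl hq1
  · exact Or.inr (by rw [hq1, mul_one])

/-- The two involutions of `C0` over an inner involution. -/
theorem exists_inner_lift (hs : c.Split) {a : A} (ha : a ∈ J) (ha2 : a * a = 1) (ha1 : a ≠ 1) :
    ∃ x ∈ c.C0, x * x = 1 ∧ c.im x = a ∧ (IsConj z x ↔ ¬ IsConj z (x * z)) ∧
      ∀ y ∈ c.C0, c.im y = a → (∃ k : ℕ, y ^ 2 ^ k = 1) → y = x ∨ y = x * z := by
  obtain ⟨g, hg, hgI⟩ := c.facts.invol_I a ha (orderOf_eq_prime (p := 2) (hp := ⟨Nat.prime_two⟩)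
    (by rw [pow_two, ha2]) ha1)
  obtain ⟨h, hh, hhg⟩ := c.exists_C0_im hg
  obtain ⟨l, hl, hli⟩ := c.exists_L0 hgI
  have hhH := hh.1
  have hl1 : c.im l ≠ 1 := by
    rw [hli]
    exact fun e => ha1 (conj_eq_one_iff.1 e)
  set x := h⁻¹ * l * h with hx
  have hxC : x ∈ c.C0 := mul_mem (mul_mem (inv_mem hh) (c.L0_le hl)) hh
  have hxz : h⁻¹ * (l * z) * h = x * z := by
    rw [hx]
    calc h⁻¹ * (l * z) * h = h⁻¹ * l * (z * h) := by group
      _ = h⁻¹ * l * (h * z) := by rw [c.comm_z hhH]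
      _ = _ := by group
  have hconj : ∀ w : G, IsConj z (h⁻¹ * w * h) ↔ IsConj z w := fun w => by
    have := c.isConj_z_conj h⁻¹ w
    rwa [inv_inv] at this
  have hxim : c.im x = a := by
    rw [hx, c.im_mul (mul_mem (inv_mem hhH) (c.L0_le hl).1) hhH, c.im_mul (inv_mem hhH) (c.L0_le hl).1,
      c.im_inv hhH, hhg, hli]
    group
  refine ⟨x, hxC, ?_, hxim, ?_, fun y hy hya hyk => ?_⟩
  · rw [hx, show h⁻¹ * l * h * (h⁻¹ * l * h) = h⁻¹ * (l * l) * h by group, c.L0_elementary hl, mul_one,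
      inv_mul_cancel]
  · rw [← hxz, hx, hconj, hconj]
    exact hs.L0_single l hl hl1
  · obtain ⟨k, hk⟩ := hyk
    have hy2 : y * y = 1 ∨ y * y = z := by
      refine c.ker_two_power (mul_mem hy hy) (by rw [c.im_mul hy.1 hy.1, hya, ha2]) (k := k) ?_
      rw [← pow_two, ← pow_mul, mul_comm, pow_mul, hk, one_pow]
    have hy32 : y ^ 32 = 1 := by
      rw [show 32 = 2 * (2 * 8) from rfl, pow_mul, pow_two, pow_mul]
      rcases hy2 with e | e <;> rw [e, pow_two]
      · simp
      · rw [c.zz, one_pow]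
    set y' := h * y * h⁻¹ with hy'
    have hy'L : y' ∈ c.L0 := c.mem_L0.2 ⟨mul_mem (mul_mem hh hy) (inv_mem hh),
      by rw [hy', c.im_conj hhH hy.1, hhg, hya]; exact hgI,
      by rw [hy', conj_pow, hy32, mul_one, mul_inv_cancel]⟩
    have him : c.im (l⁻¹ * y') = 1 := by
      rw [c.im_mul (inv_mem (c.L0_le hl).1) (c.L0_le hy'L).1, c.im_inv (c.L0_le hl).1, hy', c.im_conj hhH hy.1, hli,
        hhg, hya, inv_mul_cancel]
    have hyy : y = h⁻¹ * y' * h := by rw [hy']; group
    rcases c.L0_ker (mul_mem (inv_mem hl) hy'L) him with e | e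
    · exact Or.inl (by rw [hyy, hx, inv_mul_eq_one.1 e])
    · exact Or.inr (by rw [hyy, inv_mul_eq_iff_eq_mul.1 e, hxz])

/-- Some conjugate of `z` other than `z` lies in the core. -/
theorem exists_conj_core (hs : c.Split) : ∃ g : G, g * z * g⁻¹ ∈ c.E ∧ g * z * g⁻¹ ≠ z := by
  obtain ⟨x, ⟨hx, hxc⟩, hne⟩ := Set.exists_ne_of_one_lt_ncard (s := {x : G | x ∈ c.Ut ∧ IsConj z x})
    (by rw [hs.card_Ut_conj]; norm_num) z
  obtain ⟨g, rfl⟩ := isConj_iff.1 hxc
  exact ⟨g, hx.1, hne⟩

/-- Every outer involution is the image of an involution of `H`. -/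
theorem exists_involution_lift (hs : c.Split) (he : Extra J I R) {s : A} (hsJ : s ∉ J) (hs2 : s * s = 1) :
    ∃ x ∈ c.H, x * x = 1 ∧ c.im x = s := by
  haveI := c.finite_A
  haveI := c.J_normal
  obtain ⟨g, hu, hne⟩ := c.exists_conj_core hs
  obtain ⟨⟨hle, h2⟩, hab, h32⟩ := c.pair_image hu hne
  obtain ⟨⟨j, hj, hjR⟩, -, -⟩ := c.pair_R hu hne
  set c' := c.conj g with hc'
  set T := c'.E ⊓ c.H with hT
  set K := c.imS T with hK
  obtain ⟨hK32, -, -⟩ := c.facts.big_abelian K (c.imS_isPGroup h2) hab h32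
  set K' := K.map (MulAut.conj j⁻¹).toMonoidHom with hK'
  have hmem : ∀ x, x ∈ K' ↔ j * x * j⁻¹ ∈ K := fun x => by
    rw [hK', mem_map_equiv, MulAut.conj_symm_apply, inv_inv]
  have hK'R : K' ⊓ J = R := by
    ext x
    have e := hjR (j * x * j⁻¹)
    rw [show j⁻¹ * (j * x * j⁻¹) * j = x by group, mem_inf] at e
    rw [mem_inf, hmem, ← e]
    refine and_congr_right fun _ => ⟨fun h => Normal.conj_mem inferInstance x h j, fun h => ?_⟩
    have := Normal.conj_mem inferInstance _ h j⁻¹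
    rwa [inv_inv, show j⁻¹ * (j * x * j⁻¹) * j = x by group] at this
  obtain ⟨k, hk⟩ := he.invol_outer K' ((c.imS_isPGroup h2).map _) (by
      rintro x hx y hy
      have := hab _ ((hmem x).1 hx) _ ((hmem y).1 hy)
      simp only [conj_mul, mul_left_inj, mul_right_inj] at this
      exact this) (by rw [hK', card_map_of_injective (MulEquiv.injective _), hK32]) hK'R s hsJ hs2
  rw [hmem] at hk
  obtain ⟨t, ht, hti⟩ := (c.mem_imS hle).1 hk
  -- an involution over `j * (k * s * k⁻¹) * j⁻¹`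
  have htJ : c.im t ∉ J := by
    rw [hti]
    intro h
    refine hsJ ?_
    have := Normal.conj_mem inferInstance _ h (j * k)⁻¹
    rwa [inv_inv, show (j * k)⁻¹ * (j * (k * s * k⁻¹) * j⁻¹) * (j * k) = s by group] at this
  obtain ⟨t', ht'H, ht'2, ht'i⟩ : ∃ t' ∈ c.H, t' * t' = 1 ∧ c.im t' = c.im t := by
    rcases c'.sq_E ht.1 with h | h
    · exact ⟨t, ht.2, h, rfl⟩
    set B := T ⊓ c.E with hB
    obtain ⟨e, heB, hne'⟩ : ∃ e ∈ B, t * e ≠ e * t := by
      by_contra hcon
      push Not at hcon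
      have hB7 : 2 ^ 7 ≤ Nat.card ↥B := by
        have h12 : 2 ^ 12 ≤ Nat.card ↥T := c'.card_E_centralizer (c.z_mem_conj_E hu hne)
        have h := c.card_le_inf (S := T) hle h2
        rw [← hK, hK32] at h
        rw [hB]
        omega
      set S := closure ((B : Set G) ∪ {t}) with hS
      have hgen : (B : Set G) ∪ {t} ⊆ c'.E := by
        rintro y (hy | rfl)
        exacts [hy.1.1, ht.1]
      have hcomm : ∀ a ∈ S, ∀ b ∈ S, a * b = b * a := by
        haveI : IsMulCommutative ↥S := Subgroup.isMulCommutative_closure (by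
          rintro a (ha | rfl) b (hb | rfl)
          · exact c.pair_comm hne ha.2 ha.1.1 hb.2 hb.1.1
          · exact (hcon a ha).symm
          · exact hcon b hb
          · rfl)
        exact fun a ha b hb => congrArg Subtype.val (IsMulCommutative.is_comm.comm (⟨a, ha⟩ : ↥S) ⟨b, hb⟩)
      have hlt : B < S := by
        refine lt_of_le_of_ne (fun y hy => subset_closure (Or.inl hy)) fun e => htJ ?_
        have htE : t ∈ B := e ▸ subset_closure (Or.inr rfl)
        rw [c.im_E htE.2]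
        exact one_mem _
      have : Nat.card ↥S ≤ 2 ^ 7 := c'.card_abelian_E ((closure_le _).2 hgen) hcomm
      have hlt' : Nat.card ↥B < Nat.card ↥S := by
        by_contra hge
        push Not at hge
        exact hlt.ne (eq_of_le_of_card_ge hlt.le hge)
      omega
    have heq : t * e = g * z * g⁻¹ * (e * t) := (c'.comm_E ht.1 heB.1.1).resolve_left hne'
    have he2 : e * e = 1 := by
      rcases c.sq_E heB.2 with h' | h'
      · exact h'
      rcases c'.sq_E heB.1.1 with h'' | h''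
      · exact h''
      · exact absurd (h''.symm.trans h') hne
    have huu : (g * z * g⁻¹) * (g * z * g⁻¹) = 1 := by
      rw [show g * z * g⁻¹ * (g * z * g⁻¹) = g * (z * z) * g⁻¹ by group, c.zz, mul_one, mul_inv_cancel]
    refine ⟨t * e, mul_mem ht.2 (c.E_le heB.2), ?_, by rw [c.im_mul ht.2 (c.E_le heB.2), c.im_E heB.2, mul_one]⟩
    have htu : t * (g * z * g⁻¹) = g * z * g⁻¹ * t := c'.comm_z (c'.E_le ht.1)
    have het : e * t = g * z * g⁻¹ * (t * e) := by rw [heq, ← mul_assoc, huu, one_mul]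
    calc t * e * (t * e) = t * (e * t) * e := by group
      _ = t * (g * z * g⁻¹ * (t * e)) * e := by rw [het]
      _ = (t * (g * z * g⁻¹)) * t * (e * e) := by group
      _ = g * z * g⁻¹ * (t * t) * (e * e) := by rw [htu]; group
      _ = 1 := by rw [h, he2, huu, mul_one]
  obtain ⟨h, hhH, hhi⟩ := c.exists_H_im (j * k)
  refine ⟨h⁻¹ * t' * h, mul_mem (mul_mem (inv_mem hhH) ht'H) hhH, ?_, ?_⟩
  · rw [show h⁻¹ * t' * h * (h⁻¹ * t' * h) = h⁻¹ * (t' * t') * h by group, ht'2, mul_one, inv_mul_cancel]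
  · rw [c.im_mul (mul_mem (inv_mem hhH) ht'H) hhH, c.im_mul (inv_mem hhH) ht'H, c.im_inv hhH, hhi, ht'i, hti]
    group

/-- An outer involution has a lift of order two normalizing `P`. -/
theorem exists_outer_lift (hs : c.Split) (he : Extra J I R) {s : A} (hsJ : s ∉ J) (hs2 : s * s = 1) :
    ∃ y ∈ c.NH, y * y = 1 ∧ c.im y = s ∧ y * c.pg * y⁻¹ = c.pg⁻¹ := by
  obtain ⟨x, hx, hx2, hxs⟩ := c.exists_involution_lift hs he hsJ hs2
  obtain ⟨e, hee, hy⟩ := c.exists_E_NH hx
  set y := e⁻¹ * x with hydef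
  have hyH : y ∈ c.H := mul_mem (inv_mem (c.E_le hee)) hx
  have hys : c.im y = s := by rw [hydef, c.im_mul (inv_mem (c.E_le hee)) hx, c.im_inv (c.E_le hee), c.im_E hee,
    inv_one, one_mul, hxs]
  have hyC : y ∉ c.C0 := fun h => hsJ (hys ▸ c.im_C0 h)
  have hyM : y ∉ c.M := fun h => hsJ (hys ▸ (c.mem_M_iff_im hyH).1 h)
  have hinv := c.outer_inverts hy hyC
  refine ⟨y, hy, ?_, hys, hinv⟩
  -- the square lies in `⟨z⟩`
  have hy2C : y * y ∈ c.C0 := by
    refine c.mem_C0_iff.2 ⟨mul_mem hyH hyH, ?_⟩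
    calc y * y * c.pg * (y * y)⁻¹ = y * (y * c.pg * y⁻¹) * y⁻¹ := by group
      _ = y * c.pg⁻¹ * y⁻¹ := by rw [hinv]
      _ = (y * c.pg * y⁻¹)⁻¹ := by group
      _ = c.pg := by rw [hinv, inv_inv]
  obtain ⟨q, hq, hyq⟩ := c.ker_C0 hy2C (by rw [← c.im_eq, c.im_mul hyH hyH, hys, hs2])
  have hyqy : y * q * y⁻¹ = q := by
    have hyy : y * (y * y) * y⁻¹ = y * y := by group
    rcases hyq with e' | e'
    · rwa [e'] at hyy
    · rw [e', show y * (z * q) * y⁻¹ = (y * z) * q * y⁻¹ by group, c.comm_z hyH,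
        show z * y * q * y⁻¹ = z * (y * q * y⁻¹) by group] at hyy
      exact mul_left_cancel hyy
  have hq1 : q = 1 := by
    have hne : c.pg * c.pg ≠ 1 := fun h => by
      have := orderOf_dvd_of_pow_eq_one (x := c.pg) (n := 2) (by rw [pow_two, h])
      rw [c.ord_pg] at this
      norm_num at this
    rcases c.mem_P hq with h | h | h
    · exact h
    · rw [h, hinv] at hyqy
      exact absurd (inv_eq_iff_mul_eq_one.1 hyqy) hne
    · rw [h, show y * c.pg⁻¹ * y⁻¹ = (y * c.pg * y⁻¹)⁻¹ by group, hinv, inv_inv] at hyqy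
      exact absurd (eq_inv_iff_mul_eq_one.1 hyqy) hne
  have hyz : y * y = 1 ∨ y * y = z := by
    rw [hq1, mul_one] at hyq
    exact hyq
  -- the displacement of `y` is everything it fixes
  let f : c.Vs →+ c.Vs := AddMonoidHom.mk' (fun v => c.act y v + v) fun a b => by rw [map_add]; abel
  have hy1 : c.act (y * y) = 1 := by
    refine (c.act_eq_one (mul_mem hyH hyH)).2 ?_
    rcases hyz with e' | e' <;> rw [e']
    exacts [one_mem _, c.z_mem_E]
  have hfix : ∀ v, c.act y (c.act y v) = v := fun v => by rw [← c.act_apply_mul hyH hyH, hy1]; rfl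
  have hker : f.ker = c.fix {y} := by
    ext v
    rw [AddMonoidHom.mem_ker, c.mem_fix_singleton]
    exact ⟨fun h => c.add_eq_zero_V h, fun h => by show c.act y v + v = 0; rw [h, c.two_V]⟩
  have hrange : f.range = c.fix {y} := by
    refine AddSubgroup.eq_of_le_of_card_ge ?_ ?_
    · rintro _ ⟨v, rfl⟩
      refine c.mem_fix_singleton.2 ?_
      show c.act y (c.act y v + v) = c.act y v + v
      rw [map_add, hfix, add_comm]
    · have h := f.ker.card_mul_index
      rw [AddSubgroup.index_ker, hker, c.card_V] at h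
      have h6 := c.card_fix_outer hyH hyM
      refine h6.trans ?_
      by_contra hlt
      push Not at hlt
      have := Nat.mul_lt_mul_of_le_of_lt h6 hlt (by norm_num)
      omega
  -- solve for the conjugating element
  have hxe : x = e * y := by rw [hydef, mul_inv_cancel_left]
  have h0 : c.act y (c.pv e) = c.pv e := by
    have h1 : e * (y * e * y⁻¹) * (y * y) = 1 := by
      rw [← hx2, hxe]; group
    have hye := c.conj_E hyH hee
    have hyE : y * y ∈ c.E := (c.act_eq_one (mul_mem hyH hyH)).1 hy1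
    have h2 := congrArg c.pv h1
    rw [c.pv_mul (mul_mem hee hye) hyE, c.pv_mul hee hye, c.pv_conj hyH hee, c.pv_one] at h2
    have h3 : c.pv (y * y) = 0 := (c.pv_eq_zero hyE).2 hyz
    rw [h3, add_zero] at h2
    exact (c.add_eq_zero_V h2).symm
  obtain ⟨w, hw⟩ : c.pv e ∈ f.range := hrange ▸ c.mem_fix_singleton.2 h0
  obtain ⟨d, hd, rfl⟩ := c.pv_surj w
  have hde : d * e * (y * d⁻¹ * y⁻¹) = 1 ∨ d * e * (y * d⁻¹ * y⁻¹) = z := by
    have hm : y * d⁻¹ * y⁻¹ ∈ c.E := c.conj_E hyH (inv_mem hd)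
    refine (c.pv_eq_zero (mul_mem (mul_mem hd hee) hm)).1 ?_
    rw [c.pv_mul (mul_mem hd hee) hm, c.pv_mul hd hee, c.pv_conj hyH (inv_mem hd), c.pv_inv hd, ← hw]
    show c.pv d + (c.act y (c.pv d) + c.pv d) + c.act y (c.pv d) = 0
    rw [show c.pv d + (c.act y (c.pv d) + c.pv d) + c.act y (c.pv d) =
      (c.pv d + c.pv d) + (c.act y (c.pv d) + c.act y (c.pv d)) by abel, c.two_V, c.two_V, add_zero]
  have hsq : (d * e * (y * d⁻¹ * y⁻¹) * y) * (d * e * (y * d⁻¹ * y⁻¹) * y) = 1 := by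
    rw [show d * e * (y * d⁻¹ * y⁻¹) * y * (d * e * (y * d⁻¹ * y⁻¹) * y) =
      d * ((e * y) * (e * y)) * d⁻¹ by group, ← hxe, hx2, mul_one, mul_inv_cancel]
  rcases hde with h | h
  · rwa [h, one_mul] at hsq
  · rw [h, show z * y * (z * y) = z * (y * z) * y by group, c.comm_z hyH, ← mul_assoc z z, c.zz, one_mul] at hsq
    exact hsq

end CfsgLib.Spor.JFourType.Ctx
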