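import Cfsg.Agent.Lib.Spor.JFourType.FixDuad

/-!
# Elementary abelian subgroups of order `2 ^ 11` of the centralizer

Each is conjugate to `W`; a 2-subgroup of the centralizer contains at most one.
-/

set_option autoImplicit false
set_option linter.style.haveILetI false

namespace CfsgLib.Spor.JFourType.Ctx

open Subgroup

universe u

variable {G : Type u} [Group G] [Finite G] {A : Type} [Group A] {J I R : Subgroup A}
  {z : G} {P : Subgroup G} (c : Ctx J I R z P)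
include c

/-- The image of a subgroup. -/
noncomputable def imS (S : Subgroup G) : Subgroup A := (S.subgroupOf c.H).map c.pr

theorem mem_imS {S : Subgroup G} (hS : S ≤ c.H) {a : A} : a ∈ c.imS S ↔ ∃ x ∈ S, c.im x = a := by
  constructor
  · rintro ⟨⟨x, hx⟩, hxS, rfl⟩
    exact ⟨x, hxS, c.im_eq hx⟩
  · rintro ⟨x, hx, rfl⟩
    exact ⟨⟨x, hS hx⟩, hx, (c.im_eq (hS hx)).symm⟩

theorem imS_isPGroup {S : Subgroup G} (h : IsPGroup 2 ↥S) : IsPGroup 2 ↥(c.imS S) :=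
  (h.comap_subtype (K := c.H)).map c.pr

omit [Finite G] in
theorem mem_M_iff_im {x : G} (hx : x ∈ c.H) : x ∈ c.M ↔ c.im x ∈ J :=
  ⟨fun h => by rw [c.im_eq hx]; exact (c.mem_M.1 h).2, fun h => c.mem_M.2 ⟨hx, by rw [← c.im_eq hx]; exact h⟩⟩

/-- The image of the intersection with the core. -/
noncomputable def pvS (S : Subgroup G) : AddSubgroup c.Vs where
  carrier := {v | ∃ x ∈ S, x ∈ c.E ∧ c.pv x = v}
  zero_mem' := ⟨1, one_mem _, one_mem _, c.pv_one⟩
  add_mem' := by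
    rintro _ _ ⟨x, hx, hxE, rfl⟩ ⟨y, hy, hyE, rfl⟩
    exact ⟨x * y, mul_mem hx hy, mul_mem hxE hyE, c.pv_mul hxE hyE⟩
  neg_mem' := by
    rintro _ ⟨x, hx, hxE, rfl⟩
    refine ⟨x, hx, hxE, ?_⟩
    exact (neg_eq_of_add_eq_zero_left (c.two_V _)).symm

theorem inf_E_le_lift (S : Subgroup G) : S ⊓ c.E ≤ c.lift (c.pvS S) :=
  fun x hx => ⟨hx.2, x, hx.1, hx.2, rfl⟩

theorem pvS_le_fix {S : Subgroup G} (hS : S ≤ c.H) (hab : ∀ x ∈ S, ∀ y ∈ S, x * y = y * x) :
    c.pvS S ≤ c.fix (S : Set G) := by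
  rintro _ ⟨e, he, heE, rfl⟩ x hx
  rw [← c.pv_conj (hS hx) heE, hab x hx e he, mul_inv_cancel_right]

theorem pvS_le_perp {S : Subgroup G} (hab : ∀ x ∈ S, ∀ y ∈ S, x * y = y * x) :
    c.pvS S ≤ c.perp (c.pvS S) := by
  rintro _ ⟨e, he, heE, rfl⟩ _ ⟨f, hf, hfE, rfl⟩
  exact (c.Bf_comm hfE heE).2 (hab f hf e he)

/-- The order bound from the image and the core. -/
theorem card_le_inf {S : Subgroup G} (hS : S ≤ c.H) (h2 : IsPGroup 2 ↥S) :
    Nat.card ↥S ≤ Nat.card ↥(c.imS S) * Nat.card ↥(S ⊓ c.E : Subgroup G) := by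
  let f : ↥(S.subgroupOf c.H) →* A := c.pr.comp (S.subgroupOf c.H).subtype
  have hr : f.range = c.imS S := by
    show (c.pr.comp (S.subgroupOf c.H).subtype).range = _
    rw [MonoidHom.range_comp, range_subtype]
    rfl
  have h := f.ker.card_mul_index
  rw [Subgroup.index_ker, hr, Nat.card_congr (subgroupOfEquivOfLe hS).toEquiv] at h
  have hk : ∀ w : ↥f.ker, ((w : ↥(S.subgroupOf c.H)) : ↥c.H).1 ∈ S ⊓ c.E := by
    intro w
    set x := ((w : ↥(S.subgroupOf c.H)) : ↥c.H).1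
    have hxS : x ∈ S := (w : ↥(S.subgroupOf c.H)).2
    have hxH : x ∈ c.H := ((w : ↥(S.subgroupOf c.H)) : ↥c.H).2
    have h1 : c.pr ⟨x, hxH⟩ = 1 := w.2
    obtain ⟨e, he, q, hq, hd⟩ := c.ker_decomp hxH h1
    -- the part of order three is trivial
    obtain ⟨a, ha⟩ := h2 ⟨x, hxS⟩
    have ha' : x ^ 2 ^ a = 1 := congrArg Subtype.val ha
    have hact : c.act x = c.act q := by
      rw [hd, c.act_mul (c.E_le he) (c.P_le_C0 hq).1, (c.act_eq_one (c.E_le he)).2 he, one_mul]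
    have hq1 : q = 1 := c.act_P_of_pow hq ((by norm_num : Nat.Coprime 2 3).pow_left a)
      (by rw [← hact, ← c.act_pow hxH, ha', c.act_one])
    exact ⟨hxS, by rw [hd, hq1, mul_one]; exact he⟩
  have hker : Nat.card ↥f.ker ≤ Nat.card ↥(S ⊓ c.E : Subgroup G) :=
    Nat.card_le_card_of_injective (fun w => (⟨_, hk w⟩ : ↥(S ⊓ c.E : Subgroup G)))
      fun v w e => Subtype.ext (Subtype.ext (Subtype.ext (congrArg (fun t : ↥(S ⊓ c.E : Subgroup G) => (t : G)) e)))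
  rw [← h, mul_comm]
  exact Nat.mul_le_mul_left _ hker

/-- The order bound from the image and the fixed space. -/
theorem card_le_of_fix {S : Subgroup G} (hS : S ≤ c.H) (h2 : IsPGroup 2 ↥S) :
    Nat.card ↥S ≤ Nat.card ↥(c.imS S) * (2 * Nat.card ↥(c.pvS S)) := by
  refine (c.card_le_inf hS h2).trans (Nat.mul_le_mul_left _ ?_)
  rw [← c.card_lift]
  exact card_le_of_le (c.inf_E_le_lift S)

theorem pow_two_mem {S : Subgroup G} (h2 : IsPGroup 2 ↥S) {x : G} (hx : x ∈ S) : ∃ a, x ^ 2 ^ a = 1 := by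
  obtain ⟨a, ha⟩ := h2 ⟨x, hx⟩
  exact ⟨a, congrArg Subtype.val ha⟩

/-- An elementary abelian subgroup of order `2 ^ 11` has image a conjugate of `I`. -/
theorem imS_eleven {S : Subgroup G} (hS : S ≤ c.H) (hE : Cfsg.IsElementaryAbelian 2 S)
    (hc : Nat.card ↥S = 2 ^ 11) : (∃ j ∈ J, IsConjugateBy j I (c.imS S)) ∧ Nat.card ↥(c.pvS S) = 2 ^ 6 := by
  obtain ⟨hcomm, hexp⟩ := hE
  have hab : ∀ x ∈ S, ∀ y ∈ S, x * y = y * x := fun x hx y hy =>
    congrArg Subtype.val (hcomm.is_comm.comm ⟨x, hx⟩ ⟨y, hy⟩)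
  have h2 : IsPGroup 2 ↥S := IsPGroup.of_card (n := 11) hc
  haveI : Finite A := Finite.of_surjective c.pr c.pr_surj
  have hbound := c.card_le_of_fix hS h2
  rw [hc] at hbound
  have hfix := AddSubgroup.card_le_of_le (c.pvS_le_fix hS hab)
  have hiso : Nat.card ↥(c.pvS S) ≤ 2 ^ 6 := by
    have h1 := c.card_perp (c.pvS S)
    have h3 := AddSubgroup.card_le_of_le (c.pvS_le_perp (S := S) hab)
    by_contra hcon
    push Not at hcon
    have := Nat.mul_le_mul hcon (le_trans hcon h3)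
    omega
  have hel : Cfsg.IsElementaryAbelian 2 (c.imS S) := by
    refine ⟨⟨⟨fun a b => Subtype.ext ?_⟩⟩, fun a ha => ?_⟩
    · obtain ⟨x, hx, hxa⟩ := (c.mem_imS hS).1 a.2
      obtain ⟨y, hy, hyb⟩ := (c.mem_imS hS).1 b.2
      show (a : A) * b = b * a
      rw [← hxa, ← hyb, ← c.im_mul (hS hx) (hS hy), ← c.im_mul (hS hy) (hS hx), hab x hx y hy]
    · obtain ⟨x, hx, rfl⟩ := (c.mem_imS hS).1 ha
      rw [← c.im_pow (hS hx), hexp x hx, c.im_one]
  have h16 : 16 ≤ Nat.card ↥(c.imS S) := by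
    by_contra hcon
    push Not at hcon
    have := Nat.mul_le_mul (Nat.le_of_lt_succ hcon) (Nat.mul_le_mul_left 2 hiso)
    omega
  -- a part over a conjugate of `R` would leave too few fixed vectors
  have hR : ∀ j ∈ J, ¬ IsConjugateBy j R (c.imS S ⊓ J) := by
    intro j hj hjR
    have h4 := c.card_fix_R_type (S := S ⊓ c.M) inf_le_right (h2.to_le inf_le_left) hj fun r hr => by
      obtain ⟨hmem, hJ⟩ := hjR.mem_conj hr
      obtain ⟨x, hx, e⟩ := (c.mem_imS hS).1 hmem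
      exact ⟨x, ⟨hx, (c.mem_M_iff_im (hS hx)).2 (by rw [e]; exact hJ)⟩, e⟩
    have h4' : Nat.card ↥(c.pvS S) ≤ 4 :=
      hfix.trans ((AddSubgroup.card_le_of_le (c.fix_anti (inf_le_left : S ⊓ c.M ≤ S))).trans h4)
    by_cases h32 : 32 ≤ Nat.card ↥(c.imS S)
    · obtain ⟨he, -, -⟩ := c.facts.big_abelian _ (c.imS_isPGroup h2)
        (fun a ha b hb => congrArg Subtype.val (hel.1.is_comm.comm ⟨a, ha⟩ ⟨b, hb⟩)) h32
      rw [he] at hbound
      omega
    · have := Nat.mul_le_mul (le_of_lt (not_le.1 h32)) (Nat.mul_le_mul_left 2 h4')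
      omega
  have hle16 : Nat.card ↥(c.imS S) = 16 := by
    by_contra hne
    have h32 : 32 ≤ Nat.card ↥(c.imS S) := by
      obtain ⟨k, hk⟩ := (c.imS_isPGroup h2).exists_card_eq
      rw [hk] at h16 hne ⊢
      rcases Nat.lt_or_ge k 5 with hk5 | hk5
      · interval_cases k <;> omega
      · exact le_trans (by norm_num) (Nat.pow_le_pow_right (by norm_num) hk5)
    obtain ⟨-, -, j, hj, hjR⟩ := c.facts.big_abelian _ (c.imS_isPGroup h2)
      (fun a ha b hb => congrArg Subtype.val (hel.1.is_comm.comm ⟨a, ha⟩ ⟨b, hb⟩)) h32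
    exact hR j hj hjR
  rw [hle16] at hbound
  have hpv : Nat.card ↥(c.pvS S) = 2 ^ 6 := by omega
  refine ⟨?_, hpv⟩
  -- everything is inner
  have hinn : c.imS S ≤ J := by
    intro a ha
    by_contra haJ
    obtain ⟨s, hs, rfl⟩ := (c.mem_imS hS).1 ha
    have hsM : s ∉ c.M := fun h => haJ ((c.mem_M_iff_im (hS hs)).1 h)
    obtain ⟨b, hb, hb1⟩ : ∃ b ∈ c.imS S ⊓ J, b ≠ 1 := by
      by_contra hcon
      push Not at hcon
      have hh := relIndex_mul_index (inf_le_left : c.imS S ⊓ J ≤ c.imS S)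
      have hri : (c.imS S ⊓ J).relIndex (c.imS S) ≤ 2 := by
        rw [Subgroup.inf_relIndex_left]
        haveI : J.Normal := Subgroup.normal_of_index_eq_two c.facts.index_J
        exact (Nat.le_of_dvd (by rw [c.facts.index_J]; norm_num) (Subgroup.relIndex_dvd_index_of_normal J (c.imS S))).trans
          (le_of_eq c.facts.index_J)
      have hcard := relIndex_bot_left (H := c.imS S)
      rw [(Subgroup.eq_bot_iff_forall _).2 hcon, hcard, hle16] at hri
      omega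
    obtain ⟨x, hx, hxb⟩ := (c.mem_imS hS).1 hb.1
    have hxM : x ∈ c.M := (c.mem_M_iff_im (hS hx)).2 (by rw [hxb]; exact hb.2)
    obtain ⟨k, hk⟩ := c.pow_two_mem h2 hx
    have h4 := c.card_fix_pair (hS hs) hsM hxM
      (by rw [hxb]; exact orderOf_eq_prime (hel.2 b hb.1) hb1) hk
    have hsub : ({s, x} : Set G) ⊆ S := Set.insert_subset hs (Set.singleton_subset_iff.2 hx)
    have := hfix.trans ((AddSubgroup.card_le_of_le (c.fix_anti hsub)).trans h4)
    omega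
  obtain ⟨j, hj, h | h⟩ := c.facts.ea_cases _ hinn hel (le_of_eq hle16.symm)
  · exact ⟨j, hj, h⟩
  · exact absurd (by rwa [inf_eq_left.2 hinn]) (hR j hj)

/-- The one with image in `I` is `W`. -/
theorem eq_W_of_im {S : Subgroup G} (hS : S ≤ c.H) (hE : Cfsg.IsElementaryAbelian 2 S)
    (hc : Nat.card ↥S = 2 ^ 11) (hI : ∀ x ∈ S, c.im x ∈ I) : S = c.W := by
  obtain ⟨⟨j, hj, hjI⟩, hpv⟩ := c.imS_eleven hS hE hc
  have hab : ∀ x ∈ S, ∀ y ∈ S, x * y = y * x := fun x hx y hy =>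
    congrArg Subtype.val (hE.1.is_comm.comm ⟨x, hx⟩ ⟨y, hy⟩)
  haveI : Finite A := Finite.of_surjective c.pr c.pr_surj
  have himS : c.imS S = I := by
    refine eq_of_le_of_card_ge (fun a ha => ?_) (le_of_eq hjI.card_eq.symm)
    obtain ⟨x, hx, rfl⟩ := (c.mem_imS hS).1 ha
    exact hI x hx
  have h2 : IsPGroup 2 ↥S := IsPGroup.of_card (n := 11) hc
  have hSM : ∀ x ∈ S, x ∈ c.M := fun x hx => (c.mem_M_iff_im (hS hx)).2 (c.facts.I_le (hI x hx))
  have hU : c.pvS S = c.U := by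
    refine AddSubgroup.eq_of_le_of_card_ge (fun v hv l hl => ?_) (by rw [hpv, c.card_U])
    have hv' := c.pvS_le_fix hS hab hv
    obtain ⟨x, hx, hxl⟩ := (c.mem_imS hS).1 (himS.symm ▸ (c.mem_L0.1 hl).2.1 : c.im l ∈ c.imS S)
    obtain ⟨a, ha⟩ := c.pow_two_mem h2 hx
    have hact : c.act l = c.act x := c.act_eq_of_im (c.C0_le_M (c.L0_le hl)) (hSM x hx) hxl.symm
      (n := 2 ^ (a + 1)) ((by norm_num : Nat.Coprime 2 3).pow_left _)
      (by rw [← c.act_pow (c.L0_le hl).1, pow_succ', pow_mul, pow_two, c.L0_elementary hl, one_pow, c.act_one])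
      (by rw [← c.act_pow (hS hx), pow_succ, pow_mul, ha, one_pow, c.act_one])
    rw [hact]
    exact hv' x hx
  refine eq_of_le_of_card_ge (fun x hx => c.mem_W_of (hSM x hx) (hI x hx) fun u hu => ?_)
    (by rw [hc, c.card_W])
  have hv : c.pv u ∈ c.pvS S := hU ▸ hu.2
  obtain ⟨e, he, heE, hev⟩ := hv
  rcases (c.pv_eq_iff hu.1 heE).1 hev.symm with h | h
  · rw [h]; exact hab x hx e he
  · rw [h, ← mul_assoc, c.comm_z (hS hx), mul_assoc, hab x hx e he, mul_assoc]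

/-- An elementary abelian subgroup of order `2 ^ 11` of the centralizer is a conjugate of `W`. -/
theorem eleven_conj {S : Subgroup G} (hS : S ≤ c.H) (hE : Cfsg.IsElementaryAbelian 2 S)
    (hc : Nat.card ↥S = 2 ^ 11) {j : A} (hjI : IsConjugateBy j I (c.imS S)) {g : G} (hg : g ∈ c.C0)
    (hgj : c.im g = j) : S = c.W.map (MulAut.conj g).toMonoidHom := by
  set T := S.map (MulAut.conj g⁻¹).toMonoidHom with hT
  have hconj : ∀ x, x ∈ T → ∃ y ∈ S, x = g⁻¹ * y * g := by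
    rintro x ⟨y, hy, rfl⟩
    exact ⟨y, hy, by simp⟩
  have hTW : T = c.W := by
    refine c.eq_W_of_im (fun x hx => ?_) ⟨⟨⟨fun a b => Subtype.ext ?_⟩⟩, fun x hx => ?_⟩ ?_ fun x hx => ?_
    · obtain ⟨y, hy, rfl⟩ := hconj x hx
      exact mul_mem (mul_mem (inv_mem hg.1) (hS hy)) hg.1
    · obtain ⟨y, hy, ey⟩ := hconj a a.2
      obtain ⟨w, hw, ew⟩ := hconj b b.2
      show (a : G) * b = b * a
      have hyw : y * w = w * y := congrArg Subtype.val (hE.1.is_comm.comm ⟨y, hy⟩ ⟨w, hw⟩)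
      rw [ey, ew, show g⁻¹ * y * g * (g⁻¹ * w * g) = g⁻¹ * (y * w) * g by group,
        show g⁻¹ * w * g * (g⁻¹ * y * g) = g⁻¹ * (w * y) * g by group,
        hyw]
    · obtain ⟨y, hy, rfl⟩ := hconj x hx
      rw [pow_two, show g⁻¹ * y * g * (g⁻¹ * y * g) = g⁻¹ * (y * y) * g by group, ← pow_two, hE.2 y hy, mul_one,
        inv_mul_cancel]
    · rw [← hc]
      exact (Nat.card_congr (equivMapOfInjective _ _ (MulAut.conj g⁻¹).injective).toEquiv).symm
    · obtain ⟨y, hy, rfl⟩ := hconj x hx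
      have h1 := (hjI (c.im y)).1 ((c.mem_imS hS).2 ⟨y, hy, rfl⟩)
      rwa [c.im_mul (mul_mem (inv_mem hg.1) (hS hy)) hg.1, c.im_mul (inv_mem hg.1) (hS hy), c.im_inv hg.1, hgj]
  rw [← hTW, hT, map_map]
  conv_lhs => rw [← map_id S]
  congr 1
  ext x
  simp [mul_assoc]

/-- A 2-subgroup of the centralizer has at most one of them. -/
theorem eleven_unique {T : Subgroup G} (hT : T ≤ c.H) (h2 : IsPGroup 2 ↥T) {S S' : Subgroup G}
    (hST : S ≤ T) (hS'T : S' ≤ T) (hE : Cfsg.IsElementaryAbelian 2 S) (hc : Nat.card ↥S = 2 ^ 11)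
    (hE' : Cfsg.IsElementaryAbelian 2 S') (hc' : Nat.card ↥S' = 2 ^ 11) : S = S' := by
  have hS : S ≤ c.H := hST.trans hT
  have hS' : S' ≤ c.H := hS'T.trans hT
  obtain ⟨⟨j, hj, hjI⟩, -⟩ := c.imS_eleven hS hE hc
  obtain ⟨⟨k, hk, hkI⟩, -⟩ := c.imS_eleven hS' hE' hc'
  have hmono : ∀ {U V : Subgroup G}, U ≤ V → c.imS U ≤ c.imS V := fun h =>
    map_mono (comap_mono h)
  have heq : c.imS S = c.imS S' := c.facts.I_unique (c.imS T) (c.imS_isPGroup h2) _ _ (hmono hST) (hmono hS'T)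
    ⟨j, hj, hjI⟩ ⟨k, hk, hkI⟩
  obtain ⟨g, hg, hgj⟩ := c.exists_C0_im hj
  rw [c.eleven_conj hS hE hc hjI hg hgj, c.eleven_conj hS' hE' hc' (heq ▸ hjI) hg hgj]

end CfsgLib.Spor.JFourType.Ctx
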