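import Cfsg.Agent.Lib.Spor.JFourType.Points
import Cfsg.Agent.Lib.Spor.JFourType.WUniq

/-!
# Stabilizers of the data of `I`

An element of two-power order fixing `U`, or the six points on five lines, maps into `I`; an involution of `I` lies
in no further conjugate of `I`; a vector on five lines determines `U`.
-/

set_option autoImplicit false
set_option linter.style.haveILetI false

namespace CfsgLib.Spor.JFourType.Ctx

open Subgroup

universe u

variable {G : Type u} [Group G] [Finite G] {A : Type} [Group A] {J I R : Subgroup A}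
  {z : G} {P : Subgroup G} (c : Ctx J I R z P)
include c

theorem om_fixed_pair {x : G} (hx : x ∈ c.H) (hM : x ∉ c.M) {v : c.Vs} (h1 : c.act x v = v)
    (h2 : c.act x (c.om v) = c.om v) : v = 0 := by
  rw [c.om_outer hx hM, h1] at h2
  exact c.om_fixed (c.om_injective h2)

/-- An element of two-power order fixing `U` maps into `I`. -/
theorem im_mem_of_fix_U {x : G} (hxH : x ∈ c.H) {a : ℕ} (ha : x ^ 2 ^ a = 1) (hfix : ∀ v ∈ c.U, c.act x v = v) :
    c.im x ∈ I := by
  classical
  haveI := c.finite_A
  obtain ⟨v, hv, hv0⟩ : ∃ v ∈ c.U, v ≠ 0 := by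
    by_contra hcon
    push Not at hcon
    have := c.card_U
    rw [(AddSubgroup.eq_bot_iff_forall _).2 hcon, AddSubgroup.card_bot] at this
    norm_num at this
  have hxM : x ∈ c.M := by
    by_contra hM
    exact hv0 (c.om_fixed_pair hxH hM (hfix v hv) (hfix _ (c.U_om hv)))
  have hdisp : ∀ w, c.act x w + w ∈ c.U := fun w =>
    c.perp_U.le (c.perp_anti (fun u hu => c.mem_fix_singleton.2 (hfix u hu)) (c.displacement_mem hxH w))
  have hsq : c.act (x * x) = 1 := AddMonoidHom.ext fun w => by
    refine (c.act_apply_mul hxH hxH w).trans ?_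
    have h := hfix _ (hdisp w)
    rw [map_add] at h
    show c.act x (c.act x w) = w
    calc c.act x (c.act x w) = c.act x (c.act x w) + c.act x w + c.act x w := by
          rw [add_assoc, c.two_V, add_zero]
      _ = w := by rw [h, add_comm (c.act x w) w, add_assoc, c.two_V, add_zero]
  have him2 : c.im x * c.im x = 1 := by
    rw [← c.im_mul hxH hxH]
    exact c.im_E ((c.act_eq_one (mul_mem hxH hxH)).1 hsq)
  have hcomm : ∀ i : ↥I, c.im x * i = i * c.im x := by
    intro i
    have hlH := c.lv_H i
    have e : c.act (x * c.lv i) = c.act (c.lv i * x) := AddMonoidHom.ext fun w => by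
      refine (c.act_apply_mul hxH hlH w).trans (Eq.trans ?_ (c.act_apply_mul hlH hxH w).symm)
      have h1 : c.act (c.lv i) w = c.D i w + w := by rw [c.D_apply, add_assoc, c.two_V, add_zero]
      have h2 : c.act (c.lv i) (c.act x w + w) = c.act x w + w := c.U_le_fix (c.lv_mem i) (hdisp w) (c.lv i) rfl
      rw [map_add, h1] at h2
      rw [h1, map_add, hfix _ (c.D_mem_U i w)]
      calc c.D i w + c.act x w = (c.D i w + w) + (c.act x w + w) := by
            rw [add_add_add_comm, c.two_V, add_zero]
        _ = c.D i w + w + (c.act (c.lv i) (c.act x w) + (c.D i w + w)) := by rw [h2]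
        _ = c.act (c.lv i) (c.act x w) + ((c.D i w + w) + (c.D i w + w)) := by abel
        _ = _ := by rw [c.two_V, add_zero]
    have hd : (x * c.lv i) * (c.lv i * x)⁻¹ ∈ c.E := by
      refine (c.act_eq_one (mul_mem (mul_mem hxH hlH) (inv_mem (mul_mem hlH hxH)))).1 ?_
      rw [c.act_mul (mul_mem hxH hlH) (inv_mem (mul_mem hlH hxH)), e,
        ← c.act_mul (mul_mem hlH hxH) (inv_mem (mul_mem hlH hxH)), mul_inv_cancel, c.act_one]
    have h := c.im_E hd
    rw [c.im_mul (mul_mem hxH hlH) (inv_mem (mul_mem hlH hxH)), c.im_inv (mul_mem hlH hxH), c.im_mul hxH hlH,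
      c.im_mul hlH hxH, c.im_lv, mul_inv_eq_one] at h
    exact h
  by_contra hne
  have hxJ : c.im x ∈ J := (c.mem_M_iff_im hxH).1 hxM
  let K : Subgroup A :=
    { carrier := {y | y ∈ I ∨ y * c.im x ∈ I}
      one_mem' := Or.inl (one_mem _)
      mul_mem' := by
        intro p q hp hq
        have hc : ∀ r ∈ I, c.im x * r = r * c.im x := fun r hr => hcomm ⟨r, hr⟩
        rcases hp with hp | hp <;> rcases hq with hq | hq
        · exact Or.inl (mul_mem hp hq)
        · exact Or.inr (by rw [mul_assoc]; exact mul_mem hp hq)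
        · refine Or.inr ?_
          rw [mul_assoc, ← hc q hq, ← mul_assoc]
          exact mul_mem hp hq
        · refine Or.inl ?_
          have e : p * q = (p * c.im x) * (q * c.im x) := by
            rw [mul_assoc p (c.im x), ← mul_assoc (c.im x), show c.im x * q = q * c.im x by
              have := hc _ hq
              calc c.im x * q = c.im x * (q * c.im x) * c.im x := by rw [mul_assoc, mul_assoc q, him2, mul_one]
                _ = q * c.im x * c.im x * c.im x := by rw [this]
                _ = _ := by rw [mul_assoc q, him2, mul_one], mul_assoc q, him2, mul_one]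
          rw [e]
          exact mul_mem hp hq
      inv_mem' := by
        intro p hp
        have hp2 : ∀ r ∈ I, r⁻¹ = r := fun r hr => congrArg Subtype.val (c.inv_I ⟨r, hr⟩)
        rcases hp with hp | hp
        · exact Or.inl (inv_mem hp)
        · refine Or.inr ?_
          have h1 := hp2 _ hp
          rw [mul_inv_rev, inv_eq_of_mul_eq_one_right him2] at h1
          have h2 := hcomm ⟨_, hp⟩
          simp only at h2
          rw [show p⁻¹ * c.im x = c.im x * (c.im x * p⁻¹) * c.im x by
            rw [← mul_assoc (c.im x) (c.im x), him2, one_mul], h1, h2, mul_assoc (p * c.im x), him2, mul_one]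
          exact hp }
  have hIK : I ≤ K := fun y hy => Or.inl hy
  have hxK : c.im x ∈ K := Or.inr (by rw [him2]; exact one_mem _)
  have hKJ : K ≤ J := by
    rintro y (hy | hy)
    · exact c.facts.I_le hy
    · exact (mul_mem_cancel_right hxJ).1 (c.facts.I_le hy)
  have hKea : Cfsg.IsElementaryAbelian 2 K := by
    have hdec : ∀ y ∈ K, ∃ i : ↥I, y = i ∨ y = i * c.im x := by
      rintro y (hy | hy)
      · exact ⟨⟨y, hy⟩, Or.inl rfl⟩
      · exact ⟨⟨_, hy⟩, Or.inr (by simp [mul_assoc, him2])⟩
    have hII : ∀ i j : ↥I, (i : A) * j = (j : A) * i := fun i j => congrArg Subtype.val (c.comm_I i j)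
    refine ⟨⟨⟨fun p q => Subtype.ext ?_⟩⟩, fun y hy => ?_⟩
    · show (p : A) * q = q * p
      have c1 : ∀ i : ↥I, Commute (c.im x) (i : A) := hcomm
      have c2 : ∀ i j : ↥I, Commute (i : A) (j : A) := hII
      obtain ⟨i, h1 | h1⟩ := hdec p p.2 <;> obtain ⟨j, h2 | h2⟩ := hdec q q.2 <;> rw [h1, h2]
      · exact c2 i j
      · exact ((c2 i j).mul_right (c1 i).symm).eq
      · exact ((c2 i j).mul_left (c1 j)).eq
      · exact (((c2 i j).mul_left (c1 j)).mul_right ((c1 i).symm.mul_left (Commute.refl _))).eq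
    · obtain ⟨i, hyi | hyi⟩ := hdec y hy <;> rw [hyi]
      · exact c.facts.ea_I.2 i i.2
      · rw [(show Commute (i : A) (c.im x) from (hcomm i).symm).mul_pow, c.facts.ea_I.2 i i.2, pow_two, him2,
          one_mul]
  have h16 : 16 ≤ Nat.card ↥K := c.facts.card_I ▸ card_le_of_le hIK
  obtain ⟨g, -, hg⟩ := c.facts.ea_cases K hKJ hKea h16
  have hK16 : Nat.card ↥K ≤ 16 := by
    rcases hg with h | h <;> rw [h.card_eq]
    · exact le_of_eq c.facts.card_I
    · exact le_of_eq c.facts.card_R
  have heq : I = K := eq_of_le_of_card_ge hIK (by rw [c.facts.card_I]; exact hK16)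
  exact hne (heq.ge hxK)

/-- An element of two-power order fixing the six points maps into `I`. -/
theorem im_mem_of_fix_points {x : G} (hxH : x ∈ c.H) {a : ℕ} (ha : x ^ 2 ^ a = 1)
    (hpt : ∀ v, c.IsN v → c.act x v ∈ c.Pt v) : c.im x ∈ I := by
  classical
  have hne : ∀ v, c.IsN v → c.act x v ≠ 0 := fun v hv h =>
    hv.2.1 (c.act_injective hxH (h.trans (map_zero _).symm))
  have hxM : x ∈ c.M := by
    by_contra hM
    -- each point holds one fixed vector
    set S : Set c.Vs := {v | c.IsN v ∧ c.act x v = v} with hS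
    have hex : ∀ v, c.IsN v → ∃ s ∈ S, v ∈ c.Pt s := by
      intro v hv
      have h := hpt v hv
      simp only [Pt, Set.mem_insert_iff, Set.mem_singleton_iff] at h
      rcases h with h | h | h | h
      · exact absurd h (hne v hv)
      · exact ⟨v, ⟨hv, h⟩, by simp [Pt]⟩
      · refine ⟨c.om (c.om v), ⟨c.isN_om (c.isN_om hv), ?_⟩, by simp [Pt, c.om_cube]⟩
        rw [c.om_outer hxH hM, c.om_outer hxH hM, c.om_cube, h]
      · refine ⟨c.om v, ⟨c.isN_om hv, ?_⟩, by simp [Pt, c.om_cube]⟩
        rw [c.om_outer hxH hM, h, c.om_cube]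
    -- at least six of them, no two in one point
    have h18 : 18 ≤ 3 * S.ncard := by
      rw [← c.card_IsN]
      choose f hf hfv using fun v : {v | c.IsN v} => hex v v.2
      let T := {v : c.Vs | c.IsN v}
      have hsub : T ⊆ ⋃ s ∈ S, c.Pt s \ {0} := by
        intro v hv
        simp only [Set.mem_iUnion]
        exact ⟨f ⟨v, hv⟩, hf _, hfv ⟨v, hv⟩, hv.2.1⟩
      refine (Set.ncard_le_ncard hsub (Set.toFinite _)).trans ?_
      have hfin : S.Finite := Set.toFinite _
      have e : (⋃ s ∈ S, c.Pt s \ {0}) = ⋃ s ∈ hfin.toFinset, c.Pt s \ {0} := by simp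
      rw [e]
      refine (Finset.set_ncard_biUnion_le _ _).trans ?_
      rw [Set.ncard_eq_toFinset_card _ hfin, mul_comm, ← smul_eq_mul]
      refine Finset.sum_le_card_nsmul _ _ 3 fun s hs => ?_
      rw [Set.ncard_sdiff (Set.singleton_subset_iff.2 (show (0 : c.Vs) ∈ c.Pt s by simp [Pt])) (Set.toFinite _),
        Set.ncard_singleton, c.ncard_Pt ((hfin.mem_toFinset).1 hs).1.2.1]
    obtain ⟨v0, hv0⟩ := Set.nonempty_of_ncard_ne_zero (s := S) (by omega)
    set F := c.fix {x} ⊓ c.U with hF
    have hF8 : Nat.card ↥F ≤ 8 := by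
      let f : ↥F × ↥F → ↥c.U := fun w => ⟨(w.1 : c.Vs) + c.om w.2, add_mem w.1.2.2 (c.U_om w.2.2.2)⟩
      have hf : Function.Injective f := by
        rintro ⟨p, q⟩ ⟨p', q'⟩ h
        have h' : (p : c.Vs) + c.om q = p' + c.om q' := congrArg Subtype.val h
        have hd : c.om ((q : c.Vs) + q') = (p : c.Vs) + p' := by
          calc c.om ((q : c.Vs) + q') = (p + (p : c.Vs)) + (c.om q + c.om q') := by rw [c.two_V, zero_add, map_add]
            _ = (p : c.Vs) + (p + c.om q) + c.om q' := by abel
            _ = (p : c.Vs) + (p' + c.om q') + c.om q' := by rw [h']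
            _ = _ := by rw [← add_assoc, add_assoc ((p : c.Vs) + p'), c.two_V, add_zero]
        have hq : (q : c.Vs) + q' = 0 := c.om_fixed_pair hxH hM (c.mem_fix_singleton.1 (add_mem q.2.1 q'.2.1))
          (by rw [hd]; exact c.mem_fix_singleton.1 (add_mem p.2.1 p'.2.1))
        have hqq : (q : c.Vs) = q' := c.add_eq_zero_V hq
        rw [hqq] at h'
        exact Prod.ext (Subtype.ext (add_right_cancel h')) (Subtype.ext hqq)
      have h := Nat.card_le_card_of_injective f hf
      rw [Nat.card_prod, c.card_U] at h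
      by_contra hcon
      push Not at hcon
      have := Nat.mul_le_mul hcon hcon
      omega
    have hdiff : ∀ s ∈ S, s ≠ v0 → s ∉ c.Pt v0 := by
      intro s hs hne' hm
      simp only [Pt, Set.mem_insert_iff, Set.mem_singleton_iff] at hm
      rcases hm with h | h | h | h
      · exact hs.1.2.1 h
      · exact hne' h
      · exact hv0.1.2.1 (c.om_fixed_pair hxH hM hv0.2 (h ▸ hs.2))
      · refine hs.1.2.1 (c.om_fixed_pair hxH hM hs.2 ?_)
        rw [h, c.om_cube]
        exact hv0.2
    -- the sums take up too much room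
    have hsub : S ∪ (fun s => v0 + s) '' (S \ {v0}) ⊆ (F : Set c.Vs) \ {0} := by
      rintro w (hw | ⟨s, ⟨hs, hsv⟩, rfl⟩)
      · exact ⟨⟨c.mem_fix_singleton.2 hw.2, hw.1.1⟩, hw.1.2.1⟩
      · exact ⟨⟨c.mem_fix_singleton.2 (by rw [map_add, hv0.2, hs.2]), add_mem hv0.1.1 hs.1.1⟩,
          fun h => hsv (c.add_eq_zero_V h).symm⟩
    have hdis : Disjoint S ((fun s => v0 + s) '' (S \ {v0})) := by
      rw [Set.disjoint_left]
      rintro w hw ⟨s, ⟨hs, hsv⟩, rfl⟩
      exact c.isN_not_isE hw.1 (c.isN_add hv0.1 hs.1 (hdiff s hs hsv))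
    have hc := Set.ncard_le_ncard hsub (Set.toFinite _)
    rw [Set.ncard_union_eq hdis (Set.toFinite _) (Set.toFinite _),
      Set.ncard_image_of_injective _ (fun p q h => add_left_cancel h),
      Set.ncard_sdiff_singleton_of_mem hv0,
      Set.ncard_sdiff_singleton_of_mem (show (0 : c.Vs) ∈ (F : Set c.Vs) from zero_mem F),
      ← Nat.card_coe_set_eq (F : Set c.Vs)] at hc
    have : Nat.card ↥(F : Set c.Vs) ≤ 8 := hF8
    omega
  have hN : ∀ v, c.IsN v → c.act x v = v := by
    intro v hv
    have h := hpt v hv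
    simp only [Pt, Set.mem_insert_iff, Set.mem_singleton_iff] at h
    have hit : ∀ w : ℕ → c.Vs, (∀ n : ℕ, c.act (x ^ n) v = w n) → w (2 ^ a) = v := fun w hw => by
      rw [← hw, ha, c.act_one]; rfl
    rcases h with h | h | h | h
    · exact absurd h (hne v hv)
    · exact h
    all_goals exfalso
    · have hw : ∀ n : ℕ, c.act (x ^ n) v = (c.om ^ n) v := by
        intro n
        induction n with
        | zero => rw [pow_zero, pow_zero, c.act_one]
        | succ n ih =>
          rw [pow_succ, c.act_apply_mul (pow_mem hxH n) hxH, h, c.om_M (pow_mem hxM n), ih, pow_succ']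
          rfl
      have h2 := hit _ hw
      have h3 : ∀ n : ℕ, (c.om ^ n) v = (c.om ^ (n % 3)) v := by
        intro n
        induction n using Nat.strong_induction_on with
        | _ n ih =>
          rcases Nat.lt_or_ge n 3 with hn | hn
          · rw [Nat.mod_eq_of_lt hn]
          · obtain ⟨m, rfl⟩ := Nat.exists_eq_add_of_le hn
            rw [show 3 + m = ((m + 1) + 1) + 1 by omega, pow_succ', pow_succ', pow_succ']
            show c.om (c.om (c.om ((c.om ^ m) v))) = _
            rw [c.om_cube, ih m (by omega)]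
            congr 2
            omega
      rw [h3] at h2
      have hm : 2 ^ a % 3 = 1 ∨ 2 ^ a % 3 = 2 := by
        have : ¬ 3 ∣ 2 ^ a := fun h => absurd (Nat.prime_three.dvd_of_dvd_pow h) (by norm_num)
        omega
      rcases hm with hm | hm <;> rw [hm] at h2
      · rw [pow_one] at h2; exact hv.2.1 (c.om_fixed h2)
      · rw [pow_two] at h2
        refine hv.2.1 (c.om_fixed ?_)
        have e := congrArg c.om h2
        rw [show (c.om * c.om) v = c.om (c.om v) from rfl, c.om_cube] at e
        exact e.symm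
    · have hw : ∀ n : ℕ, c.act (x ^ n) v = (c.om ^ (2 * n)) v := by
        intro n
        induction n with
        | zero => rw [pow_zero, mul_zero, pow_zero, c.act_one]
        | succ n ih =>
          rw [pow_succ, c.act_apply_mul (pow_mem hxH n) hxH, h, c.om_M (pow_mem hxM n), c.om_M (pow_mem hxM n), ih,
            show 2 * (n + 1) = (2 * n + 1) + 1 by ring, pow_succ', pow_succ']
          rfl
      have h2 := hit _ hw
      have h3 : ∀ n : ℕ, (c.om ^ n) v = (c.om ^ (n % 3)) v := by
        intro n
        induction n using Nat.strong_induction_on with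
        | _ n ih =>
          rcases Nat.lt_or_ge n 3 with hn | hn
          · rw [Nat.mod_eq_of_lt hn]
          · obtain ⟨m, rfl⟩ := Nat.exists_eq_add_of_le hn
            rw [show 3 + m = ((m + 1) + 1) + 1 by omega, pow_succ', pow_succ', pow_succ']
            show c.om (c.om (c.om ((c.om ^ m) v))) = _
            rw [c.om_cube, ih m (by omega)]
            congr 2
            omega
      rw [h3] at h2
      have hm : 2 * 2 ^ a % 3 = 1 ∨ 2 * 2 ^ a % 3 = 2 := by
        have : ¬ 3 ∣ 2 ^ a := fun h => absurd (Nat.prime_three.dvd_of_dvd_pow h) (by norm_num)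
        omega
      rcases hm with hm | hm <;> rw [hm] at h2
      · rw [pow_one] at h2; exact hv.2.1 (c.om_fixed h2)
      · rw [pow_two] at h2
        refine hv.2.1 (c.om_fixed ?_)
        have e := congrArg c.om h2
        rw [show (c.om * c.om) v = c.om (c.om v) from rfl, c.om_cube] at e
        exact e.symm
  refine c.im_mem_of_fix_U hxH ha fun u hu => ?_
  -- the points span
  obtain ⟨v, hv⟩ : ∃ v, c.IsN v := Set.nonempty_of_ncard_ne_zero (s := {v | c.IsN v}) (by rw [c.card_IsN]; norm_num)
  obtain ⟨i, hi, hvi, hui⟩ := c.isN_cover hv hu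
  obtain ⟨w, hw, hwv⟩ : ∃ w, (w ∈ c.Li i ∧ w ≠ 0 ∧ ¬ c.Iso i w) ∧ w ∉ c.Pt v := by
    by_contra hcon
    push Not at hcon
    have h6 := (c.line_profile hi).2
    have := Set.ncard_le_ncard (s := {x | x ∈ c.Li i ∧ x ≠ 0 ∧ ¬ c.Iso i x}) (t := c.Pt v) (fun x hx => hcon x hx)
      (Set.toFinite _)
    rw [h6, c.ncard_Pt hv.2.1] at this
    omega
  have hwN : c.IsN w := (c.isN_iff hi hw.1 hw.2.1).2 hw.2.2
  set K := c.fix {x} ⊓ c.Li i with hK
  have hxw : ∀ y, c.IsN y → y ∈ c.Li i → y ∈ K := fun y hy hyi => ⟨c.mem_fix_singleton.2 (hN y hy), hyi⟩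
  have hKom : ∀ y ∈ K, c.om y ∈ K := fun y hy => ⟨c.fix_om (Set.singleton_subset_iff.2 hxM) hy.1, c.Li_om hy.2⟩
  have hvK := hxw v hv hvi
  have hwK := hxw w hwN hw.1
  have hbig : 4 < Nat.card ↥K := by
    by_contra hcon
    push Not at hcon
    exact hwv (by simpa [Pt] using c.eq_or_of_card_four hKom hcon hvK hv.2.1 hwK)
  have h3 := c.card_om_invariant K hKom
  obtain ⟨k, hk, hck⟩ := c.card_addSubgroup K
  have hle : Nat.card ↥K ≤ 16 := (AddSubgroup.card_le_of_le inf_le_right).trans (le_of_eq (c.card_Li hi))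
  have h16 : Nat.card ↥K = 16 := by
    rw [hck] at hbig h3 hle ⊢
    interval_cases k <;> omega
  have heq : K = c.Li i := AddSubgroup.eq_of_le_of_card_ge inf_le_right (by rw [h16, c.card_Li hi]; norm_num)
  exact c.mem_fix_singleton.1 (heq.ge hui).1

end CfsgLib.Spor.JFourType.Ctx
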