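import Cfsg.Agent.Lib.Spor.JFourType.StarPerm

/-!
# The code on the stars

Products of `tau` over sets of stars.  No set of two, four or six stars multiplies to one, so the sets of four
stars fall into 1771 classes of six disjoint ones and the sets of eight stars with product one form a Steiner
system S(5,8,24), invariant under the normalizer of `W`.
-/

set_option autoImplicit false
set_option linter.style.haveILetI false

namespace CfsgLib.Spor.JFourType.Ctx

open Subgroup
open scoped symmDiff

universe u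

variable {G : Type u} [Group G] [Finite G] {A : Type} [Group A] {J I R : Subgroup A}
  {z : G} {P : Subgroup G} (c : Ctx J I R z P)
include c

/-- The product over a set of stars, seen from `o`. -/
noncomputable def psi (hs : c.Split) (o : c.Star) (S : Finset c.Star) : G :=
  S.noncommProd (fun d => c.tau hs o d) fun a _ b _ _ => c.W_comm (c.tau_W hs o a) (c.tau_W hs o b)

theorem psi_W (hs : c.Split) (o : c.Star) (S : Finset c.Star) : c.psi hs o S ∈ c.W :=
  c.W.noncommProd_mem _ fun d _ => c.tau_W hs o d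

theorem psi_empty (hs : c.Split) (o : c.Star) : c.psi hs o ∅ = 1 := Finset.noncommProd_empty _ _

theorem psi_insert [DecidableEq c.Star] (hs : c.Split) (o : c.Star) {S : Finset c.Star} {a : c.Star} (h : a ∉ S) :
    c.psi hs o (insert a S) = c.tau hs o a * c.psi hs o S := Finset.noncommProd_insert_of_notMem _ _ _ _ h

theorem psi_singleton (hs : c.Split) (o a : c.Star) : c.psi hs o {a} = c.tau hs o a :=
  Finset.noncommProd_singleton _ _

theorem psi_union [DecidableEq c.Star] (hs : c.Split) (o : c.Star) {S T : Finset c.Star} (h : Disjoint S T) :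
    c.psi hs o (S ∪ T) = c.psi hs o S * c.psi hs o T :=
  Finset.noncommProd_union_of_disjoint h (fun d => c.tau hs o d) _

theorem psi_symmDiff [DecidableEq c.Star] (hs : c.Split) (o : c.Star) (S T : Finset c.Star) :
    c.psi hs o (S ∆ T) = c.psi hs o S * c.psi hs o T := by
  have h1 : c.psi hs o S = c.psi hs o (S \ T) * c.psi hs o (S ∩ T) := by
    rw [← c.psi_union hs o (Finset.disjoint_sdiff_inter S T), Finset.sdiff_union_inter]
  have h2 : c.psi hs o T = c.psi hs o (S ∩ T) * c.psi hs o (T \ S) := by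
    rw [← c.psi_union hs o (by rw [Finset.inter_comm]; exact (Finset.disjoint_sdiff_inter T S).symm),
      Finset.inter_comm, Finset.union_comm, Finset.sdiff_union_inter]
  rw [h1, h2, show S ∆ T = (S \ T) ∪ (T \ S) from rfl, c.psi_union hs o disjoint_sdiff_sdiff, mul_assoc,
    ← mul_assoc (c.psi hs o (S ∩ T)), c.W_sq (c.psi_W hs o _), one_mul]

theorem psi_pair [DecidableEq c.Star] (hs : c.Split) (hNI : 11520 ≤ Nat.card ↥(normalizer (I : Set A)))
    (o : c.Star) {a b : c.Star} (h : a ≠ b) : c.psi hs o {a, b} = c.tau hs a b := by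
  rw [c.psi_insert hs o (by simpa using h), c.psi_singleton, c.tau_comm hs o a, c.tau_mul hs hNI]

/-- For sets of even size the origin does not matter. -/
theorem psi_origin [DecidableEq c.Star] (hs : c.Split) (hNI : 11520 ≤ Nat.card ↥(normalizer (I : Set A)))
    (o o' : c.Star) (S : Finset c.Star) :
    c.psi hs o' S = (if Even S.card then 1 else c.tau hs o' o) * c.psi hs o S := by
  induction S using Finset.induction_on with
  | empty => simp [c.psi_empty]
  | @insert a S ha ih =>
    rw [c.psi_insert hs o' ha, c.psi_insert hs o ha, ih, ← c.tau_mul hs hNI o' o a, Finset.card_insert_of_notMem ha]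
    set w := c.tau hs o' o
    set t := c.tau hs o a
    set p := c.psi hs o S
    have hw : w ∈ c.W := c.tau_W hs o' o
    have ht : t ∈ c.W := c.tau_W hs o a
    by_cases he : Even S.card
    · rw [if_pos he, if_neg (by simpa [Nat.even_add_one] using he), one_mul, mul_assoc]
    · rw [if_neg he, if_pos (by simpa [Nat.even_add_one] using he), one_mul]
      calc w * t * (w * p) = t * (w * w) * p := by rw [c.W_comm hw ht]; group
        _ = t * p := by rw [c.W_sq hw, mul_one]

/-- Six or fewer stars never multiply to one. -/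
theorem psi_ne_one [DecidableEq c.Star] (hs : c.Split) (hNI : 11520 ≤ Nat.card ↥(normalizer (I : Set A)))
    (o : c.Star) {S : Finset c.Star} (he : Even S.card) (h0 : S ≠ ∅) (h6 : S.card ≤ 6) : c.psi hs o S ≠ 1 := by
  intro h
  have h2 : 2 ≤ S.card := by
    have := Finset.card_pos.2 (Finset.nonempty_iff_ne_empty.2 h0)
    rcases he with ⟨k, hk⟩
    omega
  obtain ⟨P1, hP1, hc1⟩ := Finset.exists_subset_card_eq h2
  obtain ⟨a, b, hab, rfl⟩ := Finset.card_eq_two.1 hc1
  have hrest : c.psi hs o (S \ {a, b}) * c.tau hs a b = 1 := by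
    rw [← c.psi_pair hs hNI o hab, ← c.psi_union hs o Finset.sdiff_disjoint, Finset.sdiff_union_of_subset hP1, h]
  set S1 := S \ {a, b} with hS1
  have hc : S1.card = S.card - 2 := by rw [hS1, Finset.card_sdiff_of_subset hP1, hc1]
  by_cases e2 : S.card = 2
  · rw [Finset.card_eq_zero.1 (by omega : S1.card = 0), c.psi_empty, one_mul] at hrest
    exact (c.tau_Tset hs hab).2.1 hrest
  obtain ⟨P2, hP2, hc2⟩ := Finset.exists_subset_card_eq (show 2 ≤ S1.card by rcases he with ⟨k, hk⟩; omega)
  obtain ⟨p, q, hpq, rfl⟩ := Finset.card_eq_two.1 hc2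
  have hne : ∀ x, x ∈ S1 → x ≠ a ∧ x ≠ b := fun x hx => by
    simp only [hS1, Finset.mem_sdiff, Finset.mem_insert, Finset.mem_singleton, not_or] at hx
    exact hx.2
  have hp := hne p (hP2 (by simp))
  have hq := hne q (hP2 (by simp))
  by_cases e4 : S.card = 4
  · rw [← Finset.eq_of_subset_of_card_le hP2 (by rw [hc2, hc]; omega), c.psi_pair hs hNI o hpq,
      mul_eq_one_iff_eq_inv, inv_eq_of_mul_eq_one_right (c.W_sq (c.tau_W hs a b))] at hrest
    rcases c.tau_inj hs hpq hab hrest with ⟨e, -⟩ | ⟨e, -⟩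
    · exact hp.1 e
    · exact hp.2 e
  have e6 : S1.card = 4 := by rcases he with ⟨k, hk⟩; omega
  obtain ⟨u, v, huv, e⟩ := Finset.card_eq_two.1
    (show (S1 \ {p, q}).card = 2 by rw [Finset.card_sdiff_of_subset hP2, hc2, e6])
  have hS1e : c.psi hs o S1 = c.tau hs u v * c.tau hs p q := by
    rw [← c.psi_pair hs hNI o hpq, ← c.psi_pair hs hNI o huv, ← e, ← c.psi_union hs o Finset.sdiff_disjoint,
      Finset.sdiff_union_of_subset hP2]
  have hu : u ∈ S1 \ {p, q} := by rw [e]; simp
  rw [hS1e, mul_eq_one_iff_eq_inv, inv_eq_of_mul_eq_one_right (c.W_sq (c.tau_W hs a b))] at hrest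
  have hmem : c.tau hs p q ∈ c.nbr (c.tau hs a b) := by
    refine ⟨c.tau_Tset hs hpq, ?_⟩
    rw [← hrest, mul_assoc, c.W_sq (c.tau_W hs p q), mul_one]
    exact c.tau_Tset hs huv
  rw [c.nbr_eq_pencil hs hNI hab] at hmem
  obtain ⟨d, hda, hdb, e' | e'⟩ := hmem
  · rcases c.tau_inj hs hpq (Ne.symm hda) e' with ⟨e1, -⟩ | ⟨-, e2⟩
    · exact hp.1 e1
    · exact hq.1 e2
  · rcases c.tau_inj hs hpq (Ne.symm hdb) e' with ⟨e1, -⟩ | ⟨-, e2⟩
    · exact hp.2 e1
    · exact hq.2 e2

/-- Sets of four with one product are disjoint. -/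
theorem four_disjoint [DecidableEq c.Star] (hs : c.Split) (hNI : 11520 ≤ Nat.card ↥(normalizer (I : Set A)))
    (o : c.Star) {F F' : Finset c.Star} (h : F.card = 4) (h' : F'.card = 4)
    (e : c.psi hs o F = c.psi hs o F') (hne : F ≠ F') : Disjoint F F' := by
  rw [Finset.disjoint_iff_inter_eq_empty]
  by_contra hx
  have h1 := Finset.card_pos.2 (Finset.nonempty_iff_ne_empty.2 hx)
  have hc : (F ∆ F').card = 8 - 2 * (F ∩ F').card := by
    rw [show F ∆ F' = (F \ F') ∪ (F' \ F) from rfl, Finset.card_union_of_disjoint disjoint_sdiff_sdiff,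
      Finset.card_sdiff, Finset.card_sdiff, h, h', Finset.inter_comm F' F]
    have := Finset.card_le_card (Finset.inter_subset_left (s₁ := F) (s₂ := F'))
    omega
  refine c.psi_ne_one hs hNI o (S := F ∆ F') ⟨4 - (F ∩ F').card, by omega⟩ ?_ (by omega) ?_
  · exact fun h0 => hne (symmDiff_eq_bot.1 h0)
  · rw [c.psi_symmDiff, e, c.W_sq (c.psi_W hs o F')]

/-- The other values in `W`. -/
def Sset : Set G := {x | x ∈ c.W ∧ x ≠ 1 ∧ x ∉ c.Tset}

theorem card_Sset (hs : c.Split) : c.Sset.ncard = 1771 := by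
  have e : c.Sset = ((c.W : Set G) \ {1}) \ c.Tset := by
    ext x
    simp [Sset, and_assoc]
  have hsub : c.Tset ⊆ (c.W : Set G) \ {1} := fun x hx => ⟨hx.1, hx.2.1⟩
  rw [e, Set.ncard_sdiff hsub (Set.toFinite _),
    Set.ncard_sdiff_singleton_of_mem (show (1 : G) ∈ (c.W : Set G) from one_mem _), c.card_Tset hs,
    ← Nat.card_coe_set_eq]
  simp only [SetLike.coe_sort_coe, c.card_W]
  norm_num

theorem four_Sset [DecidableEq c.Star] (hs : c.Split) (hNI : 11520 ≤ Nat.card ↥(normalizer (I : Set A)))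
    (o : c.Star) {F : Finset c.Star} (h : F.card = 4) : c.psi hs o F ∈ c.Sset := by
  have h0 : F ≠ ∅ := fun e => by simp [e] at h
  refine ⟨c.psi_W hs o F, c.psi_ne_one hs hNI o (by rw [h]; decide) h0 (by omega), fun hT => ?_⟩
  obtain ⟨a, b, hab, e⟩ := c.exists_tau hs hT
  have hc : (F ∆ {a, b}).card = 6 - 2 * (F ∩ {a, b}).card := by
    rw [show F ∆ {a, b} = (F \ {a, b}) ∪ ({a, b} \ F) from rfl, Finset.card_union_of_disjoint disjoint_sdiff_sdiff,
      Finset.card_sdiff, Finset.card_sdiff, h, Finset.card_pair hab, Finset.inter_comm {a, b} F]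
    have := Finset.card_le_card (Finset.inter_subset_right (s₁ := F) (s₂ := {a, b}))
    rw [Finset.card_pair hab] at this
    omega
  have h2 := Finset.card_le_card (Finset.inter_subset_right (s₁ := F) (s₂ := {a, b}))
  rw [Finset.card_pair hab] at h2
  refine c.psi_ne_one hs hNI o (S := F ∆ {a, b}) ⟨3 - (F ∩ {a, b}).card, by omega⟩ ?_ (by omega) ?_
  · intro e'
    rw [e', Finset.card_empty] at hc
    omega
  · rw [c.psi_symmDiff, c.psi_pair hs hNI o hab, e, c.W_sq hT.1]

/-- Each value is taken on six disjoint sets of four. -/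
theorem four_classes [Fintype c.Star] [DecidableEq c.Star] (hs : c.Split)
    (hNI : 11520 ≤ Nat.card ↥(normalizer (I : Set A))) (o : c.Star) {x : G} (hx : x ∈ c.Sset) (p : c.Star) :
    ∃ F : Finset c.Star, F.card = 4 ∧ c.psi hs o F = x ∧ p ∈ F := by
  classical
  haveI : Fintype ↥c.Sset := Fintype.ofFinite _
  let Q : Finset (Finset c.Star) := Finset.univ.powersetCard 4
  let cls : G → Finset (Finset c.Star) := fun y => Q.filter fun F => c.psi hs o F = y
  have hn : Fintype.card c.Star = 24 := by rw [← Nat.card_eq_fintype_card, c.card_Star hs]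
  have hQ : Q.card = 10626 := by
    rw [Finset.card_powersetCard, Finset.card_univ, hn]
    decide +kernel
  have hmaps : ∀ F ∈ Q, c.psi hs o F ∈ c.Sset.toFinset := fun F hF =>
    Set.mem_toFinset.2 (c.four_Sset hs hNI o (Finset.mem_powersetCard.1 hF).2)
  have hsum : Q.card = ∑ y ∈ c.Sset.toFinset, (cls y).card := Finset.card_eq_sum_card_fiberwise hmaps
  have hcov : ∀ y, ((cls y).biUnion id).card = 4 * (cls y).card := by
    intro y
    rw [Finset.card_biUnion fun F hF F' hF' hne => ?_, Finset.sum_const_nat (m := 4) fun F hF => ?_, mul_comm]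
    · exact (Finset.mem_powersetCard.1 (Finset.mem_filter.1 hF).1).2
    · obtain ⟨h1, h2⟩ := Finset.mem_filter.1 hF
      obtain ⟨h1', h2'⟩ := Finset.mem_filter.1 hF'
      exact c.four_disjoint hs hNI o (Finset.mem_powersetCard.1 h1).2 (Finset.mem_powersetCard.1 h1').2
        (h2.trans h2'.symm) hne
  have hle : ∀ y, (cls y).card ≤ 6 := fun y => by
    have := Finset.card_le_univ ((cls y).biUnion id)
    rw [hcov, hn] at this
    omega
  have h6 : (cls x).card = 6 := by
    by_contra hlt
    have hlt' : (cls x).card < 6 := lt_of_le_of_ne (hle x) hlt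
    have h := Finset.sum_lt_sum (s := c.Sset.toFinset) (fun y _ => hle y) ⟨x, Set.mem_toFinset.2 hx, hlt'⟩
    rw [← hsum, hQ, Finset.sum_const, smul_eq_mul, ← Set.ncard_eq_toFinset_card', c.card_Sset hs] at h
    omega
  have huniv : (cls x).biUnion id = Finset.univ :=
    Finset.eq_univ_of_card _ (by rw [hcov, h6, hn])
  obtain ⟨F, hF, hpF⟩ := Finset.mem_biUnion.1 (huniv.symm ▸ Finset.mem_univ p)
  obtain ⟨h1, h2⟩ := Finset.mem_filter.1 hF
  exact ⟨F, (Finset.mem_powersetCard.1 h1).2, h2, hpF⟩

/-- The blocks. -/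
def Blocks (hs : c.Split) (o : c.Star) : Set (Finset c.Star) := {B | B.card = 8 ∧ c.psi hs o B = 1}

/-- The blocks form a Steiner system. -/
theorem blocks_steiner (hs : c.Split) (hNI : 11520 ≤ Nat.card ↥(normalizer (I : Set A))) (o : c.Star) :
    Cfsg.IsSteinerSystem 5 8 (c.Blocks hs o) := by
  classical
  haveI : Fintype c.Star := Fintype.ofFinite _
  refine ⟨fun B hB => hB.1, fun F hF => ?_⟩
  obtain ⟨p, hp⟩ : F.Nonempty := Finset.card_pos.1 (by omega)
  set F1 := F.erase p with hF1
  have hc1 : F1.card = 4 := by rw [hF1, Finset.card_erase_of_mem hp, hF]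
  obtain ⟨F2, hc2, he2, hp2⟩ := c.four_classes hs hNI o (c.four_Sset hs hNI o hc1) p
  have hd : Disjoint F1 F2 := c.four_disjoint hs hNI o hc1 hc2 he2.symm fun e => by
    rw [← e] at hp2
    exact Finset.notMem_erase p F hp2
  refine ⟨F1 ∪ F2, ⟨⟨by rw [Finset.card_union_of_disjoint hd, hc1, hc2],
    by rw [c.psi_union hs o hd, he2, c.W_sq (c.psi_W hs o F1)]⟩, fun x hx => ?_⟩, ?_⟩
  · by_cases e : x = p
    · exact Finset.mem_union_right _ (e ▸ hp2)
    · exact Finset.mem_union_left _ (Finset.mem_erase.2 ⟨e, hx⟩)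
  · rintro B ⟨⟨hB8, hB1⟩, hFB⟩
    set B' := F1 ∪ F2
    by_contra hne
    have hB' : B'.card = 8 := by rw [Finset.card_union_of_disjoint hd, hc1, hc2]
    have hsub : F ⊆ B' := fun x hx => by
      by_cases e : x = p
      · exact Finset.mem_union_right _ (e ▸ hp2)
      · exact Finset.mem_union_left _ (Finset.mem_erase.2 ⟨e, hx⟩)
    have h5 : 5 ≤ (B ∩ B').card := hF ▸ Finset.card_le_card (Finset.subset_inter hFB hsub)
    have hcard : (B ∆ B').card = 16 - 2 * (B ∩ B').card := by
      rw [show B ∆ B' = (B \ B') ∪ (B' \ B) from rfl, Finset.card_union_of_disjoint disjoint_sdiff_sdiff,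
        Finset.card_sdiff, Finset.card_sdiff, hB8, hB', Finset.inter_comm B' B]
      have := Finset.card_le_card (Finset.inter_subset_left (s₁ := B) (s₂ := B'))
      omega
    refine c.psi_ne_one hs hNI o (S := B ∆ B') ⟨8 - (B ∩ B').card, by omega⟩
      (fun h0 => hne (symmDiff_eq_bot.1 h0)) (by omega) ?_
    rw [c.psi_symmDiff, hB1, one_mul, c.psi_union hs o hd, he2, c.W_sq (c.psi_W hs o F1)]

/-- The product is equivariant. -/
theorem psi_starHom [DecidableEq c.Star] (hs : c.Split) (hNI : 11520 ≤ Nat.card ↥(normalizer (I : Set A)))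
    (o : c.Star) (n : ↥(normalizer (c.W : Set G))) (S : Finset c.Star) :
    c.psi hs (c.starHom hs hNI n o) (S.image (c.starHom hs hNI n)) = (n : G) * c.psi hs o S * (n : G)⁻¹ := by
  induction S using Finset.induction_on with
  | empty => simp [c.psi_empty]
  | @insert a S ha ih =>
    rw [Finset.image_insert, c.psi_insert hs _ (fun h => ha ?_), ih, c.psi_insert hs o ha, c.tau_starHom, conj_mul]
    obtain ⟨b, hb, e⟩ := Finset.mem_image.1 h
    exact (c.starHom hs hNI n).injective e ▸ hb

theorem blocks_invariant [DecidableEq c.Star] (hs : c.Split) (hNI : 11520 ≤ Nat.card ↥(normalizer (I : Set A)))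
    (o : c.Star) (n : ↥(normalizer (c.W : Set G))) {B : Finset c.Star} (hB : B ∈ c.Blocks hs o) :
    B.image (c.starHom hs hNI n) ∈ c.Blocks hs o := by
  have h8 : (B.image (c.starHom hs hNI n)).card = 8 := by
    rw [Finset.card_image_of_injective _ (c.starHom hs hNI n).injective, hB.1]
  refine ⟨h8, ?_⟩
  rw [c.psi_origin hs hNI (c.starHom hs hNI n o) o, h8, if_pos (by decide), one_mul, c.psi_starHom, hB.2,
    mul_one, mul_inv_cancel]

/-- Every element of `W` is a product. -/
theorem fix_W_of_stars (hs : c.Split) (hNI : 11520 ≤ Nat.card ↥(normalizer (I : Set A)))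
    {n : ↥(normalizer (c.W : Set G))} (h : c.starHom hs hNI n = 1) : (n : G) ∈ centralizer (c.W : Set G) := by
  classical
  haveI : Fintype c.Star := Fintype.ofFinite _
  intro w hw
  have hfixT : ∀ t ∈ c.Tset, (n : G) * t * (n : G)⁻¹ = t := by
    intro t ht
    obtain ⟨a, b, -, rfl⟩ := c.exists_tau hs ht
    rw [← c.tau_starHom hs hNI n a b, h]
    rfl
  have hfix : (n : G) * w * (n : G)⁻¹ = w := by
    by_cases h1 : w = 1
    · rw [h1, mul_one, mul_inv_cancel]
    by_cases hT : w ∈ c.Tset
    · exact hfixT w hT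
    obtain ⟨o⟩ : Nonempty c.Star := (Finite.card_pos_iff.1 (by rw [c.card_Star hs]; norm_num))
    obtain ⟨F, hF, rfl, -⟩ := c.four_classes hs hNI o ⟨hw, h1, hT⟩ o
    have := c.psi_starHom hs hNI o n F
    rw [h, Equiv.Perm.coe_one, Finset.image_id] at this
    exact this.symm
  exact (mul_inv_eq_iff_eq_mul.1 hfix).symm

end CfsgLib.Spor.JFourType.Ctx
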