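import Cfsg.Agent.Lib.Spor.JFourType.StarMove

/-!
# The sign of the triangle

All non-conjugates have equally many neighbours.  An element of `Ut` has the 44 of the pairs sharing a star; if the
products around triangles were `z`, an element outside would have at most 36.  So they are `1`, and two elements
are adjacent exactly when their pairs share a star.
-/

set_option autoImplicit false
set_option linter.style.haveILetI false

namespace CfsgLib.Spor.JFourType.Ctx

open Subgroup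

universe u

variable {G : Type u} [Group G] [Finite G] {A : Type} [Group A] {J I R : Subgroup A}
  {z : G} {P : Subgroup G} (c : Ctx J I R z P)
include c

/-- The neighbours. -/
def nbr (t : G) : Set G := {x | x ∈ c.Tset ∧ t * x ∈ c.Tset}

/-- All have equally many. -/
theorem ncard_nbr_eq (hs : c.Split) {t t' : G} (ht : t ∈ c.Tset) (ht' : t' ∈ c.Tset) :
    (c.nbr t).ncard = (c.nbr t').ncard := by
  obtain ⟨n, hn, rfl⟩ := c.trans_Tset hs ht ht'
  have e : c.nbr (n * t * n⁻¹) = (fun x => n * x * n⁻¹) '' c.nbr t := by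
    ext x
    constructor
    · rintro ⟨hx, htx⟩
      refine ⟨n⁻¹ * x * n⁻¹⁻¹, ⟨c.conj_Tset (inv_mem hn) hx, ?_⟩, by group⟩
      have := c.conj_Tset (inv_mem hn) htx
      rwa [show n⁻¹ * (n * t * n⁻¹ * x) * n⁻¹⁻¹ = t * (n⁻¹ * x * n⁻¹⁻¹) by group] at this
    · rintro ⟨y, hy, rfl⟩
      exact ⟨c.conj_Tset hn hy.1, by rw [conj_mul]; exact c.conj_Tset hn hy.2⟩
  rw [e, Set.ncard_image_of_injective _ fun p q h => mul_left_cancel (mul_right_cancel h)]

/-- The elements whose pair meets `{a, b}` in one star. -/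
def pencil (hs : c.Split) (a b : c.Star) : Set G :=
  {x | ∃ d, d ≠ a ∧ d ≠ b ∧ (x = c.tau hs a d ∨ x = c.tau hs b d)}

theorem card_pencil (hs : c.Split) {a b : c.Star} (hab : a ≠ b) : (c.pencil hs a b).ncard = 44 := by
  classical
  let D : Set c.Star := {d | d ≠ a ∧ d ≠ b}
  have hD : D.ncard = 22 := by
    rw [show D = (Set.univ : Set c.Star) \ {a, b} by ext d; simp [D], Set.ncard_sdiff (Set.subset_univ _) (Set.toFinite _),
      Set.ncard_univ, c.card_Star hs, Set.ncard_pair hab]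
  have e : c.pencil hs a b = (fun d => c.tau hs a d) '' D ∪ (fun d => c.tau hs b d) '' D := by
    ext x
    constructor
    · rintro ⟨d, h1, h2, rfl | rfl⟩
      · exact Or.inl ⟨d, ⟨h1, h2⟩, rfl⟩
      · exact Or.inr ⟨d, ⟨h1, h2⟩, rfl⟩
    · rintro (⟨d, hd, rfl⟩ | ⟨d, hd, rfl⟩)
      · exact ⟨d, hd.1, hd.2, Or.inl rfl⟩
      · exact ⟨d, hd.1, hd.2, Or.inr rfl⟩
  have hinj : ∀ x : c.Star, (∀ d ∈ D, x ≠ d) → Set.InjOn (fun d => c.tau hs x d) D := fun x hx d hd d' hd' h => by
    rcases c.tau_inj hs (hx d hd) (hx d' hd') h with ⟨-, e⟩ | ⟨e, -⟩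
    · exact e
    · exact absurd e (hx d' hd')
  have hdis : Disjoint ((fun d => c.tau hs a d) '' D) ((fun d => c.tau hs b d) '' D) := by
    rw [Set.disjoint_left]
    rintro _ ⟨d, hd, rfl⟩ ⟨d', hd', h⟩
    rcases c.tau_inj hs (Ne.symm hd'.2) (Ne.symm hd.1) h with ⟨e, -⟩ | ⟨e, -⟩
    · exact hab e.symm
    · exact hd.2 e.symm
  rw [e, Set.ncard_union_eq hdis (Set.toFinite _) (Set.toFinite _),
    (hinj a fun d hd => Ne.symm hd.1).ncard_image, (hinj b fun d hd => Ne.symm hd.2).ncard_image, hD]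

/-- An element of `Ut` has exactly the pencil as its neighbours. -/
theorem nbr_Ut (hs : c.Split) {a b : c.Star} (hab : a ≠ b) (hp : c.ptS hs a = c.ptS hs b) :
    c.nbr (c.tau hs a b) = c.pencil hs a b := by
  obtain ⟨hua, hub, huT⟩ := c.tau_same hs hab hp
  set u := c.tau hs a b with hu
  ext x
  constructor
  · rintro ⟨hx, hux⟩
    obtain ⟨d, d', hne, rfl⟩ := c.exists_tau hs hx
    -- one of the two stars contains `u`
    have hmem : u ∈ d.1 ∨ u ∈ d'.1 := by
      by_cases hU : c.tau hs d d' ∈ c.Ut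
      · have hT : c.tau hs d d' ∈ c.TU := ⟨hx, hU⟩
        obtain ⟨hd1, hd2⟩ := c.tau_spec hs hne
        have hd1' := ((c.inc_Ut hU).1 hd1).2
        have hd2' := ((c.inc_Ut hU).1 hd2).2
        have hS : c.IsStar {c.tau hs d d', u, c.tau hs d d' * u * z} :=
          ⟨_, _, hT, huT, c.adj_symm (c.TU_W huT) hx.1 hux, rfl⟩
        obtain ⟨p, q, -, -, -, -, -, huniq⟩ := c.stars_through hs hT
        have hne' : d.1 ≠ d'.1 := fun e => hne (Subtype.ext e)
        rcases huniq _ hS (by simp) with e1 | e1 <;> rcases huniq _ d.2 hd1' with e2 | e2 <;>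
          rcases huniq _ d'.2 hd2' with e3 | e3
        all_goals first
          | exact absurd (e2.trans e3.symm) hne'
          | exact Or.inl (e2.trans e1.symm ▸ by simp)
          | exact Or.inr (e3.trans e1.symm ▸ by simp)
      · obtain ⟨i, hi⟩ := c.fib_exists hx hU
        have hadj : c.tau hs d d' * u ∈ c.Tset := c.adj_symm (c.TU_W huT) hx.1 hux
        have hN := c.pv_TU hs huT
        have hvi := c.adj_mem_Li hs hi huT.2 hadj
        have hinc := c.inc_starOf hs hi hN hvi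
        have hmem : u ∈ c.starOf (c.tau hs d d') (c.pv u) := ⟨huT.2, c.mem_Pt_self _, hN.2.1, hadj⟩
        obtain ⟨p, q, -, -, -, huniq⟩ := c.inc_two hs hx
        have hne' : d.1 ≠ d'.1 := fun e => hne (Subtype.ext e)
        rcases huniq _ hinc with e1 | e1 <;> rcases huniq _ (c.tau_spec hs hne).1 with e2 | e2 <;>
          rcases huniq _ (c.tau_spec hs hne).2 with e3 | e3
        all_goals first
          | exact absurd (e2.trans e3.symm) hne'
          | exact Or.inl (e2.trans e1.symm ▸ hmem)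
          | exact Or.inr (e3.trans e1.symm ▸ hmem)
    obtain ⟨p, q, -, -, -, -, -, huniq⟩ := c.stars_through hs huT
    have hstar : ∀ e : c.Star, u ∈ e.1 → e = a ∨ e = b := by
      intro e he
      have hab' : a.1 ≠ b.1 := fun h => hab (Subtype.ext h)
      rcases huniq _ e.2 he with e1 | e1 <;> rcases huniq _ a.2 hua with e2 | e2 <;>
        rcases huniq _ b.2 hub with e3 | e3
      all_goals first
        | exact absurd (e2.trans e3.symm) hab'
        | exact Or.inl (Subtype.ext (e1.trans e2.symm))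
        | exact Or.inr (Subtype.ext (e1.trans e3.symm))
    have hnot : ∀ p q : c.Star, p ≠ q → c.tau hs p q = u → ¬ u * c.tau hs p q ∈ c.Tset := fun p q _ e h => by
      rw [e, c.W_sq (c.TU_W huT)] at h
      exact h.2.1 rfl
    rcases hmem with h | h
    · rcases hstar d h with rfl | rfl
      · refine ⟨d', Ne.symm hne, fun e => ?_, Or.inl rfl⟩
        exact hnot _ _ hne (by rw [e]) hux
      · refine ⟨d', fun e => ?_, Ne.symm hne, Or.inr rfl⟩
        exact hnot _ _ hne (by rw [e, c.tau_comm]) hux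
    · rcases hstar d' h with rfl | rfl
      · refine ⟨d, hne, fun e => ?_, Or.inl (c.tau_comm hs _ _)⟩
        exact hnot _ _ hne (by rw [e, c.tau_comm]) hux
      · refine ⟨d, fun e => ?_, hne, Or.inr (c.tau_comm hs _ _)⟩
        exact hnot _ _ hne (by rw [e]) hux
  · rintro ⟨d, hda, hdb, rfl | rfl⟩
    · refine ⟨c.tau_Tset hs (Ne.symm hda), ?_⟩
      rw [hu, c.tau_comm hs a b, c.tau_mul_of_same hs (Ne.symm hab) (Ne.symm hda) (Ne.symm hdb) (Or.inl hp.symm)]
      exact c.tau_Tset hs (Ne.symm hdb)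
    · refine ⟨c.tau_Tset hs (Ne.symm hdb), ?_⟩
      rw [c.tau_mul_of_same hs hab (Ne.symm hdb) (Ne.symm hda) (Or.inl hp)]
      exact c.tau_Tset hs (Ne.symm hda)

/-- Every non-conjugate has 44 neighbours. -/
theorem ncard_nbr (hs : c.Split) {t : G} (ht : t ∈ c.Tset) : (c.nbr t).ncard = 44 := by
  classical
  obtain ⟨u, hu⟩ : ∃ u, u ∈ c.TU := by
    obtain ⟨v, hv⟩ : ∃ v, c.IsN v := Set.nonempty_of_ncard_ne_zero (s := {v | c.IsN v}) (by rw [c.card_IsN]; norm_num)
    obtain ⟨u, hu, -⟩ := c.exists_TU hs hv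
    exact ⟨u, hu⟩
  obtain ⟨a, b, hne, hA, hB, ha, hb, -⟩ := c.stars_through hs hu
  have hab : (⟨a, hA⟩ : c.Star) ≠ ⟨b, hB⟩ := fun e => hne (congrArg Subtype.val e)
  have hN := c.pv_TU hs hu
  have hp : c.ptS hs ⟨a, hA⟩ = c.ptS hs ⟨b, hB⟩ := by
    rw [c.ptS_eq hs (a := (⟨a, hA⟩ : c.Star)) hN (c.star_onPt hs hA ha),
      c.ptS_eq hs (a := (⟨b, hB⟩ : c.Star)) hN (c.star_onPt hs hB hb)]
  have e : c.tau hs ⟨a, hA⟩ ⟨b, hB⟩ = u := c.tau_eq hs hab ⟨hA, Or.inl ha⟩ ⟨hB, Or.inl hb⟩
  rw [c.ncard_nbr_eq hs ht hu.1, ← e, c.nbr_Ut hs hab hp, c.card_pencil hs hab]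

/-- Two elements over one involution multiply into the line. -/
theorem fib_same_mul (hs : c.Split) {x y : G} {j : ↥I} (hx : c.Fib x j) (hy : c.Fib y j) :
    x * y ∈ c.Ut ∧ c.pv (x * y) ∈ c.Li j := by
  have hU : x * y ∈ c.Ut := c.mem_Ut_of_im_W (mul_mem hx.1.1 hy.1.1) (by
    rw [c.im_mul (c.W_le_H hx.1.1) (c.W_le_H hy.1.1), hx.2.1, hy.2.1, ← Subgroup.coe_mul, c.mul_self_I, coe_one])
  exact ⟨hU, c.adj_mem_Li hs hx hU (by rw [← mul_assoc, c.W_sq hx.1.1, one_mul]; exact hy.1)⟩

theorem mem_starPair (hs : c.Split) {a b : c.Star} {x : G} (hp : c.ptS hs a ≠ c.ptS hs b) (hx : x ∈ c.Ut)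
    (h : c.tau hs a b * x ∈ c.Tset) (hxT : x ∈ c.Tset) : x ∈ a.1 ∪ b.1 := by
  obtain ⟨i, hi⟩ := c.tau_diff hs hp
  have hne : a ≠ b := fun e => hp (by rw [e])
  have hN := c.pv_TU hs ⟨hxT, hx⟩
  have hinc := c.inc_starOf hs hi hN (c.adj_mem_Li hs hi hx h)
  have hmem : x ∈ c.starOf (c.tau hs a b) (c.pv x) := ⟨hx, c.mem_Pt_self _, hN.2.1, h⟩
  obtain ⟨p, q, -, -, -, huniq⟩ := c.inc_two hs (c.tau_Tset hs hne)
  have hne' : a.1 ≠ b.1 := fun e => hne (Subtype.ext e)
  rcases huniq _ hinc with e1 | e1 <;> rcases huniq _ (c.tau_spec hs hne).1 with e2 | e2 <;>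
    rcases huniq _ (c.tau_spec hs hne).2 with e3 | e3
  all_goals first
    | exact absurd (e2.trans e3.symm) hne'
    | exact Or.inl (e2.trans e1.symm ▸ hmem)
    | exact Or.inr (e3.trans e1.symm ▸ hmem)

theorem card_star_le {S : Set G} (hS : c.IsStar S) : S.ncard ≤ 3 := by
  obtain ⟨t, t', -, -, -, rfl⟩ := hS
  exact (Set.ncard_insert_le _ _).trans
    (Nat.succ_le_succ ((Set.ncard_insert_le _ _).trans (by rw [Set.ncard_singleton])))

/-- With the wrong sign there are few neighbours. -/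
theorem nbr_small (hs : c.Split) {a b : c.Star} (hab : c.ptS hs a ≠ c.ptS hs b)
    (hsign : ∀ p q r : c.Star, c.ptS hs p ≠ c.ptS hs q → c.ptS hs q ≠ c.ptS hs r → c.ptS hs p ≠ c.ptS hs r →
      c.tri hs p q r = z) :
    (c.nbr (c.tau hs a b)).ncard ≤ 36 := by
  classical
  obtain ⟨i, hi⟩ := c.tau_diff hs hab
  set t := c.tau hs a b with htdef
  have hne : a ≠ b := fun e => hab (by rw [e])
  obtain ⟨hta, htb⟩ := c.tau_spec hs hne
  have htW := hi.1.1
  -- a neighbour with a point in common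
  have hadjacent : ∀ p q x' d : c.Star, c.ptS hs p ≠ c.ptS hs q → c.tau hs p q = t → c.ptS hs x' = c.ptS hs p →
      c.ptS hs d ≠ c.ptS hs p → c.ptS hs d ≠ c.ptS hs q → ¬ t * c.tau hs x' d ∈ c.Tset := by
    intro p q x' d hpq hpqt hx' hdp hdq hmem
    obtain ⟨k, hk⟩ := c.tau_diff hs (a := q) (b := d) (Ne.symm hdq)
    have hT := hsign p q d hpq (Ne.symm hdq) (Ne.symm hdp)
    -- the product with the shared star
    have e : t * c.tau hs p d = c.tau hs q d * z := by
      rw [← hpqt]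
      rw [tri] at hT
      have hW1 := c.tau_W hs p q
      have hW2 := c.tau_W hs q d
      calc c.tau hs p q * c.tau hs p d
          = c.tau hs p q * (c.tau hs q d * c.tau hs q d) * c.tau hs p d := by rw [c.W_sq hW2, mul_one]
        _ = c.tau hs q d * (c.tau hs p q * c.tau hs q d * c.tau hs p d) := by
          rw [← mul_assoc (c.tau hs p q), c.W_comm (mul_mem hW1 hW2) hW2]; group
        _ = _ := by rw [hT]
    have hzc : ¬ c.tau hs q d * z ∈ c.Tset := fun h => h.2.2
      (c.conj_mul_z_of_Tset hs hk.1 (by rw [hk.2.1]; exact fun h => hk.2.2 (Subtype.ext h)))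
    by_cases hxp : x' = p
    · rw [hxp, e] at hmem
      exact hzc hmem
    obtain ⟨hup, hux, huT⟩ := c.tau_same hs (fun e => hxp e.symm) hx'.symm
    set u := c.tau hs p x'
    rw [c.tau_mul_side hs (fun e => hxp e.symm) hx'.symm (Ne.symm hdp), ← mul_assoc, e, mul_assoc] at hmem
    -- the shared element would lie on the far line
    have hzu : z * u ∈ c.Ut := mul_mem c.z_mem_Ut' huT.2
    have hvk := c.adj_mem_Li hs hk hzu hmem
    rw [c.pv_mul c.z_mem_E huT.2.1, c.pv_z, zero_add] at hvk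
    obtain ⟨hq1, hd1⟩ := c.tau_spec hs (fun e => hdq (by rw [e]) : q ≠ d)
    obtain ⟨w, hw, hwo⟩ := c.exists_onPt hs q.2
    obtain ⟨y, hy, hyo⟩ := c.exists_onPt hs d.2
    have hvo := c.star_onPt hs p.2 hup
    exact c.isN_three_on_line hk.2.2 (c.pv_TU hs huT) hw hy hvk (c.inc_point hs hk hq1 hwo hw.2.1)
      (c.inc_point hs hk hd1 hyo hy.2.1) (c.ptS_ne hs hpq (c.pv_TU hs huT) hw hvo hwo)
      (c.ptS_ne hs (Ne.symm hdp) (c.pv_TU hs huT) hy hvo hyo) (c.ptS_ne hs (Ne.symm hdq) hw hy hwo hyo)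
  -- the neighbours with both points elsewhere
  haveI : Fintype c.Star := Fintype.ofFinite _
  let out : Finset c.Six := ((Finset.univ : Finset c.Star).image (c.ptS hs)).filter
    fun p => p ≠ c.ptS hs a ∧ p ≠ c.ptS hs b
  have hout : out.card ≤ 4 := by
    haveI : Fintype c.Six := Fintype.ofFinite _
    have hsub : out ⊆ ((Finset.univ : Finset c.Six).erase (c.ptS hs a)).erase (c.ptS hs b) := fun p hp => by
      simp only [out, Finset.mem_filter] at hp
      exact Finset.mem_erase.2 ⟨hp.2.2, Finset.mem_erase.2 ⟨hp.2.1, Finset.mem_univ _⟩⟩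
    refine (Finset.card_le_card hsub).trans ?_
    rw [Finset.card_erase_of_mem (Finset.mem_erase.2 ⟨Ne.symm hab, Finset.mem_univ _⟩),
      Finset.card_erase_of_mem (Finset.mem_univ _), Finset.card_univ, ← Nat.card_eq_fintype_card, c.card_Six]
  let far : Finset c.Six → Set G := fun s =>
    {x | x ∈ c.nbr t ∧ ∃ d d' : c.Star, c.tau hs d d' = x ∧ c.ptS hs d ≠ c.ptS hs d' ∧
      c.ptS hs d ∈ s ∧ c.ptS hs d' ∈ s}
  have hfar : ∀ s ∈ out.powersetCard 2, (far s).ncard ≤ 4 := by
    intro s hs'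
    obtain ⟨hso, hs2⟩ := Finset.mem_powersetCard.1 hs'
    by_cases he : (far s).Nonempty
    · obtain ⟨x, hxn, d0, d0', hd0, hdne, hds, hds'⟩ := he
      obtain ⟨j, hj⟩ := c.tau_diff hs hdne
      rw [hd0] at hj
      have hpts : ∀ d : c.Star, c.ptS hs d ∈ s → c.ptS hs d = c.ptS hs d0 ∨ c.ptS hs d = c.ptS hs d0' := by
        intro d hd
        have e : s = {c.ptS hs d0, c.ptS hs d0'} := (Finset.eq_of_subset_of_card_le
          (Finset.insert_subset_iff.2 ⟨hds, Finset.singleton_subset_iff.2 hds'⟩)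
          (by rw [hs2, Finset.card_pair hdne])).symm
        rw [e] at hd
        simpa using hd
      obtain ⟨v, hv, hvo⟩ := c.exists_onPt hs d0.2
      obtain ⟨w, hw, hwo⟩ := c.exists_onPt hs d0'.2
      have hvw := c.ptS_ne hs hdne hv hw hvo hwo
      have hd0ne : d0 ≠ d0' := fun e => hdne (by rw [e])
      obtain ⟨hx1, hx2⟩ := c.tau_spec hs hd0ne
      rw [hd0] at hx1 hx2
      have hvj := c.inc_point hs hj hx1 hvo hv.2.1
      have hwj := c.inc_point hs hj hx2 hwo hw.2.1
      -- all lie over one involution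
      have hline : ∀ y ∈ far s, c.Fib y j := by
        rintro y ⟨-, d, d', rfl, hne', hd, hd'⟩
        obtain ⟨j', hj'⟩ := c.tau_diff hs hne'
        obtain ⟨hy1, hy2⟩ := c.tau_spec hs (fun e => hne' (by rw [e]) : d ≠ d')
        have hon : ∀ q : c.Star, c.Inc (c.tau hs d d') q.1 → ∀ p : c.Star, c.ptS hs q = c.ptS hs p →
            ∀ u, c.IsN u → c.OnPt p.1 u → u ∈ c.Li j' := by
          intro q hq p hqp u hu hpu
          obtain ⟨r, hr, hrq, hrp⟩ := c.ptS_same hs hqp
          have hri := c.inc_point hs hj' hq hrq hr.2.1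
          exact c.Pt_subset (fun _ h => c.Li_om h) hri (c.onPt_unique hs p.2 hpu hu.2.1 hrp)
        have hvj' : v ∈ c.Li j' ∧ w ∈ c.Li j' := by
          rcases hpts d hd with e1 | e1 <;> rcases hpts d' hd' with e2 | e2
          · exact absurd (e1.trans e2.symm) hne'
          · exact ⟨hon d hy1 d0 e1 v hv hvo, hon d' hy2 d0' e2 w hw hwo⟩
          · exact ⟨hon d' hy2 d0 e2 v hv hvo, hon d hy1 d0' e1 w hw hwo⟩
          · exact absurd (e1.trans e2.symm) hne'
        obtain rfl := c.line_unique hj.2.2 hj'.2.2 hv hvw hvj hwj hvj'.1 hvj'.2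
        exact hj'
      -- that involution is not `i`
      have hij : i ≠ j := by
        intro e
        subst e
        obtain ⟨va, hva, hvao⟩ := c.exists_onPt hs a.2
        obtain ⟨vb, hvb, hvbo⟩ := c.exists_onPt hs b.2
        have h' := hso hds
        simp only [out, Finset.mem_filter] at h'
        rcases c.on_line hi.2.2 hva hvb (c.ptS_ne hs hab hva hvb hvao hvbo) (c.inc_point hs hi hta hvao hva.2.1)
          (c.inc_point hs hi htb hvbo hvb.2.1) hv hvj with h | h
        · refine h'.2.1 ?_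
          rw [c.ptS_eq hs hv hvo, c.ptS_eq hs hva hvao]
          exact Subtype.ext (c.Pt_eq h hv.2.1)
        · refine h'.2.2 ?_
          rw [c.ptS_eq hs hv hvo, c.ptS_eq hs hvb hvbo]
          exact Subtype.ext (c.Pt_eq h hv.2.1)
      have hk1 := c.mul_ne_one_I hij
      have hjk : j ≠ i * j := fun e => hi.2.2 (right_eq_mul.1 e)
      have hfib : ∀ y ∈ far s, c.Fib (t * y) (i * j) := fun y hy => ⟨hy.1.2, by
        rw [c.im_mul (c.W_le_H htW) (c.W_le_H (hline y hy).1.1), hi.2.1, (hline y hy).2.1, Subgroup.coe_mul], hk1⟩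
      have hxs : x ∈ far s := ⟨hxn, d0, d0', hd0, hdne, hds, hds'⟩
      have hmaps : ∀ y ∈ far s, c.pv (x * y) ∈ ((c.Li j ⊓ c.Li (i * j) : AddSubgroup c.Vs) : Set c.Vs) := by
        intro y hy
        refine ⟨(c.fib_same_mul hs hj (hline y hy)).2, ?_⟩
        have h := (c.fib_same_mul hs (hfib x hxs) (hfib y hy)).2
        rwa [show t * x * (t * y) = x * y by
          rw [c.W_comm htW hj.1.1, mul_assoc, ← mul_assoc t, c.W_sq htW, one_mul]] at h
      have hinj : Set.InjOn (fun y => c.pv (x * y)) (far s) := by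
        intro y hy y' hy' e
        rcases c.eq_or_mul_z (c.fib_same_mul hs hj (hline y hy)).1 (c.fib_same_mul hs hj (hline y' hy')).1 e with h | h
        · exact mul_left_cancel h
        · rw [mul_assoc] at h
          have h' := mul_left_cancel h
          have hc := c.conj_mul_z_of_Tset hs hy'.1.1
            (by rw [(hline y' hy').2.1]; exact fun h => hj.2.2 (Subtype.ext h))
          exact absurd (h' ▸ hc) hy.1.1.2.2
      refine (Set.ncard_le_ncard_of_injOn (fun y => c.pv (x * y)) hmaps hinj (Set.toFinite _)).trans (le_of_eq ?_)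
      rw [← Nat.card_coe_set_eq]
      exact c.card_Li_inf hj.2.2 hk1 hjk
    · rw [Set.not_nonempty_iff_eq_empty.1 he, Set.ncard_empty]
      norm_num
  -- the cover
  have hcover : c.nbr t ⊆ (a.1 ∪ b.1) ∪ (fun u => t * u) '' (a.1 ∪ b.1) ∪ ⋃ s ∈ out.powersetCard 2, far s := by
    rintro x ⟨hxT, hxt⟩
    obtain ⟨d, d', hne', rfl⟩ := c.exists_tau hs hxT
    by_cases hsame : c.ptS hs d = c.ptS hs d'
    · exact Or.inl (Or.inl (c.mem_starPair hs hab (c.tau_same hs hne' hsame).2.2.2 hxt hxT))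
    obtain ⟨j, hj⟩ := c.tau_diff hs hsame
    by_cases hji : j = i
    · subst hji
      obtain ⟨hU, -⟩ := c.fib_same_mul hs hi hj
      have e : t * (t * c.tau hs d d') = c.tau hs d d' := by rw [← mul_assoc, c.W_sq htW, one_mul]
      exact Or.inl (Or.inr ⟨_, c.mem_starPair hs hab hU (e.symm ▸ hxT) hxt, e⟩)
    -- the points of the pair avoid those of `t`
    have hna : ∀ p q : c.Star, c.ptS hs p ≠ c.ptS hs q → c.tau hs p q = c.tau hs d d' →
        c.ptS hs p ≠ c.ptS hs a ∧ c.ptS hs p ≠ c.ptS hs b := by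
      intro p q hpq hpqe
      have hboth : ∀ a' b' : c.Star, c.ptS hs a' ≠ c.ptS hs b' → c.tau hs a' b' = t → c.ptS hs p = c.ptS hs a' →
          False := by
        intro a' b' hab' ht' hp'
        by_cases hq' : c.ptS hs q = c.ptS hs b'
        · -- then the involutions agree
          refine hji ?_
          obtain ⟨va, hva, hpo, hao⟩ := c.ptS_same hs hp'
          obtain ⟨vb, hvb, hqo, hbo⟩ := c.ptS_same hs hq'
          obtain ⟨h1, h2⟩ := c.tau_spec hs (fun e => hpq (by rw [e]) : p ≠ q)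
          rw [hpqe] at h1 h2
          obtain ⟨h3, h4⟩ := c.tau_spec hs (fun e => hab' (by rw [e]) : a' ≠ b')
          rw [ht'] at h3 h4
          exact c.line_unique hj.2.2 hi.2.2 hva (c.ptS_ne hs hab' hva hvb hao hbo)
            (c.inc_point hs hj h1 hpo hva.2.1) (c.inc_point hs hj h2 hqo hvb.2.1)
            (c.inc_point hs hi h3 hao hva.2.1) (c.inc_point hs hi h4 hbo hvb.2.1)
        · exact hadjacent a' b' p q hab' ht' hp' (fun e => hpq (hp'.trans e.symm)) hq' (by rw [hpqe]; exact hxt)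
      exact ⟨fun e => hboth a b hab rfl e, fun e => hboth b a (Ne.symm hab) (c.tau_comm hs b a) e⟩
    refine Or.inr ?_
    simp only [Set.mem_iUnion]
    refine ⟨{c.ptS hs d, c.ptS hs d'}, Finset.mem_powersetCard.2 ⟨?_, Finset.card_pair hsame⟩,
      ⟨hxT, hxt⟩, d, d', rfl, hsame, by simp, by simp⟩
    have hd := hna d d' hsame rfl
    have hd' := hna d' d (Ne.symm hsame) (c.tau_comm hs d' d)
    intro p hp
    simp only [Finset.mem_insert, Finset.mem_singleton] at hp
    simp only [out, Finset.mem_filter, Finset.mem_image, Finset.mem_univ, true_and]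
    rcases hp with rfl | rfl
    · exact ⟨⟨d, rfl⟩, hd⟩
    · exact ⟨⟨d', rfl⟩, hd'⟩
  refine (Set.ncard_le_ncard hcover (Set.toFinite _)).trans ((Set.ncard_union_le _ _).trans ?_)
  have h6 : (a.1 ∪ b.1).ncard ≤ 6 :=
    (Set.ncard_union_le _ _).trans (Nat.add_le_add (c.card_star_le a.2) (c.card_star_le b.2))
  have h12 := (Set.ncard_union_le (a.1 ∪ b.1) ((fun u => t * u) '' (a.1 ∪ b.1))).trans
    (Nat.add_le_add h6 ((Set.ncard_image_le (Set.toFinite _)).trans h6))
  have h24 : (⋃ s ∈ out.powersetCard 2, far s).ncard ≤ 24 := by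
    refine (Finset.set_ncard_biUnion_le _ _).trans ((Finset.sum_le_card_nsmul _ _ 4 hfar).trans ?_)
    rw [Finset.card_powersetCard, smul_eq_mul]
    have := Nat.choose_le_choose 2 hout
    norm_num [Nat.choose] at this ⊢
    omega
  omega

/-- The products around triangles are `1`. -/
theorem tri_one (hs : c.Split) (hNI : 11520 ≤ Nat.card ↥(normalizer (I : Set A))) {a b d : c.Star}
    (hab : c.ptS hs a ≠ c.ptS hs b) (hbd : c.ptS hs b ≠ c.ptS hs d) (had : c.ptS hs a ≠ c.ptS hs d) :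
    c.tri hs a b d = 1 := by
  refine (c.tri_cases hs hab hbd had).resolve_right fun h => ?_
  have := c.nbr_small hs hab fun p q r hpq hqr hpr => (c.tri_const hs hNI hab hbd had hpq hqr hpr).trans h
  rw [c.ncard_nbr hs (c.tau_Tset hs fun e => hab (by rw [e]))] at this
  omega

/-- The rule of the triangle. -/
theorem tau_mul (hs : c.Split) (hNI : 11520 ≤ Nat.card ↥(normalizer (I : Set A))) (a b d : c.Star) :
    c.tau hs a b * c.tau hs b d = c.tau hs a d := by
  by_cases h1 : a = b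
  · rw [h1, c.tau_self, one_mul]
  by_cases h2 : b = d
  · rw [h2, c.tau_self, mul_one]
  by_cases h3 : a = d
  · rw [h3, c.tau_self, c.tau_comm hs b d, c.W_sq (c.tau_W hs d b)]
  by_cases h : c.ptS hs a = c.ptS hs b ∨ c.ptS hs b = c.ptS hs d ∨ c.ptS hs a = c.ptS hs d
  · exact c.tau_mul_of_same hs h1 h2 h3 h
  push Not at h
  have := c.tri_one hs hNI h.1 h.2.1 h.2.2
  rw [tri, mul_eq_one_iff_eq_inv] at this
  rw [this, inv_eq_of_mul_eq_one_right (c.W_sq (c.tau_W hs a d))]

/-- Adjacent elements share a star. -/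
theorem nbr_eq_pencil (hs : c.Split) (hNI : 11520 ≤ Nat.card ↥(normalizer (I : Set A))) {a b : c.Star}
    (hab : a ≠ b) : c.nbr (c.tau hs a b) = c.pencil hs a b := by
  refine (Set.eq_of_subset_of_ncard_le ?_ ?_ (Set.toFinite _)).symm
  · rintro x ⟨d, hda, hdb, rfl | rfl⟩
    · refine ⟨c.tau_Tset hs (Ne.symm hda), ?_⟩
      rw [c.tau_comm hs a b, c.tau_mul hs hNI]
      exact c.tau_Tset hs (Ne.symm hdb)
    · refine ⟨c.tau_Tset hs (Ne.symm hdb), ?_⟩
      rw [c.tau_mul hs hNI]
      exact c.tau_Tset hs (Ne.symm hda)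
  · rw [c.ncard_nbr hs (c.tau_Tset hs hab), c.card_pencil hs hab]

end CfsgLib.Spor.JFourType.Ctx
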