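import Cfsg.Agent.Lib.Spor.JFourType.StarLine
import Cfsg.Agent.Lib.Spor.JFourType.Orbit276

/-!
# Stars

A star is a triple of non-conjugates of `z` in `Ut` over one point, pairwise adjacent, with product `z`.
Two elements are adjacent when their product is a non-conjugate.
-/

set_option autoImplicit false
set_option linter.style.haveILetI false

namespace CfsgLib.Spor.JFourType.Ctx

open Subgroup

universe u

variable {G : Type u} [Group G] [Finite G] {A : Type} [Group A] {J I R : Subgroup A}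
  {z : G} {P : Subgroup G} (c : Ctx J I R z P)
include c

/-- The non-conjugates inside `Ut`. -/
def TU : Set G := {t | t ∈ c.Tset ∧ t ∈ c.Ut}

omit [Finite G] in
theorem mul_assoc' (x y w : G) : x * y * w = x * (y * w) := mul_assoc x y w

theorem W_self {a b : G} (ha : a ∈ c.W) : a * (a * b) = b := by rw [← mul_assoc, c.W_sq ha, one_mul]

theorem mul_z_z (x : G) : x * z * z = x := by rw [mul_assoc, c.zz, mul_one]

theorem TU_W {t : G} (ht : t ∈ c.TU) : t ∈ c.W := c.Ut_sub_W ht.2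

theorem pv_TU (hs : c.Split) {t : G} (ht : t ∈ c.TU) : c.IsN (c.pv t) := (c.Tset_Ut_iff hs ht.2).1 ht.1

theorem mem_TU (hs : c.Split) {t : G} (ht : t ∈ c.Ut) (h : c.IsN (c.pv t)) : t ∈ c.TU :=
  ⟨(c.Tset_Ut_iff hs ht).2 h, ht⟩

theorem pv_mul_z {t : G} (ht : t ∈ c.Ut) : c.pv (t * z) = c.pv t := by
  rw [c.pv_mul ht.1 c.z_mem_E, c.pv_z, add_zero]

theorem TU_mul_z (hs : c.Split) {t : G} (ht : t ∈ c.TU) : t * z ∈ c.TU :=
  c.mem_TU hs (mul_mem ht.2 c.z_mem_Ut') (by rw [c.pv_mul_z ht.2]; exact c.pv_TU hs ht)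

theorem eq_or_mul_z {t t' : G} (ht : t ∈ c.Ut) (ht' : t' ∈ c.Ut) (h : c.pv t = c.pv t') : t = t' ∨ t = t' * z := by
  rcases (c.pv_eq_iff ht.1 ht'.1).1 h with h | h
  · exact Or.inl h
  · exact Or.inr (h.trans (c.comm_z (c.E_le ht'.1)).symm)

theorem exists_TU (hs : c.Split) {v : c.Vs} (hv : c.IsN v) : ∃ t ∈ c.TU, c.pv t = v := by
  obtain ⟨t, ht, rfl⟩ := c.pv_surj v
  exact ⟨t, c.mem_TU hs ⟨ht, hv.1⟩ hv, rfl⟩

/-- Adjacency inside `Ut`. -/
theorem adj_TU (hs : c.Split) {t t' : G} (ht : t ∈ c.TU) (ht' : t' ∈ c.TU) :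
    t * t' ∈ c.Tset ↔ c.pv t' ∈ c.Pt (c.pv t) ∧ c.pv t' ≠ c.pv t := by
  rw [c.Tset_Ut_iff hs (mul_mem ht.2 ht'.2), c.pv_mul ht.2.1 ht'.2.1]
  constructor
  · intro h
    refine ⟨?_, fun e => h.2.1 (by rw [e, c.two_V])⟩
    by_contra hne
    exact c.isN_not_isE h (c.isN_add (c.pv_TU hs ht) (c.pv_TU hs ht') hne)
  · rintro ⟨h1, h2⟩
    exact c.isN_of_Pt (c.pv_TU hs ht) (c.Pt_add (c.mem_Pt_self _) h1) fun h => h2 (c.add_eq_zero_V h).symm

/-- A star. -/
def IsStar (S : Set G) : Prop := ∃ t t', t ∈ c.TU ∧ t' ∈ c.TU ∧ t * t' ∈ c.Tset ∧ S = {t, t', t * t' * z}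

/-- The star lies over the point of the vector. -/
def OnPt (S : Set G) (v : c.Vs) : Prop := ∀ s ∈ S, c.pv s ∈ c.Pt v

theorem star_third (hs : c.Split) {t t' : G} (ht : t ∈ c.TU) (ht' : t' ∈ c.TU) (h : t * t' ∈ c.Tset) :
    t * t' * z ∈ c.TU ∧ c.pv (t * t' * z) = c.pv t + c.pv t' ∧ t * (t * t' * z) ∈ c.Tset ∧
      t * (t * t' * z) * z = t' := by
  have hU := mul_mem ht.2 ht'.2
  have e : t * (t * t' * z) = t' * z := by rw [mul_assoc, c.W_self (c.TU_W ht)]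
  refine ⟨c.TU_mul_z hs ⟨h, hU⟩, by rw [c.pv_mul_z hU, c.pv_mul ht.2.1 ht'.2.1], ?_, ?_⟩
  · rw [e]; exact (c.TU_mul_z hs ht').1
  · rw [e, c.mul_z_z]

theorem adj_symm {t t' : G} (ht : t ∈ c.W) (ht' : t' ∈ c.W) (h : t * t' ∈ c.Tset) : t' * t ∈ c.Tset := by
  rwa [c.W_comm ht' ht]

theorem star_swap {t t' : G} (ht : t ∈ c.W) (ht' : t' ∈ c.W) :
    ({t', t, t' * t * z} : Set G) = {t, t', t * t' * z} := by
  rw [c.W_comm ht' ht]; exact Set.insert_comm _ _ _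

theorem star_rot (hs : c.Split) {t t' : G} (ht : t ∈ c.TU) (ht' : t' ∈ c.TU) (h : t * t' ∈ c.Tset) :
    ({t, t * t' * z, t * (t * t' * z) * z} : Set G) = {t, t', t * t' * z} := by
  rw [(c.star_third hs ht ht' h).2.2.2, Set.pair_comm]

/-- A star through one of its elements. -/
theorem star_through (hs : c.Split) {S : Set G} (hS : c.IsStar S) {t : G} (ht : t ∈ S) :
    ∃ t', t ∈ c.TU ∧ t' ∈ c.TU ∧ t * t' ∈ c.Tset ∧ S = {t, t', t * t' * z} := by
  obtain ⟨a, b, ha, hb, hab, rfl⟩ := hS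
  have hWa := c.TU_W ha
  have hWb := c.TU_W hb
  simp only [Set.mem_insert_iff, Set.mem_singleton_iff] at ht
  rcases ht with rfl | rfl | rfl
  · exact ⟨b, ha, hb, hab, rfl⟩
  · exact ⟨a, hb, ha, c.adj_symm hWa hWb hab, (c.star_swap hWa hWb).symm⟩
  · obtain ⟨h1, -, h2, h3⟩ := c.star_third hs ha hb hab
    refine ⟨a, h1, ha, c.adj_symm hWa (c.TU_W h1) h2, ?_⟩
    rw [c.star_swap hWa (c.TU_W h1), c.star_rot hs ha hb hab]

theorem star_sub_TU (hs : c.Split) {S : Set G} (hS : c.IsStar S) {t : G} (ht : t ∈ S) : t ∈ c.TU :=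
  (c.star_through hs hS ht).choose_spec.1

theorem star_nonempty {S : Set G} (hS : c.IsStar S) : ∃ t, t ∈ S := by
  obtain ⟨a, b, -, -, -, rfl⟩ := hS
  exact ⟨a, Set.mem_insert _ _⟩

theorem star_onPt (hs : c.Split) {S : Set G} (hS : c.IsStar S) {t : G} (ht : t ∈ S) : c.OnPt S (c.pv t) := by
  obtain ⟨t', h1, h2, h3, rfl⟩ := c.star_through hs hS ht
  intro s hs'
  simp only [Set.mem_insert_iff, Set.mem_singleton_iff] at hs'
  rcases hs' with rfl | rfl | rfl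
  · exact c.mem_Pt_self _
  · exact ((c.adj_TU hs h1 h2).1 h3).1
  · rw [(c.star_third hs h1 h2 h3).2.1]
    exact c.Pt_add (c.mem_Pt_self _) ((c.adj_TU hs h1 h2).1 h3).1

theorem star_pv_inj (hs : c.Split) {S : Set G} (hS : c.IsStar S) {s s' : G} (h : s ∈ S) (h' : s' ∈ S)
    (e : c.pv s = c.pv s') : s = s' := by
  obtain ⟨t', h1, h2, h3, rfl⟩ := c.star_through hs hS h
  simp only [Set.mem_insert_iff, Set.mem_singleton_iff] at h'
  rcases h' with rfl | rfl | rfl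
  · rfl
  · exact absurd e.symm ((c.adj_TU hs h1 h2).1 h3).2
  · rw [(c.star_third hs h1 h2 h3).2.1, left_eq_add] at e
    exact absurd e (c.pv_TU hs h2).2.1

theorem star_adj (hs : c.Split) {S : Set G} (hS : c.IsStar S) {s s' : G} (h : s ∈ S) (h' : s' ∈ S)
    (hne : s ≠ s') : s * s' ∈ c.Tset :=
  (c.adj_TU hs (c.star_sub_TU hs hS h) (c.star_sub_TU hs hS h')).2
    ⟨c.star_onPt hs hS h s' h', fun e => hne (c.star_pv_inj hs hS h' h e).symm⟩

/-- Two elements determine the star. -/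
theorem star_eq_of_two (hs : c.Split) {S : Set G} (hS : c.IsStar S) {s s' : G} (h : s ∈ S) (h' : s' ∈ S)
    (hne : s ≠ s') : S = {s, s', s * s' * z} := by
  obtain ⟨t', h1, h2, h3, rfl⟩ := c.star_through hs hS h
  simp only [Set.mem_insert_iff, Set.mem_singleton_iff] at h'
  rcases h' with rfl | rfl | rfl
  · exact absurd rfl hne
  · rfl
  · exact (c.star_rot hs h1 h2 h3).symm

theorem star_ext (hs : c.Split) {S S' : Set G} (hS : c.IsStar S) (hS' : c.IsStar S') {s s' : G} (h : s ∈ S)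
    (h' : s' ∈ S) (k : s ∈ S') (k' : s' ∈ S') (hne : s ≠ s') : S = S' :=
  (c.star_eq_of_two hs hS h h' hne).trans (c.star_eq_of_two hs hS' k k' hne).symm

theorem star_cover (hs : c.Split) {S : Set G} (hS : c.IsStar S) {v : c.Vs} (hv : c.OnPt S v) {w : c.Vs}
    (hw : w ∈ c.Pt v) (hw0 : w ≠ 0) : ∃ s ∈ S, c.pv s = w := by
  have hsub : c.pv '' S ⊆ c.Pt v \ {0} := by
    rintro _ ⟨s, hs', rfl⟩
    exact ⟨hv s hs', (c.pv_TU hs (c.star_sub_TU hs hS hs')).2.1⟩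
  have heq : c.pv '' S = c.Pt v \ {0} := by
    refine Set.eq_of_subset_of_ncard_le hsub ?_ (Set.toFinite _)
    rw [Set.InjOn.ncard_image fun a ha b hb e => c.star_pv_inj hs hS ha hb e]
    obtain ⟨t, ht⟩ := c.star_nonempty hS
    obtain ⟨t', h1, h2, h3, hSe⟩ := c.star_through hs hS ht
    obtain ⟨-, e3, -, -⟩ := c.star_third hs h1 h2 h3
    have hne := ((c.adj_TU hs h1 h2).1 h3).2
    have hv0 : c.pv t ∈ c.Pt v := hv t ht
    rw [← c.Pt_eq hv0 (c.pv_TU hs h1).2.1, Set.ncard_sdiff_singleton_of_mem (c.zero_mem_Pt _),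
      c.ncard_Pt (c.pv_TU hs h1).2.1, hSe,
      Set.ncard_insert_of_notMem _ (Set.toFinite _), Set.ncard_pair]
    · intro e
      have h := congrArg c.pv e
      rw [e3, right_eq_add] at h
      exact (c.pv_TU hs h1).2.1 h
    · simp only [Set.mem_insert_iff, Set.mem_singleton_iff]
      rintro (e | e)
      · exact hne (congrArg c.pv e).symm
      · have h := congrArg c.pv e
        rw [e3, left_eq_add] at h
        exact (c.pv_TU hs h2).2.1 h
  obtain ⟨s, hs', e⟩ := heq.ge (show w ∈ c.Pt v \ {0} from ⟨hw, hw0⟩)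
  exact ⟨s, hs', e⟩

/-- A point of the star. -/
theorem exists_onPt (hs : c.Split) {S : Set G} (hS : c.IsStar S) : ∃ v, c.IsN v ∧ c.OnPt S v := by
  obtain ⟨t, ht⟩ := c.star_nonempty hS
  exact ⟨_, c.pv_TU hs (c.star_sub_TU hs hS ht), c.star_onPt hs hS ht⟩

/-- Two stars over one point share an element. -/
theorem stars_meet (hs : c.Split) {S S' : Set G} (hS : c.IsStar S) (hS' : c.IsStar S') {v : c.Vs}
    (hv : c.OnPt S v) (hv' : c.OnPt S' v) : ∃ s ∈ S, s ∈ S' := by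
  by_contra h
  push Not at h
  obtain ⟨t, ht⟩ := c.star_nonempty hS
  obtain ⟨t', h1, h2, h3, rfl⟩ := c.star_through hs hS ht
  obtain ⟨hu, e3, -, -⟩ := c.star_third hs h1 h2 h3
  have key : ∀ s ∈ ({t, t', t * t' * z} : Set G), s * z ∈ S' := by
    intro s hs'
    have hT := c.star_sub_TU hs hS hs'
    obtain ⟨s', hs'', e⟩ := c.star_cover hs hS' hv' (hv s hs') (c.pv_TU hs hT).2.1
    rcases c.eq_or_mul_z (c.star_sub_TU hs hS' hs'').2 hT.2 e with rfl | rfl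
    · exact absurd hs'' (h _ hs')
    · exact hs''
  have ka := key t (by simp)
  have kb := key t' (by simp)
  have hne : t * z ≠ t' * z := fun e => ((c.adj_TU hs h1 h2).1 h3).2 (by rw [mul_right_cancel e])
  have e := c.star_eq_of_two hs hS' ka kb hne
  refine h (t * t' * z) (by simp) (e.ge ?_)
  have : t * z * (t' * z) = t * t' := by
    rw [mul_assoc, ← mul_assoc z, ← c.comm_z (c.E_le h2.2.1), c.mul_z_z]
  simp [this]

/-- Exactly two stars through an element of `TU`. -/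
theorem stars_through (hs : c.Split) {t : G} (ht : t ∈ c.TU) :
    ∃ a b, a ≠ b ∧ c.IsStar a ∧ c.IsStar b ∧ t ∈ a ∧ t ∈ b ∧ ∀ S, c.IsStar S → t ∈ S → S = a ∨ S = b := by
  have hN := c.pv_TU hs ht
  obtain ⟨u, hu, hue⟩ := c.exists_TU hs (c.isN_om hN)
  have hne : c.om (c.pv t) ≠ c.pv t := fun e => hN.2.1 (c.om_fixed e)
  have hadj : t * u ∈ c.Tset := (c.adj_TU hs ht hu).2 ⟨hue ▸ c.om_mem_Pt (c.mem_Pt_self _), hue ▸ hne⟩
  have hu' := c.TU_mul_z hs hu
  have hue' : c.pv (u * z) = c.om (c.pv t) := by rw [c.pv_mul_z hu.2, hue]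
  have hadj' : t * (u * z) ∈ c.Tset := (c.adj_TU hs ht hu').2 ⟨hue' ▸ c.om_mem_Pt (c.mem_Pt_self _), hue' ▸ hne⟩
  have hA : c.IsStar {t, u, t * u * z} := ⟨t, u, ht, hu, hadj, rfl⟩
  have hB : c.IsStar {t, u * z, t * (u * z) * z} := ⟨t, u * z, ht, hu', hadj', rfl⟩
  refine ⟨_, _, fun e => ?_, hA, hB, by simp, by simp, fun S hS hmem => ?_⟩
  · have h1 : u * z ∈ ({t, u, t * u * z} : Set G) := e ▸ by simp
    exact c.z_ne (mul_eq_left.1 (c.star_pv_inj hs hA h1 (by simp) (hue'.trans hue.symm)))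
  · have htu : t ≠ u := fun e => hne (by subst e; exact hue.symm)
    have htu' : t ≠ u * z := fun e => hne (by rw [← hue', ← e])
    obtain ⟨s, hs', e⟩ := c.star_cover hs hS (c.star_onPt hs hS hmem) (c.om_mem_Pt (c.mem_Pt_self _))
      (c.om_ne_zero hN.2.1)
    rcases c.eq_or_mul_z (c.star_sub_TU hs hS hs').2 hu.2 (e.trans hue.symm) with rfl | rfl
    · exact Or.inl (c.star_eq_of_two hs hS hmem hs' htu)
    · exact Or.inr (c.star_eq_of_two hs hS hmem hs' htu')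

end CfsgLib.Spor.JFourType.Ctx
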