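import Cfsg.Agent.Lib.Spor.JFourType.SplitUse

/-!
# Points and lines of the frame

Two points of the first kind span a line; the three lines of three such points multiply to one; the form
`B(q, v)` for `q` displaced to `w` separates the two points of a line and is alternating nonzero on each.
-/

set_option autoImplicit false
set_option linter.style.haveILetI false

namespace CfsgLib.Spor.JFourType.Ctx

open Subgroup

universe u

variable {G : Type u} [Group G] [Finite G] {A : Type} [Group A] {J I R : Subgroup A}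
  {z : G} {P : Subgroup G} (c : Ctx J I R z P)
include c

theorem mem_Pt_self (v : c.Vs) : v ∈ c.Pt v := by simp [Pt]

theorem zero_mem_Pt (v : c.Vs) : (0 : c.Vs) ∈ c.Pt v := by simp [Pt]

theorem om_mem_Pt {v w : c.Vs} (hw : w ∈ c.Pt v) : c.om w ∈ c.Pt v := by
  simp only [Pt, Set.mem_insert_iff, Set.mem_singleton_iff] at hw ⊢
  rcases hw with rfl | rfl | rfl | rfl <;> simp [c.om_cube]

theorem Pt_add {v p q : c.Vs} (hp : p ∈ c.Pt v) (hq : q ∈ c.Pt v) : p + q ∈ c.Pt v := by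
  have e1 : v + c.om v = c.om (c.om v) := (c.om_two v).symm
  have e2 : v + c.om (c.om v) = c.om v := by rw [← e1, ← add_assoc, c.two_V, zero_add]
  have e3 : c.om v + c.om (c.om v) = v := by rw [← e1, add_comm v, ← add_assoc, c.two_V, zero_add]
  simp only [Pt, Set.mem_insert_iff, Set.mem_singleton_iff] at hp hq ⊢
  rcases hp with h | h | h | h <;> rcases hq with k | k | k | k <;> rw [h, k] <;>
    simp [c.two_V, e1, e2, e3, (add_comm (c.om v) v).trans e1, (add_comm (c.om (c.om v)) v).trans e2,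
      (add_comm (c.om (c.om v)) (c.om v)).trans e3]

theorem Pt_symm {v w : c.Vs} (hw : w ∈ c.Pt v) (hw0 : w ≠ 0) : v ∈ c.Pt w := by
  rw [c.Pt_eq hw hw0]; exact c.mem_Pt_self v

theorem Pt_disjoint {v w x : c.Vs} (hne : w ∉ c.Pt v) (hxv : x ∈ c.Pt v) (hxw : x ∈ c.Pt w) : x = 0 := by
  by_contra hx
  exact hne (by rw [← c.Pt_eq hxv hx, c.Pt_eq hxw hx]; exact c.mem_Pt_self w)

theorem ne_Pt_symm {v w : c.Vs} (hv : c.IsN v) (hne : w ∉ c.Pt v) : v ∉ c.Pt w := fun h =>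
  hne (c.Pt_symm h hv.2.1)

/-- Two points lie on only one line. -/
theorem line_unique {i j : ↥I} (hi : i ≠ 1) (hj : j ≠ 1) {v w : c.Vs} (hv : c.IsN v) (hne : w ∉ c.Pt v)
    (hvi : v ∈ c.Li i) (hwi : w ∈ c.Li i) (hvj : v ∈ c.Li j) (hwj : w ∈ c.Li j) : i = j := by
  by_contra h
  exact hne (c.mem_Pt_of_lines hi hj h hvi hvj hv.2.1 hwi hwj)

/-- A vector on five lines in a line is in one of its two points. -/
theorem on_line {i : ↥I} (hi : i ≠ 1) {v w x : c.Vs} (hv : c.IsN v) (hw : c.IsN w) (hne : w ∉ c.Pt v)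
    (hvi : v ∈ c.Li i) (hwi : w ∈ c.Li i) (hx : c.IsN x) (hxi : x ∈ c.Li i) : x ∈ c.Pt v ∨ x ∈ c.Pt w := by
  by_contra h
  rw [not_or] at h
  exact c.isN_three_on_line hi hv hw hx hvi hwi hxi hne h.1 h.2

/-- A line has a second point. -/
theorem exists_other {i : ↥I} (hi : i ≠ 1) {v : c.Vs} (hv : c.IsN v) :
    ∃ w, c.IsN w ∧ w ∈ c.Li i ∧ w ∉ c.Pt v := by
  have hne : ({x | x ∈ c.Li i ∧ x ≠ 0 ∧ ¬ c.Iso i x} \ (c.Pt v \ {0})).Nonempty := by
    apply Set.nonempty_of_ncard_ne_zero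
    have h := Set.le_ncard_sdiff (c.Pt v \ {0}) {x | x ∈ c.Li i ∧ x ≠ 0 ∧ ¬ c.Iso i x} (Set.toFinite _)
    rw [(c.line_profile hi).2, Set.ncard_sdiff_singleton_of_mem (c.zero_mem_Pt v), c.ncard_Pt hv.2.1] at h
    omega
  obtain ⟨w, ⟨hwi, hw0, hwiso⟩, hwv⟩ := hne
  exact ⟨w, (c.isN_iff hi hwi hw0).2 hwiso, hwi, fun h => hwv ⟨h, hw0⟩⟩

/-- The product of two lines through a point passes through their other points. -/
theorem mul_line_left {i j : ↥I} (hi : i ≠ 1) (hj : j ≠ 1) (hij : i ≠ j) {u v : c.Vs} (hu : c.IsN u) (hv : c.IsN v)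
    (hne : v ∉ c.Pt u) (hui : u ∈ c.Li i) (hvi : v ∈ c.Li i) (hvj : v ∈ c.Li j) : u ∈ c.Li (i * j) := by
  have ha : i * j ≠ 1 := c.mul_ne_one_I hij
  have hia : i ≠ i * j := fun e => hj (by rw [← c.mul_mul_cancel_I i j, ← e, c.mul_self_I])
  have hva := c.isN_no_triple hv hi hj hij hvi hvj
  obtain ⟨x, hx, hx0⟩ : ∃ x ∈ c.Li i ⊓ c.Li (i * j), x ≠ 0 := by
    by_contra h
    push Not at h
    have hc := c.card_Li_inf hi ha hia
    rw [(AddSubgroup.eq_bot_iff_forall _).2 h, AddSubgroup.card_bot] at hc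
    omega
  have hxN : c.IsN x := by
    rw [c.isN_iff hi hx.1 hx0]
    intro hiso
    have hxj : x ∈ c.Li j := by
      have := (c.iso_closed hi ha hia hx.1 hx.2 hx0).2.1 hiso
      rwa [c.mul_mul_cancel_I] at this
    exact (c.isN_iff hi hx.1 hx0).1 (c.isN_of_Pt hv (c.mem_Pt_of_lines hi hj hij hvi hvj hv.2.1 hx.1 hxj) hx0) hiso
  rcases c.on_line hi hu hv hne hui hvi hxN hx.1 with h | h
  · exact (c.Pt_mem_of (fun _ hy => c.Li_om hy) h hx0).1 hx.2
  · exact absurd ((c.Pt_mem_of (fun _ hy => c.Li_om hy) h hx0).1 hx.2) hva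

/-- The three lines of three points multiply to one. -/
theorem triangle_line {i j h : ↥I} (hi : i ≠ 1) (hj : j ≠ 1) (hh : h ≠ 1) {u v w : c.Vs} (hu : c.IsN u)
    (hv : c.IsN v) (hw : c.IsN w) (huv : v ∉ c.Pt u) (hvw : w ∉ c.Pt v) (huw : w ∉ c.Pt u)
    (hui : u ∈ c.Li i) (hvi : v ∈ c.Li i) (hvj : v ∈ c.Li j) (hwj : w ∈ c.Li j) (huh : u ∈ c.Li h)
    (hwh : w ∈ c.Li h) : i ≠ j ∧ i * j = h := by
  have hij : i ≠ j := fun e => by
    subst e
    exact c.isN_three_on_line hi hu hv hw hui hvi hwj huv huw hvw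
  refine ⟨hij, ?_⟩
  have h1 := c.mul_line_left hi hj hij hu hv huv hui hvi hvj
  have h2 := c.mul_line_left hj hi (Ne.symm hij) hw hv (c.ne_Pt_symm hv hvw) hwj hvj hvi
  rw [c.comm_I j i] at h2
  exact c.line_unique (c.mul_ne_one_I hij) hh hu huw h1 h2 huh hwh

/-- Displacing is selfadjoint. -/
theorem D_adjoint (i : ↥I) (p q : c.Vs) : c.Bf (c.D i p) q = c.Bf p (c.D i q) := by
  rw [c.D_apply, c.D_apply]; exact c.adjoint_disp (c.lv_mem i) p q

theorem D_orth (i : ↥I) (p : c.Vs) : c.Bf p (c.D i p) = 0 := by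
  rw [c.Bf_symm, c.D_apply]; exact c.disp_perp (c.lv_mem i) p

theorem Bf_ne_zero {p q : c.Vs} (h : c.Bf p q ≠ 0) : c.Bf p q = 1 := by
  revert h; generalize c.Bf p q = t; revert t; decide

/-- The form on one point. -/
theorem beta_point {i : ↥I} (hi : i ≠ 1) {v q : c.Vs} (hv : c.IsN v) (hvi : v ∈ c.Li i) (hq : c.D i q = v) :
    c.Bf q (c.om v) = 1 ∧ c.Bf q (c.om (c.om v)) = 1 := by
  have h1 : c.Bf q (c.om v) = 1 := by
    refine c.Bf_ne_zero fun h => (c.isN_iff hi hvi hv.2.1).1 hv ((c.iso_iff hvi hq).2 h)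
  refine ⟨h1, ?_⟩
  rw [c.om_two, c.Bf_add_right, h1, show c.Bf q v = 0 from hq ▸ c.D_orth i q, zero_add]

/-- The two points of a line are orthogonal. -/
theorem beta_cross {i : ↥I} (hi : i ≠ 1) {v w q : c.Vs} (hv : c.IsN v) (hw : c.IsN w) (hne : w ∉ c.Pt v)
    (hvi : v ∈ c.Li i) (hwi : w ∈ c.Li i) (hq : c.D i q = w) : c.Bf q v = 0 := by
  obtain ⟨p, hp⟩ := c.D_surj hi hvi
  have hE := c.isN_add hv hw hne
  have hm := add_mem hvi hwi
  have hiso := (c.isE_iff hi hm hE.2.1).1 hE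
  rw [c.iso_iff hm (show c.D i (p + q) = v + w by rw [map_add, hp, hq]), map_add, c.Bf_add_left, c.Bf_add_right,
    c.Bf_add_right, (c.beta_point hi hv hvi hp).1, (c.beta_point hi hw hwi hq).1] at hiso
  have hcross : c.Bf p (c.om w) = c.Bf q (c.om (c.om v)) := by
    rw [← hq, ← c.D_om, ← c.D_adjoint, hp, c.Bf_symm v]
    calc c.Bf (c.om q) v = c.Bf (c.om q) (c.om (c.om (c.om v))) := by rw [c.om_cube]
      _ = _ := by rw [om, c.Bf_act c.pg_H]
  rw [hcross, c.om_two, c.Bf_add_right] at hiso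
  revert hiso
  generalize c.Bf q v = a; generalize c.Bf q (c.om v) = b
  revert a b; decide

theorem beta_cross_Pt {i : ↥I} (hi : i ≠ 1) {v w q x : c.Vs} (hv : c.IsN v) (hw : c.IsN w) (hne : w ∉ c.Pt v)
    (hvi : v ∈ c.Li i) (hwi : w ∈ c.Li i) (hq : c.D i q = w) (hx : x ∈ c.Pt v) : c.Bf q x = 0 := by
  by_cases hx0 : x = 0
  · rw [hx0, c.Bf_zero_right]
  · exact c.beta_cross hi (c.isN_of_Pt hv hx hx0) hw (by rw [c.Pt_eq hx hx0]; exact hne)
      (c.Pt_subset (fun _ h => c.Li_om h) hvi hx) hwi hq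

/-- A line is the sum of its two points. -/
theorem line_sum {i : ↥I} (hi : i ≠ 1) {v w : c.Vs} (hv : c.IsN v) (hw : c.IsN w) (hne : w ∉ c.Pt v)
    (hvi : v ∈ c.Li i) (hwi : w ∈ c.Li i) {x : c.Vs} (hx : x ∈ c.Li i) :
    ∃ p ∈ c.Pt v, ∃ q ∈ c.Pt w, x = p + q := by
  have hs : (fun pq : c.Vs × c.Vs => pq.1 + pq.2) '' (c.Pt v ×ˢ c.Pt w) = (c.Li i : Set c.Vs) := by
    refine Set.eq_of_subset_of_ncard_le ?_ ?_ (Set.toFinite _)
    · rintro _ ⟨⟨p, q⟩, ⟨hp, hq⟩, rfl⟩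
      exact add_mem (c.Pt_subset (fun _ h => c.Li_om h) hvi hp) (c.Pt_subset (fun _ h => c.Li_om h) hwi hq)
    · rw [Set.InjOn.ncard_image, Set.ncard_prod, c.ncard_Pt hv.2.1, c.ncard_Pt hw.2.1]
      · exact le_of_eq ((Nat.card_coe_set_eq _).symm.trans (c.card_Li hi))
      · rintro ⟨p, q⟩ ⟨hp, hq⟩ ⟨p', q'⟩ ⟨hp', hq'⟩ (h : p + q = p' + q')
        have e : p + p' = q + q' := by
          refine c.add_eq_zero_V ?_
          rw [show p + p' + (q + q') = (p + q) + (p' + q') by abel, h, c.two_V]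
        have h0 := c.Pt_disjoint hne (c.Pt_add hp hp') (e.symm ▸ c.Pt_add hq hq')
        exact Prod.ext (c.add_eq_zero_V h0) (c.add_eq_zero_V (e.symm.trans h0))
  obtain ⟨⟨p, q⟩, ⟨hp, hq⟩, e⟩ := hs.ge hx
  exact ⟨p, hp, q, hq, e.symm⟩

/-- A displacement orthogonal to one point lies in the other. -/
theorem D_mem_Pt {i : ↥I} (hi : i ≠ 1) {v w q : c.Vs} (hv : c.IsN v) (hw : c.IsN w) (hne : w ∉ c.Pt v)
    (hvi : v ∈ c.Li i) (hwi : w ∈ c.Li i) (horth : ∀ x ∈ c.Pt v, c.Bf q x = 0) : c.D i q ∈ c.Pt w := by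
  obtain ⟨p, hp, p', hp', e⟩ := c.line_sum hi hv hw hne hvi hwi (c.D_mem i q)
  rw [e]
  by_cases hp0 : p = 0
  · rwa [hp0, zero_add]
  exfalso
  have hpN := c.isN_of_Pt hv hp hp0
  have hpi := c.Pt_subset (fun _ h => c.Li_om h) hvi hp
  have hp'i := c.Pt_subset (fun _ h => c.Li_om h) hwi hp'
  obtain ⟨a, ha⟩ := c.D_surj hi hpi
  obtain ⟨b, hb⟩ := c.D_surj hi hp'i
  have hk : q + (a + b) ∈ c.Fx i := c.D_eq_zero.1 (by rw [map_add, map_add, ha, hb, e, c.two_V])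
  have h := c.mem_perp.1 (c.Li_om hpi) _ hk
  rw [c.Bf_add_left, c.Bf_add_left, horth _ (c.om_mem_Pt hp), (c.beta_point hi hpN hpi ha).1] at h
  by_cases hp'0 : p' = 0
  · have hbF : b ∈ c.Fx i := c.D_eq_zero.1 (hb.trans hp'0)
    rw [c.mem_perp.1 (c.Li_om hpi) b hbF] at h
    exact absurd h (by decide)
  · have hne' : p' ∉ c.Pt p := by
      rw [c.Pt_eq hp hp0]
      exact fun h' => hp'0 (c.Pt_disjoint hne h' hp')
    rw [c.beta_cross_Pt hi hpN (c.isN_of_Pt hw hp' hp'0) hne' hpi hp'i hb (c.om_mem_Pt (c.mem_Pt_self p))] at h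
    exact absurd h (by decide)

end CfsgLib.Spor.JFourType.Ctx
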