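import Cfsg.Agent.Lib.Spor.JFourType.StarTau

/-!
# The action of the normalizer on the stars

The normalizer in `H` moves stars to stars and respects incidence; over every point there is a star fixed by `pg`;
so the product around a triangle over three points is `1` or `z`, the same for all of them; every pair of stars
gives each non-conjugate once, so there are 24 stars.
-/

set_option autoImplicit false
set_option linter.style.haveILetI false

namespace CfsgLib.Spor.JFourType.Ctx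

open Subgroup

universe u

variable {G : Type u} [Group G] [Finite G] {A : Type} [Group A] {J I R : Subgroup A}
  {z : G} {P : Subgroup G} (c : Ctx J I R z P)
include c

theorem conj_TU_H {h t : G} (hh : h ∈ c.H) (hn : h ∈ normalizer (c.W : Set G)) (ht : t ∈ c.TU) :
    h * t * h⁻¹ ∈ c.TU := ⟨c.conj_Tset hn ht.1, c.conj_Ut hh hn ht.2⟩

theorem conj_isStar_H {h : G} (hh : h ∈ c.H) (hn : h ∈ normalizer (c.W : Set G)) {S : Set G} (hS : c.IsStar S) :
    c.IsStar (c.conjSet h S) := by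
  obtain ⟨t, t', h1, h2, h3, rfl⟩ := hS
  refine ⟨h * t * h⁻¹, h * t' * h⁻¹, c.conj_TU_H hh hn h1, c.conj_TU_H hh hn h2,
    by rw [conj_mul]; exact c.conj_Tset hn h3, ?_⟩
  have hz : h * (t * t' * z) * h⁻¹ = h * (t * t') * h⁻¹ * z := by
    rw [← conj_mul, c.mem_H_iff_fix.1 hh]
  rw [conjSet, Set.image_insert_eq, Set.image_insert_eq, Set.image_singleton, hz, ← conj_mul]

theorem conj_inc_H {h : G} (hh : h ∈ c.H) (hn : h ∈ normalizer (c.W : Set G)) {t : G} {S : Set G}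
    (hi : c.Inc t S) : c.Inc (h * t * h⁻¹) (c.conjSet h S) := by
  refine ⟨c.conj_isStar_H hh hn hi.1, ?_⟩
  rcases hi.2 with h2 | ⟨h2, h3, h4⟩
  · exact Or.inl ⟨t, h2, rfl⟩
  · refine Or.inr ⟨c.conj_Tset hn h2, fun hU => h3 ?_, ?_⟩
    · have := c.conj_Ut (inv_mem hh) (inv_mem hn) hU
      rwa [show h⁻¹ * (h * t * h⁻¹) * h⁻¹⁻¹ = t by group] at this
    · rintro _ ⟨s, hs', rfl⟩
      rw [conj_mul]
      exact c.conj_Tset hn (h4 s hs')

theorem conj_onPt_H (hs : c.Split) {h : G} (hh : h ∈ c.H) {S : Set G} (hS : c.IsStar S) {v : c.Vs}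
    (hv : c.OnPt S v) : c.OnPt (c.conjSet h S) (c.act h v) := by
  rintro _ ⟨s, hs', rfl⟩
  rw [c.pv_conj hh (c.star_sub_TU hs hS hs').2.1, ← c.act_Pt hh]
  exact ⟨_, hv s hs', rfl⟩

/-- The image of a star. -/
def starMap {h : G} (hh : h ∈ c.H) (hn : h ∈ normalizer (c.W : Set G)) (a : c.Star) : c.Star :=
  ⟨c.conjSet h a.1, c.conj_isStar_H hh hn a.2⟩

theorem starMap_injective {h : G} (hh : h ∈ c.H) (hn : h ∈ normalizer (c.W : Set G)) :
    Function.Injective (c.starMap hh hn) := fun a b e => by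
  refine Subtype.ext ?_
  have e' : (fun s => h * s * h⁻¹) '' a.1 = (fun s => h * s * h⁻¹) '' b.1 := congrArg Subtype.val e
  exact Set.image_injective.2 (fun p q hpq => mul_left_cancel (mul_right_cancel hpq)) e'

theorem tau_starMap (hs : c.Split) {h : G} (hh : h ∈ c.H) (hn : h ∈ normalizer (c.W : Set G)) (a b : c.Star) :
    c.tau hs (c.starMap hh hn a) (c.starMap hh hn b) = h * c.tau hs a b * h⁻¹ := by
  by_cases e : a = b
  · rw [e, c.tau_self, c.tau_self, mul_one, mul_inv_cancel]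
  · exact c.tau_eq hs (fun e' => e (c.starMap_injective hh hn e')) (c.conj_inc_H hh hn (c.tau_spec hs e).1)
      (c.conj_inc_H hh hn (c.tau_spec hs e).2)

theorem tri_starMap (hs : c.Split) {h : G} (hh : h ∈ c.H) (hn : h ∈ normalizer (c.W : Set G)) (a b d : c.Star) :
    c.tri hs (c.starMap hh hn a) (c.starMap hh hn b) (c.starMap hh hn d) = h * c.tri hs a b d * h⁻¹ := by
  rw [tri, tri, c.tau_starMap hs hh hn, c.tau_starMap hs hh hn, c.tau_starMap hs hh hn, conj_mul, conj_mul]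

theorem ptS_starMap (hs : c.Split) {h : G} (hh : h ∈ c.H) (hn : h ∈ normalizer (c.W : Set G)) (a : c.Star) :
    (c.ptS hs (c.starMap hh hn a)).1 = c.act h '' (c.ptS hs a).1 := by
  obtain ⟨v, hv, hvo⟩ := c.exists_onPt hs a.2
  rw [c.ptS_eq hs (c.isN_act_H hs hh hn hv) (c.conj_onPt_H hs hh a.2 hvo), c.ptS_eq hs hv hvo]
  exact (c.act_Pt hh v).symm

theorem pg_normW : c.pg ∈ normalizer (c.W : Set G) :=
  c.normW_of_im c.pg_H (by rw [c.im_eq c.pg_H, c.pr_P c.pg_mem]; exact one_mem _)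

/-- Over every involution a non-conjugate is fixed by `pg`. -/
theorem exists_fib_fixed (hs : c.Split) {i : ↥I} (hi : i ≠ 1) :
    ∃ n, c.Fib n i ∧ c.pg * n * c.pg⁻¹ = n := by
  have hl : c.pg * c.lv i * c.pg⁻¹ = c.lv i := by
    rw [mul_inv_eq_iff_eq_mul, c.comm_P (c.L0_le (c.lv_mem i)) c.pg_mem]
  have hne : c.im (c.lv i) ≠ 1 := by rw [c.im_lv]; exact fun h => hi (Subtype.ext h)
  have h1 : ∀ y : G, c.im y = i → y ≠ 1 := fun y hy e => hi (Subtype.ext (by rw [← hy, e, c.im_one]; rfl))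
  by_cases hc : IsConj z (c.lv i)
  · have him : c.im (c.lv i * z) = i := by rw [c.im_mul (c.lv_H i) c.z_mem_H, c.im_E c.z_mem_E, mul_one, c.im_lv]
    refine ⟨c.lv i * z, ⟨⟨mul_mem (c.lv_mem_W' i) c.z_mem_W', h1 _ him,
      (hs.L0_single _ (c.lv_mem i) hne).1 hc⟩, him, hi⟩, ?_⟩
    rw [← conj_mul, hl, c.mem_H_iff_fix.1 c.pg_H]
  · exact ⟨c.lv i, ⟨⟨c.lv_mem_W' i, h1 _ (c.im_lv i), hc⟩, c.im_lv i, hi⟩, hl⟩

/-- Over every point a star is fixed by `pg`. -/
theorem exists_star_fixed (hs : c.Split) (p : c.Six) :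
    ∃ a : c.Star, c.ptS hs a = p ∧ c.starMap c.pg_H c.pg_normW a = a := by
  obtain ⟨v, hv, hp⟩ := p.2
  obtain ⟨i, hi, hvi⟩ := c.isN_line hv
  obtain ⟨n, hn, hnf⟩ := c.exists_fib_fixed hs hi
  obtain ⟨hS, hon⟩ := c.starOf_isStar hs hn hv hvi
  refine ⟨⟨c.starOf n v, hS⟩, (c.ptS_eq hs hv hon).trans (Subtype.ext hp), Subtype.ext ?_⟩
  have h := c.conj_inc_H c.pg_H c.pg_normW (c.inc_starOf hs hn hv hvi)
  rw [hnf] at h
  refine c.inc_eq_starOf hs hn h ?_
  have := c.conj_onPt_H hs c.pg_H hS hon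
  exact (c.OnPt_congr (w := c.act c.pg v) (c.om_mem_Pt (c.mem_Pt_self v)) (c.om_ne_zero hv.2.1)).1 this

/-- Over three points the product is `1` or `z`. -/
theorem tri_cases (hs : c.Split) {a b d : c.Star} (hab : c.ptS hs a ≠ c.ptS hs b)
    (hbd : c.ptS hs b ≠ c.ptS hs d) (had : c.ptS hs a ≠ c.ptS hs d) :
    c.tri hs a b d = 1 ∨ c.tri hs a b d = z := by
  obtain ⟨a', ha, fa⟩ := c.exists_star_fixed hs (c.ptS hs a)
  obtain ⟨b', hb, fb⟩ := c.exists_star_fixed hs (c.ptS hs b)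
  obtain ⟨d', hd, fd⟩ := c.exists_star_fixed hs (c.ptS hs d)
  rw [← c.tri_congr hs ha.symm hb.symm hd.symm hab hbd had]
  have hfix : c.pg * c.tri hs a' b' d' * c.pg⁻¹ = c.tri hs a' b' d' := by
    rw [← c.tri_starMap hs c.pg_H c.pg_normW, fa, fb, fd]
  -- it lies in `Ut`
  have hU : c.tri hs a' b' d' ∈ c.Ut := by
    have hab' : c.ptS hs a' ≠ c.ptS hs b' := by rwa [ha, hb]
    have hbd' : c.ptS hs b' ≠ c.ptS hs d' := by rwa [hb, hd]
    have had' : c.ptS hs a' ≠ c.ptS hs d' := by rwa [ha, hd]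
    obtain ⟨i, hi⟩ := c.tau_diff hs hab'
    obtain ⟨j, hj⟩ := c.tau_diff hs hbd'
    obtain ⟨k, hk⟩ := c.tau_diff hs had'
    obtain ⟨si, si'⟩ := c.tau_spec hs (fun e => hab' (by rw [e]) : a' ≠ b')
    obtain ⟨sj, sj'⟩ := c.tau_spec hs (fun e => hbd' (by rw [e]) : b' ≠ d')
    obtain ⟨sk, sk'⟩ := c.tau_spec hs (fun e => had' (by rw [e]) : a' ≠ d')
    obtain ⟨x, hx, hxo⟩ := c.exists_onPt hs a'.2
    obtain ⟨y, hy, hyo⟩ := c.exists_onPt hs b'.2
    obtain ⟨w, hw, hwo⟩ := c.exists_onPt hs d'.2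
    obtain ⟨-, e⟩ := c.triangle_line hi.2.2 hj.2.2 hk.2.2 hx hy hw (c.ptS_ne hs hab' hx hy hxo hyo)
      (c.ptS_ne hs hbd' hy hw hyo hwo) (c.ptS_ne hs had' hx hw hxo hwo) (c.inc_point hs hi si hxo hx.2.1)
      (c.inc_point hs hi si' hyo hy.2.1) (c.inc_point hs hj sj hyo hy.2.1) (c.inc_point hs hj sj' hwo hw.2.1)
      (c.inc_point hs hk sk hxo hx.2.1) (c.inc_point hs hk sk' hwo hw.2.1)
    refine c.mem_Ut_of_im_W (c.tri_W hs _ _ _) ?_
    rw [tri, c.im_mul (mul_mem (c.W_le_H hi.1.1) (c.W_le_H hj.1.1)) (c.W_le_H hk.1.1),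
      c.im_mul (c.W_le_H hi.1.1) (c.W_le_H hj.1.1), hi.2.1, hj.2.1, hk.2.1, ← Subgroup.coe_mul, ← Subgroup.coe_mul,
      e, c.mul_self_I, coe_one]
  have h0 : c.pv (c.tri hs a' b' d') = 0 := c.om_fixed (by
    show c.act c.pg _ = _
    rw [← c.pv_conj c.pg_H hU.1, hfix])
  exact (c.pv_eq_zero hU.1).1 h0

/-- Three points go to any three others. -/
theorem exists_perm_three {α : Type u} [DecidableEq α] {a b d a' b' d' : α} (hab : a ≠ b) (hbd : b ≠ d)
    (had : a ≠ d) (hab' : a' ≠ b') (hbd' : b' ≠ d') (had' : a' ≠ d') :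
    ∃ σ : Equiv.Perm α, σ a = a' ∧ σ b = b' ∧ σ d = d' := by
  let σ1 := Equiv.swap a a'
  let σ2 := Equiv.swap (σ1 b) b'
  let σ3 := Equiv.swap (σ2 (σ1 d)) d'
  have h1 : σ1 a = a' := Equiv.swap_apply_left _ _
  have hb1 : σ1 b ≠ a' := fun e => hab (σ1.injective (h1.trans e.symm))
  have hd1 : σ1 d ≠ a' := fun e => had (σ1.injective (h1.trans e.symm))
  have h2a : σ2 a' = a' := Equiv.swap_apply_of_ne_of_ne (Ne.symm hb1) hab'
  have h2b : σ2 (σ1 b) = b' := Equiv.swap_apply_left _ _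
  have hd2a : σ2 (σ1 d) ≠ a' := fun e => hd1 (σ2.injective (e.trans h2a.symm))
  have hd2b : σ2 (σ1 d) ≠ b' := fun e => hbd (σ1.injective (σ2.injective (h2b.trans e.symm)))
  refine ⟨σ1.trans (σ2.trans σ3), ?_, ?_, ?_⟩
  · show σ3 (σ2 (σ1 a)) = a'
    rw [h1, h2a, Equiv.swap_apply_of_ne_of_ne (Ne.symm hd2a) had']
  · show σ3 (σ2 (σ1 b)) = b'
    rw [h2b, Equiv.swap_apply_of_ne_of_ne (Ne.symm hd2b) hbd']
  · exact Equiv.swap_apply_left _ _

/-- All triples have the same product. -/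
theorem tri_const (hs : c.Split) (hNI : 11520 ≤ Nat.card ↥(normalizer (I : Set A))) {a b d a' b' d' : c.Star}
    (hab : c.ptS hs a ≠ c.ptS hs b) (hbd : c.ptS hs b ≠ c.ptS hs d) (had : c.ptS hs a ≠ c.ptS hs d)
    (hab' : c.ptS hs a' ≠ c.ptS hs b') (hbd' : c.ptS hs b' ≠ c.ptS hs d') (had' : c.ptS hs a' ≠ c.ptS hs d') :
    c.tri hs a' b' d' = c.tri hs a b d := by
  classical
  obtain ⟨σ, h1, h2, h3⟩ := exists_perm_three c hab hbd had hab' hbd' had'
  obtain ⟨k, hk⟩ := c.sixHom_surjective hs hNI σ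
  obtain ⟨h, hh, hhk⟩ := c.exists_lift_A (k : A)
  have hn := c.normW_of_im hh (hhk.symm ▸ k.2)
  have hpt : ∀ x : c.Star, c.ptS hs (c.starMap hh hn x) = σ (c.ptS hs x) := fun x => Subtype.ext (by
    rw [c.ptS_starMap, ← hk, c.sixHom_val hs k hh hhk])
  have hab2 : c.ptS hs (c.starMap hh hn a) ≠ c.ptS hs (c.starMap hh hn b) := by rw [hpt, hpt, h1, h2]; exact hab'
  have hbd2 : c.ptS hs (c.starMap hh hn b) ≠ c.ptS hs (c.starMap hh hn d) := by rw [hpt, hpt, h2, h3]; exact hbd'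
  have had2 : c.ptS hs (c.starMap hh hn a) ≠ c.ptS hs (c.starMap hh hn d) := by rw [hpt, hpt, h1, h3]; exact had'
  rw [c.tri_congr hs (by rw [hpt, h1]) (by rw [hpt, h2]) (by rw [hpt, h3]) hab2 hbd2 had2, c.tri_starMap hs hh hn]
  rcases c.tri_cases hs hab hbd had with e | e
  · rw [e, mul_one, mul_inv_cancel]
  · rw [e, c.mem_H_iff_fix.1 hh]

/-- Distinct pairs of stars give distinct elements. -/
theorem tau_inj (hs : c.Split) {a b a' b' : c.Star} (h : a ≠ b) (h' : a' ≠ b')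
    (e : c.tau hs a b = c.tau hs a' b') : (a = a' ∧ b = b') ∨ (a = b' ∧ b = a') := by
  obtain ⟨x, y, -, -, -, huniq⟩ := c.inc_two hs (c.tau_Tset hs h)
  have ha := huniq _ (c.tau_spec hs h).1
  have hb := huniq _ (c.tau_spec hs h).2
  have ha' := huniq _ (e.symm ▸ (c.tau_spec hs h').1)
  have hb' := huniq _ (e.symm ▸ (c.tau_spec hs h').2)
  have hab : a.1 ≠ b.1 := fun w => h (Subtype.ext w)
  have hab' : a'.1 ≠ b'.1 := fun w => h' (Subtype.ext w)
  rcases ha with e1 | e1 <;> rcases hb with e2 | e2 <;> rcases ha' with e3 | e3 <;> rcases hb' with e4 | e4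
  all_goals first
    | exact absurd (e1.trans e2.symm) hab
    | exact absurd (e3.trans e4.symm) hab'
    | exact Or.inl ⟨Subtype.ext (e1.trans e3.symm), Subtype.ext (e2.trans e4.symm)⟩
    | exact Or.inr ⟨Subtype.ext (e1.trans e4.symm), Subtype.ext (e2.trans e3.symm)⟩

/-- Every non-conjugate is the element of two stars. -/
theorem exists_tau (hs : c.Split) {t : G} (ht : t ∈ c.Tset) : ∃ a b : c.Star, a ≠ b ∧ c.tau hs a b = t := by
  obtain ⟨x, y, hxy, hx, hy, -⟩ := c.inc_two hs ht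
  have hne : (⟨x, hx.1⟩ : c.Star) ≠ ⟨y, hy.1⟩ := fun e => hxy (congrArg Subtype.val e)
  exact ⟨_, _, hne, c.tau_eq hs hne hx hy⟩

/-- There are 24 stars. -/
theorem card_Star (hs : c.Split) : Nat.card c.Star = 24 := by
  classical
  haveI : Fintype c.Star := Fintype.ofFinite _
  haveI : Fintype ↥c.Tset := Fintype.ofFinite _
  let S : Finset (c.Star × c.Star) := Finset.univ.offDiag
  let f : c.Star × c.Star → G := fun p => c.tau hs p.1 p.2
  have himg : S.image f = c.Tset.toFinset := by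
    ext t
    simp only [Finset.mem_image, Set.mem_toFinset, S, Finset.mem_offDiag, Finset.mem_univ, true_and, f]
    constructor
    · rintro ⟨p, hp, rfl⟩; exact c.tau_Tset hs hp
    · intro ht
      obtain ⟨a, b, hne, e⟩ := c.exists_tau hs ht
      exact ⟨(a, b), hne, e⟩
  have hfib : ∀ t ∈ S.image f, (S.filter fun p => f p = t).card = 2 := by
    intro t ht
    obtain ⟨⟨a, b⟩, hp, rfl⟩ := Finset.mem_image.1 ht
    have hne : a ≠ b := (Finset.mem_offDiag.1 hp).2.2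
    have e : (S.filter fun p => f p = f (a, b)) = {(a, b), (b, a)} := by
      ext ⟨x, y⟩
      simp only [S, f, Finset.mem_filter, Finset.mem_offDiag, Finset.mem_univ, true_and, Finset.mem_insert,
        Finset.mem_singleton, Prod.mk.injEq]
      constructor
      · rintro ⟨hxy, he⟩
        exact c.tau_inj hs hxy hne he
      · rintro (⟨rfl, rfl⟩ | ⟨rfl, rfl⟩)
        · exact ⟨hne, rfl⟩
        · exact ⟨Ne.symm hne, c.tau_comm hs _ _⟩
    rw [e, Finset.card_pair fun h => hne (congrArg Prod.fst h)]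
  have hsum := Finset.card_eq_sum_card_image f S
  rw [Finset.sum_congr rfl hfib, Finset.sum_const, smul_eq_mul, himg, ← Set.ncard_eq_toFinset_card', c.card_Tset hs,
    Finset.offDiag_card, Finset.card_univ] at hsum
  rw [Nat.card_eq_fintype_card]
  rcases Nat.lt_or_ge (Fintype.card c.Star) 24 with h | h
  · exfalso
    have := Nat.mul_le_mul (Nat.le_of_lt_succ h) (Nat.le_of_lt_succ h)
    interval_cases hn : Fintype.card c.Star <;> omega
  · rcases Nat.eq_or_lt_of_le h with h' | h'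
    · exact h'.symm
    · exfalso
      have h25 : 25 * Fintype.card c.Star ≤ Fintype.card c.Star * Fintype.card c.Star :=
        Nat.mul_le_mul_right _ h'
      omega

end CfsgLib.Spor.JFourType.Ctx
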