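import Cfsg.Agent.Lib.Spor.JFourType.StarDef

/-!
# Two stars determine a non-conjugate of `z`

An element outside `Ut` is adjacent to one star over each of the two points of its line; every pair of stars
is incident with exactly one element.
-/

set_option autoImplicit false
set_option linter.style.haveILetI false

namespace CfsgLib.Spor.JFourType.Ctx

open Subgroup

universe u

variable {G : Type u} [Group G] [Finite G] {A : Type} [Group A] {J I R : Subgroup A}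
  {z : G} {P : Subgroup G} (c : Ctx J I R z P)
include c

/-- A non-conjugate over an involution of `I`. -/
def Fib (x : G) (i : ↥I) : Prop := x ∈ c.Tset ∧ c.im x = i ∧ i ≠ 1

theorem fib_exists {x : G} (hx : x ∈ c.Tset) (hU : x ∉ c.Ut) : ∃ i, c.Fib x i :=
  ⟨⟨c.im x, c.im_mem_I_of_W hx.1⟩, hx, rfl, fun h => hU (c.mem_Ut_of_im_W hx.1 (congrArg Subtype.val h))⟩

theorem fib_notMem {x : G} {i : ↥I} (hx : c.Fib x i) : x ∉ c.Ut := fun h =>
  hx.2.2 (Subtype.ext (by rw [← hx.2.1, c.im_E h.1]; rfl))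

theorem fib_mul {x t : G} {i : ↥I} (hx : c.Fib x i) (ht : t ∈ c.Ut) (h : x * t ∈ c.Tset) : c.Fib (x * t) i :=
  ⟨h, by rw [c.im_mul (c.W_le_H hx.1.1) (c.E_le ht.1), c.im_E ht.1, mul_one, hx.2.1], hx.2.2⟩

theorem fib_zero (hs : c.Split) {x : G} {i : ↥I} (hx : c.Fib x i) : c.pv (x * c.lv i) ∈ c.Li i :=
  c.Tset_zero hs hx.1 hx.2.1 hx.2.2

theorem fib_pv_mul {x t : G} {i : ↥I} (hx : c.Fib x i) (ht : t ∈ c.Ut) :
    c.pv (x * t * c.lv i) = c.pv (x * c.lv i) + c.pv t := by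
  rw [mul_assoc, c.W_comm (c.Ut_sub_W ht) (c.lv_mem_W' i), ← mul_assoc,
    c.pv_mul (c.fibre_Ut hx.1.1 hx.2.1).1 ht.1]

/-- An adjacent element of `Ut` lies over the line. -/
theorem adj_mem_Li (hs : c.Split) {x t : G} {i : ↥I} (hx : c.Fib x i) (ht : t ∈ c.Ut) (h : x * t ∈ c.Tset) :
    c.pv t ∈ c.Li i := by
  have h2 := c.fib_zero hs (c.fib_mul hx ht h)
  rw [c.fib_pv_mul hx ht] at h2
  have := add_mem (c.fib_zero hs hx) h2
  rwa [← add_assoc, c.two_V, zero_add] at this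

/-- One of each pair over the line is adjacent. -/
theorem adj_iff_not (hs : c.Split) {x t : G} {i : ↥I} (hx : c.Fib x i) (ht : t ∈ c.Ut) (hv : c.pv t ∈ c.Li i) :
    x * t ∈ c.Tset ↔ ¬ x * (t * z) ∈ c.Tset := by
  have hW := mul_mem hx.1.1 (c.Ut_sub_W ht)
  have him : c.im (x * t) = i := by
    rw [c.im_mul (c.W_le_H hx.1.1) (c.E_le ht.1), c.im_E ht.1, mul_one, hx.2.1]
  have h := c.zero_single hs hW him hx.2.2 (by rw [c.fib_pv_mul hx ht]; exact add_mem (c.fib_zero hs hx) hv)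
  have hne : ∀ y, c.im y = i → y ≠ 1 := fun y hy e => hx.2.2 (Subtype.ext (by rw [← hy, e, c.im_one]; rfl))
  have him' : c.im (x * t * z) = i := by rw [c.im_mul (c.W_le_H hW) c.z_mem_H, c.im_E c.z_mem_E, mul_one, him]
  rw [← mul_assoc]
  constructor
  · exact fun h1 h2 => h1.2.2 (h.2 h2.2.2)
  · intro h1
    refine ⟨hW, hne _ him, fun hc => h1 ⟨mul_mem hW c.z_mem_W', hne _ him', h.1 hc⟩⟩

theorem adj_unique (hs : c.Split) {x t t' : G} {i : ↥I} (hx : c.Fib x i) (ht : t ∈ c.Ut) (ht' : t' ∈ c.Ut)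
    (h : x * t ∈ c.Tset) (h' : x * t' ∈ c.Tset) (e : c.pv t = c.pv t') : t = t' := by
  rcases c.eq_or_mul_z ht ht' e with e' | e'
  · exact e'
  · subst e'
    exact absurd h ((c.adj_iff_not hs hx ht' (c.adj_mem_Li hs hx ht' h')).1 h')

theorem E_normW {e : G} (he : e ∈ c.E) : e ∈ normalizer (c.W : Set G) :=
  c.normW_of_im (c.E_le he) (by rw [c.im_E he]; exact one_mem _)

theorem E_fib {e x : G} {i : ↥I} (he : e ∈ c.E) (hx : c.Fib x i) : c.Fib (e * x * e⁻¹) i :=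
  ⟨c.conj_Tset (c.E_normW he) hx.1, by
    rw [c.im_conj (c.E_le he) (c.W_le_H hx.1.1), c.im_E he, one_mul, inv_one, mul_one, hx.2.1], hx.2.2⟩

/-- The displacement of an element over `i` by the core. -/
theorem pv_flip {x e : G} {i : ↥I} (hx : c.Fib x i) (he : e ∈ c.E) :
    x * (e * x * e⁻¹) ∈ c.Ut ∧ c.pv (x * (e * x * e⁻¹)) = c.D i (c.pv e) := by
  set u := x * c.lv i with hu
  have huU : u ∈ c.Ut := c.fibre_Ut hx.1.1 hx.2.1
  have hll := c.L0_elementary (c.lv_mem i)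
  have hxu : x = u * c.lv i := by rw [hu, mul_assoc, hll, mul_one]
  have hW : x * (e * x * e⁻¹) ∈ c.W := mul_mem hx.1.1 (c.conj_W_E he hx.1.1)
  have hU : x * (e * x * e⁻¹) ∈ c.Ut := c.mem_Ut_of_im_W hW (by
    rw [c.im_mul (c.W_le_H hx.1.1) (c.W_le_H (c.conj_W_E he hx.1.1)), (c.E_fib he hx).2.1, hx.2.1,
      ← Subgroup.coe_mul, c.mul_self_I, coe_one])
  refine ⟨hU, ?_⟩
  obtain ⟨hE, hpv⟩ := c.pv_E_lift he i
  have e1 : x * (e * x * e⁻¹) = u * ((e * u * e⁻¹) * (e * c.lv i * e⁻¹ * c.lv i)) := by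
    have hc : e * c.lv i * e⁻¹ * c.lv i = c.lv i * (e * c.lv i * e⁻¹) :=
      c.W_comm (c.conj_W_E he (c.lv_mem_W' i)) (c.lv_mem_W' i)
    have hc2 : e * u * e⁻¹ * c.lv i = c.lv i * (e * u * e⁻¹) :=
      c.W_comm (c.conj_W_E he (c.Ut_sub_W huU)) (c.lv_mem_W' i)
    rw [hc, ← mul_assoc (e * u * e⁻¹), hc2, mul_assoc (c.lv i), conj_mul, ← hxu, ← mul_assoc u, ← hxu]
  have hue := c.conj_E (c.E_le he) huU.1
  rw [e1, c.pv_mul huU.1 (mul_mem hue hE), c.pv_mul hue hE, hpv, c.pv_conj (c.E_le he) huU.1,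
    show c.act e (c.pv u) = c.pv u by rw [(c.act_eq_one (c.E_le he)).2 he]; rfl, ← add_assoc, c.two_V, zero_add]

/-- The star seen by `x` over a point. -/
def starOf (x : G) (v : c.Vs) : Set G := {t | t ∈ c.Ut ∧ c.pv t ∈ c.Pt v ∧ c.pv t ≠ 0 ∧ x * t ∈ c.Tset}

theorem starOf_isStar (hs : c.Split) {x : G} {i : ↥I} (hx : c.Fib x i) {v : c.Vs} (hv : c.IsN v)
    (hvi : v ∈ c.Li i) : c.IsStar (c.starOf x v) ∧ c.OnPt (c.starOf x v) v := by
  obtain ⟨q, hq⟩ := c.D_surj hx.2.2 hvi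
  obtain ⟨e, he, rfl⟩ := c.pv_surj q
  obtain ⟨f, hf, hfq⟩ := c.pv_surj (c.om (c.pv e))
  obtain ⟨htU, htv⟩ := c.pv_flip hx he
  obtain ⟨ht'U, ht'v⟩ := c.pv_flip hx hf
  set t := x * (e * x * e⁻¹) with ht
  set t' := x * (f * x * f⁻¹) with ht'
  rw [hq] at htv
  rw [hfq, c.D_om, hq] at ht'v
  have hT := c.mem_TU hs htU (htv ▸ hv)
  have hT' := c.mem_TU hs ht'U (ht'v ▸ c.isN_om hv)
  have hxt : x * t ∈ c.Tset := by rw [ht, c.W_self hx.1.1]; exact (c.E_fib he hx).1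
  have hxt' : x * t' ∈ c.Tset := by rw [ht', c.W_self hx.1.1]; exact (c.E_fib hf hx).1
  have hadj : t * t' ∈ c.Tset := (c.adj_TU hs hT hT').2
    ⟨by rw [htv, ht'v]; exact c.om_mem_Pt (c.mem_Pt_self v), by rw [htv, ht'v]; exact fun h => hv.2.1 (c.om_fixed h)⟩
  obtain ⟨h3U, h3v, -, -⟩ := c.star_third hs hT hT' hadj
  have hftf : f * t * f⁻¹ = t * z := by
    refine (c.E_conj_eq hf htU.1).2 ?_
    have h := (c.beta_point hx.2.2 (c.isN_om hv) (c.Li_om hvi)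
      (show c.D i (c.pv f) = c.om v by rw [hfq, c.D_om, hq])).2
    rw [c.om_cube] at h
    rw [htv, h]
    decide
  have h3 : x * (t * t' * z) ∈ c.Tset := by
    have h := c.conj_Tset (c.E_normW hf) hxt
    have e1 : f * (x * t) * f⁻¹ = x * (t * t' * z) := by
      rw [← conj_mul, hftf, ← c.W_self hx.1.1 (b := f * x * f⁻¹), ← ht']
      simp only [mul_assoc]
      rw [← mul_assoc t', c.W_comm (c.Ut_sub_W ht'U) (c.Ut_sub_W htU), mul_assoc]
    rwa [e1] at h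
  have hset : c.starOf x v = {t, t', t * t' * z} := by
    refine Set.Subset.antisymm ?_ ?_
    · rintro s ⟨hsU, hsv, hs0, hxs⟩
      simp only [Pt, Set.mem_insert_iff, Set.mem_singleton_iff] at hsv ⊢
      rcases hsv with h | h | h | h
      · exact absurd h hs0
      · exact Or.inl (c.adj_unique hs hx hsU htU hxs hxt (h.trans htv.symm))
      · exact Or.inr (Or.inl (c.adj_unique hs hx hsU ht'U hxs hxt' (h.trans ht'v.symm)))
      · exact Or.inr (Or.inr (c.adj_unique hs hx hsU h3U.2 hxs h3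
          (by rw [h, h3v, htv, ht'v, c.om_two])))
    · intro s hs'
      simp only [Set.mem_insert_iff, Set.mem_singleton_iff] at hs'
      rcases hs' with rfl | rfl | rfl
      · exact ⟨htU, htv ▸ c.mem_Pt_self v, htv ▸ hv.2.1, hxt⟩
      · exact ⟨ht'U, ht'v ▸ c.om_mem_Pt (c.mem_Pt_self v), ht'v ▸ c.om_ne_zero hv.2.1, hxt'⟩
      · refine ⟨h3U.2, ?_, (c.pv_TU hs h3U).2.1, h3⟩
        rw [h3v, htv, ht'v]
        exact c.Pt_add (c.mem_Pt_self v) (c.om_mem_Pt (c.mem_Pt_self v))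
  exact ⟨hset ▸ ⟨t, t', hT, hT', hadj, rfl⟩, fun s hs' => hs'.2.1⟩

/-- Incidence of a non-conjugate and a star. -/
def Inc (t : G) (S : Set G) : Prop :=
  c.IsStar S ∧ (t ∈ S ∨ (t ∈ c.Tset ∧ t ∉ c.Ut ∧ ∀ s ∈ S, t * s ∈ c.Tset))

theorem inc_mem (hs : c.Split) {t : G} {S : Set G} (h : c.Inc t S) : t ∈ c.Tset :=
  h.2.elim (fun h' => (c.star_sub_TU hs h.1 h').1) fun h' => h'.1

theorem inc_Ut {t : G} {S : Set G} (ht : t ∈ c.Ut) : c.Inc t S ↔ c.IsStar S ∧ t ∈ S :=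
  ⟨fun h => ⟨h.1, h.2.resolve_right fun h' => h'.2.1 ht⟩, fun h => ⟨h.1, Or.inl h.2⟩⟩

theorem inc_fib (hs : c.Split) {x : G} {i : ↥I} {S : Set G} (hx : c.Fib x i) :
    c.Inc x S ↔ c.IsStar S ∧ ∀ s ∈ S, x * s ∈ c.Tset :=
  ⟨fun h => ⟨h.1, (h.2.resolve_left fun h' => c.fib_notMem hx (c.star_sub_TU hs h.1 h').2).2.2⟩,
    fun h => ⟨h.1, Or.inr ⟨hx.1, c.fib_notMem hx, h.2⟩⟩⟩

theorem inc_starOf (hs : c.Split) {x : G} {i : ↥I} (hx : c.Fib x i) {v : c.Vs} (hv : c.IsN v)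
    (hvi : v ∈ c.Li i) : c.Inc x (c.starOf x v) :=
  (c.inc_fib hs hx).2 ⟨(c.starOf_isStar hs hx hv hvi).1, fun _ h => h.2.2.2⟩

theorem inc_point (hs : c.Split) {x : G} {i : ↥I} {S : Set G} (hx : c.Fib x i) (h : c.Inc x S) {v : c.Vs}
    (hv : c.OnPt S v) (hv0 : v ≠ 0) : v ∈ c.Li i := by
  obtain ⟨hS, hadj⟩ := (c.inc_fib hs hx).1 h
  obtain ⟨s, hs', e⟩ := c.star_cover hs hS hv (c.mem_Pt_self v) hv0
  exact e ▸ c.adj_mem_Li hs hx (c.star_sub_TU hs hS hs').2 (hadj s hs')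

/-- An incident star is the star seen over its point. -/
theorem inc_eq_starOf (hs : c.Split) {x : G} {i : ↥I} {S : Set G} (hx : c.Fib x i) (h : c.Inc x S) {v : c.Vs}
    (hv : c.OnPt S v) : S = c.starOf x v := by
  obtain ⟨hS, hadj⟩ := (c.inc_fib hs hx).1 h
  refine Set.Subset.antisymm (fun s hs' => ?_) fun t ht => ?_
  · have hT := c.star_sub_TU hs hS hs'
    exact ⟨hT.2, hv s hs', (c.pv_TU hs hT).2.1, hadj s hs'⟩
  · obtain ⟨s, hs', e⟩ := c.star_cover hs hS hv ht.2.1 ht.2.2.1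
    exact (c.adj_unique hs hx ht.1 (c.star_sub_TU hs hS hs').2 ht.2.2.2 (hadj s hs') e.symm) ▸ hs'

theorem OnPt_congr {S : Set G} {v w : c.Vs} (h : w ∈ c.Pt v) (hw : w ≠ 0) : c.OnPt S w ↔ c.OnPt S v := by
  rw [OnPt, OnPt, c.Pt_eq h hw]

theorem onPt_unique (hs : c.Split) {S : Set G} (hS : c.IsStar S) {v w : c.Vs} (hv : c.OnPt S v) (hv0 : v ≠ 0)
    (hw : c.OnPt S w) : v ∈ c.Pt w := by
  obtain ⟨s, hs', e⟩ := c.star_cover hs hS hv (c.mem_Pt_self v) hv0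
  exact e ▸ hw s hs'

/-- Conjugation by the core on stars. -/
def conjSet (_ : Ctx J I R z P) (e : G) (S : Set G) : Set G := (fun s => e * s * e⁻¹) '' S

theorem conj_TU {e t : G} (he : e ∈ c.E) (ht : t ∈ c.TU) : e * t * e⁻¹ ∈ c.TU :=
  ⟨c.conj_Tset (c.E_normW he) ht.1, c.conj_Ut (c.E_le he) (c.E_normW he) ht.2⟩

theorem conj_isStar {e : G} (he : e ∈ c.E) {S : Set G} (hS : c.IsStar S) : c.IsStar (c.conjSet e S) := by
  obtain ⟨t, t', h1, h2, h3, rfl⟩ := hS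
  refine ⟨e * t * e⁻¹, e * t' * e⁻¹, c.conj_TU he h1, c.conj_TU he h2,
    by rw [conj_mul]; exact c.conj_Tset (c.E_normW he) h3, ?_⟩
  have hz : e * (t * t' * z) * e⁻¹ = e * (t * t') * e⁻¹ * z := by
    rw [← conj_mul, c.mem_H_iff_fix.1 (c.E_le he)]
  rw [conjSet, Set.image_insert_eq, Set.image_insert_eq, Set.image_singleton, hz, ← conj_mul]

theorem conj_onPt (hs : c.Split) {e : G} (he : e ∈ c.E) {S : Set G} (hS : c.IsStar S) {v : c.Vs}
    (hv : c.OnPt S v) : c.OnPt (c.conjSet e S) v := by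
  rintro _ ⟨s, hs', rfl⟩
  rw [c.pv_conj (c.E_le he) (c.star_sub_TU hs hS hs').2.1, (c.act_eq_one (c.E_le he)).2 he]
  exact hv s hs'

theorem conj_inc {e : G} (he : e ∈ c.E) {t : G} {S : Set G} (h : c.Inc t S) :
    c.Inc (e * t * e⁻¹) (c.conjSet e S) := by
  refine ⟨c.conj_isStar he h.1, ?_⟩
  rcases h.2 with h2 | ⟨h2, h3, h4⟩
  · exact Or.inl ⟨t, h2, rfl⟩
  · refine Or.inr ⟨c.conj_Tset (c.E_normW he) h2, fun hU => h3 ?_, ?_⟩
    · have := c.conj_Ut (inv_mem (c.E_le he)) (inv_mem (c.E_normW he)) hU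
      rwa [show e⁻¹ * (e * t * e⁻¹) * e⁻¹⁻¹ = t by group] at this
    · rintro _ ⟨s, hs', rfl⟩
      rw [conj_mul]
      exact c.conj_Tset (c.E_normW he) (h4 s hs')

theorem conjSet_fix (hs : c.Split) {e : G} (he : e ∈ c.E) {S : Set G} (hS : c.IsStar S) {v : c.Vs}
    (hv : c.OnPt S v) (horth : ∀ x ∈ c.Pt v, c.Bf (c.pv e) x = 0) : c.conjSet e S = S := by
  have key : ∀ s ∈ S, e * s * e⁻¹ = s := fun s hs' =>
    (c.E_conj_eq he (c.star_sub_TU hs hS hs').2.1).1 (horth _ (hv s hs'))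
  ext s
  constructor
  · rintro ⟨t, ht, rfl⟩
    show e * t * e⁻¹ ∈ S
    rw [key t ht]
    exact ht
  · exact fun h => ⟨s, h, key s h⟩

theorem orth_of_fix (hs : c.Split) {e : G} (he : e ∈ c.E) {S : Set G} (hS : c.IsStar S) {v : c.Vs}
    (hv : c.OnPt S v) (hfix : c.conjSet e S = S) {x : c.Vs} (hx : x ∈ c.Pt v) : c.Bf (c.pv e) x = 0 := by
  by_cases hx0 : x = 0
  · rw [hx0, c.Bf_zero_right]
  obtain ⟨s, hs', rfl⟩ := c.star_cover hs hS hv hx hx0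
  by_contra hne
  have hsU := (c.star_sub_TU hs hS hs').2
  have h1 := (c.E_conj_eq he hsU.1).2 hne
  have h2 : s * z ∈ S := hfix ▸ h1 ▸ ⟨s, hs', rfl⟩
  exact c.z_ne (mul_eq_left.1 (c.star_pv_inj hs hS h2 hs' (c.pv_mul_z hsU)))

theorem inc_different (hs : c.Split) {x : G} {i : ↥I} (hx : c.Fib x i) {a b : Set G} (hab : a ≠ b)
    (ha : c.Inc x a) (hb : c.Inc x b) {v w : c.Vs} (hv : c.OnPt a v) (hw : c.OnPt b w) (hwN : c.IsN w) :
    w ∉ c.Pt v := fun h => hab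
  ((c.inc_eq_starOf hs hx ha hv).trans
    (c.inc_eq_starOf hs hx hb ((c.OnPt_congr h hwN.2.1).1 hw)).symm)

/-- Two stars are incident with at most one element. -/
theorem inc_inj (hs : c.Split) {x y : G} {a b : Set G} (hab : a ≠ b) (hxa : c.Inc x a) (hxb : c.Inc x b)
    (hya : c.Inc y a) (hyb : c.Inc y b) : x = y := by
  obtain ⟨v, hvN, hv⟩ := c.exists_onPt hs hxa.1
  obtain ⟨w, hwN, hw⟩ := c.exists_onPt hs hxb.1
  have key : ∀ {p q : G}, c.Inc p a → c.Inc p b → c.Inc q a → c.Inc q b → p ∈ c.Ut → p = q := by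
    intro p q hpa hpb hqa hqb hp
    have hpa' := ((c.inc_Ut hp).1 hpa).2
    have hpb' := ((c.inc_Ut hp).1 hpb).2
    by_cases hq : q ∈ c.Ut
    · by_contra hne
      exact hab (c.star_ext hs hpa.1 hpb.1 hpa' ((c.inc_Ut hq).1 hqa).2 hpb' ((c.inc_Ut hq).1 hqb).2 hne)
    · exfalso
      obtain ⟨i, hi⟩ := c.fib_exists (c.inc_mem hs hqa) hq
      refine c.inc_different hs hi hab hqa hqb hv hw hwN ?_
      obtain ⟨hp0, hpv⟩ := (c.pv_TU hs (c.star_sub_TU hs hpa.1 hpa')).2.1, hv p hpa'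
      exact c.Pt_eq hpv hp0 ▸ c.Pt_symm (hw p hpb') hp0
  by_cases hxU : x ∈ c.Ut
  · exact key hxa hxb hya hyb hxU
  by_cases hyU : y ∈ c.Ut
  · exact (key hya hyb hxa hxb hyU).symm
  obtain ⟨i, hi⟩ := c.fib_exists (c.inc_mem hs hxa) hxU
  obtain ⟨j, hj⟩ := c.fib_exists (c.inc_mem hs hya) hyU
  have hne := c.inc_different hs hi hab hxa hxb hv hw hwN
  have hvi := c.inc_point hs hi hxa hv hvN.2.1
  have hwi := c.inc_point hs hi hxb hw hwN.2.1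
  have hij := c.line_unique hi.2.2 hj.2.2 hvN hne hvi hwi (c.inc_point hs hj hya hv hvN.2.1)
    (c.inc_point hs hj hyb hw hwN.2.1)
  subst hij
  obtain ⟨e, he, rfl⟩ := c.E_trans_fibre hs hi.1 hj.1 hi.2.1 hj.2.1 hi.2.2
  have hfix : ∀ {S : Set G} {u : c.Vs}, c.Inc x S → c.Inc (e * x * e⁻¹) S → c.OnPt S u →
      ∀ p ∈ c.Pt u, c.Bf (c.pv e) p = 0 := by
    intro S u h h' hu p hp
    refine c.orth_of_fix hs he h.1 hu ?_ hp
    exact (c.inc_eq_starOf hs hj (c.conj_inc he h) (c.conj_onPt hs he h.1 hu)).trans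
      (c.inc_eq_starOf hs hj h' hu).symm
  have h1 := c.D_mem_Pt hi.2.2 hvN hwN hne hvi hwi (hfix hxa hya hv)
  have h2 := c.D_mem_Pt hi.2.2 hwN hvN (c.ne_Pt_symm hvN hne) hwi hvi (hfix hxb hyb hw)
  obtain ⟨hU, hpv⟩ := c.pv_flip hi he
  rw [c.Pt_disjoint hne h2 h1] at hpv
  rcases (c.pv_eq_zero hU.1).1 hpv with h | h
  · conv_lhs => rw [← mul_one x, ← h, c.W_self hi.1.1]
  · have e' : e * x * e⁻¹ = x * z := by rw [← h, c.W_self hi.1.1]
    have hc := c.conj_mul_z_of_Tset hs hi.1 (by rw [hi.2.1]; exact fun h' => hi.2.2 (Subtype.ext h'))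
    exact absurd (e' ▸ hc) hj.1.2.2

theorem card_fib (hs : c.Split) {i : ↥I} (hi : i ≠ 1) : {x | c.Fib x i}.ncard = 16 := by
  classical
  have hi' : (i : A) ≠ 1 := fun h => hi (Subtype.ext h)
  have eF : {y : G | y ∈ c.W ∧ c.im y = i} = (fun u => u * c.lv i) '' (c.Ut : Set G) := by
    ext y
    constructor
    · rintro ⟨hy, hyi⟩
      exact ⟨y * c.lv i, c.fibre_Ut hy hyi, by
        show y * c.lv i * c.lv i = y
        rw [mul_assoc, c.L0_elementary (c.lv_mem _), mul_one]⟩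
    · rintro ⟨u, hu, rfl⟩
      exact c.fibre_mk hu i
  have h128 : {y : G | y ∈ c.W ∧ c.im y = i}.ncard = 128 := by
    rw [eF, Set.ncard_image_of_injective _ (mul_left_injective _), ← Nat.card_coe_set_eq]
    exact c.card_Ut
  have e : {x | c.Fib x i} = {y : G | y ∈ c.W ∧ c.im y = i} \ {x : G | x ∈ c.W ∧ c.im x = i ∧ IsConj z x} := by
    ext x
    constructor
    · rintro ⟨⟨hW, -, hc⟩, him, -⟩
      exact ⟨⟨hW, him⟩, fun h => hc h.2.2⟩
    · rintro ⟨⟨hW, him⟩, hc⟩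
      exact ⟨⟨hW, fun e => hi' (by rw [← him, e, c.im_one]), fun h => hc ⟨hW, him, h⟩⟩, him, hi⟩
  have hsub : {x : G | x ∈ c.W ∧ c.im x = i ∧ IsConj z x} ⊆ {y : G | y ∈ c.W ∧ c.im y = i} :=
    fun x hx => ⟨hx.1, hx.2.1⟩
  rw [e, Set.ncard_sdiff hsub (Set.toFinite _), h128, hs.card_fibre i i.2 hi']

theorem card_stars_at (hs : c.Split) {v : c.Vs} (hv : c.IsN v) :
    {S | c.IsStar S ∧ c.OnPt S v}.ncard ≤ 4 := by
  obtain ⟨t, ht, rfl⟩ := c.exists_TU hs hv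
  obtain ⟨a, b, -, -, -, -, -, hab⟩ := c.stars_through hs ht
  obtain ⟨a', b', -, -, -, -, -, hab'⟩ := c.stars_through hs (c.TU_mul_z hs ht)
  have hsub : {S | c.IsStar S ∧ c.OnPt S (c.pv t)} ⊆ {a, b, a', b'} := by
    rintro S ⟨hS, hon⟩
    obtain ⟨s, hs', e⟩ := c.star_cover hs hS hon (c.mem_Pt_self _) hv.2.1
    rcases c.eq_or_mul_z (c.star_sub_TU hs hS hs').2 ht.2 e with rfl | rfl
    · rcases hab S hS hs' with rfl | rfl <;> simp
    · rcases hab' S hS hs' with rfl | rfl <;> simp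
  refine (Set.ncard_le_ncard hsub (Set.toFinite _)).trans ?_
  refine (Set.ncard_insert_le _ _).trans (Nat.succ_le_succ ?_)
  refine (Set.ncard_insert_le _ _).trans (Nat.succ_le_succ ?_)
  exact (Set.ncard_insert_le _ _).trans (by rw [Set.ncard_singleton])

/-- Two stars are incident with an element. -/
theorem exists_inc (hs : c.Split) {a b : Set G} (ha : c.IsStar a) (hb : c.IsStar b) (hab : a ≠ b) :
    ∃ t, c.Inc t a ∧ c.Inc t b := by
  obtain ⟨v, hvN, hv⟩ := c.exists_onPt hs ha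
  obtain ⟨w, hwN, hw⟩ := c.exists_onPt hs hb
  by_cases hne : w ∈ c.Pt v
  · obtain ⟨t, h1, h2⟩ := c.stars_meet hs ha hb hv ((c.OnPt_congr hne hwN.2.1).1 hw)
    exact ⟨t, ⟨ha, Or.inl h1⟩, ⟨hb, Or.inl h2⟩⟩
  obtain ⟨i, hi, hvi, hwi⟩ := c.isN_cover hvN hwN.1
  set F := {x | c.Fib x i} with hF
  have hinj : Set.InjOn (fun x => (c.starOf x v, c.starOf x w)) F := by
    intro x hx y hy h
    obtain ⟨hsv, hsw⟩ := c.starOf_isStar hs hx hvN hvi, c.starOf_isStar hs hx hwN hwi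
    have h1 : c.starOf x v = c.starOf y v := congrArg Prod.fst h
    have h2 : c.starOf x w = c.starOf y w := congrArg Prod.snd h
    refine c.inc_inj hs (fun e => hne ?_) (c.inc_starOf hs hx hvN hvi) (c.inc_starOf hs hx hwN hwi)
      (h1 ▸ c.inc_starOf hs hy hvN hvi) (h2 ▸ c.inc_starOf hs hy hwN hwi)
    exact c.onPt_unique hs hsw.1 hsw.2 hwN.2.1 (e ▸ hsv.2)
  have hsub : (fun x => (c.starOf x v, c.starOf x w)) '' F ⊆
      {S | c.IsStar S ∧ c.OnPt S v} ×ˢ {S | c.IsStar S ∧ c.OnPt S w} := by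
    rintro _ ⟨x, hx, rfl⟩
    exact ⟨c.starOf_isStar hs hx hvN hvi, c.starOf_isStar hs hx hwN hwi⟩
  have heq := Set.eq_of_subset_of_ncard_le hsub (by
    rw [Set.ncard_prod, hinj.ncard_image, c.card_fib hs hi]
    exact Nat.mul_le_mul (c.card_stars_at hs hvN) (c.card_stars_at hs hwN)) (Set.toFinite _)
  obtain ⟨x, hx, e⟩ := heq.ge (show (a, b) ∈ _ ×ˢ _ from ⟨⟨ha, hv⟩, hb, hw⟩)
  have ea : c.starOf x v = a := congrArg Prod.fst e
  have eb : c.starOf x w = b := congrArg Prod.snd e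
  exact ⟨x, ea ▸ c.inc_starOf hs hx hvN hvi, eb ▸ c.inc_starOf hs hx hwN hwi⟩

/-- An element is incident with exactly two stars. -/
theorem inc_two (hs : c.Split) {t : G} (ht : t ∈ c.Tset) :
    ∃ a b, a ≠ b ∧ c.Inc t a ∧ c.Inc t b ∧ ∀ S, c.Inc t S → S = a ∨ S = b := by
  by_cases hU : t ∈ c.Ut
  · obtain ⟨a, b, hne, hA, hB, hta, htb, h⟩ := c.stars_through hs ⟨ht, hU⟩
    exact ⟨a, b, hne, ⟨hA, Or.inl hta⟩, ⟨hB, Or.inl htb⟩, fun S hS => h S hS.1 ((c.inc_Ut hU).1 hS).2⟩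
  obtain ⟨i, hi⟩ := c.fib_exists ht hU
  obtain ⟨v, hvN, hvi⟩ : ∃ v, c.IsN v ∧ v ∈ c.Li i := by
    obtain ⟨v, hvi, hv0, hniso⟩ := Set.nonempty_of_ncard_ne_zero
      (s := {x | x ∈ c.Li i ∧ x ≠ 0 ∧ ¬ c.Iso i x}) (by rw [(c.line_profile hi.2.2).2]; norm_num)
    exact ⟨v, (c.isN_iff hi.2.2 hvi hv0).2 hniso, hvi⟩
  obtain ⟨w, hwN, hwi, hne⟩ := c.exists_other hi.2.2 hvN
  refine ⟨c.starOf t v, c.starOf t w, fun e => hne ?_, c.inc_starOf hs hi hvN hvi, c.inc_starOf hs hi hwN hwi,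
    fun S hS => ?_⟩
  · obtain ⟨h1, h2⟩ := c.starOf_isStar hs hi hvN hvi
    exact c.onPt_unique hs h1 (e.symm ▸ (c.starOf_isStar hs hi hwN hwi).2) hwN.2.1 h2
  · obtain ⟨u, huN, hu⟩ := c.exists_onPt hs hS.1
    rcases c.on_line hi.2.2 hvN hwN hne hvi hwi huN (c.inc_point hs hi hS hu huN.2.1) with h | h
    · exact Or.inl (c.inc_eq_starOf hs hi hS ((c.OnPt_congr h huN.2.1).1 hu))
    · exact Or.inr (c.inc_eq_starOf hs hi hS ((c.OnPt_congr h huN.2.1).1 hu))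

end CfsgLib.Spor.JFourType.Ctx
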