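import Cfsg.Agent.Lib.Spor.JFourType.StarCount

/-!
# The normalizer of `W` permutes the stars

An element normalizing `W` respects adjacency, so it moves the pairs through one star to the pairs through one
star; this gives a permutation of the 24 stars under which `tau` is equivariant.
-/

set_option autoImplicit false
set_option linter.style.haveILetI false

namespace CfsgLib.Spor.JFourType.Ctx

open Subgroup

universe u

variable {G : Type u} [Group G] [Finite G] {A : Type} [Group A] {J I R : Subgroup A}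
  {z : G} {P : Subgroup G} (c : Ctx J I R z P)
include c

/-- `b` is the image of `a` under `n`. -/
def IsImage (hs : c.Split) (n : G) (a b : c.Star) : Prop :=
  ∀ d, d ≠ a → c.Inc (n * c.tau hs a d * n⁻¹) b.1

theorem exists_third (hs : c.Split) (a b : c.Star) : ∃ d : c.Star, d ≠ a ∧ d ≠ b := by
  classical
  by_contra h
  push Not at h
  have hsub : (Set.univ : Set c.Star) ⊆ {a, b} := fun d _ => by
    by_cases hd : d = a
    · exact Or.inl hd
    · exact Or.inr (h d hd)
  have := Set.ncard_le_ncard hsub (Set.toFinite _)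
  rw [Set.ncard_univ, c.card_Star hs] at this
  have h2 : ({a, b} : Set c.Star).ncard ≤ 2 := (Set.ncard_insert_le _ _).trans (by rw [Set.ncard_singleton])
  omega

theorem isImage_unique (hs : c.Split) {n : G} {a b b' : c.Star}
    (h : c.IsImage hs n a b) (h' : c.IsImage hs n a b') : b = b' := by
  by_contra hne
  obtain ⟨x, hxa, -⟩ := c.exists_third hs a a
  obtain ⟨y, hya, hyx⟩ := c.exists_third hs a x
  have e : n * c.tau hs a x * n⁻¹ = n * c.tau hs a y * n⁻¹ :=
    c.inc_inj hs (fun e => hne (Subtype.ext e)) (h x hxa) (h' x hxa) (h y hya) (h' y hya)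
  rcases c.tau_inj hs (Ne.symm hxa) (Ne.symm hya) (mul_left_cancel (mul_right_cancel e)) with ⟨-, e'⟩ | ⟨e', -⟩
  · exact hyx e'.symm
  · exact hya e'.symm

theorem exists_image (hs : c.Split) (hNI : 11520 ≤ Nat.card ↥(normalizer (I : Set A))) {n : G}
    (hn : n ∈ normalizer (c.W : Set G)) (a : c.Star) : ∃ b, c.IsImage hs n a b := by
  obtain ⟨x, hxa, -⟩ := c.exists_third hs a a
  obtain ⟨p, q, hpq, hpqe⟩ := c.exists_tau hs (c.conj_Tset hn (c.tau_Tset hs (Ne.symm hxa)))
  have hinc := c.tau_spec hs hpq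
  rw [hpqe] at hinc
  have hadj : ∀ d e : c.Star, d ≠ a → e ≠ a → d ≠ e →
      n * c.tau hs a e * n⁻¹ ∈ c.nbr (n * c.tau hs a d * n⁻¹) := fun d e hd he hde =>
    ⟨c.conj_Tset hn (c.tau_Tset hs (Ne.symm he)), by
      rw [conj_mul, c.tau_comm hs a d, c.tau_mul hs hNI]
      exact c.conj_Tset hn (c.tau_Tset hs hde)⟩
  -- each other image shares one of the two
  have hone : ∀ d, d ≠ a → d ≠ x → ∃ r, r ≠ p ∧ r ≠ q ∧
      (n * c.tau hs a d * n⁻¹ = c.tau hs p r ∨ n * c.tau hs a d * n⁻¹ = c.tau hs q r) := by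
    intro d hd hdx
    have h := hadj x d hxa hd (Ne.symm hdx)
    rw [← hpqe, c.nbr_eq_pencil hs hNI hpq] at h
    exact h
  by_cases hall : ∀ d, d ≠ a → d ≠ x → c.Inc (n * c.tau hs a d * n⁻¹) p.1
  · refine ⟨p, fun d hd => ?_⟩
    by_cases hdx : d = x
    · rw [hdx]; exact hinc.1
    · exact hall d hd hdx
  push Not at hall
  obtain ⟨d0, hd0a, hd0x, hd0⟩ := hall
  refine ⟨q, fun d hd => ?_⟩
  by_cases hdx : d = x
  · rw [hdx]; exact hinc.2
  obtain ⟨r0, hr0p, hr0q, h0⟩ := hone d0 hd0a hd0x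
  have h0' : n * c.tau hs a d0 * n⁻¹ = c.tau hs q r0 := h0.resolve_left fun e => hd0 (by
    rw [e]; exact (c.tau_spec hs (Ne.symm hr0p)).1)
  obtain ⟨r, hrp, hrq, h1 | h1⟩ := hone d hd hdx
  · by_cases hdd : d = d0
    · rw [hdd, h0']; exact (c.tau_spec hs (Ne.symm hr0q)).1
    exfalso
    have h := hadj d0 d hd0a hd (Ne.symm hdd)
    rw [h0', h1, c.nbr_eq_pencil hs hNI (Ne.symm hr0q)] at h
    obtain ⟨s, hsq, hsr, hs'⟩ := h
    have hrr : r = r0 := by
      rcases hs' with e | e
      · rcases c.tau_inj hs (Ne.symm hrp) (Ne.symm hsq) e with ⟨e1, -⟩ | ⟨-, e2⟩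
        · exact absurd e1 hpq
        · exact absurd e2 hrq
      · rcases c.tau_inj hs (Ne.symm hrp) (Ne.symm hsr) e with ⟨e1, -⟩ | ⟨-, e2⟩
        · exact absurd e1.symm hr0p
        · exact e2
    subst hrr
    -- the three images would multiply to one
    have hprod : n * c.tau hs a x * n⁻¹ * (n * c.tau hs a d * n⁻¹) * (n * c.tau hs a d0 * n⁻¹) = 1 := by
      rw [← hpqe, h1, h0', c.tau_comm hs p q, c.tau_mul hs hNI, c.W_sq (c.tau_W hs q r)]
    rw [conj_mul, conj_mul, conj_eq_one_iff, c.tau_comm hs a x, c.tau_mul hs hNI,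
      mul_eq_one_iff_eq_inv, inv_eq_of_mul_eq_one_right (c.W_sq (c.tau_W hs a d0))] at hprod
    rcases c.tau_inj hs (Ne.symm hdx) (Ne.symm hd0a) hprod with ⟨e1, -⟩ | ⟨-, e2⟩
    · exact hxa e1
    · exact hd e2
  · rw [h1]; exact (c.tau_spec hs (Ne.symm hrq)).1

/-- The permutation of the stars. -/
noncomputable def starPerm (hs : c.Split) (hNI : 11520 ≤ Nat.card ↥(normalizer (I : Set A)))
    (n : ↥(normalizer (c.W : Set G))) : c.Star → c.Star :=
  fun a => (c.exists_image hs hNI n.2 a).choose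

theorem starPerm_spec (hs : c.Split) (hNI : 11520 ≤ Nat.card ↥(normalizer (I : Set A)))
    (n : ↥(normalizer (c.W : Set G))) (a : c.Star) : c.IsImage hs n a (c.starPerm hs hNI n a) :=
  (c.exists_image hs hNI n.2 a).choose_spec

theorem starPerm_ne (hs : c.Split) (hNI : 11520 ≤ Nat.card ↥(normalizer (I : Set A)))
    (n : ↥(normalizer (c.W : Set G))) {a b : c.Star} (h : a ≠ b) :
    c.starPerm hs hNI n a ≠ c.starPerm hs hNI n b := by
  intro e
  obtain ⟨d, hda, hdb⟩ := c.exists_third hs a b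
  -- three images through one star
  set p := c.starPerm hs hNI n a with hp
  have h1 := c.starPerm_spec hs hNI n a b (Ne.symm h)
  have h2 := c.starPerm_spec hs hNI n a d hda
  have h3 : c.Inc ((n : G) * c.tau hs b d * (n : G)⁻¹) p.1 := by
    rw [e]; exact c.starPerm_spec hs hNI n b d hdb
  have hex : ∀ t, c.Inc t p.1 → ∃ r, r ≠ p ∧ t = c.tau hs p r := by
    intro t ht
    obtain ⟨u, v, huv, rfl⟩ := c.exists_tau hs (c.inc_mem hs ht)
    by_cases hu : u = p
    · exact ⟨v, fun e => huv (hu.trans e.symm), by rw [hu]⟩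
    · by_cases hv : v = p
      · exact ⟨u, hu, by rw [hv, c.tau_comm]⟩
      · exfalso
        obtain ⟨x, y, -, -, -, huniq⟩ := c.inc_two hs (c.tau_Tset hs huv)
        have hu' : u.1 ≠ p.1 := fun e => hu (Subtype.ext e)
        have hv' : v.1 ≠ p.1 := fun e => hv (Subtype.ext e)
        have huv' : u.1 ≠ v.1 := fun e => huv (Subtype.ext e)
        rcases huniq _ (c.tau_spec hs huv).1 with e1 | e1 <;> rcases huniq _ (c.tau_spec hs huv).2 with e2 | e2 <;>
          rcases huniq _ ht with e3 | e3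
        all_goals first
          | exact huv' (e1.trans e2.symm)
          | exact hu' (e1.trans e3.symm)
          | exact hv' (e2.trans e3.symm)
  obtain ⟨r, hr, er⟩ := hex _ h2
  obtain ⟨s, hs', es⟩ := hex _ h3
  obtain ⟨q, hq, eq'⟩ := hex _ h1
  have hrs : c.tau hs r s = c.tau hs p q := by
    rw [← c.tau_mul hs hNI r p s, c.tau_comm hs r p, ← er, ← es, ← eq', conj_mul, c.tau_comm hs b d,
      c.tau_mul hs hNI]
  by_cases hrs' : r = s
  · rw [hrs', c.tau_self] at hrs
    exact (c.tau_Tset hs (Ne.symm hq)).2.1 hrs.symm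
  rcases c.tau_inj hs hrs' (Ne.symm hq) hrs with ⟨e1, -⟩ | ⟨-, e2⟩
  · exact hr e1
  · exact hs' e2

theorem tau_starPerm (hs : c.Split) (hNI : 11520 ≤ Nat.card ↥(normalizer (I : Set A)))
    (n : ↥(normalizer (c.W : Set G))) (a b : c.Star) :
    c.tau hs (c.starPerm hs hNI n a) (c.starPerm hs hNI n b) = (n : G) * c.tau hs a b * (n : G)⁻¹ := by
  by_cases h : a = b
  · rw [h, c.tau_self, c.tau_self, mul_one, mul_inv_cancel]
  · refine c.tau_eq hs (c.starPerm_ne hs hNI n h) (c.starPerm_spec hs hNI n a b (Ne.symm h)) ?_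
    rw [c.tau_comm hs a b]
    exact c.starPerm_spec hs hNI n b a h

theorem starPerm_mul (hs : c.Split) (hNI : 11520 ≤ Nat.card ↥(normalizer (I : Set A)))
    (m n : ↥(normalizer (c.W : Set G))) (a : c.Star) :
    c.starPerm hs hNI (m * n) a = c.starPerm hs hNI m (c.starPerm hs hNI n a) := by
  refine c.isImage_unique hs (c.starPerm_spec hs hNI (m * n) a) fun d hd => ?_
  have h := c.starPerm_spec hs hNI m (c.starPerm hs hNI n a) (c.starPerm hs hNI n d)
    (c.starPerm_ne hs hNI n hd)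
  rw [c.tau_starPerm hs hNI] at h
  rw [Subgroup.coe_mul, show (m : G) * n * c.tau hs a d * ((m : G) * n)⁻¹ =
    m * ((n : G) * c.tau hs a d * (n : G)⁻¹) * (m : G)⁻¹ by group]
  exact h

/-- The action. -/
noncomputable def starHom (hs : c.Split) (hNI : 11520 ≤ Nat.card ↥(normalizer (I : Set A))) :
    ↥(normalizer (c.W : Set G)) →* Equiv.Perm c.Star :=
  MonoidHom.mk'
    (fun n => Equiv.ofBijective (c.starPerm hs hNI n) (Finite.injective_iff_bijective.1 fun a b e =>
      Classical.byContradiction fun h => c.starPerm_ne hs hNI n h e))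
    fun m n => Equiv.ext fun a => c.starPerm_mul hs hNI m n a

theorem tau_starHom (hs : c.Split) (hNI : 11520 ≤ Nat.card ↥(normalizer (I : Set A)))
    (n : ↥(normalizer (c.W : Set G))) (a b : c.Star) :
    c.tau hs (c.starHom hs hNI n a) (c.starHom hs hNI n b) = (n : G) * c.tau hs a b * (n : G)⁻¹ :=
  c.tau_starPerm hs hNI n a b

end CfsgLib.Spor.JFourType.Ctx
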