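import Cfsg.Agent.Lib.Spor.JFourType.StarPair
import Cfsg.Agent.Lib.Spor.JFourType.PointKernel

/-!
# The element of two stars and the rule of the triangle

The element incident with two stars is written `tau`.  If two of three stars lie over one point the three elements
multiply to one; over three points the product is `1` or `z`, the same for all triples.
-/

set_option autoImplicit false
set_option linter.style.haveILetI false

namespace CfsgLib.Spor.JFourType.Ctx

open Subgroup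

universe u

variable {G : Type u} [Group G] [Finite G] {A : Type} [Group A] {J I R : Subgroup A}
  {z : G} {P : Subgroup G} (c : Ctx J I R z P)
include c

/-- The stars as a type. -/
def Star : Type u := {S : Set G // c.IsStar S}

noncomputable instance instFiniteStar : Finite c.Star := inferInstanceAs (Finite {S : Set G // c.IsStar S})

/-- The element incident with two stars. -/
noncomputable def tau (hs : c.Split) (a b : c.Star) : G :=
  letI := Classical.propDecidable (a = b)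
  if h : a = b then 1 else (c.exists_inc hs a.2 b.2 fun e => h (Subtype.ext e)).choose

theorem tau_self (hs : c.Split) (a : c.Star) : c.tau hs a a = 1 := by simp [tau]

theorem tau_spec (hs : c.Split) {a b : c.Star} (h : a ≠ b) :
    c.Inc (c.tau hs a b) a.1 ∧ c.Inc (c.tau hs a b) b.1 := by
  rw [tau, dif_neg h]
  exact (c.exists_inc hs a.2 b.2 fun e => h (Subtype.ext e)).choose_spec

theorem tau_eq (hs : c.Split) {a b : c.Star} (h : a ≠ b) {t : G} (ha : c.Inc t a.1) (hb : c.Inc t b.1) :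
    c.tau hs a b = t :=
  c.inc_inj hs (fun e => h (Subtype.ext e)) (c.tau_spec hs h).1 (c.tau_spec hs h).2 ha hb

theorem tau_comm (hs : c.Split) (a b : c.Star) : c.tau hs a b = c.tau hs b a := by
  by_cases h : a = b
  · rw [h]
  · exact c.tau_eq hs h (c.tau_spec hs (Ne.symm h)).2 (c.tau_spec hs (Ne.symm h)).1

theorem tau_Tset (hs : c.Split) {a b : c.Star} (h : a ≠ b) : c.tau hs a b ∈ c.Tset :=
  c.inc_mem hs (c.tau_spec hs h).1

theorem tau_W (hs : c.Split) (a b : c.Star) : c.tau hs a b ∈ c.W := by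
  by_cases h : a = b
  · rw [h, c.tau_self]; exact one_mem _
  · exact (c.tau_Tset hs h).1

/-- The point under a star. -/
noncomputable def ptS (hs : c.Split) (a : c.Star) : c.Six :=
  ⟨c.Pt (c.exists_onPt hs a.2).choose, _, (c.exists_onPt hs a.2).choose_spec.1, rfl⟩

theorem ptS_eq (hs : c.Split) {a : c.Star} {v : c.Vs} (hv : c.IsN v) (h : c.OnPt a.1 v) :
    c.ptS hs a = ⟨c.Pt v, v, hv, rfl⟩ := by
  obtain ⟨hw, hwo⟩ := (c.exists_onPt hs a.2).choose_spec
  exact Subtype.ext (c.Pt_eq (c.onPt_unique hs a.2 hwo hw.2.1 h) hw.2.1)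

theorem ptS_same (hs : c.Split) {a b : c.Star} (h : c.ptS hs a = c.ptS hs b) :
    ∃ v, c.IsN v ∧ c.OnPt a.1 v ∧ c.OnPt b.1 v := by
  obtain ⟨v, hv, hvo⟩ := c.exists_onPt hs a.2
  obtain ⟨w, hw, hwo⟩ := c.exists_onPt hs b.2
  rw [c.ptS_eq hs hv hvo, c.ptS_eq hs hw hwo] at h
  have e : c.Pt v = c.Pt w := congrArg Subtype.val h
  exact ⟨v, hv, hvo, (c.OnPt_congr (e ▸ c.mem_Pt_self v) hv.2.1).2 hwo⟩

theorem ptS_ne (hs : c.Split) {a b : c.Star} (h : c.ptS hs a ≠ c.ptS hs b) {v w : c.Vs} (hv : c.IsN v)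
    (hw : c.IsN w) (ha : c.OnPt a.1 v) (hb : c.OnPt b.1 w) : w ∉ c.Pt v := fun hm =>
  h ((c.ptS_eq hs hv ha).trans ((Subtype.ext (c.Pt_eq hm hw.2.1).symm).trans (c.ptS_eq hs hw hb).symm))

/-- Over one point the element is the common one. -/
theorem tau_same (hs : c.Split) {a b : c.Star} (h : a ≠ b) (hp : c.ptS hs a = c.ptS hs b) :
    c.tau hs a b ∈ a.1 ∧ c.tau hs a b ∈ b.1 ∧ c.tau hs a b ∈ c.TU := by
  obtain ⟨v, -, ha, hb⟩ := c.ptS_same hs hp
  obtain ⟨s, h1, h2⟩ := c.stars_meet hs a.2 b.2 ha hb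
  rw [c.tau_eq hs h ⟨a.2, Or.inl h1⟩ ⟨b.2, Or.inl h2⟩]
  exact ⟨h1, h2, c.star_sub_TU hs a.2 h1⟩

theorem tau_diff (hs : c.Split) {a b : c.Star} (hp : c.ptS hs a ≠ c.ptS hs b) :
    ∃ i, c.Fib (c.tau hs a b) i := by
  have h : a ≠ b := fun e => hp (by rw [e])
  refine c.fib_exists (c.tau_Tset hs h) fun hU => hp ?_
  obtain ⟨h1, h2⟩ := c.tau_spec hs h
  have hT : c.tau hs a b ∈ c.TU := ⟨c.tau_Tset hs h, hU⟩
  have hN := c.pv_TU hs hT
  rw [c.ptS_eq hs hN (c.star_onPt hs a.2 ((c.inc_Ut hU).1 h1).2),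
    c.ptS_eq hs hN (c.star_onPt hs b.2 ((c.inc_Ut hU).1 h2).2)]

/-- Three stars over one point. -/
theorem tau_mul_point (hs : c.Split) {a b d : c.Star} (hab : a ≠ b) (hbd : b ≠ d) (had : a ≠ d)
    (hp : c.ptS hs a = c.ptS hs b) (hq : c.ptS hs b = c.ptS hs d) :
    c.tau hs a b * c.tau hs b d = c.tau hs a d := by
  obtain ⟨a1, a2, hT1⟩ := c.tau_same hs hab hp
  obtain ⟨b1, b2, hT2⟩ := c.tau_same hs hbd hq
  obtain ⟨d1, d2, hT3⟩ := c.tau_same hs had (hp.trans hq)
  set s1 := c.tau hs a b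
  set s2 := c.tau hs b d
  set s3 := c.tau hs a d
  -- no element lies in all three
  have htriple : ∀ s, s ∈ a.1 → s ∈ b.1 → s ∈ d.1 → False := by
    intro s ha hb hd
    obtain ⟨x, y, -, -, -, -, -, huniq⟩ := c.stars_through hs (c.star_sub_TU hs a.2 ha)
    rcases huniq _ a.2 ha with e1 | e1 <;> rcases huniq _ b.2 hb with e2 | e2 <;>
      rcases huniq _ d.2 hd with e3 | e3
    all_goals first
      | exact hab (Subtype.ext (e1.trans e2.symm))
      | exact hbd (Subtype.ext (e2.trans e3.symm))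
      | exact had (Subtype.ext (e1.trans e3.symm))
  have h12 : s1 ≠ s2 := fun e => htriple s1 a1 a2 (e ▸ b2)
  have h13 : s1 ≠ s3 := fun e => htriple s1 a1 a2 (e ▸ d2)
  have h23 : s2 ≠ s3 := fun e => htriple s2 (e ▸ d1) b1 b2
  have hb := c.star_eq_of_two hs b.2 a2 b1 h12
  have hv := c.star_onPt hs b.2 a2
  -- the third element lies over the sum
  have hpv : c.pv s3 = c.pv s1 + c.pv s2 := by
    have hPt : c.pv s2 ∈ c.Pt (c.pv s1) := hv s2 b1
    have h3 : c.pv s3 ∈ c.Pt (c.pv s1) := c.star_onPt hs a.2 a1 s3 d1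
    have hs12 : c.pv s1 ≠ c.pv s2 := fun e => h12 (c.star_pv_inj hs b.2 a2 b1 e)
    have hs13 : c.pv s1 ≠ c.pv s3 := fun e => h13 (c.star_pv_inj hs a.2 a1 d1 e)
    have hs23 : c.pv s2 ≠ c.pv s3 := fun e => h23 (c.star_pv_inj hs d.2 b2 d2 e)
    have hsum := c.Pt_add (c.mem_Pt_self (c.pv s1)) hPt
    have hne : c.pv s1 + c.pv s2 ≠ 0 := fun e => hs12 (c.add_eq_zero_V e)
    have hcases : ∀ w ∈ c.Pt (c.pv s1), w ≠ 0 → w = c.pv s1 ∨ w = c.pv s2 ∨ w = c.pv s1 + c.pv s2 := by
      intro w hw hw0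
      by_contra hcon
      push Not at hcon
      have hsub : ({c.pv s1, c.pv s2, c.pv s1 + c.pv s2, w} : Set c.Vs) ⊆ c.Pt (c.pv s1) \ {0} := by
        intro x hx
        simp only [Set.mem_insert_iff, Set.mem_singleton_iff] at hx
        rcases hx with rfl | rfl | rfl | rfl
        · exact ⟨c.mem_Pt_self _, (c.pv_TU hs hT1).2.1⟩
        · exact ⟨hPt, (c.pv_TU hs hT2).2.1⟩
        · exact ⟨hsum, hne⟩
        · exact ⟨hw, hw0⟩
      have hc4 : ({c.pv s1, c.pv s2, c.pv s1 + c.pv s2, w} : Set c.Vs).ncard = 4 := by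
        have e1 : c.pv s1 ≠ c.pv s1 + c.pv s2 := fun e => (c.pv_TU hs hT2).2.1 (left_eq_add.1 e)
        have e2 : c.pv s2 ≠ c.pv s1 + c.pv s2 := fun e => (c.pv_TU hs hT1).2.1 (right_eq_add.1 e)
        rw [Set.ncard_insert_of_notMem (by simp [hs12, e1, Ne.symm hcon.1]) (Set.toFinite _),
          Set.ncard_insert_of_notMem (by simp [e2, Ne.symm hcon.2.1]) (Set.toFinite _),
          Set.ncard_pair (Ne.symm hcon.2.2)]
      have := Set.ncard_le_ncard hsub (Set.toFinite _)
      rw [hc4, Set.ncard_sdiff_singleton_of_mem (c.zero_mem_Pt _), c.ncard_Pt (c.pv_TU hs hT1).2.1] at this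
      omega
    rcases hcases _ h3 (c.pv_TU hs hT3).2.1 with h | h | h
    · exact absurd h.symm hs13
    · exact absurd h.symm hs23
    · exact h
  have hU12 := mul_mem hT1.2 hT2.2
  rcases c.eq_or_mul_z hT3.2 hU12 (hpv.trans (c.pv_mul hT1.2.1 hT2.2.1).symm) with h | h
  · exact h.symm
  · exact (htriple s3 d1 (hb.symm ▸ (by rw [h]; simp)) d2).elim

/-- Two stars over one point and a third elsewhere. -/
theorem tau_mul_side (hs : c.Split) {a b d : c.Star} (hab : a ≠ b) (hp : c.ptS hs a = c.ptS hs b)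
    (hq : c.ptS hs a ≠ c.ptS hs d) : c.tau hs b d = c.tau hs a d * c.tau hs a b := by
  obtain ⟨hua, hub, huT⟩ := c.tau_same hs hab hp
  obtain ⟨i, hi⟩ := c.tau_diff hs hq
  obtain ⟨hta, htd⟩ := c.tau_spec hs (fun e => hq (by rw [e]) : a ≠ d)
  set u := c.tau hs a b
  set t := c.tau hs a d
  have hbd : b ≠ d := fun e => hq (by rw [hp, e])
  have hvN := c.pv_TU hs huT
  have hva := c.star_onPt hs a.2 hua
  have hvb := c.star_onPt hs b.2 hub
  obtain ⟨w, hwN, hwd⟩ := c.exists_onPt hs d.2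
  have hne : w ∉ c.Pt (c.pv u) := c.ptS_ne hs hq hvN hwN hva hwd
  have hvi := c.inc_point hs hi hta hva hvN.2.1
  have hwi := c.inc_point hs hi htd hwd hwN.2.1
  have hy : t * u ∈ c.Tset := ((c.inc_fib hs hi).1 hta).2 u hua
  have hyf := c.fib_mul hi huT.2 hy
  obtain ⟨e, he, hey⟩ := c.E_trans_fibre hs hi.1 hy hi.2.1 hyf.2.1 hi.2.2
  have hD : c.D i (c.pv e) = c.pv u := by
    rw [← (c.pv_flip hi he).2, hey, ← mul_assoc, c.W_sq hi.1.1, one_mul]
  have hfd : c.conjSet e d.1 = d.1 := c.conjSet_fix hs he d.2 hwd fun x hx =>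
    c.beta_cross_Pt hi.2.2 hwN hvN (c.ne_Pt_symm hvN hne) hwi hvi hD hx
  have hyd : c.Inc (t * u) d.1 := by
    have h := c.conj_inc he htd
    rwa [hey, hfd] at h
  have hfu : e * u * e⁻¹ = u := (c.E_conj_eq he huT.2.1).1 (hD ▸ c.D_orth i (c.pv e))
  have hea : c.conjSet e a.1 = b.1 := by
    have hne' : c.conjSet e a.1 ≠ a.1 := fun hfix => by
      have h1 := c.orth_of_fix hs he a.2 hva hfix (c.om_mem_Pt (c.mem_Pt_self _))
      rw [(c.beta_point hi.2.2 hvN hvi hD).1] at h1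
      exact one_ne_zero h1
    obtain ⟨x, y, -, -, -, -, -, huniq⟩ := c.stars_through hs huT
    rcases huniq _ (c.conj_isStar he a.2) ⟨u, hua, hfu⟩ with e1 | e1 <;>
      rcases huniq _ a.2 hua with e2 | e2 <;> rcases huniq _ b.2 hub with e3 | e3
    all_goals first
      | exact absurd (e1.trans e2.symm) hne'
      | exact e1.trans e3.symm
      | exact absurd (Subtype.ext (e2.trans e3.symm)) hab
  have hyb : c.Inc (t * u) b.1 := by
    have h := c.conj_inc he hta
    rwa [hey, hea] at h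
  exact c.tau_eq hs hbd hyb hyd

/-- The rule of the triangle if two of the stars lie over one point. -/
theorem tau_mul_of_same (hs : c.Split) {a b d : c.Star} (hab : a ≠ b) (hbd : b ≠ d) (had : a ≠ d)
    (h : c.ptS hs a = c.ptS hs b ∨ c.ptS hs b = c.ptS hs d ∨ c.ptS hs a = c.ptS hs d) :
    c.tau hs a b * c.tau hs b d = c.tau hs a d := by
  by_cases h1 : c.ptS hs a = c.ptS hs b
  · by_cases h2 : c.ptS hs b = c.ptS hs d
    · exact c.tau_mul_point hs hab hbd had h1 h2
    · rw [c.tau_mul_side hs hab h1 (by rwa [h1]), ← mul_assoc, c.W_comm (c.tau_W hs a b) (c.tau_W hs a d),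
        mul_assoc, c.W_sq (c.tau_W hs a b), mul_one]
  by_cases h2 : c.ptS hs b = c.ptS hs d
  · have e := c.tau_mul_side hs hbd h2 (Ne.symm h1)
    rw [c.tau_comm hs d a, c.tau_comm hs b a] at e
    exact e.symm
  · have h3 : c.ptS hs a = c.ptS hs d := by rcases h with h | h | h <;> [exact absurd h h1; exact absurd h h2; exact h]
    have e := c.tau_mul_side hs had h3 h1
    rw [c.tau_comm hs d b] at e
    rw [e, ← mul_assoc, c.W_sq (c.tau_W hs a b), one_mul]

/-- The product around a triangle. -/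
noncomputable def tri (hs : c.Split) (a b d : c.Star) : G := c.tau hs a b * c.tau hs b d * c.tau hs a d

theorem tri_W (hs : c.Split) (a b d : c.Star) : c.tri hs a b d ∈ c.W :=
  mul_mem (mul_mem (c.tau_W hs a b) (c.tau_W hs b d)) (c.tau_W hs a d)

/-- It depends only on the first point. -/
theorem tri_left (hs : c.Split) {a a' b d : c.Star} (hp : c.ptS hs a = c.ptS hs a')
    (hb : c.ptS hs a ≠ c.ptS hs b) (hd : c.ptS hs a ≠ c.ptS hs d) : c.tri hs a' b d = c.tri hs a b d := by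
  by_cases h : a = a'
  · rw [h]
  rw [tri, tri, c.tau_mul_side hs h hp hb, c.tau_mul_side hs h hp hd]
  set u := c.tau hs a a'
  have hu : u ∈ c.W := c.tau_W hs a a'
  set x := c.tau hs a b
  set y := c.tau hs b d
  set w := c.tau hs a d
  have hx : x ∈ c.W := c.tau_W hs a b
  have hy : y ∈ c.W := c.tau_W hs b d
  have hw : w ∈ c.W := c.tau_W hs a d
  calc x * u * y * (w * u) = x * (u * y) * (w * u) := by group
    _ = x * (y * u) * (u * w) := by rw [c.W_comm hu hy, c.W_comm hw hu]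
    _ = x * y * (u * u) * w := by group
    _ = x * y * w := by rw [c.W_sq hu, mul_one]

theorem tri_swap (hs : c.Split) (a b d : c.Star) : c.tri hs b a d = c.tri hs a b d := by
  rw [tri, tri, c.tau_comm hs b a, mul_assoc, mul_assoc, c.W_comm (c.tau_W hs a d) (c.tau_W hs b d)]

theorem tri_rot (hs : c.Split) (a b d : c.Star) : c.tri hs b d a = c.tri hs a b d := by
  rw [tri, tri, c.tau_comm hs b a, c.tau_comm hs d a]
  set x := c.tau hs a b
  set y := c.tau hs b d
  set w := c.tau hs a d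
  calc y * w * x = x * (y * w) := c.W_comm (mul_mem (c.tau_W hs b d) (c.tau_W hs a d)) (c.tau_W hs a b)
    _ = _ := (mul_assoc _ _ _).symm

/-- It depends only on the three points. -/
theorem tri_congr (hs : c.Split) {a a' b b' d d' : c.Star} (ha : c.ptS hs a = c.ptS hs a')
    (hb : c.ptS hs b = c.ptS hs b') (hd : c.ptS hs d = c.ptS hs d') (hab : c.ptS hs a ≠ c.ptS hs b)
    (hbd : c.ptS hs b ≠ c.ptS hs d) (had : c.ptS hs a ≠ c.ptS hs d) :
    c.tri hs a' b' d' = c.tri hs a b d := by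
  have e1 : c.tri hs a' b d = c.tri hs a b d := c.tri_left hs ha hab had
  have e2 : c.tri hs b' d a' = c.tri hs b d a' := c.tri_left hs hb hbd (by rw [← ha]; exact Ne.symm hab)
  have e3 : c.tri hs d' a' b' = c.tri hs d a' b' :=
    c.tri_left hs hd (by rw [← ha]; exact Ne.symm had) (by rw [← hb]; exact Ne.symm hbd)
  rw [← c.tri_rot hs a' b' d', ← c.tri_rot hs b' d' a', e3, c.tri_rot hs b' d a', e2, c.tri_rot hs a' b d, e1]

end CfsgLib.Spor.JFourType.Ctx
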