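import Cfsg.Prelude.Def_Transfer
import Mathlib

/-!
# Self-centralizing elementary abelian subgroups of order `2 ^ 10`

General facts: conjugates, and the orbit of an element under a subgroup acting by conjugation.
-/

set_option autoImplicit false

namespace CfsgLib.Spor.JFourType

open Subgroup

universe u

variable {G : Type u} [Group G]

/-- A self-centralizing elementary abelian subgroup of order `2 ^ 10`. -/
structure IsTen (S : Subgroup G) : Prop where
  ea : Cfsg.IsElementaryAbelian 2 S
  card : Nat.card ↥S = 2 ^ 10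
  self : centralizer (S : Set G) = S

theorem mem_map_conj {S : Subgroup G} {g x : G} :
    x ∈ S.map (MulAut.conj g).toMonoidHom ↔ g⁻¹ * x * g ∈ S := by
  constructor
  · rintro ⟨y, hy, rfl⟩
    simpa [mul_assoc] using hy
  · intro h
    exact ⟨_, h, by simp [mul_assoc]⟩

theorem mem_normalizer_of_map {S : Subgroup G} {g : G} (h : S.map (MulAut.conj g).toMonoidHom = S) :
    g ∈ normalizer (S : Set G) := by
  refine mem_normalizer_iff.2 fun x => ?_
  conv_rhs => rw [← h, mem_map_conj]
  rw [show g⁻¹ * (g * x * g⁻¹) * g = x by group]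

theorem map_of_mem_normalizer {S : Subgroup G} {g : G} (h : g ∈ normalizer (S : Set G)) :
    S.map (MulAut.conj g).toMonoidHom = S := by
  ext x
  rw [mem_map_conj]
  have := (mem_normalizer_iff.1 h) (g⁻¹ * x * g)
  rw [show g * (g⁻¹ * x * g) * g⁻¹ = x by group] at this
  exact this

theorem map_conj_conj {S : Subgroup G} (g h : G) :
    (S.map (MulAut.conj h).toMonoidHom).map (MulAut.conj g).toMonoidHom =
      S.map (MulAut.conj (g * h)).toMonoidHom := by
  ext x
  rw [mem_map_conj, mem_map_conj, mem_map_conj,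
    show h⁻¹ * (g⁻¹ * x * g) * h = (g * h)⁻¹ * x * (g * h) by group]

namespace IsTen

variable {S : Subgroup G} (h : IsTen S)
include h

theorem comm {x y : G} (hx : x ∈ S) (hy : y ∈ S) : x * y = y * x :=
  congrArg Subtype.val (h.ea.1.is_comm.comm ⟨x, hx⟩ ⟨y, hy⟩)

theorem sq {x : G} (hx : x ∈ S) : x * x = 1 := by rw [← pow_two]; exact h.ea.2 x hx

theorem isPGroup : IsPGroup 2 ↥S := IsPGroup.of_card (n := 10) h.card

theorem map (g : G) : IsTen (S.map (MulAut.conj g).toMonoidHom) where
  ea := by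
    refine ⟨⟨⟨fun a b => Subtype.ext ?_⟩⟩, fun x hx => ?_⟩
    · obtain ⟨y, hy, ey⟩ := a.2
      obtain ⟨w, hw, ew⟩ := b.2
      show (a : G) * b = b * a
      rw [← ey, ← ew, ← map_mul, ← map_mul, h.comm hy hw]
    · obtain ⟨y, hy, rfl⟩ := hx
      rw [← map_pow, h.ea.2 y hy, map_one]
  card := by
    rw [← h.card]
    exact (Nat.card_congr (equivMapOfInjective _ _ (MulAut.conj g).injective).toEquiv).symm
  self := by
    ext x
    rw [mem_map_conj, mem_centralizer_iff]
    constructor
    · intro hx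
      rw [← h.self, mem_centralizer_iff]
      intro y hy
      have hc := hx (g * y * g⁻¹) (mem_map_conj.2 (by rwa [show g⁻¹ * (g * y * g⁻¹) * g = y by group]))
      calc y * (g⁻¹ * x * g) = g⁻¹ * ((g * y * g⁻¹) * x) * g := by group
        _ = g⁻¹ * (x * (g * y * g⁻¹)) * g := by rw [hc]
        _ = _ := by group
    · intro hx y hy
      have hc := h.comm (mem_map_conj.1 hy) hx
      calc y * x = g * ((g⁻¹ * y * g) * (g⁻¹ * x * g)) * g⁻¹ := by group
        _ = g * ((g⁻¹ * x * g) * (g⁻¹ * y * g)) * g⁻¹ := by rw [hc]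
        _ = _ := by group

end IsTen

/-- The orbit under conjugation by a subgroup and the centralizer in it. -/
theorem ncard_orbit_mul (K : Subgroup G) (x : G) :
    Set.ncard {v : G | ∃ n ∈ K, n * x * n⁻¹ = v} * Nat.card ↥(K ⊓ centralizer ({x} : Set G) : Subgroup G) =
      Nat.card ↥K := by
  letI act : MulAction ↥K G :=
    { smul := fun n v => (n : G) * v * (n : G)⁻¹
      one_smul := fun v => by
        show ((1 : ↥K) : G) * v * ((1 : ↥K) : G)⁻¹ = v
        simp
      mul_smul := fun m n v => by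
        show ((m : G) * n) * v * ((m : G) * n)⁻¹ = (m : G) * ((n : G) * v * (n : G)⁻¹) * (m : G)⁻¹
        group }
  have hst : MulAction.stabilizer ↥K x = (K ⊓ centralizer ({x} : Set G)).subgroupOf K := by
    ext n
    rw [MulAction.mem_stabilizer_iff, mem_subgroupOf, mem_inf, mem_centralizer_singleton_iff]
    show (n : G) * x * (n : G)⁻¹ = x ↔ _
    rw [mul_inv_eq_iff_eq_mul]
    exact ⟨fun h => ⟨n.2, h⟩, fun h => h.2⟩
  have horb : MulAction.orbit ↥K x = {v : G | ∃ n ∈ K, n * x * n⁻¹ = v} := by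
    ext v
    exact ⟨fun ⟨n, hn⟩ => ⟨n, n.2, hn⟩, fun ⟨n, hn, e⟩ => ⟨⟨n, hn⟩, e⟩⟩
  have h := (MulAction.stabilizer ↥K x).card_mul_index
  rw [MulAction.index_stabilizer, horb, hst, Nat.card_congr (subgroupOfEquivOfLe inf_le_left).toEquiv] at h
  rw [mul_comm]
  exact h

end CfsgLib.Spor.JFourType
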