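import Cfsg.Agent.Lib.Spor.JFourType.Hexads
import Cfsg.Agent.Lib.Spor.JFourType.NotClosed
import Cfsg.Agent.Lib.Spor.JFourType.TenDef
import Cfsg.Agent.Lib.Spor.JFourType.TenBasic

/-!
# Self-centralizing elementary abelian subgroups of order `2 ^ 10` through `z`

The image of such a subgroup is a spread subgroup and determines it.
-/

set_option autoImplicit false
set_option linter.style.haveILetI false

namespace CfsgLib.Spor.JFourType.Ctx

open Subgroup

universe u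

variable {G : Type u} [Group G] [Finite G] {A : Type} [Group A] {J I R : Subgroup A}
  {z : G} {P : Subgroup G} (c : Ctx J I R z P)
include c

theorem act_eq_of_sq {x y : G} (hx : x ∈ c.M) (hy : y ∈ c.M) (he : c.im x = c.im y) (h1 : x * x = 1)
    (h2 : y * y = 1) : c.act x = c.act y :=
  c.act_eq_of_im hx hy he (n := 2) (by norm_num)
    (by rw [← c.act_pow (c.H_of_M hx), pow_two, h1, c.act_one])
    (by rw [← c.act_pow (c.H_of_M hy), pow_two, h2, c.act_one])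

theorem ten_exists_conj_z {S : Subgroup G} (h : IsTen S) : ∃ g : G, z ∈ S.map (MulAut.conj g).toMonoidHom := by
  haveI : Fact (Nat.Prime 2) := ⟨Nat.prime_two⟩
  obtain ⟨T, hT⟩ := h.isPGroup.exists_le_sylow
  obtain ⟨S0, hS0, -, -⟩ := c.exists_sylow_ge c.W_le_H c.W_isPGroup
  obtain ⟨g, hg⟩ := MulAction.exists_smul_eq G T S0
  refine ⟨g, (h.map g).self ▸ mem_centralizer_iff.2 fun y hy => ?_⟩
  refine c.comm_z (hS0 ?_)
  rw [← hg, Sylow.coe_subgroup_smul, Subgroup.mem_pointwise_smul_iff_inv_smul_mem]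
  simpa [MulAut.smul_def] using hT (mem_map_conj.1 hy)

variable {S : Subgroup G} (h : IsTen S) (hz : z ∈ S)
include h hz

theorem ten_le_H : S ≤ c.H := fun _ hx => mem_centralizer_singleton_iff.2 (h.comm hx hz)

theorem ten_imS_map {g : G} (hg : g ∈ c.H) :
    IsConjugateBy (c.im g) (c.imS S) (c.imS (S.map (MulAut.conj g).toMonoidHom)) := by
  have hS := c.ten_le_H h hz
  have hS' : S.map (MulAut.conj g).toMonoidHom ≤ c.H := by
    rintro x ⟨y, hy, rfl⟩
    exact mul_mem (mul_mem hg (hS hy)) (inv_mem hg)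
  intro a
  rw [c.mem_imS hS', c.mem_imS hS]
  constructor
  · rintro ⟨x, ⟨y, hy, rfl⟩, rfl⟩
    refine ⟨y, hy, ?_⟩
    show c.im y = (c.im g)⁻¹ * c.im (g * y * g⁻¹) * c.im g
    rw [c.im_conj hg (hS hy)]
    group
  · rintro ⟨y, hy, e⟩
    refine ⟨_, ⟨y, hy, rfl⟩, ?_⟩
    show c.im (g * y * g⁻¹) = a
    rw [c.im_conj hg (hS hy), e]
    group

omit h hz in
theorem z_mem_map {T : Subgroup G} (hT : z ∈ T) {g : G} (hg : g ∈ c.H) :
    z ∈ T.map (MulAut.conj g).toMonoidHom := by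
  refine mem_map_conj.2 ?_
  rwa [mul_assoc, ← c.comm_z hg, ← mul_assoc, inv_mul_cancel, one_mul]

theorem ten_pvS_le : Nat.card ↥(c.pvS S) ≤ 2 ^ 6 := by
  have h1 := c.card_perp (c.pvS S)
  have h3 := AddSubgroup.card_le_of_le (c.pvS_le_perp (S := S) fun x hx y hy => h.comm hx hy)
  by_contra hcon
  push Not at hcon
  have := Nat.mul_le_mul hcon (le_trans hcon h3)
  omega

theorem ten_bound : 512 ≤ Nat.card ↥(c.imS S) * Nat.card ↥(c.pvS S) := by
  have hb := c.card_le_of_fix (c.ten_le_H h hz) h.isPGroup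
  rw [h.card, mul_left_comm] at hb
  omega

theorem ten_imS_ea : Cfsg.IsElementaryAbelian 2 (c.imS S) := by
  have hS := c.ten_le_H h hz
  refine ⟨⟨⟨fun a b => Subtype.ext ?_⟩⟩, fun a ha => ?_⟩
  · obtain ⟨x, hx, hxa⟩ := (c.mem_imS hS).1 a.2
    obtain ⟨y, hy, hyb⟩ := (c.mem_imS hS).1 b.2
    show (a : A) * b = b * a
    rw [← hxa, ← hyb, ← c.im_mul (hS hx) (hS hy), ← c.im_mul (hS hy) (hS hx), h.comm hx hy]
  · obtain ⟨x, hx, rfl⟩ := (c.mem_imS hS).1 ha
    rw [← c.im_pow (hS hx), pow_two, h.sq hx, c.im_one]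

theorem ten_pvS_le_fix : c.pvS S ≤ c.fix (S : Set G) :=
  c.pvS_le_fix (c.ten_le_H h hz) fun x hx y hy => h.comm hx hy

theorem ten_R_bound {j : A} (hj : j ∈ J) (hjR : IsConjugateBy j R (c.imS S ⊓ J)) :
    Nat.card ↥(c.pvS S) ≤ 4 := by
  have hS := c.ten_le_H h hz
  have h4 := c.card_fix_R_type (S := S ⊓ c.M) inf_le_right (h.isPGroup.to_le inf_le_left) hj fun r hr => by
    obtain ⟨hmem, hJ⟩ := hjR.mem_conj hr
    obtain ⟨x, hx, e⟩ := (c.mem_imS hS).1 hmem
    exact ⟨x, ⟨hx, (c.mem_M_iff_im (hS hx)).2 (by rw [e]; exact hJ)⟩, e⟩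
  exact (AddSubgroup.card_le_of_le (c.ten_pvS_le_fix h hz)).trans
    ((AddSubgroup.card_le_of_le (c.fix_anti (inf_le_left : S ⊓ c.M ≤ S))).trans h4)

theorem ten_card_imS_lt : Nat.card ↥(c.imS S) < 32 := by
  haveI := c.finite_A
  by_contra hcon
  push Not at hcon
  have hea := c.ten_imS_ea h hz
  obtain ⟨he, -, j, hj, hjR⟩ := c.facts.big_abelian _ (c.imS_isPGroup h.isPGroup)
    (fun a ha b hb => congrArg Subtype.val (hea.1.is_comm.comm ⟨a, ha⟩ ⟨b, hb⟩)) hcon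
  have := c.ten_R_bound h hz hj hjR
  have hb := c.ten_bound h hz
  rw [he] at hb
  omega

theorem ten_inner : c.imS S ≤ J := by
  haveI := c.finite_A
  have hS := c.ten_le_H h hz
  intro a ha
  by_contra haJ
  obtain ⟨s, hs, rfl⟩ := (c.mem_imS hS).1 ha
  have hsM : s ∉ c.M := fun hm => haJ ((c.mem_M_iff_im (hS hs)).1 hm)
  have hb := c.ten_bound h hz
  have hX := c.ten_pvS_le h hz
  have hlt := c.ten_card_imS_lt h hz
  obtain ⟨b, hbK, hb1⟩ : ∃ b ∈ c.imS S ⊓ J, b ≠ 1 := by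
    by_contra hcon
    push Not at hcon
    have hri : (c.imS S ⊓ J).relIndex (c.imS S) ≤ 2 := by
      rw [Subgroup.inf_relIndex_left]
      haveI : J.Normal := Subgroup.normal_of_index_eq_two c.facts.index_J
      exact (Nat.le_of_dvd (by rw [c.facts.index_J]; norm_num)
        (Subgroup.relIndex_dvd_index_of_normal J (c.imS S))).trans (le_of_eq c.facts.index_J)
    rw [(Subgroup.eq_bot_iff_forall _).2 hcon, relIndex_bot_left] at hri
    have := Nat.mul_le_mul hri hX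
    omega
  obtain ⟨x, hx, hxb⟩ := (c.mem_imS hS).1 hbK.1
  have hxM : x ∈ c.M := (c.mem_M_iff_im (hS hx)).2 (by rw [hxb]; exact hbK.2)
  have h8 := c.card_fix_inner hxM
    (orderOf_eq_prime (by rw [hxb]; exact (c.ten_imS_ea h hz).2 b hbK.1) (by rw [hxb]; exact hb1))
    (a := 1) (by rw [pow_one, pow_two, h.sq hx])
  have hsq := c.card_sq_le (hS hs) hsM
    ((c.ten_pvS_le_fix h hz).trans (c.fix_anti (Set.singleton_subset_iff.2 hs)))
    ((c.ten_pvS_le_fix h hz).trans (c.fix_anti (inf_le_left : S ⊓ c.M ≤ S)))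
    (fun v hv => c.fix_om (inf_le_right : S ⊓ c.M ≤ c.M) hv)
  have hM8 : Nat.card ↥(c.fix ((S ⊓ c.M : Subgroup G) : Set G)) ≤ 2 ^ 8 :=
    h8 ▸ AddSubgroup.card_le_of_le (c.fix_anti (Set.singleton_subset_iff.2 (show x ∈ S ⊓ c.M from ⟨hx, hxM⟩)))
  have h16 : Nat.card ↥(c.pvS S) ≤ 16 := by
    by_contra hcon
    push Not at hcon
    have := Nat.mul_le_mul hcon hcon
    omega
  have := Nat.mul_le_mul (Nat.le_of_lt_succ hlt) h16
  omega

theorem ten_mem_M {x : G} (hx : x ∈ S) : x ∈ c.M :=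
  (c.mem_M_iff_im (c.ten_le_H h hz hx)).2
    (c.ten_inner h hz ((c.mem_imS (c.ten_le_H h hz)).2 ⟨x, hx, rfl⟩))

theorem ten_lift_le : c.lift (c.pvS S) ≤ S := by
  rintro e ⟨he, a, haS, haE, hav⟩
  rcases (c.pv_eq_iff haE he).1 hav with hae | hae
  · exact hae ▸ haS
  · have : e = z * a := by rw [hae, ← mul_assoc, c.zz, one_mul]
    exact this ▸ mul_mem hz haS

theorem ten_act_lv {x : G} (hx : x ∈ S) {i : ↥I} (hi : c.im x = i) : c.act x = c.act (c.lv i) :=
  c.act_eq_of_sq (c.ten_mem_M h hz hx) (c.C0_le_M (c.L0_le (c.lv_mem i))) (hi.trans (c.im_lv i).symm) (h.sq hx)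
    (c.L0_elementary (c.lv_mem i))

theorem ten_not_le_W (hW : S ≤ c.W) : False := by
  have hle : c.W ≤ S := fun w hw => h.self ▸ mem_centralizer_iff.2 fun y hy => c.W_comm (hW hy) hw
  have := card_le_of_le hle
  rw [c.card_W, h.card] at this
  norm_num at this

/-- Two involutions of `I` cannot both be images. -/
theorem ten_no_pair {a b : ↥I} (ha : a ≠ 1) (hb : b ≠ 1) (hab : a ≠ b) (haS : (a : A) ∈ c.imS S)
    (hbS : (b : A) ∈ c.imS S) (hX : Nat.card ↥(c.pvS S) = 2 ^ 6) : False := by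
  have hS := c.ten_le_H h hz
  obtain ⟨x, hx, hxa⟩ := (c.mem_imS hS).1 haS
  obtain ⟨y, hy, hyb⟩ := (c.mem_imS hS).1 hbS
  have hle : c.pvS S ≤ c.U := by
    rw [← c.Fx_inf ha hb hab]
    refine le_inf ?_ ?_ <;> intro v hv <;> refine c.mem_fix_singleton.2 ?_
    · rw [← c.ten_act_lv h hz hx hxa]; exact c.ten_pvS_le_fix h hz hv x hx
    · rw [← c.ten_act_lv h hz hy hyb]; exact c.ten_pvS_le_fix h hz hv y hy
  have heq : c.pvS S = c.U := AddSubgroup.eq_of_le_of_card_ge hle (by rw [hX, c.card_U])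
  refine c.ten_not_le_W h hz fun w hw => ?_
  have hI : c.im w ∈ I := c.im_mem_of_fix_U (hS hw) (a := 1) (by rw [pow_one, pow_two, h.sq hw])
    fun v hv => c.ten_pvS_le_fix h hz (heq.symm ▸ hv) w hw
  refine c.mem_W_of (c.ten_mem_M h hz hw) hI fun u hu => ?_
  exact h.comm hw (c.ten_lift_le h hz (show u ∈ c.lift (c.pvS S) by rw [heq]; exact hu))

/-- The image is no conjugate of `I`. -/
theorem ten_not_I (hI : ∀ x ∈ S, c.im x ∈ I) (h16 : Nat.card ↥(c.imS S) = 16) : False := by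
  haveI := c.finite_A
  have hS := c.ten_le_H h hz
  have hK : c.imS S = I := eq_of_le_of_card_ge
    (fun a ha => by obtain ⟨x, hx, rfl⟩ := (c.mem_imS hS).1 ha; exact hI x hx) (by rw [h16, c.facts.card_I])
  have hcov : ∀ i : ↥I, ∃ x ∈ S, c.im x = i := fun i => (c.mem_imS hS).1 (by rw [hK]; exact i.2)
  have hXU : c.pvS S ≤ c.U := by
    intro v hv
    rw [c.U_eq_iInf]
    intro i
    obtain ⟨x, hx, hxi⟩ := hcov i
    refine c.mem_fix_singleton.2 ?_
    rw [← c.ten_act_lv h hz hx hxi]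
    exact c.ten_pvS_le_fix h hz hv x hx
  have h32 : 32 ≤ Nat.card ↥(c.pvS S) := by
    have := c.ten_bound h hz
    rw [h16] at this
    omega
  -- the part in the core
  have hev : ∀ x ∈ S, ∀ i : ↥I, c.im x = i → x * c.lv i ∈ c.E ∧ c.pv (x * c.lv i) ∈ c.perp (c.pvS S) := by
    intro x hx i hi
    have hm : x * c.lv i ∈ c.H := mul_mem (hS hx) (c.lv_H i)
    have hE : x * c.lv i ∈ c.E := (c.act_eq_one hm).1 (by
      rw [c.act_mul (hS hx) (c.lv_H i), c.ten_act_lv h hz hx hi, ← c.act_mul (c.lv_H i) (c.lv_H i),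
        c.L0_elementary (c.lv_mem i), c.act_one])
    refine ⟨hE, c.mem_perp.2 ?_⟩
    rintro _ ⟨a, haS, haE, rfl⟩
    have haU : a ∈ c.Ut := ⟨haE, hXU ⟨a, haS, haE, rfl⟩⟩
    rw [c.Bf_comm haE hE, ← mul_assoc, h.comm haS hx, mul_assoc, ← c.L0_comm_Ut (c.lv_mem i) haU, ← mul_assoc]
  by_cases hall : ∀ x ∈ S, ∀ i : ↥I, c.im x = i → c.pv (x * c.lv i) ∈ c.U
  · refine c.ten_not_le_W h hz fun x hx => ?_
    set i : ↥I := ⟨c.im x, hI x hx⟩
    refine c.mem_W.2 ⟨x * c.lv i, ⟨(hev x hx i rfl).1, hall x hx i rfl⟩, c.lv i, c.lv_mem i, ?_⟩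
    rw [mul_assoc, c.L0_elementary (c.lv_mem i), mul_one]
  push Not at hall
  obtain ⟨x0, hx0, i0, hi0, hv⟩ := hall
  set v := c.pv (x0 * c.lv i0) with hv_def
  -- commuting elements
  have hcomm : ∀ x ∈ S, ∀ y ∈ S, ∀ i j : ↥I, c.im x = i → c.im y = j →
      c.D i (c.pv (y * c.lv j)) = c.D j (c.pv (x * c.lv i)) := by
    intro x hx y hy i j hi hj
    obtain ⟨he, -⟩ := hev x hx i hi
    obtain ⟨he', -⟩ := hev y hy j hj
    set e := x * c.lv i
    set e' := y * c.lv j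
    have hl := c.L0_elementary (c.lv_mem i)
    have hm := c.L0_elementary (c.lv_mem j)
    have hxe : x = e * c.lv i := by simp [e, mul_assoc, hl]
    have hye : y = e' * c.lv j := by simp [e', mul_assoc, hm]
    have hlm : c.lv i * c.lv j = c.lv j * c.lv i := c.L0_comm (c.lv_mem i) (c.lv_mem j)
    have hxy := h.comm hx hy
    rw [hxe, hye] at hxy
    have h1 : e * (c.lv i * e' * (c.lv i)⁻¹) = e' * (c.lv j * e * (c.lv j)⁻¹) := by
      refine mul_right_cancel (b := c.lv i * c.lv j) ?_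
      calc e * (c.lv i * e' * (c.lv i)⁻¹) * (c.lv i * c.lv j) = e * c.lv i * (e' * c.lv j) := by group
        _ = e' * c.lv j * (e * c.lv i) := hxy
        _ = e' * (c.lv j * e * (c.lv j)⁻¹) * (c.lv j * c.lv i) := by group
        _ = _ := by rw [hlm]
    have h2 := congrArg c.pv h1
    rw [c.pv_mul he (c.conj_E (c.lv_H i) he'), c.pv_mul he' (c.conj_E (c.lv_H j) he), c.pv_conj (c.lv_H i) he',
      c.pv_conj (c.lv_H j) he] at h2
    refine c.add_eq_zero_V ?_
    rw [c.D_apply, c.D_apply]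
    calc c.act (c.lv i) (c.pv e') + c.pv e' + (c.act (c.lv j) (c.pv e) + c.pv e)
        = (c.pv e + c.act (c.lv i) (c.pv e')) + (c.pv e' + c.act (c.lv j) (c.pv e)) := by abel
      _ = 0 := by rw [h2, c.two_V]
  have hv0 : c.D i0 v = 0 := by
    obtain ⟨he, -⟩ := hev x0 hx0 i0 hi0
    have hl := c.L0_elementary (c.lv_mem i0)
    have hsq := h.sq hx0
    rw [show x0 = x0 * c.lv i0 * c.lv i0 by rw [mul_assoc, hl, mul_one]] at hsq
    have h1 : c.lv i0 * (x0 * c.lv i0) * (c.lv i0)⁻¹ = (x0 * c.lv i0)⁻¹ := by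
      rw [inv_eq_of_mul_eq_one_right hl, eq_inv_iff_mul_eq_one]
      calc c.lv i0 * (x0 * c.lv i0) * c.lv i0 * (x0 * c.lv i0)
          = c.lv i0 * ((x0 * c.lv i0 * c.lv i0) * (x0 * c.lv i0 * c.lv i0)) * (c.lv i0)⁻¹ := by group
        _ = 1 := by rw [hsq, mul_one, mul_inv_cancel]
    have h2 := congrArg c.pv h1
    rw [c.pv_conj (c.lv_H i0) he, c.pv_inv he] at h2
    rw [c.D_apply, h2, c.two_V]
  -- the orthogonal is spanned by `U` and `v`
  set T := c.U ⊔ AddSubgroup.zmultiples v with hT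
  have hTperp : T ≤ c.perp (c.pvS S) :=
    sup_le (c.perp_U.ge.trans (c.perp_anti hXU)) (AddSubgroup.zmultiples_le.2 (hev x0 hx0 i0 hi0).2)
  have hT0 : T ≤ c.Fx i0 :=
    sup_le (c.U_le_Fx i0) (AddSubgroup.zmultiples_le.2 (c.D_eq_zero.1 hv0))
  have hperp : c.perp (c.pvS S) = T := by
    refine (AddSubgroup.eq_of_le_of_card_ge hTperp ?_).symm
    have h1 := c.card_perp (c.pvS S)
    have h2 : 64 ∣ Nat.card ↥T := by
      have := AddSubgroup.card_dvd_of_le (le_sup_left : c.U ≤ T)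
      rwa [c.card_U] at this
    have h3 : Nat.card ↥T ≠ 64 := fun e => hv (by
      have heq : c.U = T := AddSubgroup.eq_of_le_of_card_ge le_sup_left (by rw [e, c.card_U]; norm_num)
      rw [heq]
      exact AddSubgroup.mem_sup_right (AddSubgroup.mem_zmultiples v))
    have h4 : 0 < Nat.card ↥T := Nat.card_pos
    have h5 := Nat.mul_le_mul_right (Nat.card ↥(c.perp (c.pvS S))) h32
    omega
  refine hv (c.U_eq_iInf.2 fun j => c.D_eq_zero.1 ?_)
  obtain ⟨y, hy, hyj⟩ := hcov j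
  rw [show c.D j v = _ from hcomm y hy x0 hx0 j i0 hyj hi0]
  exact c.D_eq_zero.2 (hT0 (hperp ▸ (hev y hy j hyj).2))

end CfsgLib.Spor.JFourType.Ctx
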