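import Cfsg.Agent.Lib.Spor.JFourType.TenNorm

/-!
# The conjugates of `z` in the octad subgroup

Given the order of the normalizer in terms of their number, there are 155 of them, in the positions of the
decomposable two-vectors, and the other involutions form one orbit.
-/

set_option autoImplicit false
set_option linter.style.haveILetI false

namespace CfsgLib.Spor.JFourType

open Subgroup Cfsg CfsgLib.Spor CfsgLib.Spor.JFourType.TenData CfsgLib.Spor.JFourType.TenCode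
open scoped Pointwise

universe u

namespace WModel

variable {G : Type u} [Group G] {z : G} {W : Subgroup G} (M : WModel z W)
include M

/-- The conjugates of `z` in the subgroup. -/
def Zs : Set G := {x | x ∈ M.A1 ∧ IsConj z x}

/-- The members of the coset over the first member of the pointwise stabilizer. -/
def T0 : Set ℕ := {a | a < 64 ∧ IsConj z (M.el a 1)}

/-- The element of a two-vector. -/
noncomputable def psiV (v : ℕ) : G := M.el (idx v &&& 63) (idx v >>> 6)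

omit M in
theorem isConj_conj_iff {w g x : G} : IsConj w (g * x * g⁻¹) ↔ IsConj w x :=
  ⟨fun h => h.trans (isConj_iff.2 ⟨g⁻¹, by group⟩), fun h => h.trans (isConj_iff.2 ⟨g, rfl⟩)⟩

/-- Conjugation by a packed element. -/
theorem el_conj {P a a' i j : ℕ} (hP : isM24Code P = true) (ha : a < 64) (hi : i < 16) (hj : j < 16)
    (hpc : isPermCode (permMulCode P (qN i)) = true) (hmul : permMulCode P (qN i) = permMulCode (qN j) P)
    (hact : clear (permMask P (aMask a)) = clear (aMask a')) :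
    M.m (m24Of P) * M.el a i * (M.m (m24Of P))⁻¹ = M.el a' j := by
  have hPp := isPermCode_of_isM24Code hP
  have hq : m24Of P * qPerm i = qPerm j * m24Of P := by
    refine Subtype.ext ?_
    rw [Subgroup.coe_mul, Subgroup.coe_mul, m24Of_coe hP, qPerm_coe hi, qPerm_coe hj,
      permOf_permMulCode hPp (isPermCode_of_isM24Code (qs_perm i hi)) hpc rfl,
      permOf_permMulCode (isPermCode_of_isM24Code (qs_perm j hj)) hPp (hmul ▸ hpc) rfl, hmul]
  rw [el, el, ← M.Φ_eq_of_clear hact, M.Φ_perm hP (aMask_lt a ha).2]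
  calc M.m (m24Of P) * (M.Φ (aMask a) * M.m (qPerm i)) * (M.m (m24Of P))⁻¹
      = M.m (m24Of P) * M.Φ (aMask a) * (M.m (m24Of P))⁻¹ *
        (M.m (m24Of P) * M.m (qPerm i) * (M.m (m24Of P))⁻¹) := by group
    _ = _ := by rw [← map_mul, hq, map_mul, mul_inv_cancel_right]

omit M in
theorem lin_lt {k : ℕ} (hk : k < 15) {a : ℕ} (ha : a < 64) : lin (witAct.getD k []) a < 64 := (witAct_ok k hk a ha).1

omit M in
theorem witAct_bijective {k : ℕ} (hk : k < 15) :
    Function.Bijective (fun a : Fin 64 => (⟨lin (witAct.getD k []) a, lin_lt hk a.2⟩ : Fin 64)) := by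
  refine Finite.injective_iff_bijective.1 fun a b h => Fin.ext (Nat.xor_eq_zero_iff.1 ?_)
  have h' : lin (witAct.getD k []) a = lin (witAct.getD k []) b := congrArg Fin.val h
  exact (witAct_ok k hk _ (Nat.xor_lt_two_pow (n := 6) a.2 b.2)).2.2 (by rw [lin_xor, h', Nat.xor_self])

/-- Transport along the witnesses. -/
theorem conj_witness {k a : ℕ} (hk : k < 15) (ha : a < 64) :
    IsConj z (M.el (lin (witAct.getD k []) a) (k + 1)) ↔ IsConj z (M.el a 1) := by
  obtain ⟨h1, h2, h3, h4⟩ := wit_ok k hk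
  rw [← M.el_conj h1 ha (by norm_num) (show k + 1 < 16 by omega) h3 h4 (witAct_ok k hk a ha).2.1]
  exact isConj_conj_iff

theorem four_conj {p : ℕ × ℕ} (hp : p ∈ fours) : IsConj z (M.el p.1 0) := by
  obtain ⟨-, -, h⟩ := fours_ok
  obtain ⟨-, -, h4, hc⟩ := h p hp
  rw [el, qPerm_zero, map_one, mul_one, ← M.Φ_eq_of_clear hc]
  exact M.four _ h4

variable [Finite G]

/-- The coset over a member is closed under the subgroup of eight. -/
theorem T0_add {a c : ℕ} (ha : a ∈ M.T0) (hc : c ∈ cs) : a ^^^ c ∈ M.T0 := by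
  obtain ⟨-, -, hlt, -, hw⟩ := cs_ok
  obtain ⟨b, hb, hb', hcl⟩ := hw c hc
  have hc64 := hlt c hc
  refine ⟨Nat.xor_lt_two_pow (n := 6) ha.1 hc64, ?_⟩
  set d := 2 ^ pOut ^^^ 2 ^ b with hd
  have hp := pop_pair_even pOut_notMem.1 hb
  have hP := M.Φ_perm (qs_perm 1 (by norm_num)) hp
  have e : M.Φ d * M.el a 1 * (M.Φ d)⁻¹ = M.el (a ^^^ c) 1 := by
    rw [el, el, show aMask (a ^^^ c) = aMask a ^^^ aMask c from lin_xor _ _ _, M.Φ_add (aMask a) (aMask c),
      ← M.Φ_eq_of_clear hcl,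
      M.Φ_add d (permMask (qN 1) d), hP, M.Φ_inv, ← mul_assoc (M.Φ d),
      M.W_comm _ (M.Φ_mem d) _ (M.Φ_mem (aMask a))]
    show _ = _ * (_ * (M.m (qPerm 1) * _ * (M.m (qPerm 1))⁻¹)) * _
    group
    rfl
  rw [← e]
  exact isConj_conj_iff.2 ha.2

theorem T0_g7 {a : ℕ} (ha : a ∈ M.T0) : lin g7Act a ∈ M.T0 := by
  obtain ⟨h1, h3, h4⟩ := g7_ok
  obtain ⟨hlt, hact, -⟩ := g7Act_ok a ha.1
  refine ⟨hlt, ?_⟩
  rw [← M.el_conj h1 ha.1 (by norm_num) (by norm_num) h3 h4 hact]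
  exact isConj_conj_iff.2 ha.2

theorem ncard_Zs_ge : 35 + 15 * M.T0.ncard ≤ M.Zs.ncard := by
  classical
  have hfin : M.T0.Finite := (Set.finite_Iio 64).subset fun a ha => ha.1
  haveI : Finite ↥M.T0 := hfin
  let f : {p // p ∈ fours} ⊕ (Fin 15 × ↥M.T0) → ↥M.Zs := Sum.elim
    (fun p => ⟨M.el p.1.1 0, M.el_mem (fours_ok.2.2 p.1 p.2).1 (by norm_num), M.four_conj p.2⟩)
    (fun q => ⟨M.el (lin (witAct.getD q.1 []) q.2) ((q.1 : ℕ) + 1),
      M.el_mem (lin_lt q.1.2 q.2.2.1) (by omega), (M.conj_witness q.1.2 q.2.2.1).2 q.2.2.2⟩)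
  have hf : Function.Injective f := by
    rintro (p | q) (p' | q') h <;> have h' := congrArg Subtype.val h
    · obtain ⟨e, -⟩ := M.el_inj (fours_ok.2.2 p.1 p.2).1 (fours_ok.2.2 p'.1 p'.2).1 (by norm_num) (by norm_num) h'
      refine congrArg Sum.inl (Subtype.ext ?_)
      exact List.inj_on_of_nodup_map fours_ok.1 p.2 p'.2 e
    · obtain ⟨-, e⟩ := M.el_inj (fours_ok.2.2 p.1 p.2).1 (lin_lt q'.1.2 q'.2.2.1) (by norm_num) (by omega) h'
      omega
    · obtain ⟨-, e⟩ := M.el_inj (lin_lt q.1.2 q.2.2.1) (fours_ok.2.2 p'.1 p'.2).1 (by omega) (by norm_num) h'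
      omega
    · obtain ⟨e, e2⟩ := M.el_inj (lin_lt q.1.2 q.2.2.1) (lin_lt q'.1.2 q'.2.2.1) (by omega) (by omega) h'
      have hk : q.1 = q'.1 := Fin.ext (by omega)
      rw [hk] at e
      have := (witAct_bijective q'.1.2).1 (a₁ := ⟨q.2, q.2.2.1⟩) (a₂ := ⟨q'.2, q'.2.2.1⟩) (Fin.ext e)
      exact congrArg Sum.inr (Prod.ext hk (Subtype.ext (congrArg Fin.val this)))
  have h := Nat.card_le_card_of_injective f hf
  rw [Nat.card_sum, Nat.card_prod, Nat.card_fin, Nat.card_coe_set_eq, Nat.card_coe_set_eq] at h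
  have h35 : Nat.card {p // p ∈ fours} = 35 := by
    rw [Nat.card_congr (Equiv.subtypeEquivRight fun p => (List.mem_toFinset (l := fours)).symm),
      Nat.card_eq_finsetCard, List.toFinset_card_of_nodup (List.Nodup.of_map _ fours_ok.1), fours_ok.2.1]
  rwa [h35] at h

variable (hz : z ≠ 1)
  (hN : Nat.card ↥(normalizer (M.A1 : Set G)) = M.Zs.ncard * (2 ^ 20 * 63))
include hz hN

/-- The orbit of a pair in the octad, against the bound for its centralizer. -/
theorem orbit_bound : ∃ t ∈ M.A1, t ≠ 1 ∧ ¬ IsConj z t ∧ M.Zs.ncard * (28 * 63) ≤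
    Set.ncard {v : G | ∃ n ∈ normalizer (M.A1 : Set G), n * t * n⁻¹ = v} * 315 := by
  classical
  set H1 := normalizer (W : Set G) ⊓ normalizer (M.A1 : Set G) with hH1
  obtain ⟨hnd, hlen, hwit⟩ := pairWit_ok
  obtain ⟨hclnd, hp0⟩ := pairList_clear
  obtain ⟨h1, hB, hp⟩ := hwit 0 (by norm_num)
  obtain ⟨i0, hi0, j0, hj0, hne, hib, hjb, hpe⟩ : ∃ i < 24, ∃ j < 24, i ≠ j ∧ baseOctad.testBit i = true ∧
      baseOctad.testBit j = true ∧ pairList.getD 0 0 = 2 ^ i ^^^ 2 ^ j := by decide +kernel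
  set b := pairList.getD 0 0 with hbdef
  have hb2 : pop 24 b = 2 := by rw [hpe, pop_pair i0 hi0 j0 hj0, if_neg hne]
  set t := M.Φ b with htdef
  obtain ⟨htz, hcent⟩ := M.pair b hb2
  refine ⟨t, by rw [htdef, hpe]; exact M.pair_mem hi0 hj0 hib hjb, fun h => ?_, htz, ?_⟩
  · have := M.small_ne_one hz (hpe ▸ pair_lt hi0 hj0) (by rw [hb2]) (by omega) h
    rw [this] at hb2
    exact absurd hb2 (by decide +kernel)
  have hinf : normalizer (M.A1 : Set G) ⊓ centralizer ({t} : Set G) = H1 ⊓ centralizer ({t} : Set G) := by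
    refine le_antisymm (fun x hx => ⟨⟨hcent hx.2, hx.1⟩, hx.2⟩) (inf_le_inf_right _ inf_le_right)
  have hO := ncard_orbit_mul (normalizer (M.A1 : Set G)) t
  have hO1 := ncard_orbit_mul H1 t
  rw [hinf, hN] at hO
  -- at least 28 in the small orbit
  have h28 : 28 ≤ Set.ncard {v : G | ∃ n ∈ H1, n * t * n⁻¹ = v} := by
    set P0 := pairWit.getD 0 0
    have hmask : ∀ k < 28, M.Φ (pairList.getD k 0) ∈ {v : G | ∃ n ∈ H1, n * t * n⁻¹ = v} := by
      intro k hk
      obtain ⟨hk1, hkB, hkp⟩ := hwit k hk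
      have hev := pop_pair_even (i := i0) (j := j0) hi0 hj0
      refine ⟨M.m (m24Of (pairWit.getD k 0)) * (M.m (m24Of P0))⁻¹,
        mul_mem ⟨M.m_norm _, M.octStab_normalizes (m24Of_octStab hk1 hkB)⟩
          (inv_mem ⟨M.m_norm _, M.octStab_normalizes (m24Of_octStab h1 hB)⟩), ?_⟩
      have hev' : pop 24 3 % 2 = 0 := by decide +kernel
      rw [htdef, hp, hkp, M.Φ_perm h1 hev', M.Φ_perm hk1 hev']
      group
    let f : Fin 28 → ↥{v : G | ∃ n ∈ H1, n * t * n⁻¹ = v} := fun k => ⟨_, hmask k k.2⟩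
    have hf : Function.Injective f := by
      intro k l e
      have e' : M.Φ (pairList.getD k 0) = M.Φ (pairList.getD l 0) := congrArg Subtype.val e
      have hmem : ∀ k : Fin 28, pairList.getD k 0 < 2 ^ 24 ∧ pop 24 (pairList.getD k 0) % 2 = 0 := by
        decide +kernel
      have hcl := M.clear_eq_of_Φ (hmem k).1 (hmem l).1 (hmem k).2 (hmem l).2 e'
      have hkl : ∀ k l : Fin 28, clear (pairList.getD k 0) = clear (pairList.getD l 0) → k = l := by decide +kernel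
      exact hkl k l hcl
    have := Nat.card_le_card_of_injective f hf
    rwa [Nat.card_fin, Nat.card_coe_set_eq] at this
  have hC := Nat.mul_le_mul_right (Nat.card ↥(H1 ⊓ centralizer ({t} : Set G) : Subgroup G)) h28
  rw [hO1] at hC
  have hH1le := hC.trans M.card_H1_le
  set o := Set.ncard {v : G | ∃ n ∈ normalizer (M.A1 : Set G), n * t * n⁻¹ = v}
  set C := Nat.card ↥(H1 ⊓ centralizer ({t} : Set G) : Subgroup G)
  have h5 := Nat.mul_le_mul_left o hH1le
  rw [mul_left_comm, hO] at h5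
  refine Nat.le_of_mul_le_mul_left (c := 2 ^ 20) ?_ (Nat.two_pow_pos 20)
  calc 2 ^ 20 * (M.Zs.ncard * (28 * 63)) = 28 * (M.Zs.ncard * (2 ^ 20 * 63)) := by ring
    _ ≤ o * (1024 * 322560) := h5
    _ = _ := by ring

omit hz hN in
theorem orbit_subset {t : G} (ht : t ∈ M.A1) (ht1 : t ≠ 1) (htz : ¬ IsConj z t) :
    {v : G | ∃ n ∈ normalizer (M.A1 : Set G), n * t * n⁻¹ = v} ⊆ ((M.A1 : Set G) \ {1}) \ M.Zs := by
  rintro _ ⟨n, hn, rfl⟩
  refine ⟨⟨(mem_normalizer_iff.1 hn t).1 ht, fun h => ht1 (conj_eq_one_iff.1 h)⟩, fun h => htz ?_⟩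
  exact isConj_conj_iff.1 h.2

omit hN in
theorem ncard_others : (((M.A1 : Set G) \ {1}) \ M.Zs).ncard = 1023 - M.Zs.ncard := by
  have hsub : M.Zs ⊆ (M.A1 : Set G) \ {1} := fun x hx => ⟨hx.1, fun h => hz (by
    rw [Set.mem_singleton_iff] at h
    exact isConj_one_left.1 (h ▸ hx.2))⟩
  rw [Set.ncard_sdiff hsub (Set.toFinite _),
    Set.ncard_sdiff_singleton_of_mem (show (1 : G) ∈ (M.A1 : Set G) from one_mem _), ← Nat.card_coe_set_eq]
  simp only [SetLike.coe_sort_coe, M.card_A1]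
  norm_num

theorem ncard_Zs_le : M.Zs.ncard ≤ 155 := by
  obtain ⟨t, ht, ht1, htz, hb⟩ := M.orbit_bound hz hN
  have h := (Set.ncard_le_ncard (M.orbit_subset ht ht1 htz) (Set.toFinite _)).trans_eq (M.ncard_others hz)
  omega

theorem T0_nonempty : M.T0.Nonempty := by
  by_contra hcon
  have hsmall : ∀ x ∈ M.Zs, ∃ a < 64, x = M.el a 0 := by
    rintro _ ⟨⟨a, ha, i, hi, rfl⟩, hc⟩
    rcases Nat.eq_zero_or_pos i with rfl | hi0
    · exact ⟨a, ha, rfl⟩
    · exfalso
      obtain ⟨a', ha'⟩ := (witAct_bijective (k := i - 1) (by omega)).2 ⟨a, ha⟩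
      have e : lin (witAct.getD (i - 1) []) a' = a := congrArg Fin.val ha'
      refine hcon ⟨a', a'.2, (M.conj_witness (k := i - 1) (by omega) a'.2).1 ?_⟩
      rw [e, show i - 1 + 1 = i by omega]
      exact hc
  have hW : ∀ x ∈ M.Zs, x ∈ W := fun x hx => by
    obtain ⟨a, -, rfl⟩ := hsmall x hx
    rw [el, qPerm_zero, map_one, mul_one]
    exact M.Φ_mem _
  obtain ⟨m0, hm0, hm2, hm64⟩ : ∃ m ∈ b6, pop 24 m = 2 ∧ m < 2 ^ 24 :=
    ⟨b6.getD 0 0, by decide +kernel, by decide +kernel, by decide +kernel⟩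
  have hle : normalizer (M.A1 : Set G) ≤ normalizer (W : Set G) ⊓ normalizer (M.A1 : Set G) := by
    intro g hg
    refine ⟨?_, hg⟩
    obtain ⟨p, hp, r, hr, hcl⟩ := pair_fours m0 hm0
    obtain ⟨hfp, -, -, hpc⟩ := fours_ok.2.2 p hp
    obtain ⟨hfr, -, -, hrc⟩ := fours_ok.2.2 r hr
    have hmem : ∀ s ∈ fours, g * M.Φ s.2 * g⁻¹ ∈ W := fun s hs => by
      obtain ⟨hs64, -, -, hsc⟩ := fours_ok.2.2 s hs
      have h1 : M.Φ s.2 = M.el s.1 0 := by rw [el, qPerm_zero, map_one, mul_one, M.Φ_eq_of_clear hsc]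
      refine hW _ ⟨(mem_normalizer_iff.1 hg _).1 (h1 ▸ M.el_mem hs64 (by norm_num)), isConj_conj_iff.2 ?_⟩
      rw [h1]
      exact M.four_conj hs
    have ht : g * M.Φ m0 * g⁻¹ ∈ W := by
      rw [← M.Φ_eq_of_clear hcl, M.Φ_add,
        show g * (M.Φ p.2 * M.Φ r.2) * g⁻¹ = g * M.Φ p.2 * g⁻¹ * (g * M.Φ r.2 * g⁻¹) by group]
      exact mul_mem (hmem p hp) (hmem r hr)
    obtain ⟨n, hn, he⟩ := M.fusion _ (M.Φ_mem m0) _ ht (isConj_iff.2 ⟨g, rfl⟩)
    have hc : n⁻¹ * g ∈ centralizer ({M.Φ m0} : Set G) := by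
      refine mem_centralizer_singleton_iff.2 ?_
      calc n⁻¹ * g * M.Φ m0 = n⁻¹ * (g * M.Φ m0 * g⁻¹) * g := by group
        _ = n⁻¹ * (n * M.Φ m0 * n⁻¹) * g := by rw [he]
        _ = _ := by group
    have := mul_mem hn ((M.pair m0 hm2).2 hc)
    rwa [mul_inv_cancel_left] at this
  have h := (Subgroup.card_le_of_le hle).trans M.card_H1_le
  rw [hN] at h
  have h35 := M.ncard_Zs_ge
  omega

/-- The count and the coset. -/
theorem ncard_Zs : M.Zs.ncard = 155 ∧ ∀ c ∈ cs, IsConj z (M.el c 1) := by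
  classical
  obtain ⟨a, ha⟩ := M.T0_nonempty hz hN
  obtain ⟨hnd, hlen, hlt, hadd, -⟩ := cs_ok
  have hfin : M.T0.Finite := (Set.finite_Iio 64).subset fun x hx => hx.1
  set S : Finset ℕ := cs.toFinset.image (a ^^^ ·)
  have hS8 : S.card = 8 := by
    rw [Finset.card_image_of_injective _ fun x y e => Nat.xor_right_injective e,
      List.toFinset_card_of_nodup hnd, hlen]
  have hsub : (↑S : Set ℕ) ⊆ M.T0 := fun x hx => by
    obtain ⟨c, hc, rfl⟩ := Finset.mem_image.1 (Finset.mem_coe.1 hx)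
    exact M.T0_add ha (List.mem_toFinset.1 hc)
  have hge := M.ncard_Zs_ge
  have hle := M.ncard_Zs_le hz hN
  have hg7 : lin g7Act a ∈ S := by
    by_contra hno
    have h := Set.ncard_le_ncard (show (↑(insert (lin g7Act a) S) : Set ℕ) ⊆ M.T0 by
      rw [Finset.coe_insert]
      exact Set.insert_subset (M.T0_g7 ha) hsub) hfin
    rw [Set.ncard_coe_finset, Finset.card_insert_of_notMem hno, hS8] at h
    omega
  obtain ⟨c, hc, e⟩ := Finset.mem_image.1 hg7
  have hacs : cs.contains a = true := (g7Act_ok a ha.1).2.2 (List.contains_iff_mem.2 (by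
    rw [← e, Nat.xor_right_comm, Nat.xor_self, Nat.zero_xor]
    exact List.mem_toFinset.1 hc))
  rw [List.contains_iff_mem] at hacs
  refine ⟨?_, fun d hd => ?_⟩
  · have h := Set.ncard_le_ncard hsub hfin
    rw [Set.ncard_coe_finset, hS8] at h
    omega
  · have := M.T0_add ha (List.contains_iff_mem.1 (hadd a hacs d hd))
    rw [← Nat.xor_assoc, Nat.xor_self, Nat.zero_xor] at this
    exact this.2

/-- The orbit of the others. -/
theorem exists_orbit_other : ∃ t ∈ M.A1, t ≠ 1 ∧ ¬ IsConj z t ∧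
    Set.ncard {v : G | ∃ n ∈ normalizer (M.A1 : Set G), n * t * n⁻¹ = v} = 868 ∧
    {v : G | ∃ n ∈ normalizer (M.A1 : Set G), n * t * n⁻¹ = v} = ((M.A1 : Set G) \ {1}) \ M.Zs := by
  obtain ⟨t, ht, ht1, htz, hb⟩ := M.orbit_bound hz hN
  have hn := (M.ncard_Zs hz hN).1
  have hsub := M.orbit_subset ht ht1 htz
  have h := M.ncard_others hz
  rw [hn] at h hb
  have hle := Set.ncard_le_ncard hsub (Set.toFinite _)
  refine ⟨t, ht, ht1, htz, by omega, Set.eq_of_subset_of_ncard_le hsub (by omega) (Set.toFinite _)⟩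

/-- Decomposable two-vectors give conjugates of `z`. -/
theorem dec_conj {v : ℕ} (hv : v < 1024) (hd : TenPlane.decMask.testBit v = true) : IsConj z (M.psiV v) := by
  obtain ⟨-, -, hlt, -, -⟩ := cs_ok
  have h := dec_idx v hv hd
  have hi : idx v >>> 6 < 16 := by
    have := (idx_lt v hv).1
    rw [Nat.shiftRight_eq_div_pow]
    omega
  by_cases h0 : idx v >>> 6 = 0
  · rw [if_pos h0, List.contains_iff_mem, List.mem_map] at h
    obtain ⟨p, hp, e⟩ := h
    rw [psiV, h0, ← e]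
    exact M.four_conj hp
  · rw [if_neg h0, List.contains_iff_mem, List.mem_map] at h
    obtain ⟨c, hc, e⟩ := h
    rw [psiV, ← e]
    have h2 := (M.conj_witness (k := idx v >>> 6 - 1) (by omega) (hlt c hc)).2 ((M.ncard_Zs hz hN).2 c hc)
    rwa [show idx v >>> 6 - 1 + 1 = idx v >>> 6 by omega] at h2

end WModel

end CfsgLib.Spor.JFourType
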