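import Mathlib

/-!
# Two-vectors of a space of dimension five over the field of two elements

The 1024 alternating matrices as numbers; the permutations preserving sums and the 155 decomposable ones form a
group isomorphic to the special linear group.
-/

set_option autoImplicit false
set_option linter.style.haveILetI false

namespace CfsgLib.Spor.JFourType.TenPlane

open Matrix

/-- The sum. -/
def vx (a b : Fin 1024) : Fin 1024 := ⟨a.val ^^^ b.val, Nat.xor_lt_two_pow (n := 10) a.2 b.2⟩

/-- The mask of the decomposable ones. -/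
def decMask : ℕ :=
  262567432926466872196637648448325973058480168976889728683345837105383836524705515179516799038768043768440813472996187173832642213696448780787785903180800242798601906354329156314518561568052686201782514843795739000520192293208280631956201386131852559644003929679336521238322448257047841762304644736876542

/-- Decomposable and not zero. -/
def dec (v : Fin 1024) : Bool := decMask.testBit v.val

/-- Pairs of vectors giving the decomposable ones. -/
def decPairs : List (Fin 32 × Fin 32) :=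
  [(1, 2), (1, 4), (1, 6), (1, 8), (1, 10), (1, 12), (1, 14), (1, 16), (1, 18), (1, 20),
  (1, 22), (1, 24), (1, 26), (1, 28), (1, 30), (2, 4), (2, 5), (3, 4), (3, 5), (2, 8),
  (2, 9), (3, 8), (3, 9), (2, 12), (2, 13), (3, 12), (3, 13), (2, 16), (2, 17), (3, 16),
  (3, 17), (2, 20), (2, 21), (3, 20), (3, 21), (2, 24), (2, 25), (3, 24), (3, 25), (2, 28),
  (2, 29), (3, 28), (3, 29), (4, 8), (4, 9), (5, 8), (5, 9), (4, 10), (4, 11), (5, 10),
  (5, 11), (6, 8), (6, 9), (7, 8), (7, 9), (6, 10), (6, 11), (7, 10), (7, 11), (4, 16),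
  (4, 17), (5, 16), (5, 17), (4, 18), (4, 19), (5, 18), (5, 19), (6, 16), (6, 17), (7, 16),
  (7, 17), (6, 18), (6, 19), (7, 18), (7, 19), (4, 24), (4, 25), (5, 24), (5, 25), (4, 26),
  (4, 27), (5, 26), (5, 27), (6, 24), (6, 25), (7, 24), (7, 25), (6, 26), (6, 27), (7, 26),
  (7, 27), (8, 16), (8, 17), (9, 16), (9, 17), (8, 18), (8, 19), (9, 18), (9, 19), (10, 16),
  (10, 17), (11, 16), (11, 17), (10, 18), (10, 19), (11, 18), (11, 19), (8, 20), (8, 21), (9, 20),
  (9, 21), (8, 22), (8, 23), (9, 22), (9, 23), (10, 20), (10, 21), (11, 20), (11, 21), (10, 22),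
  (10, 23), (11, 22), (11, 23), (12, 16), (12, 17), (13, 16), (13, 17), (12, 18), (12, 19), (13, 18),
  (13, 19), (14, 16), (14, 17), (15, 16), (15, 17), (14, 18), (14, 19), (15, 18), (15, 19), (12, 20),
  (12, 21), (13, 20), (13, 21), (12, 22), (12, 23), (13, 22), (13, 23), (14, 20), (14, 21), (15, 20),
  (15, 21), (14, 22), (14, 23), (15, 22), (15, 23)]

/-- The coordinates. -/
def cv : Fin 1024 ≃ (Fin 10 → ZMod 2) := (finFunctionFinEquiv (m := 2) (n := 10)).symm

theorem cv_testBit : ∀ v : Fin 1024, ∀ k : Fin 10, cv v k = if v.val.testBit k.val then 1 else 0 := by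
  decide +kernel

theorem cv_vx (a b : Fin 1024) : cv (vx a b) = cv a + cv b := by
  funext k
  rw [Pi.add_apply, cv_testBit, cv_testBit, cv_testBit, show (vx a b).val = a.val ^^^ b.val from rfl,
    Nat.testBit_xor]
  cases a.val.testBit k.val <;> cases b.val.testBit k.val <;> decide

/-- The first index of a pair. -/
def pI : Fin 10 → Fin 5 := ![0, 0, 0, 0, 1, 1, 1, 2, 2, 3]

/-- The second index of a pair. -/
def pJ : Fin 10 → Fin 5 := ![1, 2, 3, 4, 2, 3, 4, 3, 4, 4]

/-- The number of a pair. -/
def pK : Fin 5 → Fin 5 → Fin 10 :=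
  ![![0, 0, 1, 2, 3], ![0, 0, 4, 5, 6], ![1, 4, 0, 7, 8], ![2, 5, 7, 0, 9], ![3, 6, 8, 9, 0]]

/-- The part above the diagonal. -/
def upper (v : Fin 1024) : Matrix (Fin 5) (Fin 5) (ZMod 2) :=
  Matrix.of fun i j => if i < j then cv v (pK i j) else 0

/-- The alternating matrix. -/
def alt (v : Fin 1024) : Matrix (Fin 5) (Fin 5) (ZMod 2) := upper v + (upper v)ᵀ

/-- The number of a matrix. -/
def num (X : Matrix (Fin 5) (Fin 5) (ZMod 2)) : Fin 1024 := cv.symm fun k => X (pI k) (pJ k)

theorem num_alt (v : Fin 1024) : num (alt v) = v := by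
  rw [num, Equiv.symm_apply_eq]
  funext k
  fin_cases k <;> simp [alt, upper, pI, pJ, pK]

theorem alt_num (Y : Matrix (Fin 5) (Fin 5) (ZMod 2)) : alt (num (Y + Yᵀ)) = Y + Yᵀ := by
  ext i j
  simp only [alt, upper, num, Equiv.apply_symm_apply, Matrix.add_apply, Matrix.transpose_apply, Matrix.of_apply]
  fin_cases i <;> fin_cases j <;> simp [pI, pJ, pK, CharTwo.add_self_eq_zero] <;> exact add_comm _ _

theorem alt_vx (a b : Fin 1024) : alt (vx a b) = alt a + alt b := by
  ext i j
  simp only [alt, upper, cv_vx, Matrix.add_apply, Matrix.transpose_apply, Matrix.of_apply, Pi.add_apply]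
  by_cases h : i < j
  · simp [h, not_lt.2 h.le]
  · by_cases h' : j < i <;> simp [h, h']

/-- The transformed number. -/
def actFun (g : Matrix (Fin 5) (Fin 5) (ZMod 2)) (v : Fin 1024) : Fin 1024 := num (g * alt v * gᵀ)

theorem alt_actFun (g : Matrix (Fin 5) (Fin 5) (ZMod 2)) (v : Fin 1024) :
    alt (actFun g v) = g * alt v * gᵀ := by
  have e : g * alt v * gᵀ = g * upper v * gᵀ + (g * upper v * gᵀ)ᵀ := by
    rw [alt, Matrix.mul_add, Matrix.add_mul, Matrix.transpose_mul, Matrix.transpose_mul, Matrix.transpose_transpose,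
      Matrix.mul_assoc g (upper v)ᵀ]
  rw [actFun, e, alt_num]

theorem alt_inj : Function.Injective alt := fun a b h => by rw [← num_alt a, h, num_alt]

theorem actFun_mul (g h : Matrix (Fin 5) (Fin 5) (ZMod 2)) (v : Fin 1024) :
    actFun (g * h) v = actFun g (actFun h v) := by
  refine alt_inj ?_
  rw [alt_actFun, alt_actFun, alt_actFun, Matrix.transpose_mul]
  simp only [Matrix.mul_assoc]

theorem actFun_one (v : Fin 1024) : actFun 1 v = v := by
  rw [actFun, Matrix.one_mul, Matrix.transpose_one, Matrix.mul_one, num_alt]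

theorem actFun_vx (g : Matrix (Fin 5) (Fin 5) (ZMod 2)) (a b : Fin 1024) :
    actFun g (vx a b) = vx (actFun g a) (actFun g b) := by
  refine alt_inj ?_
  rw [alt_vx, alt_actFun, alt_actFun, alt_actFun, alt_vx, Matrix.mul_add, Matrix.add_mul]

/-- The matrix of two vectors. -/
def wedge (a b : Fin 5 → ZMod 2) : Matrix (Fin 5) (Fin 5) (ZMod 2) := vecMulVec a b + (vecMulVec a b)ᵀ

theorem mul_wedge (g : Matrix (Fin 5) (Fin 5) (ZMod 2)) (a b : Fin 5 → ZMod 2) :
    g * wedge a b * gᵀ = wedge (g *ᵥ a) (g *ᵥ b) := by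
  have e : g * vecMulVec a b * gᵀ = vecMulVec (g *ᵥ a) (g *ᵥ b) := by
    rw [Matrix.mul_vecMulVec, Matrix.vecMulVec_mul, Matrix.vecMul_transpose]
  rw [wedge, wedge, ← e, Matrix.mul_add, Matrix.add_mul, Matrix.transpose_mul, Matrix.transpose_mul,
    Matrix.transpose_transpose, Matrix.mul_assoc g (vecMulVec a b)ᵀ]

/-- The five coordinates of a number below 32. -/
def vec : Fin 32 ≃ (Fin 5 → ZMod 2) := (finFunctionFinEquiv (m := 2) (n := 5)).symm

/-- The number of two vectors. -/
def wedgeNum (a b : Fin 32) : Fin 1024 :=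
  cv.symm fun k => vec a (pI k) * vec b (pJ k) + vec a (pJ k) * vec b (pI k)

theorem alt_wedgeNum (a b : Fin 32) : alt (wedgeNum a b) = wedge (vec a) (vec b) := by
  have h : wedgeNum a b = num (wedge (vec a) (vec b)) := by
    refine congrArg cv.symm (funext fun k => ?_)
    simp [wedge, vecMulVec_apply, mul_comm]
  rw [h, wedge, alt_num]

theorem dec_wedgeNum : ∀ a b : Fin 32, dec (wedgeNum a b) = decide (wedgeNum a b ≠ 0) := by decide +kernel

/-- The decomposable ones. -/
def decVals : List ℕ :=
  [1, 2, 3, 4, 5, 6, 7, 8, 9, 10, 11, 12, 13, 14, 15, 16, 17, 18, 19, 32,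
  33, 36, 37, 48, 49, 54, 55, 64, 65, 72, 73, 80, 81, 90, 91, 96, 97, 108, 109, 112,
  113, 126, 127, 128, 130, 132, 134, 144, 146, 149, 151, 160, 163, 164, 167, 176, 179, 181, 182, 256,
  258, 264, 266, 272, 274, 281, 283, 320, 323, 328, 331, 336, 339, 345, 346, 384, 386, 396, 398, 400,
  402, 413, 415, 480, 483, 492, 495, 496, 499, 509, 510, 512, 516, 520, 524, 544, 548, 553, 557, 576,
  581, 584, 589, 608, 613, 617, 620, 640, 644, 650, 654, 672, 676, 683, 687, 720, 725, 730, 735, 752,
  757, 763, 766, 768, 774, 776, 782, 816, 822, 825, 831, 832, 839, 840, 847, 880, 887, 889, 894, 896,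
  902, 906, 908, 944, 950, 955, 957, 976, 983, 986, 989, 992, 999, 1003, 1004]

theorem decPairs_vals : decPairs.map (fun p => (wedgeNum p.1 p.2).val) = decVals := by decide +kernel

theorem decVals_all : (List.range 1024).all (fun n => !decMask.testBit n || decVals.contains n) = true := by
  decide +kernel

theorem dec_pairs (v : Fin 1024) (h : dec v = true) : ∃ p ∈ decPairs, wedgeNum p.1 p.2 = v := by
  have hv := List.all_eq_true.1 decVals_all v.val (List.mem_range.2 v.2)
  rw [show decMask.testBit v.val = true from h, Bool.not_true, Bool.false_or, List.contains_iff_mem,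
    ← decPairs_vals, List.mem_map] at hv
  obtain ⟨p, hp, e⟩ := hv
  exact ⟨p, hp, Fin.ext e⟩

theorem dec_actFun {g h : Matrix (Fin 5) (Fin 5) (ZMod 2)} (hg : h * g = 1) (v : Fin 1024) :
    dec (actFun g v) = dec v := by
  have key : ∀ g h : Matrix (Fin 5) (Fin 5) (ZMod 2), h * g = 1 → ∀ v, dec v = true → dec (actFun g v) = true := by
    intro g h hg v hv
    obtain ⟨⟨a, b⟩, -, hab⟩ := dec_pairs v hv
    have e : actFun g v = wedgeNum (vec.symm (g *ᵥ vec a)) (vec.symm (g *ᵥ vec b)) := by
      refine alt_inj ?_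
      rw [alt_actFun, alt_wedgeNum, Equiv.apply_symm_apply, Equiv.apply_symm_apply, ← hab, alt_wedgeNum, mul_wedge]
    rw [e, dec_wedgeNum, decide_eq_true_iff, ← e]
    intro h0
    have h1 : v = actFun h 0 := by rw [← h0, ← actFun_mul, hg, actFun_one]
    have hz : alt 0 = 0 := by
      have e := alt_vx 0 0
      rw [show vx 0 0 = 0 from Fin.ext (Nat.xor_self _)] at e
      exact left_eq_add.1 e
    have h2 : actFun h 0 = 0 := alt_inj (by rw [alt_actFun, hz, Matrix.mul_zero, Matrix.zero_mul])
    rw [h1, h2] at hv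
    revert hv
    decide +kernel
  have hgh : g * h = 1 := mul_eq_one_comm.1 hg
  cases hv : dec v with
  | true => exact key g h hg v hv
  | false =>
    by_contra hne
    rw [Bool.not_eq_false] at hne
    have := key h g hgh _ hne
    rw [← actFun_mul, hg, actFun_one, hv] at this
    exact Bool.false_ne_true this

/-- The permutations preserving sums and decomposable ones. -/
def autDec : Subgroup (Equiv.Perm (Fin 1024)) where
  carrier := {f | (∀ a b, f (vx a b) = vx (f a) (f b)) ∧ ∀ v, dec (f v) = dec v}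
  one_mem' := ⟨fun _ _ => rfl, fun _ => rfl⟩
  mul_mem' := fun {f g} hf hg =>
    ⟨fun a b => by simp [hg.1, hf.1], fun v => by simp [hf.2, hg.2]⟩
  inv_mem' := fun {f} hf =>
    ⟨fun a b => f.injective (by rw [hf.1]; simp), fun v => by rw [← hf.2 (f⁻¹ v)]; simp⟩

/-- The base. -/
def base : ℕ → Fin 1024 :=
  fun k => [16, 32, 8, 1, 4, 2, 256, 128, 512, 64].getD k 0

/-- The sums over the first part of the base. -/
def spanL : ℕ → List (Fin 1024)
  | 0 => [0]
  | k + 1 => spanL k ++ (spanL k).map (vx (base k))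

/-- The same by numbers. -/
def spanN : ℕ → List ℕ
  | 0 => [0]
  | k + 1 => spanN k ++ (spanN k).map ((base k).val ^^^ ·)

theorem spanN_eq : ∀ k, spanN k = (spanL k).map Fin.val
  | 0 => rfl
  | k + 1 => by
    rw [spanN, spanL, spanN_eq k, List.map_append, List.map_map, List.map_map]
    rfl

/-- The possible images of a member of the base. -/
def cand (k : ℕ) : List ℕ :=
  (List.range 1024).filter fun v =>
    (spanN k).all fun w => decMask.testBit (v ^^^ w) == decMask.testBit ((base k).val ^^^ w)

theorem cand_prod : ((List.range 10).map fun k => (cand k).length).prod = 9999360 := by decide +kernel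

theorem bits_fold : ∀ v : Fin 1024,
    ((List.range 10).filter fun k => v.val.testBit (base k).val.log2).foldr (fun k w => vx (base k) w) 0 = v := by
  decide +kernel

/-- The stabilizers along the base. -/
def stab : ℕ → Subgroup (Equiv.Perm (Fin 1024))
  | 0 => autDec
  | k + 1 => stab k ⊓ MulAction.stabilizer (Equiv.Perm (Fin 1024)) (base k)

theorem stab_anti : ∀ n k, k ≤ n → stab n ≤ stab k
  | 0, k, h => by rw [Nat.le_zero.1 h]
  | n + 1, k, h => by
    rcases Nat.lt_or_eq_of_le h with h | h
    · exact inf_le_left.trans (stab_anti n k (Nat.le_of_lt_succ h))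
    · rw [h]

theorem stab_spec : ∀ k, ∀ f ∈ stab k, f ∈ autDec ∧ ∀ w ∈ spanL k, f w = w
  | 0, f, hf => ⟨hf, fun w hw => by
      rw [List.mem_singleton.1 hw]
      have h : f (vx 0 0) = vx (f 0) (f 0) := hf.1 0 0
      have h0 : ∀ a : Fin 1024, vx a a = 0 := fun a => Fin.ext (Nat.xor_self _)
      rwa [h0, h0] at h⟩
  | k + 1, f, hf => by
    obtain ⟨h1, h2⟩ := stab_spec k f hf.1
    refine ⟨h1, fun w hw => ?_⟩
    rcases List.mem_append.1 hw with hw | hw
    · exact h2 w hw
    · obtain ⟨u, hu, rfl⟩ := List.mem_map.1 hw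
      rw [h1.1, h2 u hu, show f (base k) = base k from hf.2]

theorem stab_zero_mem : ∀ k, (0 : Fin 1024) ∈ spanL k
  | 0 => List.mem_singleton.2 rfl
  | k + 1 => List.mem_append_left _ (stab_zero_mem k)

theorem stab_ten : stab 10 = ⊥ := by
  rw [eq_bot_iff]
  intro f hf
  obtain ⟨h1, h2⟩ := stab_spec 10 f hf
  refine Equiv.ext fun v => ?_
  show f v = v
  rw [← bits_fold v]
  have hl : ∀ k ∈ (List.range 10).filter fun k => v.val.testBit (base k).val.log2, f (base k) = base k :=
    fun k hk => (stab_anti 10 (k + 1) (List.mem_range.1 (List.mem_filter.1 hk).1) hf).2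
  generalize (List.range 10).filter (fun k => v.val.testBit (base k).val.log2) = l at hl
  induction l with
  | nil => exact h2 0 (stab_zero_mem 10)
  | cons a l ih =>
    rw [List.foldr_cons, h1.1, hl a (List.mem_cons_self ..), ih fun k hk => hl k (List.mem_cons_of_mem _ hk)]

theorem card_stab_le (k : ℕ) :
    Nat.card ↥(stab k) ≤ (cand k).length * Nat.card ↥(stab (k + 1)) := by
  have h := (MulAction.stabilizer ↥(stab k) (base k)).card_mul_index
  rw [MulAction.index_stabilizer] at h
  have hst : Nat.card ↥(MulAction.stabilizer ↥(stab k) (base k)) = Nat.card ↥(stab (k + 1)) :=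
    Nat.card_congr
      { toFun := fun f => ⟨f.1.1, f.1.2, f.2⟩
        invFun := fun f => ⟨⟨f.1, f.2.1⟩, f.2.2⟩
        left_inv := fun _ => rfl
        right_inv := fun _ => rfl }
  rw [hst] at h
  rw [← h, mul_comm]
  refine Nat.mul_le_mul_right _ ?_
  have hsub : (fun v : Fin 1024 => v.val) '' MulAction.orbit ↥(stab k) (base k) ⊆ ↑(cand k).toFinset := by
    rintro _ ⟨_, ⟨f, rfl⟩, rfl⟩
    obtain ⟨h1, h2⟩ := stab_spec k f.1 f.2
    rw [Finset.mem_coe, List.mem_toFinset, cand, List.mem_filter]
    refine ⟨List.mem_range.2 (Fin.is_lt _), ?_⟩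
    rw [List.all_eq_true, spanN_eq]
    intro w hw
    obtain ⟨u, hu, rfl⟩ := List.mem_map.1 hw
    rw [beq_iff_eq]
    show dec (vx (f.1 (base k)) u) = dec (vx (base k) u)
    nth_rewrite 1 [← h2 u hu]
    rw [← h1.1, h1.2]
  rw [← Set.ncard_image_of_injective _ Fin.val_injective]
  refine (Set.ncard_le_ncard hsub (Finset.finite_toSet _)).trans ?_
  rw [Set.ncard_coe_finset]
  exact List.toFinset_card_le _

theorem chain_le (S f : ℕ → ℕ) : ∀ n, (∀ k < n, S k ≤ f k * S (k + 1)) → S 0 ≤ ((List.range n).map f).prod * S n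
  | 0, _ => by simp
  | n + 1, h => by
    refine (chain_le S f n fun k hk => h k (by omega)).trans ?_
    rw [List.range_succ, List.map_append, List.prod_append, List.map_singleton, List.prod_singleton, mul_assoc]
    exact Nat.mul_le_mul_left _ (h n (by omega))

theorem card_autDec_le : Nat.card ↥autDec ≤ 9999360 := by
  have h10 : Nat.card ↥(stab 0) ≤ ((List.range 10).map fun k => (cand k).length).prod * Nat.card ↥(stab 10) :=
    chain_le (fun k => Nat.card ↥(stab k)) (fun k => (cand k).length) 10 fun k _ => card_stab_le k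
  rw [cand_prod, stab_ten, Subgroup.card_bot, mul_one] at h10
  exact h10

/-- The action of the linear group. -/
def rep : Matrix.SpecialLinearGroup (Fin 5) (ZMod 2) →* ↥autDec where
  toFun g :=
    ⟨⟨actFun g.1, actFun (g⁻¹).1,
      fun v => by rw [← actFun_mul, ← Matrix.SpecialLinearGroup.coe_mul, inv_mul_cancel,
        Matrix.SpecialLinearGroup.coe_one, actFun_one],
      fun v => by rw [← actFun_mul, ← Matrix.SpecialLinearGroup.coe_mul, mul_inv_cancel,
        Matrix.SpecialLinearGroup.coe_one, actFun_one]⟩,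
      actFun_vx g.1, dec_actFun (h := (g⁻¹).1) (by
        rw [← Matrix.SpecialLinearGroup.coe_mul, inv_mul_cancel, Matrix.SpecialLinearGroup.coe_one])⟩
  map_one' := Subtype.ext (Equiv.ext fun v => by
    show actFun (1 : Matrix.SpecialLinearGroup (Fin 5) (ZMod 2)).1 v = v
    rw [Matrix.SpecialLinearGroup.coe_one, actFun_one])
  map_mul' g h := Subtype.ext (Equiv.ext fun v => by
    show actFun (g * h).1 v = actFun g.1 (actFun h.1 v)
    rw [← actFun_mul, Matrix.SpecialLinearGroup.coe_mul])

theorem rep_injective : Function.Injective rep := by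
  rw [← MonoidHom.ker_eq_bot_iff, eq_bot_iff]
  intro g hg
  rw [Subgroup.mem_bot]
  set X : Matrix (Fin 5) (Fin 5) (ZMod 2) := g.1 with hX
  have hfix : ∀ i j : Fin 5, ∀ p q : Fin 5,
      X p i * X q j + X q i * X p j = (if p = i ∧ q = j then 1 else 0) + (if q = i ∧ p = j then 1 else 0) := by
    intro i j p q
    have h : actFun X (wedgeNum (vec.symm (Pi.single i 1)) (vec.symm (Pi.single j 1))) =
        wedgeNum (vec.symm (Pi.single i 1)) (vec.symm (Pi.single j 1)) := by
      have := congrArg (fun f : ↥autDec => (f : Equiv.Perm (Fin 1024))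
        (wedgeNum (vec.symm (Pi.single i 1)) (vec.symm (Pi.single j 1)))) (MonoidHom.mem_ker.1 hg)
      exact this
    have h' := congrFun (congrFun (congrArg alt h) p) q
    rw [alt_actFun, alt_wedgeNum, Equiv.apply_symm_apply, Equiv.apply_symm_apply, mul_wedge] at h'
    simp only [wedge, Matrix.add_apply, Matrix.transpose_apply, vecMulVec_apply, Matrix.mulVec_single_one,
      Matrix.col_apply] at h'
    rw [h']
    simp only [Pi.single_apply]
    split_ifs <;> simp_all
  have hoff : ∀ i k : Fin 5, k ≠ i → X k i = 0 := by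
    intro i k hk
    obtain ⟨j, hji, hjk⟩ := (by decide : ∀ i k : Fin 5, ∃ j, j ≠ i ∧ j ≠ k) i k
    have e1 := hfix i j i j
    have e2 := hfix i j j k
    have e3 := hfix i j k i
    simp only [hk, hji, Ne.symm hji, hjk.symm, and_self, and_false, false_and, if_true, if_false, add_zero] at e1 e2 e3
    have : X k i * (X i i * X j j + X j i * X i j) + X i i * (X j i * X k j + X k i * X j j) +
        X j i * (X k i * X i j + X i i * X k j) = 0 := by
      ring_nf
      simp [show (2 : ZMod 2) = 0 from rfl]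
    rw [e1, e2, e3, mul_one, mul_zero, add_zero, mul_zero, add_zero] at this
    exact this
  have hdiag : ∀ i : Fin 5, X i i = 1 := by
    intro i
    obtain ⟨j, hji, -⟩ := (by decide : ∀ i k : Fin 5, ∃ j, j ≠ i ∧ j ≠ k) i i
    have e1 := hfix i j i j
    simp only [hji, Ne.symm hji, and_self, and_false, if_true, if_false, add_zero, hoff i j hji, zero_mul] at e1
    exact ((by decide : ∀ a b : ZMod 2, a * b = 1 → a = 1) _ _ e1)
  refine Subtype.ext (Matrix.ext fun i j => ?_)
  show X i j = _
  by_cases h : i = j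
  · subst h
    rw [hdiag]
    simp
  · rw [hoff j i h]
    simp [h]

theorem card_SL : Nat.card (Matrix.SpecialLinearGroup (Fin 5) (ZMod 2)) = 9999360 := by
  have e : Nat.card (Matrix.SpecialLinearGroup (Fin 5) (ZMod 2)) = Nat.card (GL (Fin 5) (ZMod 2)) := by
    refine Nat.card_eq_of_bijective Matrix.SpecialLinearGroup.toGL
      ⟨Matrix.SpecialLinearGroup.toGL_injective, fun x => ?_⟩
    refine ⟨⟨x.1, ?_⟩, Units.ext (Matrix.ext fun i j => by simp [Matrix.SpecialLinearGroup.toGL])⟩
    exact (by decide : ∀ a : ZMod 2, a ≠ 0 → a = 1) _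
      ((Matrix.isUnit_iff_isUnit_det _).1 x.isUnit).ne_zero
  rw [e, Matrix.card_GL_field, Fin.prod_univ_five, ZMod.card]
  norm_num

/-- The group is the special linear group. -/
theorem autDec_iso :
    Nonempty (Matrix.SpecialLinearGroup (Fin 5) (ZMod 2) ≃* ↥autDec) ∧ Nat.card ↥autDec = 9999360 := by
  haveI : Finite ↥autDec := inferInstance
  have h := Nat.card_le_card_of_injective rep rep_injective
  rw [card_SL] at h
  have hc := le_antisymm card_autDec_le h
  exact ⟨⟨MulEquiv.ofBijective rep ((Nat.bijective_iff_injective_and_card rep).2 ⟨rep_injective,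
    card_SL.trans hc.symm⟩)⟩, hc⟩

end CfsgLib.Spor.JFourType.TenPlane
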