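import Cfsg.Agent.Lib.Spor.M24Gen
import Cfsg.Agent.Lib.Spor.OctadGeom
import Cfsg.Agent.Lib.Spor.JFourType.TenCode
import Cfsg.Agent.Lib.Spor.JFourType.TenPlane

/-!
# An octad, its pointwise stabilizer and the two-vectors: data

`qs` lists the pointwise stabilizer, `aMask` the even subsets modulo the octad, `idx` the identification with the
two-vectors; the witnesses are packed elements of the stabilizer of the octad.
-/

set_option autoImplicit false

namespace CfsgLib.Spor.JFourType.TenData

open CfsgLib.Spor.JFourType.TenCode CfsgLib.Spor

/-- The sum of the members picked by the digits. -/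
def lin : List ℕ → ℕ → ℕ
  | [], _ => 0
  | b :: bs, v => (if v.testBit 0 then b else 0) ^^^ lin bs (v >>> 1)

theorem lin_xor : ∀ (bs : List ℕ) (v w : ℕ), lin bs (v ^^^ w) = lin bs v ^^^ lin bs w
  | [], _, _ => by simp [lin]
  | b :: bs, v, w => by
    rw [lin, lin, lin, Nat.shiftRight_xor_distrib, lin_xor bs, Nat.testBit_xor]
    cases v.testBit 0 <;> cases w.testBit 0 <;>
      simp [Nat.xor_assoc, Nat.xor_comm, Nat.xor_left_comm]

/-- The pointwise stabilizer. -/
def qs : List ℕ :=
  [984818244535754528103549039458486304, 965128854020860192151391391390468128,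
  963721886883755259286232606933354528, 961365507626256404119956257276790816,
  979121071158219704299181131031480352, 975346028712660580592452217730074656,
  981818691054096003685363657089320992, 966182099583441531322624363496310816,
  968708902336673183175954409307867168, 970499966350631336865513127433832480,
  971592882964418941354553515258775584, 967812279691448225500382947153381408,
  980224387687010295957922729495201824, 972512676110088067912772961567868960,
  976448692869377735270425038196672544, 983548720921252936276249910206105632]

/-- A member. -/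
def qN (i : ℕ) : ℕ := qs.getD i 0

/-- The base of the even subsets of the octad. -/
def b6 : List ℕ := [3, 5, 9, 33, 16385, 131073]

/-- The even subset of a number below 64. -/
def aMask (a : ℕ) : ℕ := lin b6 a

/-- The reductions of the even subsets of the octad. -/
def w6 : List ℕ :=
  [0, 9347072, 1302528, 10305536, 11100160, 2605056, 12222464, 3416064,
  7417856, 16748544, 6475776, 15495168, 14176256, 5697536, 13348864, 4526080,
  13045760, 4829184, 13955072, 5918720, 7237632, 14733312, 8228864, 15937536,
  11935744, 3702784, 10862592, 2842624, 2048000, 9560064, 827392, 8519680,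
  12931072, 4976640, 14069760, 5771264, 7090176, 14848000, 8376320, 15822848,
  11821056, 3850240, 10977280, 2695168, 1900544, 9674752, 974848, 8404992,
  147456, 9232384, 1155072, 10420224, 11214848, 2457600, 12107776, 3563520,
  7565312, 16633856, 6328320, 15609856, 14290944, 5550080, 13234176, 4673536]

theorem w6_eq : w6 = (List.range 64).map fun a => clear (aMask a) := by decide +kernel

/-- The identification with the two-vectors. -/
def idx (v : ℕ) : ℕ := lin [42, 28, 15, 256, 7, 25, 576, 53, 704, 640] v

/-- Its inverse. -/
def idxInv (x : ℕ) : ℕ := lin [177, 50, 147, 20, 133, 39, 768, 320, 8, 832] x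

/-- The point outside the octad. -/
def pOut : ℕ := 4

/-- Elements carrying the first member to the others. -/
def wit : List ℕ :=
  [964816888757919938010192309232256110, 109943669610418079213775310755468759,
  102923985169122974953142474271921198, 96975641625409799852410894217679985,
  110990706997164303885752697520053297, 233016015198503510176103940930189315,
  56228433698506975851758051346532078, 589881721851910910792532136840726240,
  217435803227526037645332537925894199, 136568449569296590556806270872093774,
  130277272599141127616661031534889504, 723482000875835387043331474640100514,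
  111804614630577864127081787519244017, 227334846382890544424464568876631104,
  984612433975788477772650319843509280]

/-- Their action on the even subsets. -/
def witAct : List (List ℕ) :=
  [[20, 48, 24, 18, 17, 16], [47, 55, 63, 59, 31, 62], [17, 24, 48, 47, 16, 20],
  [36, 40, 33, 32, 31, 48], [33, 31, 40, 32, 48, 36], [4, 20, 36, 59, 5, 6],
  [47, 48, 24, 18, 20, 16], [63, 1, 2, 4, 32, 8], [62, 63, 47, 59, 31, 61],
  [18, 17, 24, 48, 47, 16], [32, 2, 8, 1, 16, 63], [10, 61, 2, 18, 3, 6],
  [31, 40, 36, 32, 33, 48], [2, 1, 4, 32, 63, 16], [1, 32, 2, 8, 16, 4]]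

/-- An element commuting with the first member. -/
def g7 : ℕ := 964816888757919938010192309232256110

/-- Its action on the even subsets. -/
def g7Act : List ℕ := [20, 48, 24, 18, 17, 16]

/-- Elements carrying the first pair to the others. -/
def pairWit : List ℕ :=
  [964725661433445534216752576979798467, 593752630372695176275024328039399971,
  711653550652398244612339377045157953, 235214176285147610953501075222660183,
  55397054205602255367474805813119150, 67921257869275194187894046677470289,
  589787738536204052498228146868422816, 734188335212514555338516880659879383,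
  984243392799628900179923971122172995, 108132480402528640858514903951053838,
  62564250075845360778959871028675680, 972715623477932262084231107597238341,
  979218622741340147474385328088317989, 25090223465917861338116551447348791,
  715901108565496844259144137247755265, 13819106183366678371342942741158947,
  727785002877664277165725919890936855, 8255361829118903791740008075409527,
  596124948015025328910485149912175680, 717371371511787846162876529516447845,
  21604160709539976538283408118320593, 59278318972171084644630470589484581,
  715870546232633166594585462230289463, 219669051976087098527272857244306510,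
  15885390732272946364164373039209521, 607927571095016735424660484383607525,
  983017940060936504304897063866797600, 13293079469501707407710217023184321]

/-- The pairs in the order of the witnesses. -/
def pairList : List ℕ :=
  [16392, 131080, 6, 8388612, 16416, 131076, 33,
  8404992, 12, 16385, 9, 36, 34, 8519680,
  3, 10, 8388609, 8388616, 5, 40, 147456,
  131104, 8388610, 16388, 131074, 8388640, 131073, 16386]

/-- The subgroup over the first member. -/
def cs : List ℕ := [0, 13, 19, 30, 38, 43, 53, 56]

/-- The sets of four in the octad. -/
def fours : List (ℕ × ℕ) :=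
  [(7, 15), (11, 39), (13, 43), (14, 45), (15, 8536065),
  (19, 16391), (21, 16395), (22, 16397), (23, 8519713), (25, 16419),
  (26, 16421), (27, 8519689), (28, 16425), (29, 8519685), (30, 8519683),
  (35, 131079), (37, 131083), (38, 131085), (39, 8405025), (41, 131107),
  (42, 131109), (43, 8405001), (44, 131113), (45, 8404997), (46, 8404995),
  (49, 147459), (50, 147461), (51, 8388649), (52, 147465), (53, 8388645),
  (54, 8388643), (56, 147489), (57, 8388621), (58, 8388619), (60, 8388615)]

theorem qs_length : qs.length = 16 := by decide +kernel

theorem qN_zero : qN 0 = idPacked := by decide +kernel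

theorem qs_mul : ∀ i < 16, ∀ j < 16, permMulCode (qN i) (qN j) = qN (i ^^^ j) := by decide +kernel

theorem qs_perm : ∀ i < 16, isM24Code (qN i) = true := by decide +kernel

theorem qs_fix : ∀ i < 16, ∀ a < 64, permMask (qN i) (aMask a) = aMask a := by decide +kernel

theorem qs_fix_octad : ∀ i < 16, ∀ j < 24, baseOctad.testBit j = true → permFn (qN i) j = j := by decide +kernel

theorem qs_moves : ∀ i < 16, i ≠ 0 → ∃ j < 24, permFn (qN i) j ≠ j := by decide +kernel

theorem qs_move_out : ∀ j < 24, baseOctad.testBit j = false → ∃ i < 16, permFn (qN i) j ≠ j := by decide +kernel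

theorem qs_complete : ∀ c ∈ octadFixList, ∃ i < 16, qN i = c := by decide +kernel

theorem w6_zero : ∀ a < 64, clear (aMask a) = clear 0 → a = 0 := by decide +kernel

theorem aMask_lt : ∀ a < 64, aMask a < 2 ^ 24 ∧ pop 24 (aMask a) % 2 = 0 := by decide +kernel

theorem idx_lt : ∀ v < 1024, idx v < 1024 ∧ idxInv (idx v) = v := by decide +kernel

theorem idxInv_lt : ∀ x < 1024, idxInv x < 1024 ∧ idx (idxInv x) = x := by decide +kernel

theorem pair_in : ∀ i < 24, ∀ j < 24, baseOctad.testBit i = true → baseOctad.testBit j = true →
    w6.contains (clear (2 ^ i ^^^ 2 ^ j)) = true := by decide +kernel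

theorem b6_pairs : ∀ m ∈ b6, ∃ i < 24, ∃ j < 24, baseOctad.testBit i = true ∧ baseOctad.testBit j = true ∧
    m = 2 ^ i ^^^ 2 ^ j := by decide +kernel

theorem pair_out : ∀ i < 24, ∀ j < 24, baseOctad.testBit i = false → baseOctad.testBit j = false → ∀ k < 16,
    w6.contains (clear ((2 ^ i ^^^ 2 ^ j) ^^^ permMask (qN k) (2 ^ i ^^^ 2 ^ j))) = true := by decide +kernel

theorem reps_fixed : ∀ a ∈ reps, (∀ i ∈ [1, 2, 4, 8], clear (permMask (qN i) a) = clear a) →
    w6.contains (clear a) = true := by decide +kernel

theorem pOut_notMem : pOut < 24 ∧ baseOctad.testBit pOut = false := by decide +kernel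

theorem pOut_moved : ∀ i < 16, w6.contains (clear (2 ^ pOut ^^^ 2 ^ permFn (qN i) pOut)) = true → i = 0 := by
  decide +kernel

theorem mixed : ∃ i < 24, baseOctad.testBit i = true ∧ ∃ j < 24, baseOctad.testBit j = false ∧
    w6.contains (clear ((2 ^ i ^^^ 2 ^ j) ^^^ permMask (qN 1) (2 ^ i ^^^ 2 ^ j))) = false := by decide +kernel

theorem wit_ok : ∀ k < 15, isM24Code (wit.getD k 0) = true ∧ permMask (wit.getD k 0) baseOctad = baseOctad ∧
    isPermCode (permMulCode (wit.getD k 0) (qN 1)) = true ∧
    permMulCode (wit.getD k 0) (qN 1) = permMulCode (qN (k + 1)) (wit.getD k 0) := by decide +kernel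

theorem witAct_ok : ∀ k < 15, ∀ a < 64, lin (witAct.getD k []) a < 64 ∧
    clear (permMask (wit.getD k 0) (aMask a)) = clear (aMask (lin (witAct.getD k []) a)) ∧
    (lin (witAct.getD k []) a = 0 → a = 0) := by decide +kernel

theorem g7_ok : isM24Code g7 = true ∧ isPermCode (permMulCode g7 (qN 1)) = true ∧
    permMulCode g7 (qN 1) = permMulCode (qN 1) g7 := by decide +kernel

theorem g7Act_ok : ∀ a < 64, lin g7Act a < 64 ∧ clear (permMask g7 (aMask a)) = clear (aMask (lin g7Act a)) ∧
    (cs.contains (lin g7Act a ^^^ a) = true → cs.contains a = true) := by decide +kernel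

theorem cs_ok : cs.Nodup ∧ cs.length = 8 ∧ (∀ c ∈ cs, c < 64) ∧
    (∀ c ∈ cs, ∀ d ∈ cs, cs.contains (c ^^^ d) = true) ∧
    ∀ c ∈ cs, ∃ b < 24, baseOctad.testBit b = false ∧
      clear ((2 ^ pOut ^^^ 2 ^ b) ^^^ permMask (qN 1) (2 ^ pOut ^^^ 2 ^ b)) = clear (aMask c) := by decide +kernel

theorem pairWit_ok : pairList.Nodup ∧ pairList.length = 28 ∧ ∀ k < 28,
    isM24Code (pairWit.getD k 0) = true ∧ permMask (pairWit.getD k 0) baseOctad = baseOctad ∧
    pairList.getD k 0 = permMask (pairWit.getD k 0) 3 := by decide +kernel

theorem pairList_clear : (pairList.map clear).Nodup ∧ (3 = 2 ^ 0 ^^^ 2 ^ 1) := by decide +kernel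

theorem fours_ok : (fours.map Prod.fst).Nodup ∧ fours.length = 35 ∧ ∀ p ∈ fours, p.1 < 64 ∧ p.2 < 2 ^ 24 ∧
    pop 24 p.2 = 4 ∧ clear p.2 = clear (aMask p.1) := by decide +kernel

theorem pair_fours : ∀ m ∈ b6, ∃ p ∈ fours, ∃ r ∈ fours, clear (p.2 ^^^ r.2) = clear m := by decide +kernel

theorem dec_idx : ∀ v < 1024, TenPlane.decMask.testBit v = true →
    (if idx v >>> 6 = 0 then (fours.map Prod.fst).contains (idx v &&& 63)
      else (cs.map fun c => lin (witAct.getD (idx v >>> 6 - 1) []) c).contains (idx v &&& 63)) = true := by
  decide +kernel

theorem dec_count : ((List.range 1024).filter fun v => TenPlane.decMask.testBit v).length = 155 := by decide +kernel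

end CfsgLib.Spor.JFourType.TenData
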