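import Cfsg.Agent.Lib.Spor.JFourType.TenOctad

/-!
# The part of the normalizer of the octad subgroup inside the normalizer of `W`
-/

set_option autoImplicit false
set_option linter.style.haveILetI false

namespace CfsgLib.Spor.JFourType

open Subgroup Cfsg CfsgLib.Spor CfsgLib.Spor.JFourType.TenData CfsgLib.Spor.JFourType.TenCode
open scoped Pointwise

universe u

/-- The stabilizer of the octad. -/
noncomputable def octStab : Subgroup ↥M24 := MulAction.stabilizer ↥M24 (pts baseOctad)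

theorem card_octStab : Nat.card ↥octStab = 322560 := card_stab_octad baseOctad_mem

theorem mem_octStab {g : ↥M24} : g ∈ octStab ↔ (g : Equiv.Perm GolayPt) • pts baseOctad = pts baseOctad := Iff.rfl

theorem octStab_apply {g : ↥M24} (hg : g ∈ octStab) {p : GolayPt} :
    (g : Equiv.Perm GolayPt) p ∈ pts baseOctad ↔ p ∈ pts baseOctad := by
  conv_lhs => rw [← mem_octStab.1 hg]
  exact Finset.smul_mem_smul_finset_iff (s := pts baseOctad) (g : Equiv.Perm GolayPt) (b := p)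

theorem m24Of_octStab {P : ℕ} (h : isM24Code P = true) (hB : permMask P baseOctad = baseOctad) :
    m24Of P ∈ octStab := by
  rw [mem_octStab, m24Of_coe h, smul_pts (isPermCode_of_isM24Code h), hB]

namespace WModel

variable {G : Type u} [Group G] {z : G} {W : Subgroup G} (M : WModel z W)
include M

omit M in
theorem lin_mem {S : Subgroup G} (f : ℕ → G) (h0 : f 0 = 1) (hadd : ∀ a b, f (a ^^^ b) = f a * f b) :
    ∀ (bs : List ℕ), (∀ b ∈ bs, f b ∈ S) → ∀ v, f (lin bs v) ∈ S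
  | [], _, v => by rw [lin, h0]; exact one_mem _
  | b :: bs, h, v => by
    rw [lin, hadd]
    refine mul_mem ?_ (lin_mem f h0 hadd bs (fun x hx => h x (List.mem_cons_of_mem _ hx)) _)
    split_ifs
    · exact h b (List.mem_cons_self ..)
    · rw [h0]; exact one_mem _

variable [Finite G]

theorem mem_w6_of {c i : ℕ} (hc : c < 2 ^ 24) (hce : pop 24 c % 2 = 0) (hi : i < 16)
    (h : M.Φ c * M.m (qPerm i) ∈ M.A1) : w6.contains (clear c) = true := by
  have h' : M.Φ c ∈ M.A1 := (mul_mem_cancel_right (M.q_mem hi)).1 h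
  obtain ⟨a, ha, j, hj, e⟩ := h'
  have hj0 := M.el_W hj (by rw [← e]; exact M.Φ_mem c)
  subst hj0
  rw [el, qPerm_zero, map_one, mul_one] at e
  rw [List.contains_iff_mem, w6_eq, List.mem_map]
  exact ⟨a, List.mem_range.2 ha, (M.clear_eq_of_Φ hc (aMask_lt a ha).1 hce (aMask_lt a ha).2 e).symm⟩

theorem octStab_normalizes {g : ↥M24} (hg : g ∈ octStab) : M.m g ∈ normalizer (M.A1 : Set G) := by
  refine mem_normalizer_of_map ?_
  have hle : M.A1.map (MulAut.conj (M.m g)).toMonoidHom ≤ M.A1 := by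
    have key : M.A1 ≤ M.A1.comap (MulAut.conj (M.m g)).toMonoidHom := by
      rintro _ ⟨a, ha, i, hi, rfl⟩
      refine mul_mem ?_ ?_
      · refine lin_mem M.Φ M.Φ_zero M.Φ_add b6 (fun b hb => ?_) a
        obtain ⟨k, hk, l, hl, hk', hl', rfl⟩ := b6_pairs b hb
        show M.m g * M.Φ _ * (M.m g)⁻¹ ∈ M.A1
        rw [← M.Φ_conj g _ _ (pop_pair_even hk hl) (smul_pair (g : Equiv.Perm GolayPt) hk hl)]
        refine M.pair_mem (ptIdx_lt _) (ptIdx_lt _) ?_ ?_
        · exact mem_pts.1 ((octStab_apply hg).2 (by rw [mem_pts, ptIdx_idxPt k hk]; exact hk'))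
        · exact mem_pts.1 ((octStab_apply hg).2 (by rw [mem_pts, ptIdx_idxPt l hl]; exact hl'))
      · show M.m g * M.m (qPerm i) * (M.m g)⁻¹ ∈ M.A1
        rw [← map_inv, ← map_mul, ← map_mul]
        obtain ⟨j, hj, e⟩ := exists_qPerm (g := g * qPerm i * g⁻¹) fun p hp => by
          have hp' : ((g⁻¹ : ↥M24) : Equiv.Perm GolayPt) p ∈ pts baseOctad := (octStab_apply (inv_mem hg)).2 hp
          rw [Subgroup.coe_mul, Subgroup.coe_mul, Equiv.Perm.mul_apply, Equiv.Perm.mul_apply, qPerm_fix hi hp',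
            InvMemClass.coe_inv]
          exact Equiv.apply_symm_apply (g : Equiv.Perm GolayPt) p
        rw [← e]
        exact M.q_mem hj
    rintro _ ⟨x, hx, rfl⟩
    exact key hx
  exact eq_of_le_of_card_ge hle (le_of_eq (Nat.card_congr
    (equivMapOfInjective _ _ (MulAut.conj (M.m g)).injective).toEquiv))

theorem decomp_normalizer {x : G} (hxW : x ∈ normalizer (W : Set G)) (hxA : x ∈ normalizer (M.A1 : Set G)) :
    ∃ g ∈ octStab, x * (M.m g)⁻¹ ∈ W ∧ x * (M.m g)⁻¹ ∈ normalizer (M.A1 : Set G) := by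
  obtain ⟨g, hw⟩ := M.m_cover x hxW
  set w := x * (M.m g)⁻¹ with hwdef
  have hxe : x = w * M.m g := by rw [hwdef, inv_mul_cancel_right]
  have hg : g ∈ octStab := by
    refine mem_octStab.2 (Finset.eq_of_subset_of_card_le (fun r hr => ?_) (le_of_eq (card_smul_finset' _ _).symm))
    obtain ⟨p, hp, rfl⟩ := Finset.mem_smul_finset.1 hr
    by_contra hout
    rw [mem_pts, Bool.not_eq_true] at hout
    obtain ⟨i, hi, hmove⟩ := qs_move_out _ (ptIdx_lt _) hout
    -- the conjugate of a member is a member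
    have hmem := (mem_normalizer_iff.1 (inv_mem hxA) _).1 (M.q_mem hi)
    rw [inv_inv] at hmem
    obtain ⟨a, ha, j, hj, e⟩ := hmem
    have hu : w⁻¹ * (M.m (qPerm i) * w * (M.m (qPerm i))⁻¹) ∈ W :=
      mul_mem (inv_mem hw) ((mem_normalizer_iff.1 (M.m_norm _) w).1 hw)
    have hW' : M.m (g⁻¹ * qPerm i * g * (qPerm j)⁻¹) ∈ W := by
      have hgu : (M.m g)⁻¹ * (w⁻¹ * (M.m (qPerm i) * w * (M.m (qPerm i))⁻¹)) * M.m g ∈ W := by
        have := (mem_normalizer_iff.1 (inv_mem (M.m_norm g)) _).1 hu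
        rwa [inv_inv] at this
      have he : M.m (g⁻¹ * qPerm i * g * (qPerm j)⁻¹) =
          ((M.m g)⁻¹ * (w⁻¹ * (M.m (qPerm i) * w * (M.m (qPerm i))⁻¹)) * M.m g)⁻¹ * M.Φ (aMask a) := by
        simp only [map_mul, map_inv]
        have e' : (M.m g)⁻¹ * w⁻¹ * M.m (qPerm i) * w * M.m g = M.Φ (aMask a) * M.m (qPerm j) := by
          rw [hxe] at e
          rw [show (M.m g)⁻¹ * w⁻¹ * M.m (qPerm i) * w * M.m g =
            (w * M.m g)⁻¹ * M.m (qPerm i) * (w * M.m g) by group, e, el]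
        calc (M.m g)⁻¹ * M.m (qPerm i) * M.m g * (M.m (qPerm j))⁻¹
            = ((M.m g)⁻¹ * (w⁻¹ * (M.m (qPerm i) * w * (M.m (qPerm i))⁻¹)) * M.m g)⁻¹ *
              ((M.m g)⁻¹ * w⁻¹ * M.m (qPerm i) * w * M.m g) * (M.m (qPerm j))⁻¹ := by group
          _ = _ := by rw [e', ← mul_assoc, mul_inv_cancel_right]
      rw [he]
      exact mul_mem (inv_mem hgu) (M.Φ_mem _)
    have heq : g⁻¹ * qPerm i * g = qPerm j := mul_inv_eq_one.1 (M.m_disj _ hW')
    have h2 : (qPerm i : Equiv.Perm GolayPt) ((g : Equiv.Perm GolayPt) p) = (g : Equiv.Perm GolayPt) p := by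
      have := congrArg (fun h : ↥M24 => (g : Equiv.Perm GolayPt) ((h : Equiv.Perm GolayPt) p)) heq
      simp only [Subgroup.coe_mul, InvMemClass.coe_inv, Equiv.Perm.mul_apply, qPerm_fix hj hp] at this
      rwa [Equiv.Perm.inv_def, Equiv.apply_symm_apply] at this
    refine hmove ?_
    rw [show (g : Equiv.Perm GolayPt) • p = (g : Equiv.Perm GolayPt) p from rfl] at *
    rw [qPerm_coe hi, permOf_apply (isPermCode_of_isM24Code (qs_perm i hi))] at h2
    have h3 := congrArg ptIdx h2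
    rwa [ptIdx_idxPt _ (permFn_lt (isPermCode_of_isM24Code (qs_perm i hi)) (ptIdx_lt _))] at h3
  exact ⟨g, hg, hw, mul_mem hxA (inv_mem (M.octStab_normalizes hg))⟩

/-- The pairs outside the octad normalize the subgroup. -/
theorem pairOut_normalizes {k l : ℕ} (hk : k < 24) (hl : l < 24) (hk' : baseOctad.testBit k = false)
    (hl' : baseOctad.testBit l = false) : M.Φ (2 ^ k ^^^ 2 ^ l) ∈ normalizer (M.A1 : Set G) := by
  refine mem_normalizer_of_map ?_
  have hle : M.A1.map (MulAut.conj (M.Φ (2 ^ k ^^^ 2 ^ l))).toMonoidHom ≤ M.A1 := by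
    rintro _ ⟨_, ⟨a, ha, i, hi, rfl⟩, rfl⟩
    show M.Φ (2 ^ k ^^^ 2 ^ l) * (M.Φ (aMask a) * M.m (qPerm i)) * (M.Φ (2 ^ k ^^^ 2 ^ l))⁻¹ ∈ M.A1
    set b := 2 ^ k ^^^ 2 ^ l
    have hP := M.Φ_perm (qs_perm i hi) (pop_pair_even hk hl)
    have e : M.Φ b * (M.Φ (aMask a) * M.m (qPerm i)) * (M.Φ b)⁻¹ =
        M.Φ (aMask a) * M.Φ (b ^^^ permMask (qN i) b) * M.m (qPerm i) := by
      rw [M.Φ_add b (permMask (qN i) b), hP, ← mul_assoc (M.Φ b), M.W_comm _ (M.Φ_mem b) _ (M.Φ_mem (aMask a)), M.Φ_inv]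
      show _ = _ * (_ * (M.m (qPerm i) * _ * (M.m (qPerm i))⁻¹)) * _
      group
      rfl
    rw [e]
    exact mul_mem (mul_mem (M.Φ_mem_A1 (w6_aMask ha)) (M.Φ_mem_A1 (pair_out k hk l hl hk' hl' i hi))) (M.q_mem hi)
  exact eq_of_le_of_card_ge hle (le_of_eq (Nat.card_congr
    (equivMapOfInjective _ _ (MulAut.conj (M.Φ (2 ^ k ^^^ 2 ^ l))).injective).toEquiv))
where
  w6_aMask {a : ℕ} (ha : a < 64) : w6.contains (clear (aMask a)) = true := by
    rw [List.contains_iff_mem, w6_eq, List.mem_map]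
    exact ⟨a, List.mem_range.2 ha, rfl⟩

theorem card_W_inf_le : Nat.card ↥(W ⊓ normalizer (M.A1 : Set G) : Subgroup G) ≤ 1024 := by
  obtain ⟨k, hk, hk', l, hl, hl', hnot⟩ := mixed
  set b := 2 ^ k ^^^ 2 ^ l
  have hb : M.Φ b ∉ normalizer (M.A1 : Set G) := by
    intro hmem
    have h1 := (mem_normalizer_iff.1 hmem _).1 (M.q_mem (i := 1) (by norm_num))
    have hP := M.Φ_perm (qs_perm 1 (by norm_num)) (pop_pair_even hk hl)
    have e : M.Φ b * M.m (qPerm 1) * (M.Φ b)⁻¹ = M.Φ (b ^^^ permMask (qN 1) b) * M.m (qPerm 1) := by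
      rw [M.Φ_add b (permMask (qN 1) b), hP, M.Φ_inv]
      show _ = _ * (M.m (qPerm 1) * _ * (M.m (qPerm 1))⁻¹) * _
      group
      rfl
    rw [e] at h1
    have hperm := isPermCode_of_isM24Code (qs_perm 1 (by norm_num))
    have h2 := M.mem_w6_of (Nat.xor_lt_two_pow (pair_lt hk hl) (permMask_lt hperm _))
      (by rw [pop_xor_parity, pop_permMask hperm, Nat.add_mod, pop_pair_even hk hl]) (by norm_num) h1
    rw [hnot] at h2
    exact Bool.false_ne_true h2
  obtain ⟨r, hr⟩ : Nat.card ↥(W ⊓ normalizer (M.A1 : Set G) : Subgroup G) ∣ 2 ^ 11 :=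
    M.card_W ▸ Subgroup.card_dvd_of_le inf_le_left
  have hr1 : r ≠ 1 := by
    rintro rfl
    have heq := eq_of_le_of_card_ge (inf_le_left : W ⊓ normalizer (M.A1 : Set G) ≤ W)
      (by rw [M.card_W, hr, mul_one])
    exact hb (mem_inf.1 (heq.symm ▸ M.Φ_mem b : M.Φ b ∈ W ⊓ normalizer (M.A1 : Set G))).2
  have hr0 : r ≠ 0 := by rintro rfl; norm_num at hr
  by_contra hcon
  push Not at hcon
  have := Nat.mul_le_mul hcon (show 2 ≤ r by omega)
  omega

theorem card_H1_le :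
    Nat.card ↥(normalizer (W : Set G) ⊓ normalizer (M.A1 : Set G) : Subgroup G) ≤ 1024 * 322560 := by
  classical
  choose g hg hgW hgA using fun x : ↥(normalizer (W : Set G) ⊓ normalizer (M.A1 : Set G) : Subgroup G) =>
    M.decomp_normalizer (mem_inf.1 x.2).1 (mem_inf.1 x.2).2
  haveI : Finite ↥M24 := inferInstance
  have h := Nat.card_le_card_of_injective
    (fun x => ((⟨_, hgW x, hgA x⟩ : ↥(W ⊓ normalizer (M.A1 : Set G) : Subgroup G)), (⟨g x, hg x⟩ : ↥octStab)))
    fun x y e => by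
      obtain ⟨e1, e2⟩ := Prod.ext_iff.1 e
      have e1' : (x : G) * (M.m (g x))⁻¹ = y * (M.m (g y))⁻¹ := congrArg Subtype.val e1
      rw [show g x = g y from congrArg Subtype.val e2] at e1'
      exact Subtype.ext (mul_right_cancel e1')
  rw [Nat.card_prod, card_octStab] at h
  exact h.trans (Nat.mul_le_mul_right _ M.card_W_inf_le)

end WModel

end CfsgLib.Spor.JFourType
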