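import Cfsg.Agent.Lib.Spor.JFourType.TenBasic
import Cfsg.Agent.Lib.Spor.JFourType.TenData

/-!
# The subgroup of order `2 ^ 10` of an octad

The even subsets of an octad modulo it, with the pointwise stabilizer of the octad.
-/

set_option autoImplicit false
set_option linter.style.haveILetI false

namespace CfsgLib.Spor.JFourType

open Subgroup Cfsg CfsgLib.Spor CfsgLib.Spor.JFourType.TenData CfsgLib.Spor.JFourType.TenCode
open scoped Pointwise

universe u

/-- The element of a packed code. -/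
noncomputable def m24Of (P : ℕ) : ↥M24 := if h : isM24Code P = true then ⟨permOf P, permOf_mem_M24 h⟩ else 1

theorem m24Of_coe {P : ℕ} (h : isM24Code P = true) : (m24Of P : Equiv.Perm GolayPt) = permOf P := by
  rw [m24Of, dif_pos h]

/-- The member of the pointwise stabilizer. -/
noncomputable def qPerm (i : ℕ) : ↥M24 := m24Of (qN i)

theorem qPerm_coe {i : ℕ} (hi : i < 16) : (qPerm i : Equiv.Perm GolayPt) = permOf (qN i) := m24Of_coe (qs_perm i hi)

theorem qPerm_zero : qPerm 0 = 1 := Subtype.ext (by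
  rw [qPerm_coe (by norm_num), qN_zero, permOf_idPacked]
  rfl)

theorem qPerm_mul {i j : ℕ} (hi : i < 16) (hj : j < 16) : qPerm i * qPerm j = qPerm (i ^^^ j) := by
  have hij : i ^^^ j < 16 := Nat.xor_lt_two_pow (n := 4) hi hj
  refine Subtype.ext ?_
  rw [Subgroup.coe_mul, qPerm_coe hi, qPerm_coe hj, qPerm_coe hij]
  exact permOf_permMulCode (isPermCode_of_isM24Code (qs_perm i hi)) (isPermCode_of_isM24Code (qs_perm j hj))
    (isPermCode_of_isM24Code (qs_perm _ hij)) (qs_mul i hi j hj)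

theorem qPerm_eq_one {i : ℕ} (hi : i < 16) (h : qPerm i = 1) : i = 0 := by
  by_contra hne
  obtain ⟨j, hj, hm⟩ := qs_moves i hi hne
  refine hm ?_
  have h' := congrArg (fun g : ↥M24 => ptIdx ((g : Equiv.Perm GolayPt) (idxPt j))) h
  simp only [qPerm_coe hi, permOf_idxPt (isPermCode_of_isM24Code (qs_perm i hi)) hj, OneMemClass.coe_one,
    Equiv.Perm.coe_one, id_eq] at h'
  rwa [ptIdx_idxPt _ hj, ptIdx_idxPt _ (permFn_lt (isPermCode_of_isM24Code (qs_perm i hi)) hj)] at h'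

/-- The pointwise stabilizer of the octad consists of the listed elements. -/
theorem exists_qPerm {g : ↥M24} (h : ∀ p ∈ pts baseOctad, (g : Equiv.Perm GolayPt) p = p) :
    ∃ i < 16, qPerm i = g := by
  obtain ⟨c, hc, e⟩ := mem_ptwise_base.1 (mem_ptwise.2 ⟨g.2, h⟩)
  obtain ⟨i, hi, hq⟩ := qs_complete c hc
  exact ⟨i, hi, Subtype.ext (by rw [qPerm_coe hi, hq, e])⟩

theorem qPerm_fix {i : ℕ} (hi : i < 16) {p : GolayPt} (hp : p ∈ pts baseOctad) :
    (qPerm i : Equiv.Perm GolayPt) p = p := by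
  rw [qPerm_coe hi, permOf_apply (isPermCode_of_isM24Code (qs_perm i hi)),
    qs_fix_octad i hi _ (ptIdx_lt p) (mem_pts.1 hp), idxPt_ptIdx]

theorem pts_pair (i j : ℕ) (p : GolayPt) :
    p ∈ pts (2 ^ i ^^^ 2 ^ j) ↔ (ptIdx p = i ∧ ptIdx p ≠ j) ∨ (ptIdx p = j ∧ ptIdx p ≠ i) := by
  rw [mem_pts, Nat.testBit_xor, Nat.testBit_two_pow, Nat.testBit_two_pow]
  by_cases h1 : i = ptIdx p <;> by_cases h2 : j = ptIdx p <;> simp [h1, h2, eq_comm]

theorem pop_pair : ∀ i < 24, ∀ j < 24, pop 24 (2 ^ i ^^^ 2 ^ j) = if i = j then 0 else 2 := by decide +kernel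

theorem pop_pair_even {i j : ℕ} (hi : i < 24) (hj : j < 24) : pop 24 (2 ^ i ^^^ 2 ^ j) % 2 = 0 := by
  rw [pop_pair i hi j hj]
  split_ifs <;> rfl

theorem pair_lt {i j : ℕ} (hi : i < 24) (hj : j < 24) : 2 ^ i ^^^ 2 ^ j < 2 ^ 24 :=
  Nat.xor_lt_two_pow (Nat.pow_lt_pow_right (by norm_num) hi) (Nat.pow_lt_pow_right (by norm_num) hj)

theorem smul_pair (g : Equiv.Perm GolayPt) {i j : ℕ} (hi : i < 24) (hj : j < 24) :
    pts (2 ^ ptIdx (g (idxPt i)) ^^^ 2 ^ ptIdx (g (idxPt j))) = g • pts (2 ^ i ^^^ 2 ^ j) := by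
  ext r
  obtain ⟨s, rfl⟩ := g.surjective r
  have e : ∀ k < 24, (ptIdx (g s) = ptIdx (g (idxPt k)) ↔ ptIdx s = k) := fun k hk => by
    constructor
    · intro h
      rw [g.injective (ptIdx_injective h), ptIdx_idxPt k hk]
    · rintro rfl
      rw [idxPt_ptIdx]
  rw [pts_pair, show g s = g • s from rfl, Finset.smul_mem_smul_finset_iff, pts_pair, show g • s = g s from rfl]
  simp only [ne_eq, e i hi, e j hj]

theorem pop_smul (g : Equiv.Perm GolayPt) {a b : ℕ} (h : pts b = g • pts a) : pop 24 b = pop 24 a := by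
  rw [← card_pts, h, card_smul_finset', card_pts]

theorem pop_permMask {P : ℕ} (h : isPermCode P = true) (a : ℕ) : pop 24 (permMask P a) = pop 24 a :=
  pop_smul (permOf P) (smul_pts h a).symm

namespace WModel

variable {G : Type u} [Group G] {z : G} {W : Subgroup G} (M : WModel z W)
include M

theorem Φ_perm {P a : ℕ} (h : isM24Code P = true) (ha : pop 24 a % 2 = 0) :
    M.Φ (permMask P a) = M.m (m24Of P) * M.Φ a * (M.m (m24Of P))⁻¹ :=
  M.Φ_conj _ a _ ha (by rw [m24Of_coe h, smul_pts (isPermCode_of_isM24Code h)])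

theorem Φ_inv (a : ℕ) : (M.Φ a)⁻¹ = M.Φ a := inv_eq_of_mul_eq_one_right (M.W_sq _ (M.Φ_mem a))

/-- An element of the subgroup. -/
noncomputable def el (a i : ℕ) : G := M.Φ (aMask a) * M.m (qPerm i)

theorem q_comm {a i : ℕ} (ha : a < 64) (hi : i < 16) :
    M.m (qPerm i) * M.Φ (aMask a) = M.Φ (aMask a) * M.m (qPerm i) := by
  have h := M.Φ_perm (qs_perm i hi) (aMask_lt a ha).2
  rw [qs_fix i hi a ha] at h
  exact (mul_inv_eq_iff_eq_mul.1 h.symm)

theorem el_mul {a b i j : ℕ} (hb : b < 64) (hi : i < 16) (hj : j < 16) :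
    M.el a i * M.el b j = M.el (a ^^^ b) (i ^^^ j) := by
  calc M.el a i * M.el b j = M.Φ (aMask a) * (M.m (qPerm i) * M.Φ (aMask b)) * M.m (qPerm j) := by
        simp only [el, mul_assoc]
    _ = M.Φ (aMask a) * M.Φ (aMask b) * (M.m (qPerm i) * M.m (qPerm j)) := by
        rw [M.q_comm hb hi]; simp only [mul_assoc]
    _ = _ := by rw [← M.Φ_add, ← map_mul, qPerm_mul hi hj, el, aMask, aMask, aMask, lin_xor]

theorem el_zero : M.el 0 0 = 1 := by
  rw [el, qPerm_zero, map_one, mul_one, show aMask 0 = 0 by decide +kernel, M.Φ_zero]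

/-- The subgroup. -/
noncomputable def A1 : Subgroup G where
  carrier := {x | ∃ a < 64, ∃ i < 16, x = M.el a i}
  one_mem' := ⟨0, by norm_num, 0, by norm_num, M.el_zero.symm⟩
  mul_mem' := by
    rintro _ _ ⟨a, ha, i, hi, rfl⟩ ⟨b, hb, j, hj, rfl⟩
    exact ⟨_, Nat.xor_lt_two_pow (n := 6) ha hb, _, Nat.xor_lt_two_pow (n := 4) hi hj, M.el_mul hb hi hj⟩
  inv_mem' := by
    rintro _ ⟨a, ha, i, hi, rfl⟩
    refine ⟨a, ha, i, hi, inv_eq_of_mul_eq_one_right ?_⟩
    rw [M.el_mul ha hi hi, Nat.xor_self, Nat.xor_self, M.el_zero]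

theorem mem_A1 {x : G} : x ∈ M.A1 ↔ ∃ a < 64, ∃ i < 16, x = M.el a i := Iff.rfl

theorem el_mem {a i : ℕ} (ha : a < 64) (hi : i < 16) : M.el a i ∈ M.A1 := ⟨a, ha, i, hi, rfl⟩

theorem Φ_mem_A1 {a : ℕ} (h : w6.contains (clear a) = true) : M.Φ a ∈ M.A1 := by
  rw [List.contains_iff_mem, w6_eq, List.mem_map] at h
  obtain ⟨b, hb, e⟩ := h
  rw [M.Φ_eq_of_clear e.symm]
  exact ⟨b, List.mem_range.1 hb, 0, by norm_num, by rw [el, qPerm_zero, map_one, mul_one]⟩

theorem q_mem {i : ℕ} (hi : i < 16) : M.m (qPerm i) ∈ M.A1 :=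
  ⟨0, by norm_num, i, hi, by rw [el, show aMask 0 = 0 by decide +kernel, M.Φ_zero, one_mul]⟩

theorem pair_mem {i j : ℕ} (hi : i < 24) (hj : j < 24) (hi' : baseOctad.testBit i = true)
    (hj' : baseOctad.testBit j = true) : M.Φ (2 ^ i ^^^ 2 ^ j) ∈ M.A1 :=
  M.Φ_mem_A1 (pair_in i hi j hj hi' hj')

theorem el_W {a i : ℕ} (hi : i < 16) (h : M.el a i ∈ W) : i = 0 :=
  qPerm_eq_one hi (M.m_disj _ ((mul_mem_cancel_left (M.Φ_mem _)).1 h))

/-- A small value is not one. -/
theorem small_ne_one (hz : z ≠ 1) {a : ℕ} (ha : a < 2 ^ 24) (he : pop 24 a % 2 = 0) (h4 : pop 24 a ≤ 4)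
    (h : M.Φ a = 1) : a = 0 := by
  have h2 : pop 24 a = 0 ∨ pop 24 a = 2 ∨ pop 24 a = 4 := by omega
  rcases h2 with h0 | h0 | h0
  · rw [← card_pts, Finset.card_eq_zero] at h0
    exact eq_of_pts_eq ha (by norm_num) (h0.trans (by ext p; simp [mem_pts]))
  · exfalso
    obtain ⟨p, q, hpq, e⟩ := Finset.card_eq_two.1 ((card_pts a).trans h0)
    have hpa : a.testBit (ptIdx p) = true := mem_pts.1 (by rw [e]; simp)
    obtain ⟨r, hr⟩ : ∃ r : GolayPt, r ∉ pts a := by
      by_contra hcon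
      push Not at hcon
      have := Finset.eq_univ_iff_forall.2 hcon
      rw [← Finset.card_eq_iff_eq_univ, card_pts, h0] at this
      simp at this
    obtain ⟨s, hs⟩ : ∃ s : GolayPt, s ∉ pts a ∧ s ≠ r := by
      by_contra hcon
      push Not at hcon
      have hsub : (Finset.univ : Finset GolayPt) ⊆ {p, q, r} := fun s _ => by
        by_cases hs : s ∈ pts a
        · rw [e] at hs
          simp only [Finset.mem_insert, Finset.mem_singleton] at hs ⊢
          tauto
        · simp [hcon s hs]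
      have := (Finset.card_le_card hsub).trans Finset.card_le_three
      simp at this
    -- two more points give a conjugate of `z`
    have hir := ptIdx_lt r
    have his := ptIdx_lt s
    have hb4 : pop 24 (a ^^^ (2 ^ ptIdx r ^^^ 2 ^ ptIdx s)) = 4 := by
      rw [← card_pts, show pts (a ^^^ (2 ^ ptIdx r ^^^ 2 ^ ptIdx s)) = {p, q, r, s} from ?_]
      · have hr' : r ≠ p ∧ r ≠ q := by
          rw [e] at hr; simpa using hr
        have hs' : s ≠ p ∧ s ≠ q := by
          have := hs.1; rw [e] at this; simpa using this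
        rw [Finset.card_insert_of_notMem (by simp [hpq, hr'.1.symm, hs'.1.symm]),
          Finset.card_insert_of_notMem (by simp [hr'.2.symm, hs'.2.symm]), Finset.card_pair (Ne.symm hs.2)]
      · ext x
        have hx1 : x ∈ pts a ↔ x = p ∨ x = q := by rw [e]; simp
        have hx2 : x ∈ pts (2 ^ ptIdx r ^^^ 2 ^ ptIdx s) ↔ x = r ∨ x = s := by
          rw [pts_pair]
          simp only [ptIdx_injective.eq_iff, ne_eq]
          constructor
          · rintro (⟨h, -⟩ | ⟨h, -⟩) <;> simp [h]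
          · rintro (rfl | rfl)
            · exact Or.inl ⟨rfl, fun h => hs.2 h.symm⟩
            · exact Or.inr ⟨rfl, hs.2⟩
        rw [mem_pts] at hx1 hx2
        rw [mem_pts, Nat.testBit_xor]
        simp only [Finset.mem_insert, Finset.mem_singleton]
        have hr' : r ≠ p ∧ r ≠ q := by
          rw [e] at hr; simpa using hr
        have hs' : s ≠ p ∧ s ≠ q := by
          have := hs.1; rw [e] at this; simpa using this
        cases ha' : a.testBit (ptIdx x) <;> cases hb' : (2 ^ ptIdx r ^^^ 2 ^ ptIdx s).testBit (ptIdx x) <;>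
          simp [ha', hb'] at hx1 hx2 ⊢ <;> aesop
    have hconj := M.four _ hb4
    rw [M.Φ_add, h, one_mul] at hconj
    exact (M.pair _ (by rw [pop_pair _ hir _ his, if_neg fun e' => hs.2 (ptIdx_injective e').symm])).1 hconj
  · exfalso
    have hconj := M.four a h0
    rw [h] at hconj
    exact hz (isConj_one_left.1 hconj)

variable [Finite G]

theorem el_eq_one {a i : ℕ} (ha : a < 64) (hi : i < 16) (h : M.el a i = 1) : a = 0 ∧ i = 0 := by
  have hi0 := M.el_W hi (by rw [h]; exact one_mem _)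
  subst hi0
  rw [el, qPerm_zero, map_one, mul_one, ← M.Φ_zero] at h
  exact ⟨w6_zero a ha (M.clear_eq_of_Φ (aMask_lt a ha).1 (by norm_num) (aMask_lt a ha).2 (by decide +kernel) h), rfl⟩

theorem el_inj {a b i j : ℕ} (ha : a < 64) (hb : b < 64) (hi : i < 16) (hj : j < 16)
    (h : M.el a i = M.el b j) : a = b ∧ i = j := by
  have h1 : M.el (a ^^^ b) (i ^^^ j) = 1 := by
    rw [← M.el_mul hb hi hj, ← h, M.el_mul ha hi hi, Nat.xor_self, Nat.xor_self, M.el_zero]
  obtain ⟨e1, e2⟩ := M.el_eq_one (Nat.xor_lt_two_pow (n := 6) ha hb) (Nat.xor_lt_two_pow (n := 4) hi hj) h1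
  exact ⟨Nat.xor_eq_zero_iff.1 e1, Nat.xor_eq_zero_iff.1 e2⟩

theorem card_A1 : Nat.card ↥M.A1 = 2 ^ 10 := by
  let f : Fin 64 × Fin 16 → ↥M.A1 := fun p => ⟨M.el p.1 p.2, M.el_mem p.1.2 p.2.2⟩
  have hbij : Function.Bijective f := by
    refine ⟨fun p q h => ?_, ?_⟩
    · obtain ⟨e1, e2⟩ := M.el_inj p.1.2 q.1.2 p.2.2 q.2.2 (congrArg Subtype.val h)
      exact Prod.ext (Fin.ext e1) (Fin.ext e2)
    · rintro ⟨_, a, ha, i, hi, rfl⟩
      exact ⟨(⟨a, ha⟩, ⟨i, hi⟩), rfl⟩
  rw [← Nat.card_congr (Equiv.ofBijective f hbij), Nat.card_prod, Nat.card_fin, Nat.card_fin]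
  norm_num

theorem A1_comm {x y : G} (hx : x ∈ M.A1) (hy : y ∈ M.A1) : x * y = y * x := by
  obtain ⟨a, ha, i, hi, rfl⟩ := hx
  obtain ⟨b, hb, j, hj, rfl⟩ := hy
  rw [M.el_mul hb hi hj, M.el_mul ha hj hi, Nat.xor_comm a, Nat.xor_comm i]

/-- It is elementary abelian of order `2 ^ 10` and its own centralizer. -/
theorem isTen_A1 (hz : z ≠ 1) : IsTen M.A1 where
  ea := ⟨⟨⟨fun x y => Subtype.ext (M.A1_comm x.2 y.2)⟩⟩, by
    rintro _ ⟨a, ha, i, hi, rfl⟩
    rw [pow_two, M.el_mul ha hi hi, Nat.xor_self, Nat.xor_self, M.el_zero]⟩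
  card := M.card_A1
  self := by
    refine le_antisymm (fun x hx => ?_) fun x hx => mem_centralizer_iff.2 fun y hy => M.A1_comm hy hx
    have hcomm : ∀ y ∈ M.A1, y * x = x * y := mem_centralizer_iff.1 hx
    obtain ⟨i0, hi0, j0, hj0, hne0, hib, hjb⟩ : ∃ i < 24, ∃ j < 24, i ≠ j ∧ baseOctad.testBit i = true ∧
        baseOctad.testBit j = true := by decide +kernel
    have hxN : x ∈ normalizer (W : Set G) :=
      (M.pair _ (by rw [pop_pair i0 hi0 j0 hj0, if_neg hne0])).2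
        (mem_centralizer_singleton_iff.2 (hcomm _ (M.pair_mem hi0 hj0 hib hjb)).symm)
    obtain ⟨g, hw⟩ := M.m_cover x hxN
    set w := x * (M.m g)⁻¹ with hwdef
    have hpair : ∀ i < 24, ∀ j < 24, baseOctad.testBit i = true → baseOctad.testBit j = true →
        (g : Equiv.Perm GolayPt) • pts (2 ^ i ^^^ 2 ^ j) = pts (2 ^ i ^^^ 2 ^ j) := by
      intro i hi j hj hi' hj'
      set b := 2 ^ ptIdx ((g : Equiv.Perm GolayPt) (idxPt i)) ^^^ 2 ^ ptIdx ((g : Equiv.Perm GolayPt) (idxPt j))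
      have hb := smul_pair (g : Equiv.Perm GolayPt) hi hj
      have hc := M.Φ_conj g _ b (pop_pair_even hi hj) hb
      have hx' := hcomm _ (M.pair_mem hi hj hi' hj')
      rw [show x = w * M.m g by rw [hwdef, inv_mul_cancel_right]] at hx'
      have h1 : M.Φ b = M.Φ (2 ^ i ^^^ 2 ^ j) := by
        have h2 : M.m g * M.Φ (2 ^ i ^^^ 2 ^ j) * (M.m g)⁻¹ = w⁻¹ * M.Φ (2 ^ i ^^^ 2 ^ j) * w := by
          calc M.m g * M.Φ (2 ^ i ^^^ 2 ^ j) * (M.m g)⁻¹
              = w⁻¹ * (w * M.m g * M.Φ (2 ^ i ^^^ 2 ^ j)) * (M.m g)⁻¹ := by group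
            _ = w⁻¹ * (M.Φ (2 ^ i ^^^ 2 ^ j) * (w * M.m g)) * (M.m g)⁻¹ := by rw [hx']
            _ = _ := by group
        rw [hc, h2, mul_assoc, M.W_comm _ (M.Φ_mem _) _ hw, inv_mul_cancel_left]
      have hblt : b < 2 ^ 24 := pair_lt (ptIdx_lt _) (ptIdx_lt _)
      have h0 : b ^^^ (2 ^ i ^^^ 2 ^ j) = 0 := by
        refine M.small_ne_one hz (Nat.xor_lt_two_pow hblt (pair_lt hi hj)) ?_ ?_ ?_
        · rw [pop_xor_parity, Nat.add_mod, pop_pair_even (ptIdx_lt _) (ptIdx_lt _), pop_pair_even hi hj]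
        · rw [← card_pts]
          refine (Finset.card_le_card (t := pts b ∪ pts (2 ^ i ^^^ 2 ^ j)) fun p hp => ?_).trans
            ((Finset.card_union_le _ _).trans ?_)
          · rw [mem_pts, Nat.testBit_xor] at hp
            rw [Finset.mem_union, mem_pts, mem_pts]
            revert hp
            cases b.testBit (ptIdx p) <;> cases (2 ^ i ^^^ 2 ^ j).testBit (ptIdx p) <;> simp
          · rw [card_pts, card_pts, pop_pair _ (ptIdx_lt _) _ (ptIdx_lt _), pop_pair i hi j hj]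
            split_ifs <;> omega
        · rw [M.Φ_add, h1, M.W_sq _ (M.Φ_mem _)]
      exact hb.symm.trans (congrArg pts (Nat.xor_eq_zero_iff.1 h0))
    have hfix : ∀ p ∈ pts baseOctad, (g : Equiv.Perm GolayPt) p = p := by
      intro p hp
      obtain ⟨j, hj, k, hk, hjb', hkb', e1, e2, e3⟩ := (by decide +kernel : ∀ i < 24, baseOctad.testBit i = true →
        ∃ j < 24, ∃ k < 24, baseOctad.testBit j = true ∧ baseOctad.testBit k = true ∧ i ≠ j ∧ i ≠ k ∧ j ≠ k)
        (ptIdx p) (ptIdx_lt p) (mem_pts.1 hp)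
      have key : ∀ l < 24, baseOctad.testBit l = true → ptIdx p ≠ l →
          ptIdx ((g : Equiv.Perm GolayPt) p) = ptIdx p ∨ ptIdx ((g : Equiv.Perm GolayPt) p) = l := by
        intro l hl hlb hne
        have hmem : p ∈ pts (2 ^ ptIdx p ^^^ 2 ^ l) := (pts_pair _ _ _).2 (Or.inl ⟨rfl, hne⟩)
        have := Finset.smul_mem_smul_finset (a := (g : Equiv.Perm GolayPt)) hmem
        rw [hpair _ (ptIdx_lt p) l hl (mem_pts.1 hp) hlb, pts_pair] at this
        rcases this with ⟨h, -⟩ | ⟨h, -⟩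
        · exact Or.inl h
        · exact Or.inr h
      rcases key j hj hjb' e1 with h | h
      · exact ptIdx_injective h
      · rcases key k hk hkb' e2 with h' | h'
        · exact ptIdx_injective h'
        · exact absurd (h.symm.trans h') e3
    obtain ⟨i, hi, rfl⟩ := exists_qPerm hfix
    have hwc : ∀ k < 16, w * M.m (qPerm k) = M.m (qPerm k) * w := by
      intro k hk
      have h1 := hcomm _ (M.q_mem hk)
      have h2 := M.A1_comm (inv_mem (M.q_mem hi)) (M.q_mem hk)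
      rw [hwdef, mul_assoc, h2, ← mul_assoc, ← h1, mul_assoc]
    obtain ⟨a0, ha0, hae0, ha0w⟩ := M.Φ_surj w hw
    set a := clear a0 with hadef
    have ha : a ∈ reps := clear_mem ha0 hae0
    obtain ⟨hal, hae, -⟩ := clear_spec ha0 hae0 12 le_rfl
    change a < 2 ^ 24 at hal
    change pop 24 a % 2 = 0 at hae
    have haw : M.Φ a = w := (M.Φ_clear a0).trans ha0w
    have hmem : M.Φ a ∈ M.A1 := by
      refine M.Φ_mem_A1 (reps_fixed a ha fun k hk => ?_)
      have hk16 : k < 16 := by fin_cases hk <;> norm_num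
      have hP := isPermCode_of_isM24Code (qs_perm k hk16)
      refine M.clear_eq_of_Φ (permMask_lt hP a) hal (by rw [pop_permMask hP]; exact hae) hae ?_
      rw [M.Φ_perm (qs_perm k hk16) hae, haw]
      show M.m (qPerm k) * w * (M.m (qPerm k))⁻¹ = w
      rw [← hwc k hk16, mul_inv_cancel_right]
    have hxe : x = w * M.m (qPerm i) := by rw [hwdef, inv_mul_cancel_right]
    rw [hxe, ← haw]
    exact mul_mem hmem (M.q_mem hi)

end WModel

end CfsgLib.Spor.JFourType
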