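import Cfsg.Agent.Lib.Spor.JFourType.TenCore

/-!
# Conjugacy of the self-centralizing elementary abelian subgroups of order `2 ^ 10`

Those through `z` correspond to the spread subgroups; fusion of conjugates of `z` in one of them is in its
normalizer, whose order is `2 ^ 20 * 63` times their number.
-/

set_option autoImplicit false
set_option linter.style.haveILetI false

namespace CfsgLib.Spor.JFourType.Ctx

open Subgroup

universe u

variable {G : Type u} [Group G] [Finite G] {A : Type} [Group A] {J I R : Subgroup A}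
  {z : G} {P : Subgroup G} (c : Ctx J I R z P)
include c

/-- The involutions over a subgroup of the quotient. -/
def liftSet (D : Subgroup A) : Set G := {x | x ∈ c.M ∧ x * x = 1 ∧ c.im x ∈ D}

/-- The subgroup belonging to a spread subgroup, as a set. -/
def tenSet (D : Subgroup A) : Set G :=
  {x | x ∈ c.H ∧ c.im x ∈ D ∧ ∀ e ∈ c.lift (c.fix (c.liftSet D)), x * e = e * x}

variable {S : Subgroup G} (h : IsTen S) (hz : z ∈ S)
include h hz

theorem ten_card_imS : Nat.card ↥(c.imS S) = 8 := by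
  haveI := c.finite_A
  have hS := c.ten_le_H h hz
  obtain ⟨k, hk⟩ := (c.imS_isPGroup h.isPGroup).exists_card_eq
  have hb := c.ten_bound h hz
  have hX := c.ten_pvS_le h hz
  have hlt := c.ten_card_imS_lt h hz
  have h8 : 8 ≤ Nat.card ↥(c.imS S) := by
    by_contra hcon
    push Not at hcon
    have := Nat.mul_le_mul (Nat.le_of_lt_succ hcon) hX
    omega
  by_contra hne
  have h16 : Nat.card ↥(c.imS S) = 16 := by
    rw [hk] at h8 hlt hne ⊢
    have : k < 5 := (Nat.pow_lt_pow_iff_right (by norm_num)).1 (hlt.trans_le (by norm_num))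
    interval_cases k <;> omega
  have hinn := c.ten_inner h hz
  obtain ⟨j, hj, hjI | hjR⟩ := c.facts.ea_cases _ hinn (c.ten_imS_ea h hz) (le_of_eq h16.symm)
  · obtain ⟨g, hg, hgj⟩ := c.exists_C0_im hj
    have hT := h.map g⁻¹
    have hzT := c.z_mem_map hz (inv_mem hg.1)
    have hconj := c.ten_imS_map h hz (inv_mem hg.1)
    rw [c.im_inv hg.1, hgj] at hconj
    refine c.ten_not_I hT hzT (fun x hx => ?_) (by rw [hconj.card_eq, h16])
    have h1 := (hconj (c.im x)).1 ((c.mem_imS (c.ten_le_H hT hzT)).2 ⟨x, hx, rfl⟩)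
    rw [inv_inv] at h1
    have h2 := (hjI _).1 h1
    rwa [show j⁻¹ * (j * c.im x * j⁻¹) * j = c.im x by group] at h2
  · have := c.ten_R_bound h hz hj (by rwa [inf_eq_left.2 hinn])
    rw [h16] at hb
    omega

theorem ten_card_pvS : Nat.card ↥(c.pvS S) = 2 ^ 6 := by
  have hb := c.ten_bound h hz
  have hX := c.ten_pvS_le h hz
  rw [c.ten_card_imS h hz] at hb
  omega

theorem ten_spread : Spread J I (c.imS S) := by
  refine ⟨c.ten_inner h hz, c.ten_card_imS h hz, fun x hx => by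
    rw [← pow_two]; exact (c.ten_imS_ea h hz).2 x hx, ?_⟩
  rintro a ha b hb ha1 hb1 hab ⟨g, hga, hgb⟩
  obtain ⟨k, hk, hkg⟩ := c.exists_H_im g
  have hT := h.map k
  have hzT := c.z_mem_map hz hk
  have hconj := c.ten_imS_map h hz hk
  rw [hkg] at hconj
  refine c.ten_no_pair hT hzT (a := ⟨_, hga⟩) (b := ⟨_, hgb⟩) (fun e => ha1 ?_) (fun e => hb1 ?_) (fun e => hab ?_)
    ((hconj _).2 (by rwa [show g⁻¹ * (g * a * g⁻¹) * g = a by group]))
    ((hconj _).2 (by rwa [show g⁻¹ * (g * b * g⁻¹) * g = b by group])) (c.ten_card_pvS hT hzT)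
  · exact conj_eq_one_iff.1 (congrArg Subtype.val e)
  · exact conj_eq_one_iff.1 (congrArg Subtype.val e)
  · exact mul_left_cancel (mul_right_cancel (congrArg Subtype.val e))

theorem ten_card_fix_of_I {a : ↥I} (ha : a ≠ 1) (haS : (a : A) ∈ c.imS S) :
    Nat.card ↥(c.fix (S : Set G)) ≤ 2 ^ 6 := by
  haveI := c.finite_A
  classical
  have hS := c.ten_le_H h hz
  obtain ⟨x, hx, hxa⟩ := (c.mem_imS hS).1 haS
  have hle : c.fix (S : Set G) ≤ c.Fx a := fun v hv => by
    refine c.mem_fix_singleton.2 ?_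
    rw [← c.ten_act_lv h hz hx hxa]
    exact hv x hx
  obtain ⟨k, hk, hck⟩ := c.card_addSubgroup (c.fix (S : Set G))
  have h3 := c.card_om_invariant (c.fix (S : Set G)) fun v hv => c.fix_om (fun y hy => c.ten_mem_M h hz hy) hv
  have h8 : Nat.card ↥(c.fix (S : Set G)) ≤ 2 ^ 8 := c.card_Fx ha ▸ AddSubgroup.card_le_of_le hle
  have hne : Nat.card ↥(c.fix (S : Set G)) ≠ 2 ^ 8 := by
    intro e
    have heq := AddSubgroup.eq_of_le_of_card_ge hle (by rw [e, c.card_Fx ha])
    obtain ⟨b, hb, hb1, hba⟩ : ∃ b ∈ c.imS S, b ≠ 1 ∧ b ≠ (a : A) := by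
      by_contra hcon
      push Not at hcon
      have hsub : (c.imS S : Set A) ⊆ {1, (a : A)} := fun b hb => by
        by_cases hb1 : b = 1
        · exact Or.inl hb1
        · exact Or.inr (hcon b hb hb1)
      have h2 := Set.ncard_le_ncard hsub (Set.toFinite _)
      rw [← Nat.card_coe_set_eq, SetLike.coe_sort_coe, c.ten_card_imS h hz] at h2
      have h3 : Set.ncard ({1, (a : A)} : Set A) ≤ 2 :=
        (Set.ncard_insert_le _ _).trans (by rw [Set.ncard_singleton])
      omega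
    obtain ⟨y, hy, hyb⟩ := (c.mem_imS hS).1 hb
    have hbI : b ∈ I := hyb ▸ c.im_mem_of_fix_U (hS hy) (a := 1) (by rw [pow_one, pow_two, h.sq hy])
      fun v hv => (show v ∈ c.fix (S : Set G) by rw [heq]; exact c.U_le_Fx a hv) y hy
    exact c.ten_no_pair h hz (b := ⟨b, hbI⟩) ha (fun e => hb1 (congrArg Subtype.val e))
      (fun e => hba (congrArg Subtype.val e).symm) haS hb (c.ten_card_pvS h hz)
  rw [hck] at h3 h8 hne ⊢
  interval_cases k <;> omega

theorem ten_fix_eq : c.fix (S : Set G) = c.pvS S := by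
  haveI := c.finite_A
  classical
  have hS := c.ten_le_H h hz
  refine (AddSubgroup.eq_of_le_of_card_ge (c.ten_pvS_le_fix h hz) ?_).symm
  rw [c.ten_card_pvS h hz]
  obtain ⟨b, hb, hb1⟩ : ∃ b ∈ c.imS S, b ≠ 1 := by
    by_contra hcon
    push Not at hcon
    have := c.ten_card_imS h hz
    rw [(Subgroup.eq_bot_iff_forall _).2 hcon, card_bot] at this
    omega
  obtain ⟨g, hg, hgI⟩ := c.facts.invol_I b (c.ten_inner h hz hb)
    (orderOf_eq_prime ((c.ten_imS_ea h hz).2 b hb) hb1)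
  obtain ⟨k, hk, hkg⟩ := c.exists_H_im g
  have hconj := c.ten_imS_map h hz hk
  rw [hkg] at hconj
  refine le_trans ?_ (c.ten_card_fix_of_I (h.map k) (c.z_mem_map hz hk) (a := ⟨_, hgI⟩)
    (fun e => hb1 (conj_eq_one_iff.1 (congrArg Subtype.val e)))
    ((hconj _).2 (by rwa [show g⁻¹ * (g * b * g⁻¹) * g = b by group])))
  refine Nat.card_le_card_of_injective
    (fun v : ↥(c.fix (S : Set G)) => (⟨c.act k v, fun y hy => ?_⟩ :
      ↥(c.fix ((S.map (MulAut.conj k).toMonoidHom : Subgroup G) : Set G))))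
    fun v w e => Subtype.ext (c.act_injective hk (congrArg Subtype.val e))
  obtain ⟨s, hs, rfl⟩ := hy
  show c.act (k * s * k⁻¹) (c.act k v) = c.act k v
  rw [← c.act_apply_mul (mul_mem (mul_mem hk (hS hs)) (inv_mem hk)) hk, inv_mul_cancel_right,
    c.act_apply_mul hk (hS hs), v.2 s hs]

theorem ten_fix_liftSet : c.fix (c.liftSet (c.imS S)) = c.pvS S := by
  have hS := c.ten_le_H h hz
  refine le_antisymm ?_ fun v hv y hy => ?_
  · rw [← c.ten_fix_eq h hz]
    exact c.fix_anti fun x hx => ⟨c.ten_mem_M h hz hx, h.sq hx, (c.mem_imS hS).2 ⟨x, hx, rfl⟩⟩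
  · obtain ⟨hyM, hyy, hyD⟩ := hy
    obtain ⟨x, hx, hxy⟩ := (c.mem_imS hS).1 hyD
    rw [c.act_eq_of_sq hyM (c.ten_mem_M h hz hx) hxy.symm hyy (h.sq hx)]
    exact c.ten_pvS_le_fix h hz hv x hx

/-- The image determines the subgroup. -/
theorem ten_eq_tenSet : (S : Set G) = c.tenSet (c.imS S) := by
  have hS := c.ten_le_H h hz
  rw [tenSet, c.ten_fix_liftSet h hz]
  ext x
  constructor
  · intro hx
    exact ⟨hS hx, (c.mem_imS hS).2 ⟨x, hx, rfl⟩, fun e he => h.comm hx (c.ten_lift_le h hz he)⟩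
  · rintro ⟨hxH, hxD, hxc⟩
    obtain ⟨a, ha, hax⟩ := (c.mem_imS hS).1 hxD
    have hyH : x * a⁻¹ ∈ c.H := mul_mem hxH (inv_mem (hS ha))
    have hyc : ∀ e ∈ c.lift (c.pvS S), x * a⁻¹ * e = e * (x * a⁻¹) := fun e he => by
      rw [mul_assoc, h.comm (inv_mem ha) (c.ten_lift_le h hz he), ← mul_assoc, hxc e he, mul_assoc]
    have him : c.pr ⟨x * a⁻¹, hyH⟩ = 1 := by
      rw [← c.im_eq, c.im_mul hxH (inv_mem (hS ha)), c.im_inv (hS ha), hax, mul_inv_cancel]
    obtain ⟨e, he, q, hq, hd⟩ := c.ker_decomp hyH him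
    have hqH := (c.P_le_C0 hq).1
    obtain ⟨v, hv, hv0⟩ : ∃ v ∈ c.pvS S, v ≠ 0 := by
      by_contra hcon
      push Not at hcon
      have := c.ten_card_pvS h hz
      rw [(AddSubgroup.eq_bot_iff_forall _).2 hcon, AddSubgroup.card_bot] at this
      norm_num at this
    have hq1 : q = 1 := by
      obtain ⟨f, hf, hfv⟩ := c.pv_surj v
      have h2 : c.act (e * q) v = v := by
        rw [← hfv, ← c.pv_conj (mul_mem (c.E_le he) hqH) hf, ← hd,
          hyc f ⟨hf, by rw [hfv]; exact hv⟩, mul_inv_cancel_right]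
      rw [c.act_mul (c.E_le he) hqH, (c.act_eq_one (c.E_le he)).2 he, one_mul] at h2
      rcases c.mem_P hq with rfl | rfl | rfl
      · rfl
      · exact absurd (c.om_fixed h2) hv0
      · refine absurd (c.om_fixed ?_) hv0
        calc c.om v = c.act c.pg (c.act c.pg⁻¹ v) := by rw [h2]; rfl
          _ = v := c.act_apply_inv c.pg_H v
    rw [hq1, mul_one] at hd
    have hperp : c.perp (c.pvS S) = c.pvS S := by
      refine (AddSubgroup.eq_of_le_of_card_ge (c.pvS_le_perp (S := S) fun p hp q hq => h.comm hp hq) ?_).symm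
      have h1 := c.card_perp (c.pvS S)
      rw [c.ten_card_pvS h hz] at h1 ⊢
      omega
    have heX : e ∈ c.lift (c.pvS S) := by
      refine ⟨he, ?_⟩
      rw [← hperp]
      refine c.mem_perp.2 ?_
      rintro _ ⟨f, hf, hfE, rfl⟩
      exact (c.Bf_comm hfE he).2 (by rw [← hd]; exact (hyc f ⟨hfE, f, hf, hfE, rfl⟩).symm)
    have hx : x = e * a := mul_inv_eq_iff_eq_mul.1 hd
    rw [hx]
    exact mul_mem (c.ten_lift_le h hz heX) ha

omit h hz in
theorem ten_eq_of_imS {T T' : Subgroup G} (hT : IsTen T) (hT' : IsTen T') (hzT : z ∈ T) (hzT' : z ∈ T')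
    (he : c.imS T = c.imS T') : T = T' :=
  SetLike.coe_injective ((c.ten_eq_tenSet hT hzT).trans (he ▸ (c.ten_eq_tenSet hT' hzT').symm))

variable (hx : SpreadFacts J I)
include hx

omit h hz in
/-- Those through `z` are conjugate in the centralizer of `z`. -/
theorem ten_conj_H {T T' : Subgroup G} (hT : IsTen T) (hT' : IsTen T') (hzT : z ∈ T) (hzT' : z ∈ T') :
    ∃ k ∈ c.H, T' = T.map (MulAut.conj k).toMonoidHom := by
  obtain ⟨g, hg⟩ := hx.conj _ _ (c.ten_spread hT hzT) (c.ten_spread hT' hzT')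
  obtain ⟨k, hk, rfl⟩ := c.exists_H_im g
  refine ⟨k, hk, c.ten_eq_of_imS hT' (hT.map k) hzT' (c.z_mem_map hzT hk) ?_⟩
  ext a
  rw [hg a, c.ten_imS_map hT hzT hk a]

omit h hz in
/-- All are conjugate. -/
theorem ten_conj {T T' : Subgroup G} (hT : IsTen T) (hT' : IsTen T') :
    ∃ g : G, T' = T.map (MulAut.conj g).toMonoidHom := by
  obtain ⟨g, hg⟩ := c.ten_exists_conj_z hT
  obtain ⟨g', hg'⟩ := c.ten_exists_conj_z hT'
  obtain ⟨k, -, e⟩ := c.ten_conj_H hx (hT.map g) (hT'.map g') hg hg'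
  refine ⟨g'⁻¹ * k * g, ?_⟩
  have e' := congrArg (Subgroup.map (MulAut.conj g'⁻¹).toMonoidHom) e
  rw [map_conj_conj, map_conj_conj, map_conj_conj, inv_mul_cancel] at e'
  rw [← e']
  ext x
  rw [mem_map_conj, inv_one, one_mul, mul_one]

/-- Conjugates of `z` in such a subgroup are conjugate in its normalizer. -/
theorem ten_fusion {x : G} (hxS : x ∈ S) (hc : IsConj z x) : ∃ n ∈ normalizer (S : Set G), n * z * n⁻¹ = x := by
  obtain ⟨g, hg⟩ := isConj_iff.1 hc
  have hzT : z ∈ S.map (MulAut.conj g⁻¹).toMonoidHom := by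
    rw [mem_map_conj, inv_inv, hg]
    exact hxS
  obtain ⟨k, hk, e⟩ := c.ten_conj_H hx h (h.map g⁻¹) hz hzT
  refine ⟨g * k, mem_normalizer_of_map ?_, ?_⟩
  · rw [← map_conj_conj, ← e, map_conj_conj, mul_inv_cancel]
    ext y
    rw [mem_map_conj, inv_one, one_mul, mul_one]
  · have hkz : k * z * k⁻¹ = z := by rw [c.comm_z hk, mul_inv_cancel_right]
    calc g * k * z * (g * k)⁻¹ = g * (k * z * k⁻¹) * g⁻¹ := by group
      _ = x := by rw [hkz, hg]

/-- The part of the normalizer centralizing `z`. -/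
theorem ten_card_normalizer_inf :
    Nat.card ↥(normalizer (S : Set G) ⊓ c.H : Subgroup G) = 2 ^ 20 * 63 := by
  haveI := c.finite_A
  have hS := c.ten_le_H h hz
  set N := normalizer (c.imS S : Set A)
  have hiff : (normalizer (S : Set G) ⊓ c.H).subgroupOf c.H = N.comap c.pr := by
    ext ⟨k, hk⟩
    rw [mem_subgroupOf, mem_comap, mem_inf, ← c.im_eq hk]
    refine ⟨fun hn => ?_, fun hn => ⟨mem_normalizer_of_map ?_, hk⟩⟩
    · have hconj := c.ten_imS_map h hz hk
      rw [map_of_mem_normalizer hn.1] at hconj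
      exact isConjugateBy_self_iff.1 hconj
    · refine c.ten_eq_of_imS (h.map k) h (c.z_mem_map hz hk) hz ?_
      ext a
      rw [c.ten_imS_map h hz hk a, isConjugateBy_self_iff.2 hn a]
  rw [← Nat.card_congr (subgroupOfEquivOfLe (inf_le_right : normalizer (S : Set G) ⊓ c.H ≤ c.H)).toEquiv, hiff]
  let f : ↥(N.comap c.pr) →* ↥N := (c.pr.comp (N.comap c.pr).subtype).codRestrict N fun x => x.2
  have hf : Function.Surjective f := fun y => by
    obtain ⟨x, hx'⟩ := c.pr_surj y.1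
    exact ⟨⟨x, show c.pr x ∈ N by rw [hx']; exact y.2⟩, Subtype.ext hx'⟩
  have hk : Nat.card ↥f.ker = Nat.card ↥c.pr.ker := by
    have e : f.ker = c.pr.ker.subgroupOf (N.comap c.pr) := by
      ext x
      rw [MonoidHom.mem_ker, mem_subgroupOf, MonoidHom.mem_ker]
      exact ⟨fun h => congrArg Subtype.val h, fun h => Subtype.ext h⟩
    rw [e]
    refine Nat.card_congr (subgroupOfEquivOfLe fun x hx' => ?_).toEquiv
    rw [mem_comap, MonoidHom.mem_ker.1 hx']
    exact one_mem _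
  have hcount := card_eq_card_quotient_mul_card_subgroup f.ker
  rw [Nat.card_congr (QuotientGroup.quotientKerEquivOfSurjective f hf).toEquiv, hk, c.card_ker,
    hx.card_norm _ (c.ten_spread h hz)] at hcount
  rw [hcount]
  norm_num

theorem ten_card_normalizer :
    Nat.card ↥(normalizer (S : Set G)) = Set.ncard {x : G | x ∈ S ∧ IsConj z x} * (2 ^ 20 * 63) := by
  rw [← c.ten_card_normalizer_inf h hz hx, ← ncard_orbit_mul (normalizer (S : Set G)) z]
  congr 2
  ext v
  constructor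
  · rintro ⟨n, hn, rfl⟩
    exact ⟨(mem_normalizer_iff.1 hn z).1 hz, isConj_iff.2 ⟨n, rfl⟩⟩
  · rintro ⟨hvS, hc⟩
    exact c.ten_fusion h hz hx hvS hc

end CfsgLib.Spor.JFourType.Ctx
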