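import Cfsg.Agent.Lib.Spor.JFourType.Orbit276

/-!
# Subgroups of `W` without conjugates of `z`

A subgroup of `W` through a vector on five lines without a conjugate of `z` has order at most four; its vectors
in `U` are in one point.
-/

set_option autoImplicit false
set_option linter.style.haveILetI false

namespace CfsgLib.Spor.JFourType.Ctx

open Subgroup

universe u

variable {G : Type u} [Group G] [Finite G] {A : Type} [Group A] {J I R : Subgroup A}
  {z : G} {P : Subgroup G} (c : Ctx J I R z P)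
include c

/-- Conjugation by the core inside a fibre of `W`. -/
theorem E_move {e x : G} (he : e ∈ c.E) (hx : x ∈ c.W) {i : ↥I} (hi : c.im x = i) :
    c.im (e * x * e⁻¹) = i ∧ c.pv (e * x * e⁻¹ * c.lv i) = c.pv (x * c.lv i) + c.D i (c.pv e) := by
  refine ⟨by rw [c.im_conj (c.E_le he) (c.W_le_H hx), c.im_E he, one_mul, inv_one, mul_one, hi], ?_⟩
  have hll : c.lv i * c.lv i = 1 := c.L0_elementary (c.lv_mem i)
  obtain ⟨hE, hpv⟩ := c.pv_E_lift he i
  have hu := c.fibre_Ut hx hi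
  have e1 : e * x * e⁻¹ * c.lv i = e * (x * c.lv i) * e⁻¹ * (e * c.lv i * e⁻¹ * c.lv i) := by
    rw [← mul_assoc, conj_mul, mul_assoc x, hll, mul_one]
  rw [e1, c.pv_mul (c.conj_E (c.E_le he) hu.1) hE, hpv, c.pv_conj (c.E_le he) hu.1,
    (c.act_eq_one (c.E_le he)).2 he]
  rfl

theorem E_move_Tset (hs : c.Split) {e x y : G} (he : e ∈ c.E) (hx : x ∈ c.Tset) (hy : y ∈ c.Tset) {i : ↥I}
    (hi : c.im x = i) (hyi : c.im y = i) (hi1 : i ≠ 1)
    (hpv : c.pv (y * c.lv i) = c.pv (x * c.lv i) + c.D i (c.pv e)) : e * x * e⁻¹ = y := by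
  obtain ⟨him, hmove⟩ := c.E_move he hx.1 hi
  have hW := c.conj_W_E he hx.1
  rcases (c.pv_eq_iff (c.fibre_Ut hW him).1 (c.fibre_Ut hy.1 hyi).1).1 (hmove.trans hpv.symm) with h | h
  · exact mul_right_cancel h
  · exfalso
    rw [← mul_assoc] at h
    have h' : e * x * e⁻¹ = y * z := by rw [mul_right_cancel h, c.comm_z (c.W_le_H hy.1)]
    have hc := c.conj_mul_z_of_Tset hs hy (by rw [hyi]; exact fun h => hi1 (Subtype.ext h))
    rw [← h', c.isConj_z_conj] at hc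
    exact hx.2.2 hc

/-- In `Ut` such a subgroup stays in the point. -/
theorem free_Ut_pt (hs : c.Split) {B : Subgroup G} (hB : B ≤ c.W) (hfree : ∀ b ∈ B, ¬ IsConj z b) {t b : G}
    (htB : t ∈ B) (ht : t ∈ c.Ut) (hbB : b ∈ B) (hb : b ∈ c.Ut) (ht1 : t ≠ 1) : c.pv b ∈ c.Pt (c.pv t) := by
  by_cases hb1 : b = 1
  · rw [hb1, c.pv_one]; simp [Pt]
  have hNt := (c.Tset_Ut_iff hs ht).1 ⟨hB htB, ht1, hfree t htB⟩
  have hNb := (c.Tset_Ut_iff hs hb).1 ⟨hB hbB, hb1, hfree b hbB⟩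
  by_contra hne
  have hE := c.isN_add hNt hNb hne
  rw [← c.pv_mul ht.1 hb.1] at hE
  exact hfree _ (mul_mem htB hbB) ((c.conj_Ut_iff hs (mul_mem ht hb)).2 (Or.inr hE))

theorem free_pv_inj {B : Subgroup G} (hfree : ∀ b ∈ B, ¬ IsConj z b) {a b : G}
    (haB : a ∈ B) (ha : a ∈ c.Ut) (hbB : b ∈ B) (hb : b ∈ c.Ut) (h : c.pv a = c.pv b) : a = b := by
  rcases (c.pv_eq_iff ha.1 hb.1).1 h with h | h
  · exact h
  · exfalso
    refine hfree _ (mul_mem haB (inv_mem hbB)) ?_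
    rw [h, mul_inv_cancel_right]

/-- A subgroup without conjugates of `z` has order at most four. -/
theorem card_free_le (hs : c.Split) {B : Subgroup G} (hB : B ≤ c.W) (hfree : ∀ b ∈ B, ¬ IsConj z b) {t : G}
    (htB : t ∈ B) (ht : t ∈ c.Ut) (htT : t ∈ c.Tset) : Nat.card ↥B ≤ 4 := by
  classical
  haveI := c.finite_A
  set p := c.pv t with hp
  have hpN : c.IsN p := (c.Tset_Ut_iff hs ht).1 htT
  have hT : ∀ b ∈ B, b ≠ 1 → b ∈ c.Tset := fun b hb h1 => ⟨hB hb, h1, hfree b hb⟩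
  let f : ↥B →* A :=
    { toFun := fun b => c.im b
      map_one' := by rw [OneMemClass.coe_one, c.im_one]
      map_mul' := fun a b => c.im_mul (c.W_le_H (hB a.2)) (c.W_le_H (hB b.2)) }
  let g : ↥f.ker → ↥(c.Pt p) := fun b => ⟨c.pv (b : ↥B), c.free_Ut_pt hs hB hfree htB ht (b : ↥B).2
    (c.mem_Ut_of_im_W (hB (b : ↥B).2) b.2) htT.2.1⟩
  have hg : Function.Injective g := fun a b h => Subtype.ext (Subtype.ext (c.free_pv_inj hfree
    (a : ↥B).2 (c.mem_Ut_of_im_W (hB (a : ↥B).2) a.2) (b : ↥B).2 (c.mem_Ut_of_im_W (hB (b : ↥B).2) b.2)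
    (congrArg Subtype.val h)))
  have hker : Nat.card ↥f.ker ≤ 4 := by
    rw [← c.ncard_Pt hpN.2.1, ← Nat.card_coe_set_eq]
    exact Nat.card_le_card_of_injective g hg
  have hcard := f.ker.card_mul_index
  rw [Subgroup.index_ker] at hcard
  -- the involutions in the image have `p` on their lines
  have hline : ∀ b : ↥B, ∀ i : ↥I, f b = i → i ≠ 1 → p ∈ c.Li i := by
    intro b i hbi hi
    have hbi' : c.im b = i := hbi
    have hb1 : (b : G) ≠ 1 := fun h => hi (Subtype.ext (by rw [← hbi', h, c.im_one]; rfl))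
    have hbt1 : (b : G) * t ≠ 1 := fun h => hi (Subtype.ext (by
      rw [← hbi', mul_eq_one_iff_eq_inv.1 h, c.im_inv (c.W_le_H (hB htB)), c.im_E ht.1, inv_one]; rfl))
    have hbti : c.im ((b : G) * t) = i := by
      rw [c.im_mul (c.W_le_H (hB b.2)) (c.W_le_H (hB htB)), c.im_E ht.1, mul_one, hbi']
    have h1 := c.Tset_zero hs (hT b b.2 hb1) hbi' hi
    have h2 := c.Tset_zero hs (hT _ (mul_mem b.2 htB) hbt1) hbti hi
    rw [mul_assoc, c.W_comm (hB htB) (c.lv_mem_W' i), ← mul_assoc,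
      c.pv_mul (c.fibre_Ut (hB b.2) hbi').1 ht.1] at h2
    exact (add_mem_cancel_left h1).1 h2
  have hrI : ∀ a ∈ f.range, a ∈ I := by
    rintro _ ⟨b, rfl⟩
    exact c.im_mem_I_of_W (hB b.2)
  have hrange : Nat.card ↥f.range ≤ 2 := by
    by_contra hcon
    push Not at hcon
    obtain ⟨a, ha, ha1⟩ : ∃ a ∈ f.range, a ≠ 1 := by
      by_contra h
      push Not at h
      rw [(eq_bot_iff_forall _).2 h, card_bot] at hcon
      omega
    obtain ⟨b, hb, hb1, hba⟩ : ∃ b ∈ f.range, b ≠ 1 ∧ b ≠ a := by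
      by_contra h
      push Not at h
      have hsub : (f.range : Set A) ⊆ {1, a} := fun x hx => by
        by_cases hx1 : x = 1
        exacts [Or.inl hx1, Or.inr (h x hx hx1)]
      have := Set.ncard_le_ncard hsub (Set.toFinite _)
      have h2 := Set.ncard_insert_le (1 : A) ({a} : Set A)
      rw [Set.ncard_singleton] at h2
      rw [← Nat.card_coe_set_eq] at this
      have hc' : 2 < Nat.card ↥(f.range : Set A) := hcon
      omega
    obtain ⟨a', hfa⟩ := ha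
    obtain ⟨b', hfb⟩ := hb
    set i : ↥I := ⟨a, hfa ▸ c.im_mem_I_of_W (hB a'.2)⟩
    set j : ↥I := ⟨b, hfb ▸ c.im_mem_I_of_W (hB b'.2)⟩
    have hi : i ≠ 1 := fun h => ha1 (congrArg Subtype.val h)
    have hj : j ≠ 1 := fun h => hb1 (congrArg Subtype.val h)
    have hij : i ≠ j := fun h => hba (congrArg Subtype.val h).symm
    exact c.isN_no_triple hpN hi hj hij (hline a' i hfa hi) (hline b' j hfb hj)
      (hline (a' * b') (i * j) (by rw [map_mul, hfa, hfb]; rfl) (c.mul_ne_one_I hij))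
  by_contra hbig
  push Not at hbig
  obtain ⟨k, hk, hck⟩ := (Nat.dvd_prime_pow Nat.prime_two).1 (c.card_W ▸ card_dvd_of_le hB)
  have h8 : 8 ≤ Nat.card ↥B := by
    rw [hck] at hbig ⊢
    have : 3 ≤ k := by
      by_contra hk3
      push Not at hk3
      interval_cases k <;> omega
    exact le_trans (by norm_num) (Nat.pow_le_pow_right (by norm_num) this)
  have hk4 : Nat.card ↥f.ker = 4 := by
    rcases Nat.lt_or_ge (Nat.card ↥f.ker) 4 with h | h
    · have := Nat.mul_le_mul (Nat.le_sub_one_of_lt h) hrange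
      omega
    · omega
  have hr2 : Nat.card ↥f.range = 2 := by
    rw [hk4] at hcard
    omega
  -- the last configuration
  have hgs : Function.Surjective g := ((Nat.bijective_iff_injective_and_card g).2
    ⟨hg, by rw [hk4, Nat.card_coe_set_eq, c.ncard_Pt hpN.2.1]⟩).2
  obtain ⟨u, hu⟩ := hgs ⟨c.om p, by simp [Pt]⟩
  have huv : c.pv (u : ↥B) = c.om p := congrArg Subtype.val hu
  have huU : ((u : ↥B) : G) ∈ c.Ut := c.mem_Ut_of_im_W (hB (u : ↥B).2) u.2
  obtain ⟨a, ⟨b, hab⟩, ha1⟩ : ∃ a ∈ f.range, a ≠ 1 := by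
    by_contra h
    push Not at h
    rw [(eq_bot_iff_forall _).2 h, card_bot] at hr2
    omega
  set i : ↥I := ⟨a, hab ▸ c.im_mem_I_of_W (hB b.2)⟩
  have hi : i ≠ 1 := fun h => ha1 (congrArg Subtype.val h)
  have hbi : c.im b = i := hab
  have hpi := hline b i hab hi
  obtain ⟨q, hq⟩ := c.D_surj hi hpi
  obtain ⟨e1, he1, he1v⟩ := c.pv_surj q
  obtain ⟨e2, he2, he2v⟩ := c.pv_surj (c.om q)
  have hmem : ∀ x ∈ B, c.im x = 1 → (b : G) * x ∈ c.Tset ∧ c.im ((b : G) * x) = i := by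
    intro x hx hx1
    have e : c.im ((b : G) * x) = i := by rw [c.im_mul (c.W_le_H (hB b.2)) (c.W_le_H (hB hx)), hx1, mul_one, hbi]
    exact ⟨hT _ (mul_mem b.2 hx) fun h => hi (Subtype.ext (by rw [← e, h, c.im_one]; rfl)), e⟩
  have hpvb : ∀ x ∈ c.Ut, c.pv ((b : G) * x * c.lv i) = c.pv ((b : G) * c.lv i) + c.pv x := fun x hx => by
    rw [mul_assoc, c.W_comm (c.Ut_sub_W hx) (c.lv_mem_W' i), ← mul_assoc,
      c.pv_mul (c.fibre_Ut (hB b.2) hbi).1 hx.1]
  obtain ⟨hbT, -⟩ := hmem 1 (one_mem _) c.im_one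
  rw [mul_one] at hbT
  obtain ⟨htT', hti⟩ := hmem t htB (c.im_E ht.1)
  obtain ⟨huT, hui⟩ := hmem _ (u : ↥B).2 (c.im_E huU.1)
  obtain ⟨hutT, huti⟩ := hmem _ (mul_mem (u : ↥B).2 htB) (c.im_E (mul_mem huU ht).1)
  have hm1 : e1 * b * e1⁻¹ = (b : G) * t := c.E_move_Tset hs he1 hbT htT' hbi hti hi
    (by rw [hpvb t ht, he1v, hq])
  have hm2 : e2 * b * e2⁻¹ = (b : G) * (u : ↥B) := c.E_move_Tset hs he2 hbT huT hbi hui hi
    (by rw [hpvb _ huU, he2v, c.D_om, hq, huv])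
  have hB0 : c.Bf q p = 0 := by
    rw [c.Bf_symm, ← hq, c.D_apply]
    exact c.disp_perp (c.lv_mem i) q
  have hB1 : c.Bf (c.pv e2) p ≠ 0 := by
    have e : c.Bf (c.om q) p = c.Bf q p + c.Bf q (c.om p) := by
      nth_rewrite 1 [← c.om_cube p]
      rw [← c.Bf_add_right, ← c.om_two]
      exact c.Bf_act c.pg_H _ _
    rw [he2v, e, hB0, zero_add]
    exact fun h => (c.isN_iff hi hpi hpN.2.1).1 hpN ((c.iso_iff hpi hq).2 h)
  have hm3 : e2 * ((b : G) * t) * e2⁻¹ = (b : G) * ((u : ↥B) * t) * z := by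
    rw [← conj_mul, hm2, (c.E_conj_eq he2 ht.1).2 hB1]
    group
  have hc := c.conj_mul_z_of_Tset hs hutT (by rw [huti]; exact fun h => hi (Subtype.ext h))
  rw [← hm3, c.isConj_z_conj] at hc
  exact htT'.2.2 hc

end CfsgLib.Spor.JFourType.Ctx
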