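import Cfsg.Agent.Lib.Spor.JFourType.Hexad

/-!
# The subgroup `W` of order `2 ^ 11`
-/

set_option autoImplicit false
set_option linter.style.haveILetI false

namespace CfsgLib.Spor.JFourType.Ctx

open Subgroup

universe u

variable {G : Type u} [Group G] [Finite G] {A : Type} [Group A] {J I R : Subgroup A}
  {z : G} {P : Subgroup G} (c : Ctx J I R z P)
include c

/-- The preimage of a subgroup of the space in the core. -/
noncomputable def lift (K : AddSubgroup c.Vs) : Subgroup G where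
  carrier := {x | x ∈ c.E ∧ c.pv x ∈ K}
  one_mem' := ⟨one_mem _, by rw [c.pv_one]; exact zero_mem _⟩
  mul_mem' := fun ha hb => ⟨mul_mem ha.1 hb.1, by rw [c.pv_mul ha.1 hb.1]; exact add_mem ha.2 hb.2⟩
  inv_mem' := fun ha => ⟨inv_mem ha.1, by rw [c.pv_inv ha.1]; exact ha.2⟩

theorem mem_lift {K : AddSubgroup c.Vs} {x : G} : x ∈ c.lift K ↔ x ∈ c.E ∧ c.pv x ∈ K := Iff.rfl

theorem lift_le (K : AddSubgroup c.Vs) : c.lift K ≤ c.E := fun _ h => h.1

theorem z_mem_lift (K : AddSubgroup c.Vs) : z ∈ c.lift K :=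
  ⟨c.z_mem_E, by rw [c.pv_z]; exact zero_mem _⟩

theorem card_lift (K : AddSubgroup c.Vs) : Nat.card ↥(c.lift K) = 2 * Nat.card ↥K := by
  classical
  choose s hs hps using fun v : ↥K => c.pv_surj v
  let f : Fin 2 × ↥K → ↥(c.lift K) := fun w =>
    ⟨(if w.1 = 0 then 1 else z) * s w.2, by
      have hm : s w.2 ∈ c.lift K := ⟨hs w.2, by rw [hps]; exact w.2.2⟩
      split
      · exact mul_mem (one_mem _) hm
      · exact mul_mem (c.z_mem_lift K) hm⟩
  have hpv : ∀ (i : Fin 2) (v : ↥K), c.pv ((if i = 0 then 1 else z) * s v) = v := by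
    intro i v
    split
    · rw [one_mul, hps]
    · rw [c.pv_mul c.z_mem_E (hs v), c.pv_z, zero_add, hps]
  have hbij : Function.Bijective f := by
    refine ⟨?_, ?_⟩
    · rintro ⟨i, v⟩ ⟨j, w⟩ h
      have h' : (if i = 0 then (1 : G) else z) * s v = (if j = 0 then 1 else z) * s w := congrArg Subtype.val h
      have hvw : v = w := Subtype.ext (by rw [← hpv i v, h', hpv])
      subst hvw
      refine Prod.ext ?_ rfl
      have h2 := mul_right_cancel h'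
      by_contra hne
      match i, j with
      | 0, 0 => exact hne rfl
      | 0, 1 => exact c.z_ne (by simpa using h2.symm)
      | 1, 0 => exact c.z_ne (by simpa using h2)
      | 1, 1 => exact hne rfl
    · rintro ⟨x, hx, hxK⟩
      rcases (c.pv_eq_iff hx (hs ⟨_, hxK⟩)).1 (hps ⟨_, hxK⟩).symm with h | h
      · exact ⟨(0, ⟨_, hxK⟩), Subtype.ext (by simp [f, ← h])⟩
      · exact ⟨(1, ⟨_, hxK⟩), Subtype.ext (by simp [f, ← h])⟩
  rw [← Nat.card_congr (Equiv.ofBijective f hbij), Nat.card_prod, Nat.card_fin]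

/-- The preimage of `U`. -/
noncomputable def Ut : Subgroup G := c.lift c.U

theorem card_Ut : Nat.card ↥c.Ut = 2 ^ 7 := by rw [Ut, c.card_lift, c.card_U]; norm_num

theorem Ut_comm {a b : G} (ha : a ∈ c.Ut) (hb : b ∈ c.Ut) : a * b = b * a :=
  (c.Bf_comm ha.1 hb.1).1 (c.Bf_U ha.2 hb.2)

theorem Ut_sq {a : G} (ha : a ∈ c.Ut) : a * a = 1 := (c.Sf_sq ha.1).1 (c.Sf_U ha.2)

theorem Ut_selfcent {x : G} (hx : x ∈ c.E) (h : ∀ u ∈ c.Ut, x * u = u * x) : x ∈ c.Ut :=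
  ⟨hx, c.perp_U.le (c.mem_perp.2 fun v hv => by
    obtain ⟨a, ha, rfl⟩ := c.pv_surj v
    exact (c.Bf_comm ha hx).2 (h a ⟨ha, hv⟩).symm)⟩

omit [Finite G] in
theorem pg_C0 : c.pg ∈ c.C0 := c.P_le_C0 c.pg_mem

theorem U_om {v : c.Vs} (hv : v ∈ c.U) : c.om v ∈ c.U :=
  c.U_conj c.pg_C0 (by rw [c.im_eq c.pg_H, c.pr_P c.pg_mem]; exact one_mem _) hv

/-- An element of `C0` fixing the image of an element of the core centralizes it, on a subspace closed under `om`. -/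
theorem comm_of_fixed {K : AddSubgroup c.Vs} (hK : ∀ v ∈ K, c.om v ∈ K) {l : G} (hl : l ∈ c.C0)
    (hfix : ∀ v ∈ K, c.act l v = v) {e : G} (he : e ∈ c.lift K) : l * e = e * l := by
  have hlp : l * c.pg = c.pg * l := (c.comm_P hl c.pg_mem).symm
  -- the flag does not change along `P`
  have key : ∀ f ∈ c.lift K, l * (c.pg * f * c.pg⁻¹ * f⁻¹) * l⁻¹ = c.pg * f * c.pg⁻¹ * f⁻¹ := by
    intro f hf
    have h1 : c.pv (l * f * l⁻¹) = c.pv f := by rw [c.pv_conj hl.1 hf.1]; exact hfix _ hf.2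
    have hp1 : l * c.pg * l⁻¹ = c.pg := mul_inv_eq_iff_eq_mul.2 hlp
    have e0 : l * (c.pg * f * c.pg⁻¹ * f⁻¹) * l⁻¹ = c.pg * (l * f * l⁻¹) * c.pg⁻¹ * (l * f * l⁻¹)⁻¹ := by
      calc l * (c.pg * f * c.pg⁻¹ * f⁻¹) * l⁻¹
          = (l * c.pg * l⁻¹) * (l * f * l⁻¹) * (l * c.pg * l⁻¹)⁻¹ * (l * f * l⁻¹)⁻¹ := by group
        _ = _ := by rw [hp1]
    rcases (c.pv_eq_iff (c.conj_E hl.1 hf.1) hf.1).1 h1 with h | h
    · rw [e0, h]
    · rw [e0, h]
      have hzp : c.pg * z = z * c.pg := c.comm_z c.pg_H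
      have hzf : z * (c.pg * f * c.pg⁻¹) = c.pg * f * c.pg⁻¹ * z :=
        (c.comm_z (mul_mem (mul_mem c.pg_H (c.E_le hf.1)) (inv_mem c.pg_H))).symm
      calc c.pg * (z * f) * c.pg⁻¹ * (z * f)⁻¹ = c.pg * z * (f * c.pg⁻¹) * (f⁻¹ * z⁻¹) := by group
        _ = z * (c.pg * f * c.pg⁻¹) * (f⁻¹ * z⁻¹) := by rw [hzp]; group
        _ = c.pg * f * c.pg⁻¹ * (z * f⁻¹) * z⁻¹ := by rw [hzf]; group
        _ = _ := by rw [← c.comm_z (inv_mem (c.E_le hf.1))]; group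
  obtain ⟨f, hf, hfv⟩ := c.pv_surj (c.om (c.pv e))
  have hfl : f ∈ c.lift K := ⟨hf, hfv ▸ hK _ he.2⟩
  have hcE : c.pg * f * c.pg⁻¹ ∈ c.E := c.conj_E c.pg_H hf
  have hgv : c.pv (c.pg * f * c.pg⁻¹ * f⁻¹) = c.pv e := by
    rw [c.pv_mul hcE (inv_mem hf), c.pv_inv hf, c.pv_conj c.pg_H hf, hfv]
    show c.om (c.om (c.pv e)) + c.om (c.pv e) = c.pv e
    rw [c.om_two, add_assoc, c.two_V, add_zero]
  set g := c.pg * f * c.pg⁻¹ * f⁻¹
  have hlg : l * g = g * l := mul_inv_eq_iff_eq_mul.1 (key f hfl)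
  rcases (c.pv_eq_iff he.1 (mul_mem hcE (inv_mem hf))).1 hgv.symm with h | h
  · rw [h, hlg]
  · rw [h, ← mul_assoc, c.comm_z hl.1, mul_assoc, hlg, ← mul_assoc]

theorem L0_comm_Ut {l e : G} (hl : l ∈ c.L0) (he : e ∈ c.Ut) : l * e = e * l :=
  c.comm_of_fixed (fun _ hv => c.U_om hv) (c.L0_le hl) (fun _ hv => hv l hl) he

/-- The elementary abelian subgroup of order `2 ^ 11`. -/
noncomputable def W : Subgroup G := c.Ut ⊔ c.L0

theorem mem_W {x : G} : x ∈ c.W ↔ ∃ u ∈ c.Ut, ∃ l ∈ c.L0, x = u * l := by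
  constructor
  · intro hx
    let S : Subgroup G :=
      { carrier := {x | ∃ u ∈ c.Ut, ∃ l ∈ c.L0, x = u * l}
        one_mem' := ⟨1, one_mem _, 1, one_mem _, (one_mul 1).symm⟩
        mul_mem' := by
          rintro a b ⟨u, hu, l, hl, rfl⟩ ⟨v, hv, m, hm, rfl⟩
          refine ⟨u * v, mul_mem hu hv, l * m, mul_mem hl hm, ?_⟩
          calc u * l * (v * m) = u * (l * v) * m := by group
            _ = _ := by rw [c.L0_comm_Ut hl hv]; group
        inv_mem' := by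
          rintro a ⟨u, hu, l, hl, rfl⟩
          refine ⟨u⁻¹, inv_mem hu, l⁻¹, inv_mem hl, ?_⟩
          rw [mul_inv_rev, c.L0_comm_Ut (inv_mem hl) (inv_mem hu)] }
    have hle : c.W ≤ S := sup_le (fun u hu => ⟨u, hu, 1, one_mem _, (mul_one u).symm⟩)
      (fun l hl => ⟨1, one_mem _, l, hl, (one_mul l).symm⟩)
    exact hle hx
  · rintro ⟨u, hu, l, hl, rfl⟩
    exact mul_mem (mem_sup_left hu) (mem_sup_right hl)

theorem W_comm {x y : G} (hx : x ∈ c.W) (hy : y ∈ c.W) : x * y = y * x := by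
  obtain ⟨u, hu, l, hl, rfl⟩ := c.mem_W.1 hx
  obtain ⟨v, hv, m, hm, rfl⟩ := c.mem_W.1 hy
  calc u * l * (v * m) = u * (l * v) * m := by group
    _ = u * v * (l * m) := by rw [c.L0_comm_Ut hl hv]; group
    _ = v * u * (m * l) := by rw [c.Ut_comm hu hv, c.L0_comm hl hm]
    _ = v * (u * m) * l := by group
    _ = _ := by rw [← c.L0_comm_Ut hm hu]; group

theorem W_sq {x : G} (hx : x ∈ c.W) : x * x = 1 := by
  obtain ⟨u, hu, l, hl, rfl⟩ := c.mem_W.1 hx
  calc u * l * (u * l) = u * (l * u) * l := by group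
    _ = u * u * (l * l) := by rw [c.L0_comm_Ut hl hu]; group
    _ = 1 := by rw [c.Ut_sq hu, c.L0_elementary hl, one_mul]

theorem W_elementary : Cfsg.IsElementaryAbelian 2 c.W :=
  ⟨⟨⟨fun a b => Subtype.ext (c.W_comm a.2 b.2)⟩⟩, fun a ha => by rw [pow_two, c.W_sq ha]⟩

omit [Finite G] in
theorem H_of_M {x : G} (hx : x ∈ c.M) : x ∈ c.H := (c.mem_M.1 hx).1

theorem W_le_M : c.W ≤ c.M :=
  sup_le ((c.lift_le _).trans c.E_le_M) (c.L0_le.trans c.C0_le_M)

theorem W_inf_E {x : G} (hx : x ∈ c.W) (hE : x ∈ c.E) : x ∈ c.Ut := by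
  obtain ⟨u, hu, l, hl, rfl⟩ := c.mem_W.1 hx
  have hlE : l ∈ c.E := (mul_mem_cancel_left hu.1).1 hE
  rcases c.L0_ker hl (c.im_E hlE) with rfl | rfl
  · rwa [mul_one]
  · exact mul_mem hu (c.z_mem_lift _)

theorem card_W : Nat.card ↥c.W = 2 ^ 11 := by
  classical
  choose s hs hsi using fun i : ↥I => c.exists_L0 i.2
  let f : ↥c.Ut × ↥I → ↥c.W := fun w => ⟨w.1 * s w.2, c.mem_W.2 ⟨_, w.1.2, _, hs _, rfl⟩⟩
  have him : ∀ (u : ↥c.Ut) (i : ↥I), c.im ((u : G) * s i) = i := fun u i => by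
    rw [c.im_mul (c.E_le u.2.1) (c.L0_le (hs i)).1, c.im_E u.2.1, one_mul, hsi]
  have hbij : Function.Bijective f := by
    refine ⟨?_, ?_⟩
    · rintro ⟨u, i⟩ ⟨v, j⟩ h
      have h' : (u : G) * s i = v * s j := congrArg Subtype.val h
      have hij : i = j := Subtype.ext (by rw [← him u i, h', him])
      subst hij
      exact Prod.ext (Subtype.ext (mul_right_cancel h')) rfl
    · rintro ⟨x, hx⟩
      obtain ⟨u, hu, l, hl, rfl⟩ := c.mem_W.1 hx
      set i : ↥I := ⟨c.im l, (c.mem_L0.1 hl).2.1⟩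
      have hk : c.im (l * (s i)⁻¹) = 1 := by
        rw [c.im_mul (c.L0_le hl).1 (inv_mem (c.L0_le (hs i)).1), c.im_inv (c.L0_le (hs i)).1, hsi, mul_inv_cancel]
      rcases c.L0_ker (mul_mem hl (inv_mem (hs i))) hk with h | h
      · exact ⟨(⟨u, hu⟩, i), Subtype.ext (by show u * s i = u * l; rw [mul_inv_eq_one.1 h])⟩
      · exact ⟨(⟨u * z, mul_mem hu (c.z_mem_lift _)⟩, i), Subtype.ext (by
          show u * z * s i = u * l
          rw [mul_inv_eq_iff_eq_mul.1 h, mul_assoc])⟩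
  rw [← Nat.card_congr (Equiv.ofBijective f hbij), Nat.card_prod, c.card_Ut, c.facts.card_I]
  norm_num

theorem W_isPGroup : IsPGroup 2 ↥c.W := IsPGroup.of_card (n := 11) c.card_W

/-- An element centralizing `Ut` over `I` lies in `W`. -/
theorem mem_W_of {x : G} (hx : x ∈ c.M) (hI : c.im x ∈ I) (hc : ∀ u ∈ c.Ut, x * u = u * x) : x ∈ c.W := by
  obtain ⟨l, hl, hli⟩ := c.exists_L0 hI
  have hlH := (c.L0_le hl).1
  have hxH := c.H_of_M hx
  have hk : c.pr ⟨x * l⁻¹, mul_mem hxH (inv_mem hlH)⟩ = 1 := by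
    rw [← c.im_eq, c.im_mul hxH (inv_mem hlH), c.im_inv hlH, hli, mul_inv_cancel]
  obtain ⟨e, he, q, hq, hd⟩ := c.ker_decomp (mul_mem hxH (inv_mem hlH)) hk
  have heq : ∀ u ∈ c.Ut, e * q * u = u * (e * q) := fun u hu => by
    have hli' : l⁻¹ * u = u * l⁻¹ := c.L0_comm_Ut (inv_mem hl) hu
    calc e * q * u = x * l⁻¹ * u := by rw [hd]
      _ = x * (u * l⁻¹) := by rw [mul_assoc, hli']
      _ = _ := by rw [← mul_assoc, hc u hu, mul_assoc, hd]
  -- the part from `P` is trivial as it moves vectors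
  have hq1 : q = 1 := by
    by_contra hne
    obtain ⟨v, hv, hv0⟩ : ∃ v ∈ c.U, v ≠ 0 := by
      by_contra hcon
      push Not at hcon
      have := c.card_U
      rw [(AddSubgroup.eq_bot_iff_forall _).2 hcon, AddSubgroup.card_bot] at this
      norm_num at this
    obtain ⟨a, ha, hav⟩ := c.pv_surj v
    have h := heq a ⟨ha, hav ▸ hv⟩
    have hqH := (c.P_le_C0 hq).1
    have h2 : c.act (e * q) v = v := by
      rw [← hav, ← c.pv_conj (mul_mem (c.E_le he) hqH) ha, h, mul_inv_cancel_right]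
    rw [c.act_mul (c.E_le he) hqH, (c.act_eq_one (c.E_le he)).2 he, one_mul] at h2
    rcases c.mem_P hq with rfl | rfl | rfl
    · exact hne rfl
    · exact hv0 (c.om_fixed h2)
    · refine hv0 (c.om_fixed ?_)
      calc c.om v = c.act c.pg (c.act c.pg⁻¹ v) := by rw [h2]; rfl
        _ = v := c.act_apply_inv c.pg_H v
  rw [hq1, mul_one] at heq
  have heU : e ∈ c.Ut := c.Ut_selfcent he fun u hu => heq u hu
  refine c.mem_W.2 ⟨e, heU, l, hl, ?_⟩
  rw [hq1, mul_one] at hd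
  rw [← hd, inv_mul_cancel_right]

end CfsgLib.Spor.JFourType.Ctx
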